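import Mathlib

set_option autoImplicit false

namespace Cfsg.Agent.Helper16

/-- Square roots of `1` modulo `2 ^ k`: they are `≡ ±1` modulo `2 ^ (k - 1)`. -/
theorem sq_modEq_one_two_pow {k r : ℕ} (hk : 2 ≤ k) (h : r ^ 2 ≡ 1 [MOD 2 ^ k]) :
    2 ^ (k - 1) ∣ r - 1 ∧ 1 ≤ r ∨ 2 ^ (k - 1) ∣ r + 1 := by
  obtain ⟨k', rfl⟩ : ∃ k', k = k' + 2 := ⟨k - 2, by omega⟩
  -- r is odd
  have h4 : r ^ 2 ≡ 1 [MOD 4] := by
    have : (4 : ℕ) ∣ 2 ^ (k' + 2) := ⟨2 ^ k', by ring⟩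
    exact h.of_dvd this
  have hodd : r % 2 = 1 := by
    rcases Nat.even_or_odd r with ⟨t, ht⟩ | ⟨t, ht⟩
    · exfalso
      have h5 : r ^ 2 % 4 = 1 % 4 := h4
      rw [ht] at h5
      have : (t + t) ^ 2 = 4 * (t * t) := by ring
      rw [this] at h5
      omega
    · omega
  obtain ⟨t, ht⟩ : ∃ t, r = 2 * t + 1 := ⟨r / 2, by omega⟩
  have hdvd : 2 ^ (k' + 2) ∣ r ^ 2 - 1 := (Nat.modEq_iff_dvd' (by
    rw [ht]; nlinarith)).1 h.symm
  have h5 : r ^ 2 - 1 = 4 * (t * (t + 1)) := by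
    rw [ht]
    have : (2 * t + 1) ^ 2 = 4 * (t * (t + 1)) + 1 := by ring
    rw [this]; omega
  rw [h5] at hdvd
  have h6 : 2 ^ k' ∣ t * (t + 1) := by
    have : 2 ^ (k' + 2) = 4 * 2 ^ k' := by ring
    rw [this] at hdvd
    exact Nat.dvd_of_mul_dvd_mul_left (by norm_num) hdvd
  have hk1 : k' + 2 - 1 = k' + 1 := by omega
  rw [hk1]
  rcases Nat.even_or_odd t with hte | hto
  · -- t even, t + 1 odd
    left
    have hcop : Nat.Coprime (2 ^ k') (t + 1) := by
      apply Nat.Coprime.pow_left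
      rw [Nat.coprime_two_left]
      exact hte.add_one
    have h7 : 2 ^ k' ∣ t := hcop.dvd_of_dvd_mul_right h6
    refine ⟨?_, by omega⟩
    have : r - 1 = 2 * t := by omega
    rw [this, pow_succ, mul_comm]
    exact Nat.mul_dvd_mul_left 2 h7
  · right
    have hcop : Nat.Coprime (2 ^ k') t := by
      apply Nat.Coprime.pow_left
      rw [Nat.coprime_two_left]
      exact hto
    have h7 : 2 ^ k' ∣ t + 1 := hcop.dvd_of_dvd_mul_left h6
    have : r + 1 = 2 * (t + 1) := by omega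
    rw [this, pow_succ, mul_comm]
    exact Nat.mul_dvd_mul_left 2 h7

end Cfsg.Agent.Helper16

namespace Cfsg.Agent.Helper16

section

variable {G : Type*} [Group G]

theorem mem_zpowers_exists_nat {a x : G} {N : ℕ} (hN : 0 < N) (hao : orderOf a = N)
    (hx : x ∈ Subgroup.zpowers a) : ∃ s : ℕ, s < N ∧ x = a ^ s := by
  have hfin : IsOfFinOrder a := by
    rw [← orderOf_pos_iff, hao]; exact hN
  rw [← hfin.mem_powers_iff_mem_zpowers, Submonoid.mem_powers_iff] at hx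
  obtain ⟨s, rfl⟩ := hx
  refine ⟨s % N, Nat.mod_lt _ hN, ?_⟩
  rw [← hao, pow_mod_orderOf]

/-- The involution `a ^ 2 ^ (k - 1)` of a cyclic group of order `2 ^ k`. -/
theorem pow_half_sq {a : G} {k : ℕ} (hk : 1 ≤ k) (hao : orderOf a = 2 ^ k) :
    (a ^ 2 ^ (k - 1)) ^ 2 = 1 := by
  rw [← pow_mul, ← pow_succ]
  have : k - 1 + 1 = k := by omega
  rw [this, ← hao, pow_orderOf_eq_one]

theorem pow_half_ne_one {a : G} {k : ℕ} (hk : 1 ≤ k) (hao : orderOf a = 2 ^ k) :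
    a ^ 2 ^ (k - 1) ≠ 1 := by
  intro h
  have h1 := orderOf_dvd_of_pow_eq_one h
  rw [hao] at h1
  have h2 := Nat.le_of_dvd (by positivity) h1
  have h3 : 2 ^ (k - 1) < 2 ^ k := Nat.pow_lt_pow_right (by norm_num) (by omega)
  omega

theorem sq_eq_one_pow {z : G} (hz : z ^ 2 = 1) (m : ℕ) : z ^ m = 1 ∨ z ^ m = z := by
  rcases Nat.even_or_odd' m with ⟨t, ht | ht⟩
  · left; rw [ht, pow_mul, hz, one_pow]
  · right; rw [ht, pow_add, pow_mul, hz, one_pow, one_mul, pow_one]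

theorem sq_eq_one_pow_even {z : G} (hz : z ^ 2 = 1) {m : ℕ} (hm : Even m) : z ^ m = 1 := by
  obtain ⟨t, ht⟩ := hm
  rw [ht, ← two_mul, pow_mul, hz, one_pow]

theorem sq_eq_one_pow_odd {z : G} (hz : z ^ 2 = 1) {m : ℕ} (hm : Odd m) : z ^ m = z := by
  obtain ⟨t, ht⟩ := hm
  rw [ht, pow_add, pow_mul, hz, one_pow, one_mul, pow_one]

/-- If `a ^ (2 s) = 1` with `a` of order `2 ^ k`, then `a ^ s` is `1` or the involution. -/
theorem pow_eq_one_or_half {a : G} {k : ℕ} (hk : 1 ≤ k) (hao : orderOf a = 2 ^ k) {s : ℕ}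
    (h : a ^ (2 * s) = 1) : a ^ s = 1 ∨ a ^ s = a ^ 2 ^ (k - 1) := by
  have h1 := orderOf_dvd_of_pow_eq_one h
  rw [hao] at h1
  have h2 : 2 ^ (k - 1) ∣ s := by
    have : 2 ^ k = 2 * 2 ^ (k - 1) := by
      rw [← pow_succ']; congr 1; omega
    rw [this] at h1
    exact Nat.dvd_of_mul_dvd_mul_left (by norm_num) h1
  obtain ⟨m, rfl⟩ := h2
  rw [pow_mul]
  exact sq_eq_one_pow (pow_half_sq hk hao) m

/-- The possible actions on a cyclic group of order `2 ^ k` of an element whose square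
centralizes it. -/
theorem conj_cases {a g : G} {k : ℕ} (hk : 2 ≤ k) (hao : orderOf a = 2 ^ k)
    (hconj : g * a * g⁻¹ ∈ Subgroup.zpowers a) (hg2 : g ^ 2 * a = a * g ^ 2) :
    g * a * g⁻¹ = a ∨ g * a * g⁻¹ = a * a ^ 2 ^ (k - 1) ∨ g * a * g⁻¹ = a⁻¹ ∨
      g * a * g⁻¹ = a⁻¹ * a ^ 2 ^ (k - 1) := by
  obtain ⟨r, -, hr⟩ := mem_zpowers_exists_nat (by positivity) hao hconj
  have hz2 := pow_half_sq (a := a) (k := k) (by omega) hao
  have h1 : a ^ (r ^ 2) = a ^ 1 := by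
    have e1 : g * (g * a * g⁻¹) * g⁻¹ = a := by
      have : g * (g * a * g⁻¹) * g⁻¹ = g ^ 2 * a * (g ^ 2)⁻¹ := by
        rw [pow_two]; group
      rw [this, hg2, mul_inv_cancel_right]
    rw [hr, ← conj_pow, hr, ← pow_mul, ← pow_two] at e1
    rw [e1, pow_one]
  have h2 : r ^ 2 ≡ 1 [MOD 2 ^ k] := by
    rw [← hao]; exact pow_eq_pow_iff_modEq.1 h1
  rcases sq_modEq_one_two_pow hk h2 with ⟨⟨m, hm⟩, hr1⟩ | ⟨m, hm⟩
  · have hr' : r = 1 + 2 ^ (k - 1) * m := by omega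
    have h3 : a ^ r = a * (a ^ 2 ^ (k - 1)) ^ m := by
      rw [hr', pow_add, pow_one, pow_mul]
    rw [hr, h3]
    rcases sq_eq_one_pow hz2 m with h | h
    · left; rw [h, mul_one]
    · right; left; rw [h]
  · have h3 : a ^ r * a = (a ^ 2 ^ (k - 1)) ^ m := by
      rw [← pow_succ, hm, pow_mul]
    have h4 : a ^ r = (a ^ 2 ^ (k - 1)) ^ m * a⁻¹ := by
      rw [← h3, mul_inv_cancel_right]
    have hc : Commute (a ^ 2 ^ (k - 1)) a⁻¹ := ((Commute.refl a).pow_left _).inv_right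
    rw [hr, h4]
    rcases sq_eq_one_pow hz2 m with h | h
    · right; right; left; rw [h, one_mul]
    · right; right; right; rw [h, hc.eq]

/-- Conjugating a power. -/
theorem conj_pow_eq {a g b : G} (h : g * a * g⁻¹ = b) (s : ℕ) : g * a ^ s * g⁻¹ = b ^ s := by
  rw [← h, conj_pow]

/-- The structure of a group generated by a cyclic `2`-group `⟨a⟩` and an element `g` normalizing
it with `g ^ 2 ∈ ⟨a⟩`: either `g` centralizes `a`, or `g` inverts `a` with `g ^ 2 ∈ {1, z}`, or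
(semidihedral action) `g ^ 2 ∈ {1, z}`, or (modular action) some `g * a ^ i` is an involution
or trivial. Here `z = a ^ 2 ^ (k - 1)`. -/
theorem cyclic_index_two_cases {a g : G} {k : ℕ} (hk : 2 ≤ k) (hao : orderOf a = 2 ^ k)
    (hconj : g * a * g⁻¹ ∈ Subgroup.zpowers a) (hg2 : g ^ 2 ∈ Subgroup.zpowers a) :
    g * a * g⁻¹ = a ∨
    (g * a * g⁻¹ = a⁻¹ ∧ (g ^ 2 = 1 ∨ g ^ 2 = a ^ 2 ^ (k - 1))) ∨
    (3 ≤ k ∧ g * a * g⁻¹ = a⁻¹ * a ^ 2 ^ (k - 1) ∧ (g ^ 2 = 1 ∨ g ^ 2 = a ^ 2 ^ (k - 1))) ∨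
    (3 ≤ k ∧ g * a * g⁻¹ = a * a ^ 2 ^ (k - 1) ∧ ∃ i : ℕ, (g * a ^ i) ^ 2 = 1) := by
  have hk1 : 1 ≤ k := by omega
  have hz2 := pow_half_sq (a := a) (k := k) hk1 hao
  have hz1 := pow_half_ne_one (a := a) (k := k) hk1 hao
  obtain ⟨s, hs, hgs⟩ := mem_zpowers_exists_nat (by positivity) hao hg2
  have hcomm : g ^ 2 * a = a * g ^ 2 := by
    rw [hgs, ← pow_succ, ← pow_succ']
  -- g commutes with g^2 = a^s
  have hfix : g * a ^ s * g⁻¹ = a ^ s := by
    rw [← hgs, pow_two]; group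
  have hinvcase : g * a * g⁻¹ = a⁻¹ → (g ^ 2 = 1 ∨ g ^ 2 = a ^ 2 ^ (k - 1)) := by
    intro h
    have h1 := conj_pow_eq h s
    rw [hfix, inv_pow] at h1
    have h2 : a ^ (2 * s) = 1 := by
      rw [two_mul, pow_add]
      nth_rewrite 1 [h1]
      rw [inv_mul_cancel]
    rw [hgs]
    exact pow_eq_one_or_half hk1 hao h2
  -- the case k = 2
  have hk2 : k = 2 → a * a ^ 2 ^ (k - 1) = a⁻¹ ∧ a⁻¹ * a ^ 2 ^ (k - 1) = a := by
    intro h
    subst h
    have h4 : a ^ 4 = 1 := by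
      have := pow_orderOf_eq_one a
      rw [hao] at this
      exact this
    have h3 : a * a ^ 2 = a⁻¹ := by
      rw [eq_inv_iff_mul_eq_one, ← pow_succ', ← pow_succ]
      exact h4
    refine ⟨by simpa using h3, ?_⟩
    have : a⁻¹ * a ^ 2 = a := by rw [pow_two, inv_mul_cancel_left]
    simpa using this
  rcases conj_cases hk hao hconj hcomm with h | h | h | h
  · exact Or.inl h
  · -- modular action
    by_cases hk3 : 3 ≤ k
    · right; right; right
      refine ⟨hk3, h, ?_⟩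
      have hc : Commute a (a ^ 2 ^ (k - 1)) := (Commute.refl a).pow_right _
      have h1 := conj_pow_eq h s
      rw [hfix, hc.mul_pow] at h1
      have hzs : (a ^ 2 ^ (k - 1)) ^ s = 1 := by
        have := mul_left_cancel (a := a ^ s) (b := 1) (c := (a ^ 2 ^ (k - 1)) ^ s)
          (by rw [mul_one]; exact h1)
        exact this.symm
      have hseven : Even s := by
        by_contra hodd
        rw [Nat.not_even_iff_odd] at hodd
        rw [sq_eq_one_pow_odd hz2 hodd] at hzs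
        exact hz1 hzs
      obtain ⟨j, hj⟩ := hseven
      -- (g a^i)^2 = a^(2 i + 2 j) z^i
      have hsq : ∀ i : ℕ, (g * a ^ i) ^ 2 = a ^ (2 * (i + j)) * (a ^ 2 ^ (k - 1)) ^ i := by
        intro i
        have e1 := conj_pow_eq h i
        rw [hc.mul_pow] at e1
        have e2 : (g * a ^ i) ^ 2 = (g * a ^ i * g⁻¹) * g ^ 2 * a ^ i := by
          rw [pow_two, pow_two]; group
        rw [e2, e1, hgs, hj]
        have hc2 : Commute ((a ^ 2 ^ (k - 1)) ^ i) (a ^ (j + j)) :=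
          ((Commute.refl a).pow_left _).pow_left _ |>.pow_right _
        have hc3 : Commute ((a ^ 2 ^ (k - 1)) ^ i) (a ^ i) :=
          ((Commute.refl a).pow_left _).pow_left _ |>.pow_right _
        calc a ^ i * (a ^ 2 ^ (k - 1)) ^ i * a ^ (j + j) * a ^ i
            = a ^ i * (a ^ (j + j) * (a ^ 2 ^ (k - 1)) ^ i) * a ^ i := by
              rw [mul_assoc (a ^ i), hc2.eq]
          _ = a ^ i * a ^ (j + j) * (a ^ i * (a ^ 2 ^ (k - 1)) ^ i) := by
              rw [mul_assoc, mul_assoc, hc3.eq, ← mul_assoc, ← mul_assoc]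
          _ = a ^ (2 * (i + j)) * (a ^ 2 ^ (k - 1)) ^ i := by
              rw [← mul_assoc, ← pow_add, ← pow_add]
              congr 2; ring
      have hjlt : j < 2 ^ k := by omega
      have hpow : a ^ 2 ^ k = 1 := by rw [← hao, pow_orderOf_eq_one]
      have hpos2 : 0 < 2 ^ (k - 2) := by positivity
      rcases Nat.even_or_odd j with hje | hjo
      · refine ⟨2 ^ k - j, ?_⟩
        rw [hsq]
        have e1 : 2 ^ k - j + j = 2 ^ k := by omega
        have e2 : Even (2 ^ k - j) := by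
          have : Even (2 ^ k) := (Nat.even_pow' (by omega)).2 even_two
          exact (Nat.even_sub hjlt.le).2 ⟨fun _ => hje, fun _ => this⟩
        rw [e1, pow_mul', hpow, one_pow, one_mul, sq_eq_one_pow_even hz2 e2]
      · refine ⟨2 ^ k + 2 ^ (k - 2) - j, ?_⟩
        rw [hsq]
        have e1 : 2 ^ k + 2 ^ (k - 2) - j + j = 2 ^ k + 2 ^ (k - 2) := by omega
        have e2 : Odd (2 ^ k + 2 ^ (k - 2) - j) := by
          have h1 : Even (2 ^ k) := (Nat.even_pow' (by omega)).2 even_two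
          have h2 : Even (2 ^ (k - 2)) := (Nat.even_pow' (by omega)).2 even_two
          have h3 : Even (2 ^ k + 2 ^ (k - 2)) := h1.add h2
          exact Nat.Even.sub_odd (by omega) h3 hjo
        have e3 : 2 * (2 ^ k + 2 ^ (k - 2)) = 2 ^ k * 2 + 2 ^ (k - 1) := by
          have : 2 ^ (k - 1) = 2 * 2 ^ (k - 2) := by
            rw [← pow_succ']; congr 1; omega
          rw [this]; ring
        rw [e1, e3, pow_add, pow_mul, hpow, one_pow, one_mul,
          sq_eq_one_pow_odd hz2 e2, ← pow_two, hz2]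
    · have hk' : k = 2 := by omega
      rw [(hk2 hk').1] at h
      exact Or.inr (Or.inl ⟨h, hinvcase h⟩)
  · exact Or.inr (Or.inl ⟨h, hinvcase h⟩)
  · -- semidihedral action
    by_cases hk3 : 3 ≤ k
    · right; right; left
      refine ⟨hk3, h, ?_⟩
      have hc : Commute a⁻¹ (a ^ 2 ^ (k - 1)) := ((Commute.refl a).pow_right _).inv_left
      have h1 := conj_pow_eq h s
      rw [hfix, hc.mul_pow, inv_pow] at h1
      -- a^(2s) = z^s
      have h2 : a ^ (2 * s) = (a ^ 2 ^ (k - 1)) ^ s := by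
        rw [two_mul, pow_add]
        nth_rewrite 1 [h1]
        have hc4 : Commute ((a ^ 2 ^ (k - 1)) ^ s) (a ^ s) :=
          ((Commute.refl a).pow_left _).pow_left _ |>.pow_right _
        rw [mul_assoc, hc4.eq, ← mul_assoc, inv_mul_cancel, one_mul]
      rcases Nat.even_or_odd s with hse | hso
      · rw [sq_eq_one_pow_even hz2 hse] at h2
        rw [hgs]
        exact pow_eq_one_or_half hk1 hao h2
      · exfalso
        rw [sq_eq_one_pow_odd hz2 hso] at h2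
        have h3 : 2 * s ≡ 2 ^ (k - 1) [MOD 2 ^ k] := by
          rw [← hao]; exact pow_eq_pow_iff_modEq.1 h2
        have h4 : (4 : ℕ) ∣ 2 ^ k := ⟨2 ^ (k - 2), by
          rw [show (4 : ℕ) = 2 ^ 2 by norm_num, ← pow_add]; congr 1; omega⟩
        have h5 : 2 * s ≡ 2 ^ (k - 1) [MOD 4] := h3.of_dvd h4
        have h6 : (4 : ℕ) ∣ 2 ^ (k - 1) := ⟨2 ^ (k - 3), by
          rw [show (4 : ℕ) = 2 ^ 2 by norm_num, ← pow_add]; congr 1; omega⟩
        have h7 : 2 ^ (k - 1) % 4 = 0 := Nat.mod_eq_zero_of_dvd h6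
        have h8 : 2 * s % 4 = 2 ^ (k - 1) % 4 := h5
        obtain ⟨t, ht⟩ := hso
        omega
    · have hk' : k = 2 := by omega
      rw [(hk2 hk').2] at h
      exact Or.inl h

end

end Cfsg.Agent.Helper16
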