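import Mathlib

set_option autoImplicit false

namespace Cfsg.Agent.Helper16

/-- `G` has at most one subgroup of order `p` (element form). -/
def UniqueOrderP (p : ℕ) (G : Type*) [Group G] : Prop :=
  ∀ x y : G, orderOf x = p → orderOf y = p → y ∈ Subgroup.zpowers x

theorem UniqueOrderP.subgroup {p : ℕ} {G : Type*} [Group G] (h : UniqueOrderP p G)
    (H : Subgroup G) : UniqueOrderP p H := by
  intro x y hx hy
  rw [← Subgroup.orderOf_coe] at hx hy
  have := h x y hx hy
  rw [Subgroup.mem_zpowers_iff] at this ⊢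
  obtain ⟨i, hi⟩ := this
  exact ⟨i, Subtype.ext (by simpa using hi)⟩

theorem uniqueOrderP_of_subgroups {p : ℕ} {G : Type*} [Group G]
    (h : ∀ H K : Subgroup G, Nat.card H = p → Nat.card K = p → H = K) : UniqueOrderP p G := by
  intro x y hx hy
  have := h (Subgroup.zpowers x) (Subgroup.zpowers y) (by rw [Nat.card_zpowers, hx])
    (by rw [Nat.card_zpowers, hy])
  rw [this]
  exact Subgroup.mem_zpowers y

/-- In a `p`-group with at most one subgroup of order `p`, an element `x` with `x ^ p = 1` lies in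
every nontrivial cyclic subgroup. -/
theorem mem_zpowers_of_pow_eq_one {p : ℕ} [hp : Fact p.Prime] {G : Type*} [Group G] [Finite G]
    (hG : IsPGroup p G) (h : UniqueOrderP p G) {x y : G} (hx : x ^ p = 1) (hy : y ≠ 1) :
    x ∈ Subgroup.zpowers y := by
  by_cases hx1 : x = 1
  · rw [hx1]; exact Subgroup.one_mem _
  have hxo : orderOf x = p := orderOf_eq_prime hx hx1
  obtain ⟨j, hj⟩ := IsPGroup.iff_orderOf.1 hG y
  have hj0 : j ≠ 0 := by
    intro h0
    rw [h0, pow_zero, orderOf_eq_one_iff] at hj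
    exact hy hj
  have hyo : orderOf (y ^ p ^ (j - 1)) = p := by
    rw [orderOf_pow, hj]
    have : Nat.gcd (p ^ j) (p ^ (j - 1)) = p ^ (j - 1) :=
      Nat.gcd_eq_right (pow_dvd_pow p (by omega))
    rw [this]
    have : p ^ j = p ^ (j - 1) * p := by rw [← pow_succ]; congr 1; omega
    rw [this, Nat.mul_div_cancel_left _ (pow_pos hp.out.pos _)]
  have h1 := h _ x hyo hxo
  exact (Subgroup.zpowers_le.2 (Subgroup.pow_mem _ (Subgroup.mem_zpowers y) _)) h1

/-- A finite commutative `p`-group with at most one subgroup of order `p` is cyclic. -/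
theorem isCyclic_of_comm_of_uniqueOrderP {p : ℕ} [hp : Fact p.Prime] {G : Type*} [Group G]
    [Finite G] (hG : IsPGroup p G) (hc : ∀ a b : G, a * b = b * a) (h : UniqueOrderP p G) :
    IsCyclic G := by
  classical
  -- element of maximal order
  obtain ⟨y, hymax⟩ : ∃ y : G, ∀ x : G, orderOf x ≤ orderOf y := by
    have := Finite.exists_max (fun x : G => orderOf x)
    exact this
  by_cases hy1 : y = 1
  · -- trivial group
    have : ∀ x : G, x = 1 := by
      intro x
      have := hymax x
      rw [hy1, orderOf_one] at this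
      have hpos : 0 < orderOf x := orderOf_pos x
      have : orderOf x = 1 := by omega
      exact orderOf_eq_one_iff.1 this
    have hss : Subsingleton G := ⟨fun a b => by rw [this a, this b]⟩
    exact isCyclic_of_subsingleton
  refine ⟨y, fun g => ?_⟩
  by_contra hg
  -- least j with g^(p^j) ∈ ⟨y⟩
  have hex : ∃ j : ℕ, g ^ p ^ j ∈ Subgroup.zpowers y := by
    obtain ⟨j, hj⟩ := hG g
    exact ⟨j, by rw [hj]; exact Subgroup.one_mem _⟩
  have hj0 : Nat.find hex ≠ 0 := by
    intro h0
    have := Nat.find_spec hex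
    rw [h0, pow_zero, pow_one] at this
    exact hg this
  obtain ⟨j, hj⟩ : ∃ j, Nat.find hex = j + 1 := ⟨Nat.find hex - 1, by omega⟩
  have hxn : g ^ p ^ j ∉ Subgroup.zpowers y := Nat.find_min hex (by omega)
  have hxp : (g ^ p ^ j) ^ p ∈ Subgroup.zpowers y := by
    have := Nat.find_spec hex
    rw [hj, pow_succ, pow_mul] at this
    exact this
  generalize hx : g ^ p ^ j = x at hxn hxp
  obtain ⟨e, he⟩ := IsPGroup.iff_orderOf.1 hG y
  have hfin : IsOfFinOrder y := isOfFinOrder_of_finite y
  rw [← hfin.mem_powers_iff_mem_zpowers, Submonoid.mem_powers_iff] at hxp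
  obtain ⟨i, hi⟩ := hxp
  by_cases hpi : p ∣ i
  · obtain ⟨i', rfl⟩ := hpi
    have hcomm : Commute x (y ^ i')⁻¹ := hc _ _
    have h1 : (x * (y ^ i')⁻¹) ^ p = 1 := by
      rw [hcomm.mul_pow, inv_pow, ← pow_mul, mul_comm i' p, hi, mul_inv_cancel]
    have h2 := mem_zpowers_of_pow_eq_one hG h h1 hy1
    apply hxn
    have h3 : x = x * (y ^ i')⁻¹ * y ^ i' := by group
    rw [h3]
    exact Subgroup.mul_mem _ h2 (Subgroup.pow_mem _ (Subgroup.mem_zpowers y) _)
  · -- then x has order bigger than y
    have hcop : Nat.Coprime (orderOf y) i := by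
      rw [he]
      exact Nat.Coprime.pow_left _ ((Nat.Prime.coprime_iff_not_dvd hp.out).2 hpi)
    have ho : orderOf (y ^ i) = orderOf y := Nat.Coprime.orderOf_pow hcop
    obtain ⟨f, hf⟩ := IsPGroup.iff_orderOf.1 hG x
    have hf0 : f ≠ 0 := by
      intro h0
      rw [h0, pow_zero, orderOf_eq_one_iff] at hf
      apply hxn
      rw [hf]; exact Subgroup.one_mem _
    have h1 : orderOf (x ^ p) = p ^ (f - 1) := by
      rw [orderOf_pow, hf]
      have : Nat.gcd (p ^ f) p = p := Nat.gcd_eq_right (dvd_pow_self p hf0)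
      rw [this]
      have : p ^ f = p ^ (f - 1) * p := by rw [← pow_succ]; congr 1; omega
      rw [this, Nat.mul_div_cancel _ hp.out.pos]
    rw [← hi, ho, he] at h1
    have h2 : e = f - 1 := Nat.pow_right_injective hp.out.two_le h1
    have h3 := hymax x
    rw [hf, he] at h3
    have h4 : f ≤ e := (Nat.pow_le_pow_iff_right hp.out.one_lt).1 h3
    omega

end Cfsg.Agent.Helper16
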