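import Mathlib
import Cfsg.Agent.Lib.Helper16.UniqueOrderP
import Cfsg.Agent.Lib.Helper16.CyclicTwo
import Cfsg.Agent.Lib.Helper8.PGroup

set_option autoImplicit false

namespace Cfsg.Agent.Helper16

/-- If `r ^ p ≡ 1` modulo `p ^ k` for an odd prime `p`, then `r ≡ 1` modulo `p` and modulo
`p ^ (k - 1)`. -/
theorem dvd_sub_one_of_pow_prime {p k r : ℕ} (hp : p.Prime) (hodd : Odd p) (hk : 1 ≤ k)
    (hr : 1 ≤ r) (h : p ^ k ∣ r ^ p - 1) : p ∣ r - 1 ∧ p ^ (k - 1) ∣ r - 1 := by
  have hF : Fact p.Prime := ⟨hp⟩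
  have hrp : 1 ≤ r ^ p := Nat.one_le_pow _ _ hr
  have h1 : p ∣ r ^ p - 1 := dvd_trans (dvd_pow_self p (by omega)) h
  have h2 : ((r ^ p - 1 : ℕ) : ZMod p) = 0 := (ZMod.natCast_eq_zero_iff _ _).2 h1
  rw [Nat.cast_sub hrp, Nat.cast_pow, ZMod.pow_card, Nat.cast_one, ← Nat.cast_one (R := ZMod p),
    ← Nat.cast_sub hr] at h2
  have h3 : p ∣ r - 1 := (ZMod.natCast_eq_zero_iff _ _).1 h2
  refine ⟨h3, ?_⟩
  have h4 : ¬ p ∣ r := by
    intro h5
    have h6 : p ∣ r - (r - 1) := Nat.dvd_sub h5 h3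
    have h7 : r - (r - 1) = 1 := by omega
    rw [h7] at h6
    exact hp.one_lt.ne' (Nat.dvd_one.1 h6)
  have h5 := Nat.emultiplicity_pow_sub_pow hp hodd (x := r) (y := 1) h3 h4 p
  rw [one_pow] at h5
  have h6 : (k : ℕ∞) ≤ emultiplicity p (r ^ p - 1) := le_emultiplicity_of_pow_dvd h
  rw [h5] at h6
  have h7 : emultiplicity p p = 1 := by
    have := emultiplicity_pow_self_of_prime (Nat.Prime.prime hp) 1
    simpa using this
  rw [h7] at h6
  apply pow_dvd_of_le_emultiplicity
  cases hm : emultiplicity p (r - 1) with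
  | top => exact le_top
  | coe m =>
    rw [hm] at h6
    have : (k : ℕ∞) ≤ ((m + 1 : ℕ) : ℕ∞) := by simpa using h6
    have h8 : k ≤ m + 1 := by exact_mod_cast this
    have h9 : k - 1 ≤ m := by omega
    exact_mod_cast h9

/-- If `g * b = b * g * ε` with `ε` commuting with `b` and `g`, then
`(b * g) ^ n = b ^ n * g ^ n * ε ^ (n * (n - 1) / 2)`. -/
theorem mul_pow_of_class_two {G : Type*} [Group G] {b g ε : G} (h : g * b = b * g * ε)
    (hb : Commute ε b) (hg : Commute ε g) (n : ℕ) :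
    (b * g) ^ n = b ^ n * g ^ n * ε ^ (n * (n - 1) / 2) := by
  have hgn : ∀ m : ℕ, g ^ m * b = b * g ^ m * ε ^ m := by
    intro m
    induction m with
    | zero => simp
    | succ m ih =>
      calc g ^ (m + 1) * b = g ^ m * (g * b) := by rw [pow_succ]; group
        _ = g ^ m * (b * g * ε) := by rw [h]
        _ = (g ^ m * b) * g * ε := by group
        _ = b * g ^ m * ε ^ m * g * ε := by rw [ih]
        _ = b * g ^ m * (ε ^ m * g) * ε := by group
        _ = b * g ^ m * (g * ε ^ m) * ε := by rw [(hg.pow_left m).eq]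
        _ = b * g ^ (m + 1) * ε ^ (m + 1) := by rw [pow_succ, pow_succ]; group
  induction n with
  | zero => simp
  | succ n ih =>
    have hT : (n + 1) * (n + 1 - 1) / 2 = n * (n - 1) / 2 + n := by
      have h2 : (n + 1) * (n + 1 - 1) = n * (n - 1) + 2 * n := by
        rcases n with _ | n
        · simp
        · simp only [Nat.add_sub_cancel]; ring
      rw [h2, Nat.add_mul_div_left _ _ (by norm_num : 0 < 2)]
    rw [pow_succ, ih, hT]
    set T := n * (n - 1) / 2
    calc b ^ n * g ^ n * ε ^ T * (b * g)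
        = b ^ n * g ^ n * (ε ^ T * b) * g := by group
      _ = b ^ n * g ^ n * (b * ε ^ T) * g := by rw [(hb.pow_left T).eq]
      _ = b ^ n * (g ^ n * b) * (ε ^ T * g) := by group
      _ = b ^ n * (b * g ^ n * ε ^ n) * (g * ε ^ T) := by rw [hgn n, (hg.pow_left T).eq]
      _ = b ^ n * b * g ^ n * (ε ^ n * g) * ε ^ T := by group
      _ = b ^ n * b * g ^ n * (g * ε ^ n) * ε ^ T := by rw [(hg.pow_left n).eq]
      _ = b ^ (n + 1) * g ^ (n + 1) * ε ^ (T + n) := by
          rw [pow_succ, pow_succ, pow_add]; group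

/-- A finite `p`-group, `p` odd, with at most one subgroup of order `p` is cyclic. -/
theorem isCyclic_of_uniqueOrderP_odd {p : ℕ} [hp : Fact p.Prime] (hodd : Odd p) {G : Type*}
    [Group G] [Finite G] (hG : IsPGroup p G) (h : UniqueOrderP p G) : IsCyclic G := by
  classical
  obtain ⟨A, hAn, hAc, hCA⟩ := Cfsg.Agent.Helper8.exists_normal_abelian_self_centralizing hG
  have hAcyc : IsCyclic A :=
    isCyclic_of_comm_of_uniqueOrderP (hG.to_subgroup A) (fun x y => hAc.is_comm.comm x y)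
      (h.subgroup A)
  by_cases hAtop : A = ⊤
  · rw [hAtop] at hAcyc
    exact isCyclic_of_surjective (Subgroup.topEquiv : (⊤ : Subgroup G) ≃* G)
      Subgroup.topEquiv.surjective
  exfalso
  obtain ⟨a', ha'⟩ := hAcyc.exists_generator
  obtain ⟨a, haA⟩ := a'
  have hzA : Subgroup.zpowers a = A := by
    apply le_antisymm
    · exact Subgroup.zpowers_le.2 haA
    · intro x hx
      have := ha' ⟨x, hx⟩
      rw [Subgroup.mem_zpowers_iff] at this ⊢
      obtain ⟨i, hi⟩ := this
      exact ⟨i, by simpa using congrArg Subtype.val hi⟩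
  obtain ⟨k, hao⟩ := IsPGroup.iff_orderOf.1 hG a
  obtain ⟨x0, hx0⟩ : ∃ g : G, g ∉ A := by
    by_contra hcon
    push Not at hcon
    exact hAtop (eq_top_iff.2 fun x _ => hcon x)
  have hcent : ∀ g : G, g * a * g⁻¹ = a → g ∈ A := by
    intro g hg
    apply hCA
    rw [Subgroup.mem_centralizer_iff]
    intro x hx
    rw [SetLike.mem_coe, ← hzA, Subgroup.mem_zpowers_iff] at hx
    obtain ⟨i, rfl⟩ := hx
    have h1 : g * a = a * g := by
      calc g * a = g * a * g⁻¹ * g := by group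
        _ = a * g := by rw [hg]
    exact ((Commute.zpow_left (show Commute a g from h1.symm) i)).eq
  -- an element g ∉ A with g^p ∈ A
  obtain ⟨g, hgA, hgp⟩ : ∃ g : G, g ∉ A ∧ g ^ p ∈ A := by
    have hex : ∃ j : ℕ, x0 ^ p ^ j ∈ A := by
      obtain ⟨j, hj⟩ := hG x0
      exact ⟨j, by rw [hj]; exact A.one_mem⟩
    have hj0 : Nat.find hex ≠ 0 := by
      intro h0
      have := Nat.find_spec hex
      rw [h0, pow_zero, pow_one] at this
      exact hx0 this
    obtain ⟨j, hj⟩ : ∃ j, Nat.find hex = j + 1 := ⟨Nat.find hex - 1, by omega⟩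
    refine ⟨x0 ^ p ^ j, Nat.find_min hex (by omega), ?_⟩
    have := Nat.find_spec hex
    rwa [hj, pow_succ, pow_mul] at this
  have hk1 : 1 ≤ k := by
    by_contra hk0
    have : k = 0 := by omega
    rw [this, pow_zero, orderOf_eq_one_iff] at hao
    apply hgA
    apply hcent
    rw [hao]; group
  have hppos : 0 < p ^ k := pow_pos hp.out.pos k
  have hconj : g * a * g⁻¹ ∈ Subgroup.zpowers a := by
    rw [hzA]; exact hAn.conj_mem a haA g
  obtain ⟨r, -, hr⟩ := mem_zpowers_exists_nat hppos hao hconj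
  -- r ≥ 1
  have hr1 : 1 ≤ r := by
    rcases Nat.eq_zero_or_pos r with h0 | h0
    · exfalso
      rw [h0, pow_zero] at hr
      have : a = 1 := by
        have h1 : a = g⁻¹ * (g * a * g⁻¹) * g := by group
        rw [h1, hr]; group
      rw [this, orderOf_one] at hao
      have : 1 < p ^ k := Nat.one_lt_pow (by omega) hp.out.one_lt
      omega
    · exact h0
  -- g^p commutes with a
  have hgpa : g ^ p * a * (g ^ p)⁻¹ = a := by
    have h1 : g ^ p ∈ Subgroup.zpowers a := by rw [hzA]; exact hgp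
    rw [Subgroup.mem_zpowers_iff] at h1
    obtain ⟨i, hi⟩ := h1
    rw [← hi]
    have : Commute (a ^ i) a := (Commute.refl a).zpow_left i
    rw [this.eq, mul_inv_cancel_right]
  have hiter : ∀ m : ℕ, g ^ m * a * (g ^ m)⁻¹ = a ^ (r ^ m) := by
    intro m
    induction m with
    | zero => simp
    | succ m ih =>
      have : g ^ (m + 1) * a * (g ^ (m + 1))⁻¹ = g * (g ^ m * a * (g ^ m)⁻¹) * g⁻¹ := by
        rw [pow_succ']; group
      rw [this, ih, ← conj_pow, hr, ← pow_mul, ← pow_succ']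
  have hrp : a ^ (r ^ p) = a ^ 1 := by rw [← hiter p, hgpa, pow_one]
  have hmod : r ^ p ≡ 1 [MOD p ^ k] := by
    rw [← hao]; exact pow_eq_pow_iff_modEq.1 hrp
  have hdvd : p ^ k ∣ r ^ p - 1 :=
    (Nat.modEq_iff_dvd' (Nat.one_le_pow _ _ hr1)).1 hmod.symm
  obtain ⟨hd1, hd2⟩ := dvd_sub_one_of_pow_prime hp.out hodd hk1 hr1 hdvd
  obtain ⟨m, hm⟩ := hd2
  have hrm : r = 1 + p ^ (k - 1) * m := by omega
  -- c = a^(p^(k-1)) has order p
  set c := a ^ p ^ (k - 1) with hc
  have hcp : c ^ p = 1 := by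
    rw [hc, ← pow_mul, ← pow_succ]
    have : k - 1 + 1 = k := by omega
    rw [this, ← hao, pow_orderOf_eq_one]
  have hc1 : c ≠ 1 := by
    intro h1
    have h2 := orderOf_dvd_of_pow_eq_one h1
    rw [hao] at h2
    have h3 := Nat.le_of_dvd (pow_pos hp.out.pos _) h2
    have h4 : p ^ (k - 1) < p ^ k := Nat.pow_lt_pow_right hp.out.one_lt (by omega)
    omega
  have hco : orderOf c = p := orderOf_eq_prime hcp hc1
  have hcA : c ∈ A := A.pow_mem haA _
  set ε := c ^ m with hε
  have hga : g * a * g⁻¹ = a * ε := by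
    rw [hr, hrm, pow_add, pow_one, pow_mul]
  have hεp : ε ^ p = 1 := by rw [hε, ← pow_mul, mul_comm, pow_mul, hcp, one_pow]
  have hεa : Commute ε a := ((Commute.refl a).pow_left _).pow_left _
  have hε1 : ε ≠ 1 := by
    intro h1
    rw [h1, mul_one] at hga
    exact hgA (hcent g hga)
  -- g commutes with ε
  have hεg : Commute ε g := by
    have h1 : g * ε * g⁻¹ = ε ^ r := by
      have : ε = a ^ (p ^ (k - 1) * m) := by rw [hε, hc, ← pow_mul]
      rw [this, ← conj_pow, hr, ← pow_mul, ← pow_mul, mul_comm r]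
    obtain ⟨q, hq⟩ := hd1
    have h2 : ε ^ r = ε := by
      have : r = 1 + p * q := by omega
      rw [this, pow_add, pow_one, pow_mul, hεp, one_pow, mul_one]
    rw [h2] at h1
    have : g * ε = ε * g := by
      calc g * ε = g * ε * g⁻¹ * g := by group
        _ = ε * g := by rw [h1]
    exact this.symm
  -- g^p = a^s with p ∣ s
  have hgp' : g ^ p ∈ Subgroup.zpowers a := by rw [hzA]; exact hgp
  obtain ⟨s, -, hs⟩ := mem_zpowers_exists_nat hppos hao hgp'
  have hfix : g * a ^ s * g⁻¹ = a ^ s := by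
    rw [← hs]; group
  have hps : p ∣ s := by
    have h1 := conj_pow_eq hga s
    rw [hfix, hεa.symm.mul_pow] at h1
    have h2 : ε ^ s = 1 := by
      have := mul_left_cancel (a := a ^ s) (b := 1) (c := ε ^ s) (by rw [mul_one]; exact h1)
      exact this.symm
    have h3 := orderOf_dvd_of_pow_eq_one h2
    have h4 : orderOf ε = p := orderOf_eq_prime hεp hε1
    rwa [h4] at h3
  obtain ⟨s', hs'⟩ := hps
  -- the element b * g with b = a^i
  set i := (p ^ k - 1) * s' with hi
  have hgb : g * a ^ i = a ^ i * g * ε ^ i := by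
    have h1 := conj_pow_eq hga i
    rw [hεa.symm.mul_pow] at h1
    calc g * a ^ i = g * a ^ i * g⁻¹ * g := by group
      _ = a ^ i * ε ^ i * g := by rw [h1]
      _ = a ^ i * (ε ^ i * g) := by group
      _ = a ^ i * (g * ε ^ i) := by rw [(hεg.pow_left i).eq]
      _ = a ^ i * g * ε ^ i := by group
  have hpow := mul_pow_of_class_two hgb ((hεa.pow_left i).pow_right i) (hεg.pow_left i) p
  have hT : (ε ^ i) ^ (p * (p - 1) / 2) = 1 := by
    obtain ⟨t, ht⟩ := hodd
    have : p * (p - 1) / 2 = p * t := by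
      have h1 : p - 1 = 2 * t := by omega
      rw [h1, ← mul_assoc, mul_comm p 2, mul_assoc, Nat.mul_div_cancel_left _ (by norm_num)]
    rw [this, ← pow_mul, ← mul_assoc, mul_comm i p, mul_assoc, pow_mul, hεp, one_pow]
  rw [hT, mul_one, hs, ← pow_mul, ← pow_add] at hpow
  have hexp : i * p + s = p ^ k * (p * s') := by
    rw [hi, hs']
    have h1 : 1 ≤ p ^ k := hppos
    obtain ⟨u, hu⟩ : ∃ u, p ^ k = u + 1 := ⟨p ^ k - 1, by omega⟩
    rw [hu]; simp only [Nat.add_sub_cancel]; ring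
  have hpk : a ^ p ^ k = 1 := by rw [← hao, pow_orderOf_eq_one]
  have hrhs : a ^ (i * p + s) = 1 := by rw [hexp, pow_mul, hpk, one_pow]
  rw [hrhs] at hpow
  -- so a^i * g has order p but is outside A
  have hbgA : a ^ i * g ∉ A := by
    intro hmem
    apply hgA
    have : g = (a ^ i)⁻¹ * (a ^ i * g) := by group
    rw [this]; exact A.mul_mem (A.inv_mem (A.pow_mem haA i)) hmem
  have hbg1 : a ^ i * g ≠ 1 := by
    intro h1; rw [h1] at hbgA; exact hbgA A.one_mem
  have hbgo : orderOf (a ^ i * g) = p := orderOf_eq_prime hpow hbg1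
  have := h c (a ^ i * g) hco hbgo
  exact hbgA ((Subgroup.zpowers_le.2 hcA) this)

end Cfsg.Agent.Helper16
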