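import Mathlib
import Cfsg.Prelude.Def_LocalStructure

set_option autoImplicit false

namespace Cfsg.Agent.Helper16

variable {G : Type*} [Group G]

theorem card_inf_mul_relIndex' (K L : Subgroup G) :
    Nat.card (K ⊓ L : Subgroup G) * K.relIndex L = Nat.card L := by
  have := Subgroup.relIndex_inf_mul_relIndex (⊥ : Subgroup G) K L
  rwa [Subgroup.relIndex_bot_left, bot_inf_eq, Subgroup.relIndex_bot_left] at this

/-- If `F` is normal, then `|F : H ⊓ F| = |H ⊔ F : H|`. -/
theorem relIndex_sup_eq_of_normal' [Finite G] (H F : Subgroup G) [F.Normal] :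
    H.relIndex (H ⊔ F) = H.relIndex F := by
  set L := H ⊔ F with hL
  have e1 := card_inf_mul_relIndex' H F
  have e2 := card_inf_mul_relIndex' F H
  have e3 := card_inf_mul_relIndex' H L
  have e4 := card_inf_mul_relIndex' F L
  rw [inf_of_le_left (le_sup_left : H ≤ L)] at e3
  rw [inf_of_le_left (le_sup_right : F ≤ L), hL, Subgroup.relIndex_sup_right, ← hL] at e4
  rw [inf_comm] at e2
  have hpos : 0 < Nat.card (H ⊓ F : Subgroup G) := Nat.card_pos
  have hposH : 0 < Nat.card H := Nat.card_pos
  have key : Nat.card (H ⊓ F : Subgroup G) * (Nat.card H * H.relIndex L) =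
      Nat.card (H ⊓ F : Subgroup G) * (Nat.card H * H.relIndex F) := by
    rw [e3, ← e4]
    calc Nat.card (H ⊓ F : Subgroup G) * (Nat.card F * F.relIndex H)
        = Nat.card F * (Nat.card (H ⊓ F : Subgroup G) * F.relIndex H) := by ring
      _ = Nat.card F * Nat.card H := by rw [e2]
      _ = (Nat.card (H ⊓ F : Subgroup G) * H.relIndex F) * Nat.card H := by rw [e1]
      _ = Nat.card (H ⊓ F : Subgroup G) * (Nat.card H * H.relIndex F) := by ring
  exact Nat.eq_of_mul_eq_mul_left hposH (Nat.eq_of_mul_eq_mul_left hpos key)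

theorem relIndex_dvd_index_of_normal_right' [Finite G] (H F : Subgroup G) [F.Normal] :
    H.relIndex F ∣ H.index := by
  rw [← relIndex_sup_eq_of_normal' H F]
  exact Subgroup.relIndex_dvd_index_of_le le_sup_left

/-- For a normal subgroup `N` and a Sylow `p`-subgroup `T`, `T ∩ N` is a Sylow `p`-subgroup
of `N`. -/
noncomputable def sylowInfNormal {p : ℕ} [Fact p.Prime] [Finite G] (T : Sylow p G)
    (N : Subgroup G) [N.Normal] : Sylow p N :=
  IsPGroup.toSylow (P := (T : Subgroup G).subgroupOf N) (T.2.comap_subtype) (by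
    intro h
    have h' : p ∣ (T : Subgroup G).relIndex N := h
    exact T.not_dvd_index (h'.trans (relIndex_dvd_index_of_normal_right' _ _)))

theorem coe_sylowInfNormal {p : ℕ} [Fact p.Prime] [Finite G] (T : Sylow p G)
    (N : Subgroup G) [N.Normal] :
    (sylowInfNormal T N : Subgroup N) = (T : Subgroup G).subgroupOf N :=
  IsPGroup.toSylow_coe _ _

/-- Frattini argument for `T ∩ N`. -/
theorem normalizer_inf_sup_eq_top {p : ℕ} [Fact p.Prime] [Finite G] (T : Sylow p G)
    (N : Subgroup G) [N.Normal] :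
    Subgroup.normalizer (((T : Subgroup G) ⊓ N : Subgroup G) : Set G) ⊔ N = ⊤ := by
  have := Sylow.normalizer_sup_eq_top (sylowInfNormal T N)
  rw [coe_sylowInfNormal, ← Subgroup.inf_subgroupOf_right,
    Subgroup.map_subgroupOf_eq_of_le inf_le_right] at this
  exact this

/-- If `T ∩ N` is normal in `N` (`T` Sylow in `G`, `N` normal in `G`) then `N` is `p`-closed. -/
theorem isPClosed_of_inf_normal {p : ℕ} [Fact p.Prime] [Finite G] (T : Sylow p G)
    (N : Subgroup G) [N.Normal] (h : ((T : Subgroup G).subgroupOf N).Normal) :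
    Cfsg.IsPClosed p N := by
  intro P
  have h0 : ((sylowInfNormal T N : Sylow p N) : Subgroup N).Normal := by
    rw [coe_sylowInfNormal]; exact h
  have := Sylow.unique_of_normal (sylowInfNormal T N) h0
  have hP : P = sylowInfNormal T N := Subsingleton.elim _ _
  rw [hP]; exact h0

/-- The `T`-side of a sup with a normal subgroup gives a `p`-group quotient. -/
theorem isPGroup_quotient_of_sup_eq_top {p : ℕ} (T N : Subgroup G) [N.Normal]
    (hT : IsPGroup p T) (h : T ⊔ N = ⊤) : IsPGroup p (G ⧸ N) := by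
  intro q
  obtain ⟨g, rfl⟩ := QuotientGroup.mk_surjective q
  have hg : g ∈ T ⊔ N := h ▸ Subgroup.mem_top g
  rw [Subgroup.mem_sup_of_normal_right] at hg
  obtain ⟨t, ht, n, hn, rfl⟩ := hg
  obtain ⟨k, hk⟩ := hT ⟨t, ht⟩
  refine ⟨k, ?_⟩
  have h1 : ((t * n : G) : G ⧸ N) = (t : G ⧸ N) := by
    rw [QuotientGroup.mk_mul, (QuotientGroup.eq_one_iff n).2 hn, mul_one]
  rw [h1, ← QuotientGroup.mk_pow]
  have : t ^ p ^ k = 1 := by
    have := congrArg (fun v : T => (v : G)) hk
    simpa using this
  rw [this]; rfl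

end Cfsg.Agent.Helper16
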