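import Mathlib
import Cfsg.Prelude.Def_LocalStructure
import Cfsg.Agent.Lib.Helper16.SylowNormal
import Cfsg.Agent.Lib.Helper14.Basic

set_option autoImplicit false

namespace Cfsg.Agent.Helper16

open Cfsg

variable {H : Type*} [Group H]

theorem pCore_normal' (p : ℕ) : (pCore p H).Normal :=
  Subgroup.sSup_normal _ (fun _ h => h.1)

/-- A `p`-subgroup of a `p`-closed normal subgroup lies in `O_p`. -/
theorem le_pCore_of_le_isPClosed_normal [Finite H] {p : ℕ} [Fact p.Prime] (N : Subgroup H)
    [hN : N.Normal] (hcl : IsPClosed p N) (Y : Subgroup H) (hYN : Y ≤ N) (hY : IsPGroup p Y) :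
    Y ≤ pCore p H := by
  obtain ⟨P, hP⟩ := (hY.comap_subtype (K := N)).exists_le_sylow
  have hPn : (P : Subgroup N).Normal := hcl P
  have hPc : (P : Subgroup N).Characteristic := Sylow.characteristic_of_normal P hPn
  have hPH : ((P : Subgroup N).map N.subtype).Normal := ConjAct.normal_of_characteristic_of_normal
  have hPp : IsPGroup p ((P : Subgroup N).map N.subtype : Subgroup H) := P.2.map _
  refine le_trans ?_ (Cfsg.Agent.Helper14.le_pCore hPH hPp)
  intro y hy
  exact ⟨⟨y, hYN hy⟩, hP (by rw [Subgroup.mem_comap]; exact hy), rfl⟩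

/-- If a Sylow `p`-subgroup lies in `O_p(H)` then `H` is `p`-closed. -/
theorem isPClosed_of_sylow_le_pCore [Finite H] {p : ℕ} [Fact p.Prime] (T : Sylow p H)
    (h : (T : Subgroup H) ≤ pCore p H) : IsPClosed p H := by
  have heq : (T : Subgroup H) = pCore p H :=
    le_antisymm h (Cfsg.Agent.Helper14.pCore_le_sylow T)
  have hTn : (T : Subgroup H).Normal := heq ▸ pCore_normal' p
  intro P
  have := Sylow.unique_of_normal T hTn
  have hP : P = T := Subsingleton.elim _ _
  rw [hP]; exact hTn

/-- A subgroup containing the derived subgroup is normal. -/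
theorem normal_of_commutator_le {K : Subgroup H} (h : commutator H ≤ K) : K.Normal := by
  constructor
  intro n hn g
  have h1 : g * n * g⁻¹ * n⁻¹ ∈ commutator H := by
    rw [commutator_def]
    exact Subgroup.commutator_mem_commutator (Subgroup.mem_top g) (Subgroup.mem_top n)
  have : g * n * g⁻¹ = (g * n * g⁻¹ * n⁻¹) * n := by group
  rw [this]
  exact K.mul_mem (h h1) hn

end Cfsg.Agent.Helper16
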