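import Mathlib
import Cfsg.Prelude.Def_Local
import Cfsg.Agent.Lib.Helper7.FStar2
import Cfsg.Agent.Lib.Helper7.Fitting2
import Cfsg.Agent.Lib.Helper22.PPrimeCore
import Cfsg.Agent.Lib.Helper14.Basic
import Cfsg.Agent.Lib.Helper16.PClosed

set_option autoImplicit false

namespace Cfsg.Agent.Helper16

open Cfsg

/-- A finite solvable group has trivial layer. -/
theorem layer_eq_bot_of_isSolvable {G : Type*} [Group G] (h : Group.IsSolvable G) :
    layer G = ⊥ := by
  rw [Cfsg.Agent.Helper7.layer_eq_bot_iff]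
  intro L hL
  exact Cfsg.Agent.Helper7.not_isSolvable_of_component hL inferInstance

/-- In a finite solvable group the Fitting subgroup contains its centralizer. -/
theorem centralizer_fittingSubgroup_le_of_isSolvable {G : Type*} [Group G] [Finite G]
    (h : Group.IsSolvable G) :
    Subgroup.centralizer (fittingSubgroup G : Set G) ≤ fittingSubgroup G :=
  Cfsg.Agent.Helper7.centralizer_fittingSubgroup_le_iff.2 (layer_eq_bot_of_isSolvable h)

/-- If `O_{p'}(G) = 1` then `F(G)` is a `p`-group. -/
theorem fittingSubgroup_le_pCore_of_pPrimeCore_eq_bot {G : Type*} [Group G] [Finite G] (p : ℕ)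
    [Fact p.Prime] (hO : pPrimeCore p G = ⊥) : fittingSubgroup G ≤ pCore p G := by
  have hFn : (fittingSubgroup G).Normal := Cfsg.Agent.Helper7.fittingSubgroup_normal'
  have hFnil : Group.IsNilpotent ↥(fittingSubgroup G) := Cfsg.Agent.Helper7.fittingSubgroup_isNilpotent
  apply Cfsg.Agent.Helper14.le_pCore hFn
  have hcard : ∀ q : ℕ, q.Prime → q ∣ Nat.card (fittingSubgroup G) → q = p := by
    intro q hq hdvd
    by_contra hne
    have hqF : Fact q.Prime := ⟨hq⟩
    obtain ⟨Q⟩ : Nonempty (Sylow q ↥(fittingSubgroup G)) := inferInstance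
    have hQn : (Q : Subgroup ↥(fittingSubgroup G)).Normal :=
      Sylow.normal_of_normalizerCondition Group.normalizerCondition_of_isNilpotent Q
    have hQc : (Q : Subgroup ↥(fittingSubgroup G)).Characteristic :=
      Sylow.characteristic_of_normal Q hQn
    have hQG : ((Q : Subgroup ↥(fittingSubgroup G)).map (fittingSubgroup G).subtype).Normal :=
      ConjAct.normal_of_characteristic_of_normal
    have hQcard : Nat.card ((Q : Subgroup ↥(fittingSubgroup G)).map (fittingSubgroup G).subtype)
        = Nat.card (Q : Subgroup ↥(fittingSubgroup G)) :=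
      Subgroup.card_map_of_injective (Subgroup.subtype_injective _)
    obtain ⟨k, hk⟩ := IsPGroup.iff_card.1 Q.2
    have hcop : (Nat.card ((Q : Subgroup ↥(fittingSubgroup G)).map
        (fittingSubgroup G).subtype)).Coprime p := by
      rw [hQcard, hk]
      apply Nat.Coprime.pow_left
      exact (Nat.coprime_primes hq Fact.out).2 hne
    have hle := Cfsg.Agent.Helper22.le_pPrimeCore p _ hQG hcop
    rw [hO, le_bot_iff] at hle
    have hQbot : (Q : Subgroup ↥(fittingSubgroup G)) = ⊥ := by
      rw [eq_bot_iff]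
      intro x hx
      have : (x : G) ∈ (Q : Subgroup ↥(fittingSubgroup G)).map (fittingSubgroup G).subtype :=
        ⟨x, hx, rfl⟩
      rw [hle, Subgroup.mem_bot] at this
      rw [Subgroup.mem_bot]
      exact Subtype.ext this
    exact Q.ne_bot_of_dvd_card hdvd hQbot
  have := Nat.eq_prime_pow_of_unique_prime_dvd (Nat.card_pos (α := fittingSubgroup G)).ne'
    (fun {d} hd hdvd => hcard d hd hdvd)
  exact IsPGroup.of_card this

/-- Hall–Higman 1.2.3 for solvable groups: if `O_{p'}(G) = 1` then `C_G(O_p(G)) ≤ O_p(G)`. -/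
theorem centralizer_pCore_le_of_isSolvable {G : Type*} [Group G] [Finite G] (p : ℕ)
    [Fact p.Prime] (h : Group.IsSolvable G) (hO : pPrimeCore p G = ⊥) :
    Subgroup.centralizer (pCore p G : Set G) ≤ pCore p G := by
  have h1 := fittingSubgroup_le_pCore_of_pPrimeCore_eq_bot p hO
  have h2 := centralizer_fittingSubgroup_le_of_isSolvable h
  exact ((Subgroup.centralizer_le (SetLike.coe_subset_coe.2 h1)).trans h2).trans h1

/-- A finite group with a normal `p`-subgroup `Q` containing its centralizer and with `Aut(Q)` a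
`p`-group is a `p`-group. -/
theorem isPGroup_of_aut_isPGroup {G : Type*} [Group G] {p : ℕ} (Q : Subgroup G)
    [hQn : Q.Normal] (hQ : IsPGroup p Q) (hC : Subgroup.centralizer (Q : Set G) ≤ Q)
    (hA : IsPGroup p (MulAut Q)) : IsPGroup p G := by
  intro g
  obtain ⟨k, hk⟩ := hA (MulAut.conjNormal g)
  rw [← map_pow] at hk
  have hgC : g ^ p ^ k ∈ Subgroup.centralizer (Q : Set G) := by
    rw [Subgroup.mem_centralizer_iff]
    intro q hq
    have h1 := congrArg (fun α : MulAut Q => ((α ⟨q, hq⟩ : Q) : G)) hk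
    simp only [MulAut.conjNormal_apply, MulAut.one_apply] at h1
    calc q * g ^ p ^ k = (g ^ p ^ k * q * (g ^ p ^ k)⁻¹) * g ^ p ^ k := by rw [h1]
      _ = g ^ p ^ k * q := by group
  obtain ⟨j, hj⟩ := hQ ⟨_, hC hgC⟩
  refine ⟨k + j, ?_⟩
  have := congrArg (fun v : Q => (v : G)) hj
  rw [pow_add, pow_mul]
  simpa using this

end Cfsg.Agent.Helper16
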