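import Mathlib
import Cfsg.Prelude.Def_Blocks
import Cfsg.Agent.Lib.Helper24.CharLinear

/-!
# S4707 (Ito: uniprimitive groups of degree `2p` with `|N_G(P)| = 2p`): definitions (helper16)

Paper proof: `plans/S4707_proof.md`.  Skeleton with all piece statements: `plans/S4707_Skel.lean.txt`.
-/

set_option autoImplicit false

namespace Cfsg.Agent.Helper16.ITO

open Cfsg Cfsg.Agent.Helper24

universe u

variable {G : Type u} [Group G] [Fintype G]

/-- The shape of the characters of positive defect for a self-centralizing Sylow subgroup `P` of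
prime order `p` with `|N_G(P) : P| = 2` when some irreducible character has degree `p - 1`:
`Irr(G) = {1, χa} ⊔ Y ⊔ (characters vanishing on P ∖ 1)`, `χa(1) = p - 1`, `χa = -1` on `P ∖ 1`,
the `(p-1)/2` exceptional characters `ζ ∈ Y` have degree `p - 2`, agree on `p`-regular elements,
`ζ(a) = -(ψ(a) + ψ(a)⁻¹)` on `P ∖ 1` (encoded by `sq_rel`), sum to `1` on `P ∖ 1` and are linearly
independent there modulo that relation (`indep`). -/
structure B0Data (p : ℕ) (P : Subgroup G) where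
  χa : IrrCharacter G
  Y : Finset (IrrCharacter G)
  one_notMem : principalChar G ∉ Y
  χa_notMem : χa ∉ Y
  χa_ne_one : χa ≠ principalChar G
  valχa : ∀ a ∈ P, a ≠ 1 → (χa : G → ℂ) a = -1
  degχa : (χa : G → ℂ) 1 = (p : ℂ) - 1
  degY : ∀ ζ ∈ Y, (ζ : G → ℂ) 1 = (p : ℂ) - 2
  cardY : 2 * Y.card = p - 1
  valD : ∀ χ : IrrCharacter G, χ ≠ principalChar G → χ ≠ χa → χ ∉ Y →
    ∀ a ∈ P, a ≠ 1 → (χ : G → ℂ) a = 0
  regY : ∀ ζ ∈ Y, ∀ ζ' ∈ Y, ∀ g : G, ¬ p ∣ orderOf g → (ζ : G → ℂ) g = (ζ' : G → ℂ) g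
  sq_rel : ∀ ζ ∈ Y, ∀ a ∈ P, a ≠ 1 → (ζ : G → ℂ) a ^ 2 = 2 - (ζ : G → ℂ) (a * a)
  sumY : ∀ a ∈ P, a ≠ 1 → ∑ η ∈ Y, (η : G → ℂ) a = 1
  indep : ∀ (c : IrrCharacter G → ℂ) (c₀ : ℂ),
    (∀ a ∈ P, a ≠ 1 → ∑ η ∈ Y, c η * (η : G → ℂ) a = c₀) → ∀ η ∈ Y, c η = c₀

/-- the alternating square of a class function -/
noncomputable def lam2 (ζ : G → ℂ) : G → ℂ := fun g => (ζ g ^ 2 - ζ (g * g)) / 2

end Cfsg.Agent.Helper16.ITO
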