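import Mathlib

set_option autoImplicit false

namespace Cfsg.Agent.Helper16

open scoped Pointwise

/-- Every `p`-subgroup is conjugate into a given Sylow `p`-subgroup. -/
theorem exists_conj_le_sylow {G : Type*} [Group G] [Finite G] {p : ℕ} [Fact p.Prime]
    {A : Subgroup G} (hA : IsPGroup p A) (P : Sylow p G) :
    ∃ k : G, ∀ a ∈ A, k * a * k⁻¹ ∈ (P : Subgroup G) := by
  obtain ⟨Q, hQ⟩ := hA.exists_le_sylow
  obtain ⟨k, hk⟩ := MulAction.exists_smul_eq G Q P
  refine ⟨k, fun a ha => ?_⟩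
  rw [← hk, Sylow.coe_subgroup_smul]
  have := Subgroup.smul_mem_pointwise_smul a (MulAut.conj k) (Q : Subgroup G) (hQ ha)
  simpa [MulAut.smul_def] using this

/-- Two `p`-subgroups of a subgroup `H` can be brought into a common `p`-subgroup by conjugating
one of them with an element of `H`. -/
theorem exists_conj_mem_common_pGroup {G : Type*} [Group G] [Finite G] {p : ℕ} [Fact p.Prime]
    (H A B : Subgroup G) (hAH : A ≤ H) (hBH : B ≤ H) (hA : IsPGroup p A) (hB : IsPGroup p B) :
    ∃ h ∈ H, ∃ R : Subgroup G, IsPGroup p R ∧ R ≤ H ∧ A ≤ R ∧ ∀ b ∈ B, h * b * h⁻¹ ∈ R := by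
  have hA' : IsPGroup p (A.subgroupOf H) := hA.comap_subtype
  have hB' : IsPGroup p (B.subgroupOf H) := hB.comap_subtype
  obtain ⟨Q, hQ⟩ := hA'.exists_le_sylow
  obtain ⟨h, hh⟩ := exists_conj_le_sylow hB' Q
  refine ⟨h, h.2, (Q : Subgroup H).map H.subtype, Q.2.map _, ?_, ?_, ?_⟩
  · intro x hx
    obtain ⟨y, _, rfl⟩ := hx
    exact y.2
  · intro a ha
    exact ⟨⟨a, hAH ha⟩, hQ (by simpa [Subgroup.mem_subgroupOf] using ha), rfl⟩
  · intro b hb
    have := hh ⟨b, hBH hb⟩ (by simpa [Subgroup.mem_subgroupOf] using hb)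
    exact ⟨_, this, by simp⟩

/-- If conjugation by `a` maps `H` onto `H` then `a` normalizes `H`. -/
theorem mem_normalizer_of_map_conj_eq {G : Type*} [Group G] (H : Subgroup G) (a : G)
    (h : H.map (MulAut.conj a).toMonoidHom = H) : a ∈ Subgroup.normalizer (H : Set G) := by
  rw [Subgroup.mem_normalizer_iff]
  intro w
  constructor
  · intro hw
    rw [← h]
    exact ⟨w, hw, by simp⟩
  · intro hw
    rw [← h] at hw
    obtain ⟨w', hw', he⟩ := hw
    have : w' = w := by
      simpa using he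
    exact this ▸ hw'

end Cfsg.Agent.Helper16
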