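import Mathlib
import Cfsg.Agent.Lib.Helper7.BrOrd1
import Cfsg.Agent.Lib.Helper24.GlaubPGroup
import Cfsg.Agent.S0948
import Cfsg.Agent.S4479

/-!
# S3278, piece ARITH (helper16): Brauer's order formula gives `|G| < 18 |C(P)|`.
-/

set_option autoImplicit false

namespace Cfsg.Agent.Helper16.KF

variable {G : Type*} [Group G] [Finite G]

/-- the arithmetic core: `4 a b d < 9 (a+1)(b+ε)(d-1)` -/
theorem arith_core (a b d : ℕ) (ε : ℤ) (hε : ε = 1 ∨ ε = -1) (hb : (4 : ℤ) ∣ (b : ℤ) - ε)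
    (hd : (4 : ℤ) ∣ (d : ℤ) + 1) :
    0 < ((a : ℚ) + 1) * ((b : ℚ) + (ε : ℚ)) * ((d : ℚ) + ((-1 : ℤ) : ℚ)) ∧
    ((a : ℚ) * b * d) / (((a : ℚ) + 1) * ((b : ℚ) + (ε : ℚ)) * ((d : ℚ) + ((-1 : ℤ) : ℚ))) < 9 / 4 := by
  have hd3 : 3 ≤ d := by
    obtain ⟨k, hk⟩ := hd
    omega
  have hbB : (0 : ℚ) < (b : ℚ) + (ε : ℚ) ∧ 2 * (b : ℚ) ≤ 3 * ((b : ℚ) + (ε : ℚ)) := by
    rcases hε with h | h
    · subst h
      have : (0 : ℚ) ≤ (b : ℚ) := Nat.cast_nonneg b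
      constructor <;> push_cast <;> linarith
    · subst h
      have hb3 : 3 ≤ b := by
        obtain ⟨k, hk⟩ := hb
        omega
      have : (3 : ℚ) ≤ (b : ℚ) := by exact_mod_cast hb3
      constructor <;> push_cast <;> linarith
  obtain ⟨hB0, hB1⟩ := hbB
  have hdq : (3 : ℚ) ≤ (d : ℚ) := by exact_mod_cast hd3
  have hD0 : (0 : ℚ) < (d : ℚ) + ((-1 : ℤ) : ℚ) := by push_cast; linarith
  have hD1 : 2 * (d : ℚ) ≤ 3 * ((d : ℚ) + ((-1 : ℤ) : ℚ)) := by push_cast; linarith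
  have ha0 : (0 : ℚ) ≤ (a : ℚ) := Nat.cast_nonneg a
  have hb0 : (0 : ℚ) ≤ (b : ℚ) := Nat.cast_nonneg b
  have hd0 : (0 : ℚ) ≤ (d : ℚ) := Nat.cast_nonneg d
  have hpos : 0 < ((a : ℚ) + 1) * ((b : ℚ) + (ε : ℚ)) * ((d : ℚ) + ((-1 : ℤ) : ℚ)) := by
    have : (0 : ℚ) < (a : ℚ) + 1 := by linarith
    positivity
  refine ⟨hpos, ?_⟩
  rw [div_lt_iff₀ hpos]
  set B : ℚ := (b : ℚ) + (ε : ℚ) with hBdef
  set D : ℚ := (d : ℚ) + ((-1 : ℤ) : ℚ) with hDdef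
  have hBD : 0 < B * D := mul_pos hB0 hD0
  have h1 : (2 * (b : ℚ)) * (2 * (d : ℚ)) ≤ (3 * B) * (3 * D) := by
    apply mul_le_mul hB1 hD1 (by linarith) (by linarith)
  have h2 : (a : ℚ) * ((2 * (b : ℚ)) * (2 * (d : ℚ))) ≤ (a : ℚ) * ((3 * B) * (3 * D)) :=
    mul_le_mul_of_nonneg_left h1 ha0
  nlinarith [h2, hBD]

theorem card_lt (g₀ : ℕ) (hg₀ : Odd g₀) (hG : Nat.card G = 4 * g₀)
    (hnc : ¬ ∃ N : Subgroup G, N.Normal ∧ Nat.card N = g₀) (P : Sylow 2 G) (J : G)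
    (hJ : J ∈ (P : Subgroup G)) (hJ2 : orderOf J = 2)
    (hcent : Subgroup.centralizer ({J} : Set G) = Subgroup.centralizer ((P : Subgroup G) : Set G)) :
    Nat.card G < 18 * Nat.card (Subgroup.centralizer ((P : Subgroup G) : Set G)) := by
  obtain ⟨M, hM⟩ := Cfsg.Agent.Helper24.Glaub.exists_isPModular Nat.prime_two
  obtain ⟨hK, hone⟩ := Cfsg.Agent.Helper7.klein_of_no_complement g₀ hg₀ hG hnc P
  obtain ⟨ζ₂, ζ₃, ζ₄, ε, hε, h2ne, h3ne, h23, h24, h34, hB, hval, hd2, hd3, hd4, -⟩ :=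
    Cfsg.Agent.S0948.result M hM P hK hone
  obtain ⟨hv2, hv3, hv4⟩ := hval J hJ2
  have h4ne : (ζ₄ : G → ℂ) ≠ (fun _ => 1) := by
    intro h
    have := congrFun h J
    rw [hv4] at this
    norm_num at this
  have hform := Cfsg.Agent.S4479.result M hM g₀ hg₀ hG hnc P J hJ hJ2 ζ₂ ζ₃ ζ₄ 1 ε (-1) hB
    ⟨h2ne, h3ne, h4ne, h23, h24, h34⟩ ⟨Or.inl rfl, hε, Or.inr rfl⟩
    ⟨by rw [hv2]; norm_num, by rw [hv3], by rw [hv4]; norm_num⟩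
  rw [hcent] at hform
  set c : ℕ := Nat.card (Subgroup.centralizer ((P : Subgroup G) : Set G)) with hc
  have hcpos : 0 < c := Nat.card_pos
  have hcq : (0 : ℚ) < (c : ℚ) := by exact_mod_cast hcpos
  obtain ⟨hpos, hα⟩ := arith_core (Cfsg.charDegree (ζ₂ : G → ℂ)) (Cfsg.charDegree (ζ₃ : G → ℂ))
    (Cfsg.charDegree (ζ₄ : G → ℂ)) ε hε hd3 hd4
  have h1 : ((1 : ℤ) : ℚ) = 1 := by norm_num
  rw [h1] at hform
  set α : ℚ := ((Cfsg.charDegree (ζ₂ : G → ℂ) : ℚ) * Cfsg.charDegree (ζ₃ : G → ℂ) *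
      Cfsg.charDegree (ζ₄ : G → ℂ)) /
    (((Cfsg.charDegree (ζ₂ : G → ℂ) : ℚ) + 1) * ((Cfsg.charDegree (ζ₃ : G → ℂ) : ℚ) + (ε : ℚ)) *
      ((Cfsg.charDegree (ζ₄ : G → ℂ) : ℚ) + ((-1 : ℤ) : ℚ))) with hαdef
  have hform2 : (Nat.card G : ℚ) = 8 * α * (c : ℚ) := by
    rw [hform]
    field_simp
  have hlt : (Nat.card G : ℚ) < 18 * (c : ℚ) := by
    rw [hform2]
    nlinarith [hα, hcq]
  exact_mod_cast hlt

end Cfsg.Agent.Helper16.KF
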