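import Mathlib
import Cfsg.Agent.S0111
import Cfsg.Agent.Lib.Helper9.SylowLemmas
import Cfsg.Agent.Lib.Helper16.CyclicTwo

/-!
# Thompson transfer with a cyclic subgroup of index two (helper16's library)

If a Sylow `2`-subgroup `T` of `G` has a cyclic subgroup `⟨a⟩` of index two and `G` has no normal
subgroup of index two, then every involution of `G` is conjugate to the involution of `⟨a⟩`.
-/

set_option autoImplicit false

namespace Cfsg.Agent.Helper16

/-- A group with `O^2(G) = G` has no normal subgroup of index two. -/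
theorem index_ne_two_of_pResidual_eq_top {G : Type*} [Group G] (hO : Cfsg.pResidual 2 G = ⊤)
    (M : Subgroup G) (_hM : M.Normal) : M.index ≠ 2 := by
  intro hidx
  have hle : Cfsg.pResidual 2 G ≤ M := by
    rw [Cfsg.pResidual, Subgroup.closure_le]
    intro g hg
    have hodd : Odd (orderOf g) := Nat.coprime_two_right.1 hg
    obtain ⟨k, hk⟩ := hodd
    have h2 : g ^ 2 ∈ M := Subgroup.sq_mem_of_index_two hidx g
    have h3 : g ^ (2 * k + 1) = 1 := by rw [← hk]; exact pow_orderOf_eq_one g
    have h4 : g = ((g ^ 2) ^ k)⁻¹ := by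
      rw [eq_inv_iff_mul_eq_one, ← pow_mul, ← pow_succ']
      exact h3
    rw [SetLike.mem_coe, h4]
    exact M.inv_mem (M.pow_mem h2 k)
  rw [hO, top_le_iff] at hle
  rw [hle, Subgroup.index_top] at hidx
  norm_num at hidx

/-- **Thompson transfer** with a cyclic subgroup of index two in a Sylow `2`-subgroup. -/
theorem involution_conj_of_cyclic_index_two {G : Type*} [Group G] [Finite G] (T : Sylow 2 G)
    {a : G} {n : ℕ} (hn : 1 ≤ n) (haT : a ∈ (T : Subgroup G)) (hao : orderOf a = 2 ^ n)
    (hcard : Nat.card (T : Subgroup G) = 2 ^ (n + 1))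
    (hno : ∀ M : Subgroup G, M.Normal → M.index ≠ 2) (x : G) (hx : orderOf x = 2) :
    ∃ g : G, g * x * g⁻¹ = a ^ 2 ^ (n - 1) := by
  have hF : Fact (Nat.Prime 2) := ⟨Nat.prime_two⟩
  have hQT : Subgroup.zpowers a ≤ (T : Subgroup G) := Subgroup.zpowers_le.2 haT
  have hQi : (Subgroup.zpowers a).relIndex (T : Subgroup G) = 2 := by
    have h1 := Subgroup.card_mul_index ((Subgroup.zpowers a).subgroupOf (T : Subgroup G))
    rw [Nat.card_congr (Subgroup.subgroupOfEquivOfLe hQT).toEquiv, Nat.card_zpowers, hao, hcard,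
      pow_succ] at h1
    exact Nat.eq_of_mul_eq_mul_left (pow_pos two_pos _) h1
  -- involutions of `⟨a⟩`
  have hinv : ∀ u ∈ Subgroup.zpowers a, orderOf u = 2 → u = a ^ 2 ^ (n - 1) := by
    intro u hu huo
    obtain ⟨s, -, rfl⟩ := mem_zpowers_exists_nat (by positivity) hao hu
    have h2 : a ^ (2 * s) = 1 := by
      rw [mul_comm, pow_mul, ← huo]
      exact pow_orderOf_eq_one _
    rcases pow_eq_one_or_half hn hao h2 with h3 | h3
    · exfalso
      rw [h3, orderOf_one] at huo
      norm_num at huo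
    · exact h3
  -- involutions of `T`
  have hT : ∀ u ∈ (T : Subgroup G), orderOf u = 2 → ∃ g : G, g * u * g⁻¹ = a ^ 2 ^ (n - 1) := by
    intro u huT huo
    by_cases huQ : u ∈ Subgroup.zpowers a
    · exact ⟨1, by rw [one_mul, inv_one, mul_one]; exact hinv u huQ huo⟩
    · rcases Cfsg.Agent.S0111.result T (Subgroup.zpowers a) hQT hQi u huo huT huQ with
        ⟨M, hM, hMi, -⟩ | ⟨g, hg⟩
      · exact absurd hMi (hno M hM)
      · refine ⟨g, hinv _ hg ?_⟩
        have := orderOf_injective (MulAut.conj g).toMonoidHom (MulAut.conj g).injective u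
        rw [← huo, ← this]
        rfl
  obtain ⟨c, hc⟩ := Cfsg.Agent.Helper9.exists_conj_mem_sylow T x ⟨1, by rw [hx, pow_one]⟩
  have hco : orderOf (c * x * c⁻¹) = 2 := by
    have := orderOf_injective (MulAut.conj c).toMonoidHom (MulAut.conj c).injective x
    rw [← hx, ← this]
    rfl
  obtain ⟨g, hg⟩ := hT _ hc hco
  refine ⟨g * c, ?_⟩
  rw [← hg]
  group

end Cfsg.Agent.Helper16
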