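import Mathlib
import Cfsg.Prelude.Def_CaseTheorems
import Cfsg.Agent.Lib.Helper16.CyclicTwo
import Cfsg.Agent.Lib.Lead.DihedralRecog

set_option autoImplicit false

namespace Cfsg.Agent.Helper16

/-- A `2`-group with a cyclic maximal subgroup `⟨a⟩` and an involution `x ∉ ⟨a⟩` whose centralizer
has order `4` is dihedral or quasi-dihedral. -/
theorem dihedral_or_quasiDihedral_of_cyclic_max {S : Type*} [Group S] [Finite S] {k : ℕ}
    (hk : 2 ≤ k) (hcard : Nat.card S = 2 ^ (k + 1)) (a x : S) (hao : orderOf a = 2 ^ k)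
    (hx : orderOf x = 2) (hxa : x ∉ Subgroup.zpowers a)
    (hC : Nat.card (Subgroup.centralizer ({x} : Set S)) = 4) :
    (∃ n : ℕ, Nonempty (S ≃* DihedralGroup n)) ∨ Cfsg.IsQuasiDihedral S := by
  have hk1 : 1 ≤ k := by omega
  have hx2 : x ^ 2 = 1 := by rw [← hx]; exact pow_orderOf_eq_one x
  have hxx : x * x = 1 := by rw [← pow_two]; exact hx2
  have hxinv : x⁻¹ = x := inv_eq_of_mul_eq_one_left hxx
  have hidx : (Subgroup.zpowers a).index = 2 := by
    have h1 := Subgroup.card_mul_index (Subgroup.zpowers a)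
    rw [Nat.card_zpowers, hao, hcard, pow_succ] at h1
    exact Nat.eq_of_mul_eq_mul_left (by positivity) h1
  have hnorm : (Subgroup.zpowers a).Normal := Subgroup.normal_of_index_eq_two hidx
  have hconj : x * a * x⁻¹ ∈ Subgroup.zpowers a := hnorm.conj_mem a (Subgroup.mem_zpowers a) x
  have hg2 : x ^ 2 ∈ Subgroup.zpowers a := by rw [hx2]; exact Subgroup.one_mem _
  have hz1 := pow_half_ne_one (a := a) (k := k) hk1 hao
  have hxC : x ∈ Subgroup.centralizer ({x} : Set S) := by
    rw [Subgroup.mem_centralizer_iff]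
    intro y hy
    rw [Set.mem_singleton_iff] at hy
    rw [hy]
  -- a big cyclic subgroup inside the centralizer is impossible
  have hbig : ∀ c : S, c ∈ Subgroup.zpowers a → x * c * x⁻¹ = c → 4 ≤ orderOf c → False := by
    intro c hca hc hco
    have hle : Subgroup.zpowers c ≤ Subgroup.centralizer ({x} : Set S) := by
      rw [Subgroup.zpowers_le, Subgroup.mem_centralizer_iff]
      intro y hy
      rw [Set.mem_singleton_iff] at hy
      rw [hy]
      calc x * c = x * c * x⁻¹ * x := by group
        _ = c * x := by rw [hc]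
    have heq : Subgroup.zpowers c = Subgroup.centralizer ({x} : Set S) := by
      apply Subgroup.eq_of_le_of_card_ge hle
      rw [hC, Nat.card_zpowers]
      exact hco
    apply hxa
    have : x ∈ Subgroup.zpowers c := by rw [heq]; exact hxC
    exact (Subgroup.zpowers_le.2 hca) this
  have h4k : 4 ≤ 2 ^ k := by
    calc 4 = 2 ^ 2 := by norm_num
      _ ≤ 2 ^ k := Nat.pow_le_pow_right (by norm_num) hk
  rcases cyclic_index_two_cases hk hao hconj hg2 with h1 | ⟨h1, h2 | h2⟩ |
      ⟨hk3, h1, -⟩ | ⟨hk3, h1, -⟩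
  · exact (hbig a (Subgroup.mem_zpowers a) h1 (by rw [hao]; exact h4k)).elim
  · left
    have hne : NeZero (2 ^ k) := ⟨by positivity⟩
    refine ⟨2 ^ k, Cfsg.Agent.Lead.nonempty_mulEquiv_dihedral (2 ^ k) a x hao hxx ?_ hxa ?_⟩
    · rw [hxinv] at h1; exact h1
    · rw [hcard, pow_succ, mul_comm]
  · exfalso
    rw [hx2] at h2
    exact hz1 h2.symm
  · right
    refine ⟨k, hk3, hcard, a, x, hao, hx, ?_⟩
    rw [h1]
    have hpos : 1 ≤ 2 ^ (k - 1) := Nat.one_le_two_pow
    have : a ^ (2 ^ (k - 1) - 1) * a = a ^ 2 ^ (k - 1) := by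
      rw [← pow_succ]; congr 1; omega
    rw [← this]; group
  · exfalso
    have hz2 := pow_half_sq (a := a) (k := k) hk1 hao
    have hc : Commute a (a ^ 2 ^ (k - 1)) := (Commute.refl a).pow_right _
    have h2 : x * a ^ 2 * x⁻¹ = a ^ 2 := by
      rw [conj_pow_eq h1 2, hc.mul_pow, hz2, mul_one]
    apply hbig (a ^ 2) (Subgroup.pow_mem _ (Subgroup.mem_zpowers a) 2) h2
    rw [orderOf_pow, hao]
    have : Nat.gcd (2 ^ k) 2 = 2 := Nat.gcd_eq_right (dvd_pow_self 2 (by omega))
    rw [this]
    have : 2 ^ k = 2 ^ (k - 1) * 2 := by rw [← pow_succ]; congr 1; omega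
    rw [this, Nat.mul_div_cancel _ (by norm_num)]
    calc 4 = 2 ^ 2 := by norm_num
      _ ≤ 2 ^ (k - 1) := Nat.pow_le_pow_right (by norm_num) (by omega)

theorem normal_of_le_center {G : Type*} [Group G] {N : Subgroup G}
    (h : N ≤ Subgroup.center G) : N.Normal := by
  constructor
  intro n hn g
  have := (Subgroup.mem_center_iff.1 (h hn)) g
  rw [this, mul_inv_cancel_right]
  exact hn

theorem mem_centralizer_singleton_iff {G : Type*} [Group G] {x g : G} :
    g ∈ Subgroup.centralizer ({x} : Set G) ↔ g * x = x * g := by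
  rw [Subgroup.mem_centralizer_iff]
  constructor
  · intro h; exact (h x rfl).symm
  · intro h y hy
    rw [Set.mem_singleton_iff] at hy
    rw [hy]; exact h.symm

/-- In a `2`-group of order at least `8` with an involution `x` whose centralizer has order `4`,
there is a central involution `z ≠ x` and `C(x) = {1, x, z, xz}`. -/
theorem exists_central_involution_of_centralizer_four {S : Type*} [Group S] [Finite S]
    (hS : IsPGroup 2 S) (x : S) (hx : orderOf x = 2)
    (hC : Nat.card (Subgroup.centralizer ({x} : Set S)) = 4) (h8 : 8 ≤ Nat.card S) :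
    ∃ z : S, orderOf z = 2 ∧ z ∈ Subgroup.center S ∧ z ≠ x ∧
      ∀ g ∈ Subgroup.centralizer ({x} : Set S), g = 1 ∨ g = x ∨ g = z ∨ g = x * z := by
  classical
  have hF : Fact (Nat.Prime 2) := ⟨Nat.prime_two⟩
  have hnt : Nontrivial S := by
    rw [← Finite.one_lt_card_iff_nontrivial]; omega
  have hcnt : Nontrivial (Subgroup.center S) := hS.center_nontrivial
  have h2dvd : 2 ∣ Nat.card (Subgroup.center S) := by
    obtain ⟨j, hj0, hj⟩ := (hS.to_subgroup (Subgroup.center S)).nontrivial_iff_card.1 hcnt
    rw [hj]; exact dvd_pow_self 2 (by omega)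
  obtain ⟨z', hz'⟩ := exists_prime_orderOf_dvd_card' 2 h2dvd
  have hzo : orderOf (z' : S) = 2 := by rw [Subgroup.orderOf_coe]; exact hz'
  have hzc : (z' : S) ∈ Subgroup.center S := z'.2
  have hx1 : x ≠ 1 := by
    intro h; rw [h, orderOf_one] at hx; norm_num at hx
  have hz1 : (z' : S) ≠ 1 := by
    intro h; rw [h, orderOf_one] at hzo; norm_num at hzo
  have hxnc : x ∉ Subgroup.center S := by
    intro hxc
    have : Subgroup.centralizer ({x} : Set S) = ⊤ := by
      rw [eq_top_iff]
      intro g _
      rw [mem_centralizer_singleton_iff]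
      exact (Subgroup.mem_center_iff.1 hxc) g
    rw [this, Subgroup.card_top] at hC
    omega
  have hzx : (z' : S) ≠ x := by
    intro h; rw [← h] at hxnc; exact hxnc hzc
  refine ⟨z', hzo, hzc, hzx, ?_⟩
  have hx2 : x * x = 1 := by rw [← pow_two, ← hx]; exact pow_orderOf_eq_one x
  have hzC : (z' : S) ∈ Subgroup.centralizer ({x} : Set S) := by
    rw [mem_centralizer_singleton_iff]
    exact (Subgroup.mem_center_iff.1 hzc) x |>.symm ▸ rfl
  have hxC : x ∈ Subgroup.centralizer ({x} : Set S) := by
    rw [mem_centralizer_singleton_iff]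
  have hfin : Fintype (Subgroup.centralizer ({x} : Set S)) := Fintype.ofFinite _
  let T : Finset (Subgroup.centralizer ({x} : Set S)) :=
    {1, ⟨x, hxC⟩, ⟨z', hzC⟩, ⟨x, hxC⟩ * ⟨z', hzC⟩}
  have hTcard : T.card = 4 := by
    have h1 : (1 : Subgroup.centralizer ({x} : Set S)) ≠ ⟨x, hxC⟩ := fun h =>
      hx1 (congrArg Subtype.val h).symm
    have h2 : (1 : Subgroup.centralizer ({x} : Set S)) ≠ ⟨z', hzC⟩ := fun h =>
      hz1 (congrArg Subtype.val h).symm
    have h3 : (1 : Subgroup.centralizer ({x} : Set S)) ≠ ⟨x, hxC⟩ * ⟨z', hzC⟩ := by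
      intro h
      have h' : (1 : S) = x * z' := congrArg Subtype.val h
      apply hzx
      have : (z' : S) = x * (x * z') := by rw [← mul_assoc, hx2, one_mul]
      rw [this, ← h', mul_one]
    have h4 : (⟨x, hxC⟩ : Subgroup.centralizer ({x} : Set S)) ≠ ⟨z', hzC⟩ := fun h =>
      hzx (congrArg Subtype.val h).symm
    have h5 : (⟨x, hxC⟩ : Subgroup.centralizer ({x} : Set S)) ≠ ⟨x, hxC⟩ * ⟨z', hzC⟩ := by
      intro h
      have h' : x = x * z' := congrArg Subtype.val h
      exact hz1 (mul_left_cancel (a := x) (by rw [mul_one]; exact h')).symm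
    have h6 : (⟨z', hzC⟩ : Subgroup.centralizer ({x} : Set S)) ≠ ⟨x, hxC⟩ * ⟨z', hzC⟩ := by
      intro h
      have h' : (z' : S) = x * z' := congrArg Subtype.val h
      exact hx1 (mul_right_cancel (b := (z' : S)) (by rw [one_mul]; exact h')).symm
    simp only [T]
    rw [Finset.card_insert_of_notMem, Finset.card_insert_of_notMem, Finset.card_insert_of_notMem,
      Finset.card_singleton]
    · simp only [Finset.mem_singleton]; exact h6
    · simp only [Finset.mem_insert, Finset.mem_singleton, not_or]; exact ⟨h4, h5⟩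
    · simp only [Finset.mem_insert, Finset.mem_singleton, not_or]; exact ⟨h1, h2, h3⟩
  have hTuniv : T = Finset.univ := by
    apply Finset.eq_univ_of_card
    rw [hTcard, ← Nat.card_eq_fintype_card, hC]
  intro g hg
  have hgT : (⟨g, hg⟩ : Subgroup.centralizer ({x} : Set S)) ∈ T := by
    rw [hTuniv]; exact Finset.mem_univ _
  simp only [T, Finset.mem_insert, Finset.mem_singleton] at hgT
  rcases hgT with h | h | h | h
  · left; exact congrArg Subtype.val h
  · right; left; exact congrArg Subtype.val h
  · right; right; left; exact congrArg Subtype.val h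
  · right; right; right; exact congrArg Subtype.val h

theorem mem_zpowers_of_orderOf_two {G : Type*} [Group G] {z g : G} (hz : orderOf z = 2) :
    g ∈ Subgroup.zpowers z ↔ g = 1 ∨ g = z := by
  constructor
  · intro h
    obtain ⟨s, hs, rfl⟩ := mem_zpowers_exists_nat (by norm_num) hz h
    interval_cases s
    · left; exact pow_zero z
    · right; exact pow_one z
  · rintro (h | h)
    · rw [h]; exact Subgroup.one_mem _
    · rw [h]; exact Subgroup.mem_zpowers z

/-- Passing to the quotient by a central involution preserves the hypothesis "the centralizer of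
the involution has order 4" (for groups of order at least 16). -/
theorem card_centralizer_quotient_eq_four {S : Type*} [Group S] [Finite S] (hS : IsPGroup 2 S)
    (x z : S) (hz : orderOf z = 2) (hzc : z ∈ Subgroup.center S) (hzx : z ≠ x)
    (hx : orderOf x = 2)
    (hC : Nat.card (Subgroup.centralizer ({x} : Set S)) = 4)
    (hlist : ∀ g ∈ Subgroup.centralizer ({x} : Set S), g = 1 ∨ g = x ∨ g = z ∨ g = x * z)
    (h16 : 16 ≤ Nat.card S) [hN : (Subgroup.zpowers z).Normal] :
    Nat.card (Subgroup.centralizer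
      ({(QuotientGroup.mk x : S ⧸ Subgroup.zpowers z)} : Set (S ⧸ Subgroup.zpowers z))) = 4 := by
  classical
  have hF : Fact (Nat.Prime 2) := ⟨Nat.prime_two⟩
  have hzg : ∀ g : S, g * z = z * g := fun g => (Subgroup.mem_center_iff.1 hzc) g
  have hzz : z * z = 1 := by rw [← pow_two, ← hz]; exact pow_orderOf_eq_one z
  have hzinv : z⁻¹ = z := inv_eq_of_mul_eq_one_left hzz
  set Cb := Subgroup.centralizer
    ({(QuotientGroup.mk x : S ⧸ Subgroup.zpowers z)} : Set (S ⧸ Subgroup.zpowers z)) with hCb
  set N := Cb.comap (QuotientGroup.mk' (Subgroup.zpowers z)) with hNdef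
  have hNmem : ∀ g : S, g ∈ N ↔ g * x = x * g ∨ g * x = x * g * z := by
    intro g
    rw [hNdef, Subgroup.mem_comap, hCb, mem_centralizer_singleton_iff, QuotientGroup.mk'_apply,
      ← QuotientGroup.mk_mul, ← QuotientGroup.mk_mul, eq_comm, QuotientGroup.eq,
      mem_zpowers_of_orderOf_two hz]
    constructor
    · rintro (h | h)
      · left
        have := inv_mul_eq_one.1 h
        exact this.symm
      · right
        have := inv_mul_eq_iff_eq_mul.1 h
        exact this
    · rintro (h | h)
      · left; rw [h, inv_mul_cancel]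
      · right; rw [h]; group
  have hcardN : Nat.card N = 2 * Nat.card Cb := by
    have h1 := QuotientGroup.card_preimage_mk (Subgroup.zpowers z) (Cb : Set (S ⧸ Subgroup.zpowers z))
    rw [Nat.card_zpowers, hz] at h1
    exact h1
  have hCN : Subgroup.centralizer ({x} : Set S) ≤ N := by
    intro g hg
    rw [hNmem]
    left
    exact mem_centralizer_singleton_iff.1 hg
  -- upper bound
  have hle8 : Nat.card N ≤ 8 := by
    by_cases hex : ∃ g₀ ∈ N, g₀ ∉ Subgroup.centralizer ({x} : Set S)
    · obtain ⟨g₀, hg₀N, hg₀C⟩ := hex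
      have hg₀ : g₀ * x = x * g₀ * z := by
        rcases (hNmem g₀).1 hg₀N with h | h
        · exact absurd (mem_centralizer_singleton_iff.2 h) hg₀C
        · exact h
      have hsub : (N : Set S) ⊆ (Subgroup.centralizer ({x} : Set S) : Set S) ∪
          (fun c => g₀ * c) '' (Subgroup.centralizer ({x} : Set S) : Set S) := by
        intro g hg
        by_cases hgC : g ∈ Subgroup.centralizer ({x} : Set S)
        · exact Or.inl hgC
        · right
          have hg' : g * x = x * g * z := by
            rcases (hNmem g).1 hg with h | h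
            · exact absurd (mem_centralizer_singleton_iff.2 h) hgC
            · exact h
          refine ⟨g₀⁻¹ * g, ?_, by group⟩
          rw [SetLike.mem_coe, mem_centralizer_singleton_iff]
          have h1 : g₀⁻¹ * x = x * g₀⁻¹ * z := by
            have h2 : x * g₀ = g₀ * x * z := by
              rw [hg₀, mul_assoc, hzz, mul_one]
            calc g₀⁻¹ * x = g₀⁻¹ * (x * g₀) * g₀⁻¹ := by group
              _ = g₀⁻¹ * (g₀ * x * z) * g₀⁻¹ := by rw [h2]
              _ = x * (z * g₀⁻¹) := by group
              _ = x * (g₀⁻¹ * z) := by rw [← hzg g₀⁻¹]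
              _ = x * g₀⁻¹ * z := by group
          calc g₀⁻¹ * g * x = g₀⁻¹ * (g * x) := by group
            _ = g₀⁻¹ * (x * g * z) := by rw [hg']
            _ = (g₀⁻¹ * x) * g * z := by group
            _ = x * g₀⁻¹ * z * g * z := by rw [h1]
            _ = x * g₀⁻¹ * (z * g) * z := by group
            _ = x * g₀⁻¹ * (g * z) * z := by rw [← hzg g]
            _ = x * (g₀⁻¹ * g) * (z * z) := by group
            _ = x * (g₀⁻¹ * g) := by rw [hzz, mul_one]
      have h1 : Nat.card N = (N : Set S).ncard := (Nat.card_coe_set_eq _)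
      have h2 : Nat.card (Subgroup.centralizer ({x} : Set S)) =
          (Subgroup.centralizer ({x} : Set S) : Set S).ncard := (Nat.card_coe_set_eq _)
      rw [h1]
      calc (N : Set S).ncard ≤ ((Subgroup.centralizer ({x} : Set S) : Set S) ∪
          (fun c => g₀ * c) '' (Subgroup.centralizer ({x} : Set S) : Set S)).ncard :=
            Set.ncard_le_ncard hsub (Set.toFinite _)
        _ ≤ (Subgroup.centralizer ({x} : Set S) : Set S).ncard +
            ((fun c => g₀ * c) '' (Subgroup.centralizer ({x} : Set S) : Set S)).ncard :=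
            Set.ncard_union_le _ _
        _ ≤ (Subgroup.centralizer ({x} : Set S) : Set S).ncard +
            (Subgroup.centralizer ({x} : Set S) : Set S).ncard :=
            Nat.add_le_add_left (Set.ncard_image_le (Set.toFinite _)) _
        _ = 8 := by rw [← h2, hC]
    · push Not at hex
      have : N = Subgroup.centralizer ({x} : Set S) := le_antisymm hex hCN
      rw [this, hC]; norm_num
  -- N ≠ C
  have hne : N ≠ Subgroup.centralizer ({x} : Set S) := by
    intro hNC
    have hcardQ : Nat.card (S ⧸ Subgroup.zpowers z) * 2 = Nat.card S := by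
      have := Subgroup.card_eq_card_quotient_mul_card_subgroup (Subgroup.zpowers z)
      rw [Nat.card_zpowers, hz] at this
      exact this.symm
    have hnt : Nontrivial (S ⧸ Subgroup.zpowers z) := by
      rw [← Finite.one_lt_card_iff_nontrivial]; omega
    have hQ2 : IsPGroup 2 (S ⧸ Subgroup.zpowers z) := hS.to_quotient _
    have hcnt : Nontrivial (Subgroup.center (S ⧸ Subgroup.zpowers z)) := hQ2.center_nontrivial
    obtain ⟨⟨w', hw'c⟩, hw'1⟩ := exists_ne (1 : Subgroup.center (S ⧸ Subgroup.zpowers z))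
    obtain ⟨w, rfl⟩ := QuotientGroup.mk_surjective w'
    have hw1 : (QuotientGroup.mk w : S ⧸ Subgroup.zpowers z) ≠ 1 := fun h =>
      hw'1 (Subtype.ext h)
    have hwN : w ∈ N := by
      rw [hNdef, Subgroup.mem_comap, hCb, mem_centralizer_singleton_iff]
      exact ((Subgroup.mem_center_iff.1 hw'c) _).symm
    rw [hNC] at hwN
    have hwx : (QuotientGroup.mk w : S ⧸ Subgroup.zpowers z) = QuotientGroup.mk x := by
      rcases hlist w hwN with h | h | h | h
      · exfalso; apply hw1; rw [h]; rfl
      · rw [h]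
      · exfalso; apply hw1
        rw [h]; exact (QuotientGroup.eq_one_iff z).2 (Subgroup.mem_zpowers z)
      · rw [h, QuotientGroup.mk_mul, (QuotientGroup.eq_one_iff z).2 (Subgroup.mem_zpowers z),
          mul_one]
    rw [hwx] at hw'c
    have htop : Cb = ⊤ := by
      rw [eq_top_iff]
      intro g _
      rw [hCb, mem_centralizer_singleton_iff]
      exact (Subgroup.mem_center_iff.1 hw'c) g
    have hNtop : N = ⊤ := by rw [hNdef, htop, Subgroup.comap_top]
    rw [hNtop] at hNC
    rw [← hNC, Subgroup.card_top] at hC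
    omega
  -- conclude
  have hdvd : Nat.card (Subgroup.centralizer ({x} : Set S)) ∣ Nat.card N :=
    Subgroup.card_dvd_of_le hCN
  rw [hC] at hdvd
  obtain ⟨j, hj⟩ := hdvd
  have hj1 : j ≠ 1 := by
    intro h
    apply hne
    symm
    apply Subgroup.eq_of_le_of_card_ge hCN
    rw [hC, hj, h]
  have hj0 : j ≠ 0 := by
    intro h
    rw [h, mul_zero] at hj
    have : 0 < Nat.card N := Nat.card_pos
    omega
  omega

/-- Lifting a cyclic maximal subgroup from the quotient by a central involution. -/
theorem lift_cyclic_max {S : Type*} [Group S] [Finite S] (x z : S) (hz : orderOf z = 2)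
    (hzc : z ∈ Subgroup.center S)
    (hlist : ∀ g ∈ Subgroup.centralizer ({x} : Set S), g = 1 ∨ g = x ∨ g = z ∨ g = x * z)
    [hN : (Subgroup.zpowers z).Normal] (j : ℕ) (hj : 2 ≤ j)
    (hcardQ : Nat.card (S ⧸ Subgroup.zpowers z) = 2 ^ (j + 1))
    (ab : S ⧸ Subgroup.zpowers z) (hab : orderOf ab = 2 ^ j)
    (hxab : (QuotientGroup.mk x : S ⧸ Subgroup.zpowers z) ∉ Subgroup.zpowers ab) :
    ∃ a : S, orderOf a = 2 ^ (j + 1) ∧ x ∉ Subgroup.zpowers a := by
  have hzz : z * z = 1 := by rw [← pow_two, ← hz]; exact pow_orderOf_eq_one z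
  have hz1 : z ≠ 1 := by
    intro h; rw [h, orderOf_one] at hz; norm_num at hz
  have hzg : ∀ g : S, g * z = z * g := fun g => (Subgroup.mem_center_iff.1 hzc) g
  have hmkz : (QuotientGroup.mk z : S ⧸ Subgroup.zpowers z) = 1 :=
    (QuotientGroup.eq_one_iff z).2 (Subgroup.mem_zpowers z)
  obtain ⟨a, rfl⟩ := QuotientGroup.mk_surjective ab
  have h1 : a ^ 2 ^ j ∈ Subgroup.zpowers z := by
    rw [← QuotientGroup.eq_one_iff, QuotientGroup.mk_pow, ← hab, pow_orderOf_eq_one]
  have hxa : x ∉ Subgroup.zpowers a := by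
    intro hx
    apply hxab
    rw [Subgroup.mem_zpowers_iff] at hx ⊢
    obtain ⟨i, hi⟩ := hx
    exact ⟨i, by rw [← hi, QuotientGroup.mk_zpow]⟩
  rcases (mem_zpowers_of_orderOf_two hz).1 h1 with h | h
  · exfalso
    -- the bad case: a has order 2^j
    have hidx : (Subgroup.zpowers (QuotientGroup.mk a : S ⧸ Subgroup.zpowers z)).index = 2 := by
      have h2 := Subgroup.card_mul_index (Subgroup.zpowers (QuotientGroup.mk a : S ⧸ Subgroup.zpowers z))
      rw [Nat.card_zpowers, hab, hcardQ, pow_succ] at h2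
      exact Nat.eq_of_mul_eq_mul_left (by positivity) h2
    have hnorm : (Subgroup.zpowers (QuotientGroup.mk a : S ⧸ Subgroup.zpowers z)).Normal :=
      Subgroup.normal_of_index_eq_two hidx
    have hconj := hnorm.conj_mem _ (Subgroup.mem_zpowers (QuotientGroup.mk a : S ⧸ Subgroup.zpowers z))
      (QuotientGroup.mk x)
    obtain ⟨i, -, hi⟩ := mem_zpowers_exists_nat (by positivity) hab hconj
    have h2 : (a ^ i)⁻¹ * (x * a * x⁻¹) ∈ Subgroup.zpowers z := by
      rw [← QuotientGroup.eq]
      rw [QuotientGroup.mk_pow, ← hi]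
      simp
    obtain ⟨w, hw⟩ : ∃ w, w = (a ^ i)⁻¹ * (x * a * x⁻¹) := ⟨_, rfl⟩
    rw [← hw] at h2
    have hxax : x * a * x⁻¹ = a ^ i * w := by rw [hw]; group
    have hwc : ∀ g : S, g * w = w * g := by
      intro g
      rcases (mem_zpowers_of_orderOf_two hz).1 h2 with h3 | h3
      · rw [h3, mul_one, one_mul]
      · rw [h3]; exact hzg g
    have hww : w * w = 1 := by
      rcases (mem_zpowers_of_orderOf_two hz).1 h2 with h3 | h3
      · rw [h3, mul_one]
      · rw [h3]; exact hzz
    have hsq : x * a ^ 2 * x⁻¹ = a ^ (2 * i) := by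
      rw [conj_pow_eq hxax 2, pow_two, two_mul, pow_add]
      calc a ^ i * w * (a ^ i * w) = a ^ i * (w * a ^ i) * w := by group
        _ = a ^ i * (a ^ i * w) * w := by rw [← hwc (a ^ i)]
        _ = a ^ i * a ^ i * (w * w) := by group
        _ = a ^ i * a ^ i := by rw [hww, mul_one]
    have ht : x * a ^ 2 ^ (j - 1) * x⁻¹ = (a ^ 2 ^ (j - 1)) ^ i := by
      have e1 : a ^ 2 ^ (j - 1) = (a ^ 2) ^ 2 ^ (j - 2) := by
        rw [← pow_mul, ← pow_succ']; congr 2; omega
      rw [e1, conj_pow_eq hsq, ← pow_mul, ← pow_mul, ← pow_mul]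
      congr 1
      have : 2 ^ (j - 1) = 2 * 2 ^ (j - 2) := by rw [← pow_succ']; congr 1; omega
      ring
    have ht2 : (a ^ 2 ^ (j - 1)) ^ 2 = 1 := by
      rw [← pow_mul, ← pow_succ]
      have : j - 1 + 1 = j := by omega
      rw [this, h]
    have hmkt : (QuotientGroup.mk (a ^ 2 ^ (j - 1)) : S ⧸ Subgroup.zpowers z) ≠ 1 := by
      rw [QuotientGroup.mk_pow]
      apply pow_ne_one_of_lt_orderOf (by positivity)
      rw [hab]
      exact Nat.pow_lt_pow_right (by norm_num) (by omega)
    have ht1 : a ^ 2 ^ (j - 1) ≠ 1 := by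
      intro h3
      apply hmkt
      rw [h3]; rfl
    have hmktz : (QuotientGroup.mk (a ^ 2 ^ (j - 1)) : S ⧸ Subgroup.zpowers z) ∈
        Subgroup.zpowers (QuotientGroup.mk a : S ⧸ Subgroup.zpowers z) := by
      rw [QuotientGroup.mk_pow]
      exact Subgroup.pow_mem _ (Subgroup.mem_zpowers _) _
    have htC : a ^ 2 ^ (j - 1) ∈ Subgroup.centralizer ({x} : Set S) := by
      rw [mem_centralizer_singleton_iff]
      rcases sq_eq_one_pow ht2 i with h3 | h3
      · exfalso
        rw [h3] at ht
        apply ht1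
        have : a ^ 2 ^ (j - 1) = x⁻¹ * (x * a ^ 2 ^ (j - 1) * x⁻¹) * x := by group
        rw [this, ht]; group
      · rw [h3] at ht
        calc a ^ 2 ^ (j - 1) * x = (x * a ^ 2 ^ (j - 1) * x⁻¹) * x := by rw [ht]
          _ = x * a ^ 2 ^ (j - 1) := by group
    rcases hlist _ htC with h3 | h3 | h3 | h3
    · exact ht1 h3
    · apply hxab; rw [← h3]; exact hmktz
    · apply hmkt; rw [h3]; exact hmkz
    · apply hxab
      have : (QuotientGroup.mk x : S ⧸ Subgroup.zpowers z) = QuotientGroup.mk (a ^ 2 ^ (j - 1)) := by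
        rw [h3, QuotientGroup.mk_mul, hmkz, mul_one]
      rw [this]; exact hmktz
  · refine ⟨a, ?_, hxa⟩
    have hF : Fact (Nat.Prime 2) := ⟨Nat.prime_two⟩
    apply orderOf_eq_prime_pow
    · rw [h]; exact hz1
    · rw [pow_succ, pow_mul, h, pow_two]; exact hzz

theorem eq_sq_of_mem_zpowers_of_orderOf_two {G : Type*} [Group G] {a y : G}
    (ha : orderOf a = 4) (hy : y ∈ Subgroup.zpowers a) (hyo : orderOf y = 2) : y = a ^ 2 := by
  obtain ⟨s, hs, rfl⟩ := mem_zpowers_exists_nat (by norm_num) ha hy
  have h1 : (a ^ s) ^ 2 = 1 := by rw [← hyo]; exact pow_orderOf_eq_one _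
  rw [← pow_mul] at h1
  have h2 := orderOf_dvd_of_pow_eq_one h1
  rw [ha] at h2
  interval_cases s
  · exfalso; rw [pow_zero, orderOf_one] at hyo; norm_num at hyo
  · omega
  · rfl
  · omega

universe u

/-- A `2`-group of order at least `8` containing an involution whose centralizer has order `4`
has a cyclic maximal subgroup not containing that involution. -/
theorem exists_cyclic_max_of_centralizer_four : ∀ (m : ℕ), 3 ≤ m → ∀ (S : Type u) [Group S]
    [Finite S], Nat.card S = 2 ^ m → ∀ x : S, orderOf x = 2 →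
    Nat.card (Subgroup.centralizer ({x} : Set S)) = 4 →
    ∃ a : S, orderOf a = 2 ^ (m - 1) ∧ x ∉ Subgroup.zpowers a := by
  intro m hm
  induction m, hm using Nat.le_induction with
  | base =>
    intro S _ _ hcard x hx hC
    have hF : Fact (Nat.Prime 2) := ⟨Nat.prime_two⟩
    have hS : IsPGroup 2 S := IsPGroup.of_card hcard
    obtain ⟨z, hz, hzc, hzx, hlist⟩ :=
      exists_central_involution_of_centralizer_four hS x hx hC (by rw [hcard]; norm_num)
    -- S is not commutative
    have hnc : ¬ ∀ g h : S, g * h = h * g := by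
      intro hcomm
      have : Subgroup.centralizer ({x} : Set S) = ⊤ := by
        rw [eq_top_iff]
        intro g _
        rw [mem_centralizer_singleton_iff]
        exact hcomm g x
      rw [this, Subgroup.card_top, hcard] at hC
      norm_num at hC
    -- an element with nontrivial square
    obtain ⟨a, ha⟩ : ∃ a : S, a ^ 2 ≠ 1 := by
      by_contra hcon
      push Not at hcon
      apply hnc
      intro g h
      have h1 := hcon (g * h)
      have h2 := hcon g
      have h3 := hcon h
      rw [pow_two] at h1 h2 h3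
      have hg : g⁻¹ = g := inv_eq_of_mul_eq_one_left h2
      have hh : h⁻¹ = h := inv_eq_of_mul_eq_one_left h3
      have : (g * h)⁻¹ = g * h := inv_eq_of_mul_eq_one_left h1
      rw [mul_inv_rev, hg, hh] at this
      exact this.symm
    have hdvd : orderOf a ∣ 2 ^ 3 := by rw [← hcard]; exact orderOf_dvd_natCard a
    obtain ⟨i, hi3, hi⟩ := (Nat.dvd_prime_pow Nat.prime_two).1 hdvd
    have hi2 : 2 ≤ i := by
      by_contra hlt
      apply ha
      have : orderOf a ∣ 2 := by
        rw [hi]
        have : i ≤ 1 := by omega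
        calc 2 ^ i ∣ 2 ^ 1 := pow_dvd_pow 2 this
          _ = 2 := by norm_num
      exact orderOf_dvd_iff_pow_eq_one.1 this
    have hi' : i = 2 := by
      by_contra hne
      have hi3' : i = 3 := by omega
      apply hnc
      have hcyc : IsCyclic S := isCyclic_of_orderOf_eq_card a (by rw [hi, hi3', hcard])
      intro g h
      exact (IsCyclic.isMulCommutative (α := S)).is_comm.comm g h
    rw [hi'] at hi
    refine ⟨a, by simpa using hi, ?_⟩
    intro hxa
    have hao : orderOf a = 4 := by rw [hi]; norm_num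
    have h1 := eq_sq_of_mem_zpowers_of_orderOf_two hao hxa hx
    -- the centralizer of x is ⟨a⟩
    have hle : Subgroup.zpowers a ≤ Subgroup.centralizer ({x} : Set S) := by
      rw [Subgroup.zpowers_le, mem_centralizer_singleton_iff, h1, ← pow_succ, ← pow_succ']
    have heq : Subgroup.zpowers a = Subgroup.centralizer ({x} : Set S) := by
      apply Subgroup.eq_of_le_of_card_ge hle
      rw [hC, Nat.card_zpowers, hao]
    have hzC : z ∈ Subgroup.centralizer ({x} : Set S) := by
      rw [mem_centralizer_singleton_iff]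
      exact (Subgroup.mem_center_iff.1 hzc) x |>.symm ▸ rfl
    rw [← heq] at hzC
    have h2 := eq_sq_of_mem_zpowers_of_orderOf_two hao hzC hz
    exact hzx (h2.trans h1.symm)
  | succ m hm ih =>
    intro S _ _ hcard x hx hC
    have hF : Fact (Nat.Prime 2) := ⟨Nat.prime_two⟩
    have hS : IsPGroup 2 S := IsPGroup.of_card hcard
    have h16 : 16 ≤ Nat.card S := by
      rw [hcard]
      calc 16 = 2 ^ 4 := by norm_num
        _ ≤ 2 ^ (m + 1) := Nat.pow_le_pow_right (by norm_num) (by omega)
    obtain ⟨z, hz, hzc, hzx, hlist⟩ :=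
      exists_central_involution_of_centralizer_four hS x hx hC (by omega)
    have hN : (Subgroup.zpowers z).Normal :=
      normal_of_le_center (Subgroup.zpowers_le.2 hzc)
    have hC' := card_centralizer_quotient_eq_four hS x z hz hzc hzx hx hC hlist h16
    have hcardQ : Nat.card (S ⧸ Subgroup.zpowers z) = 2 ^ m := by
      have := Subgroup.card_eq_card_quotient_mul_card_subgroup (Subgroup.zpowers z)
      rw [Nat.card_zpowers, hz, hcard, pow_succ] at this
      exact (Nat.eq_of_mul_eq_mul_right (by norm_num) this).symm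
    have hx1 : x ≠ 1 := by
      intro h; rw [h, orderOf_one] at hx; norm_num at hx
    have hxo : orderOf (QuotientGroup.mk x : S ⧸ Subgroup.zpowers z) = 2 := by
      apply orderOf_eq_prime
      · rw [← QuotientGroup.mk_pow, ← hx, pow_orderOf_eq_one]; rfl
      · intro h
        rw [QuotientGroup.eq_one_iff, mem_zpowers_of_orderOf_two hz] at h
        rcases h with h | h
        · exact hx1 h
        · exact hzx h.symm
    obtain ⟨ab, hab, hxab⟩ := ih (S ⧸ Subgroup.zpowers z) hcardQ _ hxo hC'
    have hm1 : m - 1 + 1 = m := by omega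
    obtain ⟨a, ha, hxa⟩ := lift_cyclic_max x z hz hzc hlist (m - 1) (by omega)
      (by rw [hm1]; exact hcardQ) ab hab hxab
    refine ⟨a, ?_, hxa⟩
    rw [ha, hm1]; rfl

end Cfsg.Agent.Helper16
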