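import Mathlib
import Cfsg.Agent.Lib.Helper16.MaxClass
import Cfsg.Agent.Lib.Helper16.CyclicMaxTransfer

/-!
# S3278, piece SYL (helper16): a four-group which is a Sylow 2-subgroup of `C_G(x)` is Sylow in `G`,
when `G` has no normal subgroup of index 2.
-/

set_option autoImplicit false
set_option linter.unusedSectionVars false

namespace Cfsg.Agent.Helper16.KF

open Cfsg.Agent.Helper16

variable {G : Type*} [Group G] [Finite G]

/-- `|C_G(x)| = 4 * r`, `r` odd -/
theorem syl_card_cent (x : G) (S₀ : Subgroup G) (hle : S₀ ≤ Subgroup.centralizer ({x} : Set G))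
    (hcard : Nat.card ↥S₀ = 4) :
    Nat.card (Subgroup.centralizer ({x} : Set G)) =
      4 * S₀.relIndex (Subgroup.centralizer ({x} : Set G)) := by
  have h1 := Subgroup.card_mul_index (S₀.subgroupOf (Subgroup.centralizer ({x} : Set G)))
  rw [Nat.card_congr (Subgroup.subgroupOfEquivOfLe hle).toEquiv, hcard] at h1
  exact h1.symm

/-- a 2-subgroup of `C_G(x)` has order at most 4 -/
theorem syl_not_eight_dvd_cent (x : G) (S₀ : Subgroup G)
    (hle : S₀ ≤ Subgroup.centralizer ({x} : Set G)) (hcard : Nat.card ↥S₀ = 4)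
    (hodd : ¬ 2 ∣ S₀.relIndex (Subgroup.centralizer ({x} : Set G))) :
    ¬ 8 ∣ Nat.card (Subgroup.centralizer ({x} : Set G)) := by
  rw [syl_card_cent x S₀ hle hcard]
  intro h
  apply hodd
  have : (4 : ℕ) * 2 ∣ 4 * S₀.relIndex (Subgroup.centralizer ({x} : Set G)) := by
    simpa using h
  exact Nat.dvd_of_mul_dvd_mul_left (by norm_num) this

theorem not_eight_dvd (hno : ∀ M : Subgroup G, M.Normal → M.index ≠ 2) (x : G) (hx : orderOf x = 2)
    (S₀ : Subgroup G) (hle : S₀ ≤ Subgroup.centralizer ({x} : Set G)) (hcard : Nat.card ↥S₀ = 4)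
    (hodd : ¬ 2 ∣ S₀.relIndex (Subgroup.centralizer ({x} : Set G))) (hxS : x ∈ S₀) :
    ¬ 8 ∣ Nat.card G := by
  intro h8
  have hF : Fact (Nat.Prime 2) := ⟨Nat.prime_two⟩
  have hS₀p : IsPGroup 2 S₀ := IsPGroup.of_card (n := 2) (by rw [hcard]; norm_num)
  obtain ⟨T, hST⟩ := hS₀p.exists_le_sylow
  -- the order of `T`
  set m := (Nat.card G).factorization 2 with hm
  have hTcard : Nat.card (T : Subgroup G) = 2 ^ m := T.card_eq_multiplicity
  have hm3 : 3 ≤ m := by
    have h1 : 2 ^ 3 ∣ Nat.card G := by norm_num; exact h8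
    exact (Nat.Prime.pow_dvd_iff_le_factorization Nat.prime_two Nat.card_pos.ne').1 h1
  have hxT : x ∈ (T : Subgroup G) := hST hxS
  -- the centralizer of `x` in `T` has order 4
  set x' : (T : Subgroup G) := ⟨x, hxT⟩ with hx'
  have hx'o : orderOf x' = 2 := by
    rw [← Subgroup.orderOf_coe]; exact hx
  have hCT : Nat.card (Subgroup.centralizer ({x'} : Set (T : Subgroup G))) = 4 := by
    -- its image in `G` is `T ⊓ C_G(x) = S₀`
    have himg : (Subgroup.centralizer ({x'} : Set (T : Subgroup G))).map (T : Subgroup G).subtype =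
        (T : Subgroup G) ⊓ Subgroup.centralizer ({x} : Set G) := by
      ext y
      simp only [Subgroup.mem_map, Subgroup.mem_inf, Subgroup.mem_centralizer_singleton_iff,
        Subgroup.coe_subtype]
      constructor
      · rintro ⟨t, ht, rfl⟩
        refine ⟨t.2, ?_⟩
        have := congrArg Subtype.val ht
        simpa using this
      · rintro ⟨hyT, hy⟩
        refine ⟨⟨y, hyT⟩, ?_, rfl⟩
        apply Subtype.ext
        simpa using hy
    have hcardimg : Nat.card (Subgroup.centralizer ({x'} : Set (T : Subgroup G))) =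
        Nat.card ((T : Subgroup G) ⊓ Subgroup.centralizer ({x} : Set G) : Subgroup G) := by
      rw [← himg]
      exact (Subgroup.card_map_of_injective (Subgroup.subtype_injective _)).symm
    rw [hcardimg]
    -- `S₀ ≤ T ⊓ C(x)`, a 2-group inside `C(x)`
    set R : Subgroup G := (T : Subgroup G) ⊓ Subgroup.centralizer ({x} : Set G) with hR
    have hS₀R : S₀ ≤ R := le_inf hST hle
    have hRp : IsPGroup 2 R := T.isPGroup'.to_le inf_le_left
    obtain ⟨j, hj⟩ := IsPGroup.iff_card.1 hRp
    have h4 : 4 ∣ Nat.card R := by rw [← hcard]; exact Subgroup.card_dvd_of_le hS₀R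
    have hRC : Nat.card R ∣ Nat.card (Subgroup.centralizer ({x} : Set G)) :=
      Subgroup.card_dvd_of_le inf_le_right
    have hn8 : ¬ 8 ∣ Nat.card R := fun h =>
      syl_not_eight_dvd_cent x S₀ hle hcard hodd (h.trans hRC)
    rw [hj] at h4 hn8 ⊢
    have hj2 : 2 ≤ j := by
      have : 2 ^ 2 ∣ 2 ^ j := by norm_num; exact h4
      exact (Nat.pow_dvd_pow_iff_le_right (by norm_num)).1 this
    have hj3 : j < 3 := by
      by_contra hcon
      push Not at hcon
      apply hn8
      have : 2 ^ 3 ∣ 2 ^ j := pow_dvd_pow 2 hcon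
      norm_num at this
      exact this
    have : j = 2 := by omega
    rw [this]; norm_num
  -- a cyclic maximal subgroup of `T` avoiding `x`
  obtain ⟨a, hao, hxa⟩ := exists_cyclic_max_of_centralizer_four m hm3 (T : Subgroup G) hTcard x'
    hx'o hCT
  have haoG : orderOf (a : G) = 2 ^ (m - 1) := by rw [Subgroup.orderOf_coe]; exact hao
  have hTcard' : Nat.card (T : Subgroup G) = 2 ^ (m - 1 + 1) := by
    rw [hTcard]; congr 1; omega
  obtain ⟨g, hg⟩ := involution_conj_of_cyclic_index_two T (n := m - 1) (by omega) a.2 haoG hTcard'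
    hno x hx
  -- `z = a ^ 2 ^ (m - 2)` is central in `T`
  set z : (T : Subgroup G) := a ^ 2 ^ (m - 1 - 1) with hz
  have hz2 : z ^ 2 = 1 := pow_half_sq (by omega) hao
  have hAidx : (Subgroup.zpowers a).index = 2 := by
    have h1 := Subgroup.card_mul_index (Subgroup.zpowers a)
    rw [Nat.card_zpowers, hao, hTcard] at h1
    have h2 : 2 ^ m = 2 ^ (m - 1) * 2 := by rw [← pow_succ]; congr 1; omega
    rw [h2] at h1
    exact Nat.eq_of_mul_eq_mul_left (by positivity) h1
  have hAn : (Subgroup.zpowers a).Normal := Subgroup.normal_of_index_eq_two hAidx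
  have hzc : ∀ t : (T : Subgroup G), t * z * t⁻¹ = z := by
    intro t
    have hmem : t * a * t⁻¹ ∈ Subgroup.zpowers a := hAn.conj_mem a (Subgroup.mem_zpowers a) t
    obtain ⟨s, -, hs⟩ := mem_zpowers_exists_nat (by positivity) hao hmem
    -- `s` is odd
    have hso : Odd s := by
      by_contra hcon
      rw [Nat.not_odd_iff_even] at hcon
      obtain ⟨r, hr⟩ := hcon
      have h1 : (t * a * t⁻¹) ^ 2 ^ (m - 1 - 1) = 1 := by
        rw [hs, ← pow_mul, hr]
        have : (r + r) * 2 ^ (m - 1 - 1) = 2 ^ (m - 1) * r := by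
          have : 2 ^ (m - 1) = 2 * 2 ^ (m - 1 - 1) := by
            rw [← pow_succ']; congr 1; omega
          rw [this]; ring
        rw [this, pow_mul, ← hao, pow_orderOf_eq_one, one_pow]
      have h2 : (t * a * t⁻¹) ^ 2 ^ (m - 1 - 1) = t * z * t⁻¹ := by
        rw [hz, conj_pow]
      rw [h2] at h1
      have h3 : z = 1 := by
        have : z = t⁻¹ * (t * z * t⁻¹) * t := by group
        rw [this, h1]; group
      exact pow_half_ne_one (by omega) hao h3
    calc t * z * t⁻¹ = (t * a * t⁻¹) ^ 2 ^ (m - 1 - 1) := by rw [hz, conj_pow]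
      _ = (a ^ s) ^ 2 ^ (m - 1 - 1) := by rw [hs]
      _ = z ^ s := by rw [hz, ← pow_mul, ← pow_mul, mul_comm]
      _ = z := sq_eq_one_pow_odd hz2 hso
  -- `T ≤ C_G(z)`, and `C_G(z)` is conjugate to `C_G(x)`
  have hzG : (z : G) = (a : G) ^ 2 ^ (m - 1 - 1) := by rw [hz]; simp
  have hgz : g * x * g⁻¹ = (z : G) := by rw [hzG]; exact hg
  have hTle : (T : Subgroup G) ≤ Subgroup.centralizer ({(z : G)} : Set G) := by
    intro t ht
    rw [Subgroup.mem_centralizer_singleton_iff]
    have := congrArg Subtype.val (hzc ⟨t, ht⟩)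
    have h1 : t * (z : G) * t⁻¹ = (z : G) := by simpa using this
    calc t * (z : G) = (t * (z : G) * t⁻¹) * t := by group
      _ = (z : G) * t := by rw [h1]
  have hcardeq : Nat.card (Subgroup.centralizer ({(z : G)} : Set G)) =
      Nat.card (Subgroup.centralizer ({x} : Set G)) := by
    have hmap : (Subgroup.centralizer ({x} : Set G)).map (MulAut.conj g).toMonoidHom =
        Subgroup.centralizer ({(z : G)} : Set G) := by
      ext y
      simp only [Subgroup.mem_map, Subgroup.mem_centralizer_singleton_iff, MulEquiv.coe_toMonoidHom,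
        MulAut.conj_apply]
      constructor
      · rintro ⟨c, hc, rfl⟩
        rw [← hgz]
        calc g * c * g⁻¹ * (g * x * g⁻¹) = g * (c * x) * g⁻¹ := by group
          _ = g * (x * c) * g⁻¹ := by rw [hc]
          _ = g * x * g⁻¹ * (g * c * g⁻¹) := by group
      · intro hy
        refine ⟨g⁻¹ * y * g, ?_, by group⟩
        have hx2 : x = g⁻¹ * (z : G) * g := by rw [← hgz]; group
        rw [hx2]
        calc g⁻¹ * y * g * (g⁻¹ * (z : G) * g) = g⁻¹ * (y * (z : G)) * g := by group
          _ = g⁻¹ * ((z : G) * y) * g := by rw [hy]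
          _ = g⁻¹ * (z : G) * g * (g⁻¹ * y * g) := by group
    rw [← hmap]
    exact Subgroup.card_map_of_injective (MulAut.conj g).injective
  have h8T : 8 ∣ Nat.card (T : Subgroup G) := by
    rw [hTcard]
    have : 2 ^ 3 ∣ 2 ^ m := pow_dvd_pow 2 hm3
    norm_num at this
    exact this
  have h8C : 8 ∣ Nat.card (Subgroup.centralizer ({x} : Set G)) := by
    rw [← hcardeq]
    exact h8T.trans (Subgroup.card_dvd_of_le hTle)
  exact syl_not_eight_dvd_cent x S₀ hle hcard hodd h8C

end Cfsg.Agent.Helper16.KF
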