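import Mathlib

/-!
# Recognising `PSL₂(K)` from a Möbius action on the projective line (helper16's library)
-/

set_option autoImplicit false

namespace Cfsg.Agent.Helper16

open Matrix

section

variable (K : Type*) [Field K] [DecidableEq K]

/-- The Möbius action of `SL₂(K)` on the projective line `OnePoint K`, as a homomorphism. -/
noncomputable def mobius : SpecialLinearGroup (Fin 2) K →* Equiv.Perm (OnePoint K) :=
  (MulAction.toPermHom (GL (Fin 2) K) (OnePoint K)).comp SpecialLinearGroup.toGL

variable {K}

theorem mobius_apply (A : SpecialLinearGroup (Fin 2) K) (p : OnePoint K) :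
    mobius K A p = (SpecialLinearGroup.toGL A) • p := rfl

theorem mobius_infty (A : SpecialLinearGroup (Fin 2) K) :
    mobius K A (OnePoint.infty) =
      if A.1 1 0 = 0 then OnePoint.infty else ((A.1 0 0 / A.1 1 0 : K) : OnePoint K) := by
  rw [mobius_apply, OnePoint.smul_infty_eq_ite]
  rfl

theorem mobius_coe (A : SpecialLinearGroup (Fin 2) K) (k : K) :
    mobius K A (k : OnePoint K) =
      if A.1 1 0 * k + A.1 1 1 = 0 then OnePoint.infty
      else (((A.1 0 0 * k + A.1 0 1) / (A.1 1 0 * k + A.1 1 1) : K) : OnePoint K) := by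
  rw [mobius_apply, OnePoint.smul_some_eq_ite]
  rfl

theorem mobius_ker : (mobius K).ker = Subgroup.center (SpecialLinearGroup (Fin 2) K) := by
  ext A
  rw [MonoidHom.mem_ker, Matrix.SpecialLinearGroup.mem_center_iff]
  have hdet : A.1 0 0 * A.1 1 1 - A.1 0 1 * A.1 1 0 = 1 := by
    have := A.2
    rwa [Matrix.det_fin_two] at this
  constructor
  · intro h
    have h1 : mobius K A OnePoint.infty = OnePoint.infty := by rw [h]; rfl
    have h10 : A.1 1 0 = 0 := by
      rw [mobius_infty] at h1
      by_contra hne
      rw [if_neg hne] at h1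
      exact OnePoint.coe_ne_infty _ h1
    rw [h10, mul_zero, sub_zero] at hdet
    have h11 : A.1 1 1 ≠ 0 := by
      intro h0
      rw [h0, mul_zero] at hdet
      exact zero_ne_one hdet
    have h2 : mobius K A ((0 : K) : OnePoint K) = ((0 : K) : OnePoint K) := by rw [h]; rfl
    have h01 : A.1 0 1 = 0 := by
      rw [mobius_coe, h10] at h2
      simp only [mul_zero, zero_add] at h2
      rw [if_neg h11] at h2
      have := OnePoint.coe_injective h2
      rcases div_eq_zero_iff.1 this with h | h
      · exact h
      · exact absurd h h11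
    have h3 : mobius K A ((1 : K) : OnePoint K) = ((1 : K) : OnePoint K) := by rw [h]; rfl
    have h00 : A.1 0 0 = A.1 1 1 := by
      rw [mobius_coe, h10, h01] at h3
      simp only [mul_one, zero_add, add_zero] at h3
      rw [if_neg h11] at h3
      have := OnePoint.coe_injective h3
      rwa [div_eq_one_iff_eq h11] at this
    refine ⟨A.1 0 0, ?_, ?_⟩
    · rw [Fintype.card_fin, pow_two]
      nth_rewrite 2 [h00]
      exact hdet
    · ext i j
      fin_cases i <;> fin_cases j <;> simp [h01, h10, h00]
  · rintro ⟨r, hr, hA⟩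
    have e : ∀ i j, A.1 i j = (Matrix.scalar (Fin 2) r) i j := fun i j => by rw [hA]
    have h00 : A.1 0 0 = r := by rw [e]; simp
    have h01 : A.1 0 1 = 0 := by rw [e]; simp
    have h10 : A.1 1 0 = 0 := by rw [e]; simp
    have h11 : A.1 1 1 = r := by rw [e]; simp
    have hr0 : r ≠ 0 := by
      intro h0
      rw [h0, Fintype.card_fin] at hr
      norm_num at hr
    ext p
    induction p using OnePoint.rec with
    | infty =>
      rw [mobius_infty, if_pos h10]; rfl
    | coe k =>
      rw [mobius_coe, h00, h01, h10, h11]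
      simp only [zero_mul, zero_add, add_zero]
      rw [if_neg hr0, mul_div_cancel_left₀ _ hr0]
      rfl

/-- The translation matrix. -/
def translMat (b : K) : SpecialLinearGroup (Fin 2) K :=
  ⟨!![1, b; 0, 1], by simp [Matrix.det_fin_two]⟩

/-- The diagonal matrix. -/
def diagMat (a : K) (ha : a ≠ 0) : SpecialLinearGroup (Fin 2) K :=
  ⟨!![a, 0; 0, a⁻¹], by simp [Matrix.det_fin_two, ha]⟩

/-- The antidiagonal matrix. -/
def antiMat (b l : K) (h : -(b * l) = 1) : SpecialLinearGroup (Fin 2) K :=
  ⟨!![0, b; l, 0], by simp [Matrix.det_fin_two, h]⟩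

theorem mobius_translMat_infty (b : K) : mobius K (translMat b) OnePoint.infty = OnePoint.infty := by
  rw [mobius_infty]
  simp [translMat]

theorem mobius_translMat_coe (b k : K) :
    mobius K (translMat b) (k : OnePoint K) = ((k + b : K) : OnePoint K) := by
  rw [mobius_coe]
  simp [translMat]

theorem mobius_diagMat_infty (a : K) (ha : a ≠ 0) :
    mobius K (diagMat a ha) OnePoint.infty = OnePoint.infty := by
  rw [mobius_infty]
  simp [diagMat]

theorem mobius_diagMat_coe (a : K) (ha : a ≠ 0) (k : K) :
    mobius K (diagMat a ha) (k : OnePoint K) = ((a * a * k : K) : OnePoint K) := by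
  rw [mobius_coe]
  simp [diagMat, ha]
  field_simp

theorem mobius_antiMat_infty (b l : K) (h : -(b * l) = 1) :
    mobius K (antiMat b l h) OnePoint.infty = ((0 : K) : OnePoint K) := by
  have hl : l ≠ 0 := by
    intro h0
    rw [h0, mul_zero, neg_zero] at h
    exact zero_ne_one h
  rw [mobius_infty]
  simp [antiMat, hl]

theorem mobius_antiMat_zero (b l : K) (h : -(b * l) = 1) :
    mobius K (antiMat b l h) ((0 : K) : OnePoint K) = OnePoint.infty := by
  rw [mobius_coe]
  simp [antiMat]

theorem mobius_antiMat_coe (b l : K) (h : -(b * l) = 1) (k : K) (hk : k ≠ 0) :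
    mobius K (antiMat b l h) (k : OnePoint K) = ((b / (l * k) : K) : OnePoint K) := by
  have hl : l ≠ 0 := by
    intro h0
    rw [h0, mul_zero, neg_zero] at h
    exact zero_ne_one h
  rw [mobius_coe]
  simp [antiMat, hl, hk]

/-- `PSL₂(K)` is isomorphic to the image of the Möbius action. -/
noncomputable def pslEquivMobiusRange :
    ProjectiveSpecialLinearGroup (Fin 2) K ≃* (mobius K).range :=
  (QuotientGroup.quotientMulEquivOfEq (mobius_ker (K := K)).symm).trans
    (QuotientGroup.quotientKerEquivRange (mobius K))

/-- Recognition of `PSL₂(K)`: a group of the right order acting faithfully on the projective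
line, generated by elements acting as Möbius transformations of determinant one. -/
theorem equiv_psl_of_mobius {G : Type*} [Group G] [Finite G] [Finite K]
    (φ : G →* Equiv.Perm (OnePoint K)) (hφ : Function.Injective φ)
    (S : Set G) (hS : Subgroup.closure S = ⊤) (hSφ : ∀ s ∈ S, φ s ∈ (mobius K).range)
    (hcard : Nat.card G = Nat.card (ProjectiveSpecialLinearGroup (Fin 2) K)) :
    Nonempty (G ≃* ProjectiveSpecialLinearGroup (Fin 2) K) := by
  classical
  have : Fintype K := Fintype.ofFinite K
  have hle : φ.range ≤ (mobius K).range := by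
    rw [MonoidHom.range_eq_map, ← hS, MonoidHom.map_closure, Subgroup.closure_le]
    rintro _ ⟨s, hs, rfl⟩
    exact hSφ s hs
  have h1 : Nat.card φ.range = Nat.card G :=
    (Nat.card_congr (MonoidHom.ofInjective hφ).toEquiv).symm
  have h2 : Nat.card (mobius K).range = Nat.card (ProjectiveSpecialLinearGroup (Fin 2) K) :=
    (Nat.card_congr (pslEquivMobiusRange (K := K)).toEquiv).symm
  have heq : φ.range = (mobius K).range := by
    apply Subgroup.eq_of_le_of_card_ge hle
    rw [h1, h2, hcard]
  exact ⟨((MonoidHom.ofInjective hφ).trans (MulEquiv.subgroupCongr heq)).trans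
    (pslEquivMobiusRange (K := K)).symm⟩

end

end Cfsg.Agent.Helper16
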