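import Mathlib
import Cfsg.Agent.Lib.Helper5.TLDefs
import Cfsg.Agent.Lib.Helper5.TL2Defs

set_option autoImplicit false

namespace Cfsg.Agent.Helper5.TL

open scoped Padic

variable (p : ℕ) [Fact p.Prime]

variable {L : Type*} [AddCommGroup L] [Module ℤ_[p] L]

theorem ff_sig_apply (X : Module.End ℤ_[p] L) (w : L) :
    sig p X w = ∑ k : Fin p, (X ^ (k : ℕ)) w := by
  unfold sig
  rw [LinearMap.sum_apply]
  exact (Fin.sum_univ_eq_sum_range (fun k => (X ^ k) w) p).symm

theorem ff_sig_mul_X (X : Module.End ℤ_[p] L) (hX : X ^ p = 1) : sig p X * X = sig p X := by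
  unfold sig
  rw [Finset.sum_mul]
  have h1 : ∑ i ∈ Finset.range p, X ^ i * X = ∑ i ∈ Finset.range p, X ^ (i + 1) :=
    Finset.sum_congr rfl (fun i _ => (pow_succ X i).symm)
  rw [h1]
  have h2 := Finset.sum_range_succ' (fun i => X ^ i) p
  have h3 := Finset.sum_range_succ (fun i => X ^ i) p
  rw [h3, hX, pow_zero] at h2
  exact (add_right_cancel h2).symm

theorem ff_sig_mul_pow (X : Module.End ℤ_[p] L) (hX : X ^ p = 1) (i : ℕ) :
    sig p X * X ^ i = sig p X := by
  induction i with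
  | zero => rw [pow_zero, mul_one]
  | succ i ih => rw [pow_succ, ← mul_assoc, ih, ff_sig_mul_X p X hX]

/-- expansion of `σ u` for `u = Σ c ij • X^i v_j` -/
theorem ff_sig_expand (X : Module.End ℤ_[p] L) (hX : X ^ p = 1) (r : ℕ) (v : Fin r → L)
    (c : Fin p × Fin r → ℤ_[p]) :
    sig p X (∑ ij : Fin p × Fin r, c ij • (X ^ (ij.1 : ℕ)) (v ij.2)) =
      ∑ kj : Fin p × Fin r, (∑ i : Fin p, c (i, kj.2)) • (X ^ (kj.1 : ℕ)) (v kj.2) := by
  rw [map_sum]
  have h1 : ∀ ij : Fin p × Fin r, sig p X (c ij • (X ^ (ij.1 : ℕ)) (v ij.2)) =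
      c ij • ∑ k : Fin p, (X ^ (k : ℕ)) (v ij.2) := by
    intro ij
    rw [map_smul, ← Module.End.mul_apply, ff_sig_mul_pow p X hX, ff_sig_apply]
  rw [Finset.sum_congr rfl (fun ij _ => h1 ij)]
  rw [Fintype.sum_prod_type, Fintype.sum_prod_type]
  calc ∑ i : Fin p, ∑ j : Fin r, c (i, j) • ∑ k : Fin p, (X ^ (k : ℕ)) (v j)
      = ∑ i : Fin p, ∑ j : Fin r, ∑ k : Fin p, c (i, j) • (X ^ (k : ℕ)) (v j) := by
        apply Finset.sum_congr rfl; intro i _
        apply Finset.sum_congr rfl; intro j _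
        rw [Finset.smul_sum]
    _ = ∑ i : Fin p, ∑ k : Fin p, ∑ j : Fin r, c (i, j) • (X ^ (k : ℕ)) (v j) := by
        apply Finset.sum_congr rfl; intro i _
        rw [Finset.sum_comm]
    _ = ∑ k : Fin p, ∑ i : Fin p, ∑ j : Fin r, c (i, j) • (X ^ (k : ℕ)) (v j) := by
        rw [Finset.sum_comm]
    _ = ∑ k : Fin p, ∑ j : Fin r, ∑ i : Fin p, c (i, j) • (X ^ (k : ℕ)) (v j) := by
        apply Finset.sum_congr rfl; intro k _
        rw [Finset.sum_comm]
    _ = ∑ k : Fin p, ∑ j : Fin r, (∑ i : Fin p, c (i, j)) • (X ^ (k : ℕ)) (v j) := by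
        apply Finset.sum_congr rfl; intro k _
        apply Finset.sum_congr rfl; intro j _
        rw [Finset.sum_smul]

/-- PIECE FF: on the free part, fixed points are norms and the kernel of the norm is `(X - 1) F`. -/
theorem reiner_free_part (X : Module.End ℤ_[p] L) (hX : X ^ p = 1) (F : Submodule ℤ_[p] L) (r : ℕ)
    (v : Fin r → L)
    (hli : LinearIndependent ℤ_[p] (fun ij : Fin p × Fin r => (X ^ (ij.1 : ℕ)) (v ij.2)))
    (hspan : Submodule.span ℤ_[p]
      (Set.range (fun ij : Fin p × Fin r => (X ^ (ij.1 : ℕ)) (v ij.2))) = F) :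
    (∀ u ∈ F, X u = u → ∃ y, u = sig p X y) ∧
    (∀ u ∈ F, sig p X u = 0 → ∃ y, u = (X - 1) y) := by
  have hp : p.Prime := Fact.out
  have hli' := Fintype.linearIndependent_iff.1 hli
  have huniq : ∀ g₁ g₂ : Fin p × Fin r → ℤ_[p],
      ∑ ij, g₁ ij • (X ^ (ij.1 : ℕ)) (v ij.2) = ∑ ij, g₂ ij • (X ^ (ij.1 : ℕ)) (v ij.2) →
      ∀ ij, g₁ ij = g₂ ij := by
    intro g₁ g₂ h ij
    have h0 : ∑ ij, (g₁ ij - g₂ ij) • (X ^ (ij.1 : ℕ)) (v ij.2) = 0 := by
      simp_rw [sub_smul]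
      rw [Finset.sum_sub_distrib, h, sub_self]
    exact sub_eq_zero.1 (hli' _ h0 ij)
  constructor
  · intro u hu hXu
    rw [← hspan] at hu
    obtain ⟨c, hc⟩ := (Submodule.mem_span_range_iff_exists_fun ℤ_[p]).1 hu
    -- σ u = p • u
    have hpow : ∀ k : ℕ, (X ^ k) u = u := by
      intro k
      induction k with
      | zero => simp
      | succ k ih => rw [pow_succ, Module.End.mul_apply, hXu, ih]
    have hsu : sig p X u = (p : ℤ_[p]) • u := by
      unfold sig
      rw [LinearMap.sum_apply, Finset.sum_congr rfl (fun k _ => hpow k), Finset.sum_const,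
        Finset.card_range, Nat.cast_smul_eq_nsmul]
    have hexp := ff_sig_expand p X hX r v c
    rw [hc, hsu, ← hc, Finset.smul_sum] at hexp
    simp_rw [smul_smul] at hexp
    have hcoef := huniq _ _ hexp
    have hp0 : (p : ℤ_[p]) ≠ 0 := Nat.cast_ne_zero.2 hp.ne_zero
    have hconst : ∀ (k : Fin p) (j : Fin r), c (k, j) = c (⟨0, hp.pos⟩, j) := by
      intro k j
      have h1 := hcoef (k, j)
      have h2 := hcoef (⟨0, hp.pos⟩, j)
      simp only at h1 h2
      exact mul_left_cancel₀ hp0 (h1.trans h2.symm)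
    refine ⟨∑ j : Fin r, c (⟨0, hp.pos⟩, j) • v j, ?_⟩
    rw [map_sum, ← hc, Fintype.sum_prod_type, Finset.sum_comm]
    apply Finset.sum_congr rfl
    intro j _
    rw [map_smul, ff_sig_apply, Finset.smul_sum]
    apply Finset.sum_congr rfl
    intro k _
    rw [hconst k j]
  · intro u hu hsu
    rw [← hspan] at hu
    obtain ⟨c, hc⟩ := (Submodule.mem_span_range_iff_exists_fun ℤ_[p]).1 hu
    have hexp := ff_sig_expand p X hX r v c
    rw [hc, hsu] at hexp
    have hd : ∀ j : Fin r, ∑ i : Fin p, c (i, j) = 0 := by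
      intro j
      exact hli' _ hexp.symm (⟨0, hp.pos⟩, j)
    refine ⟨∑ ij : Fin p × Fin r, c ij • (∑ k ∈ Finset.range (ij.1 : ℕ), X ^ k) (v ij.2), ?_⟩
    rw [map_sum]
    have h1 : ∀ ij : Fin p × Fin r,
        (X - 1) (c ij • (∑ k ∈ Finset.range (ij.1 : ℕ), X ^ k) (v ij.2)) =
          c ij • (X ^ (ij.1 : ℕ)) (v ij.2) - c ij • v ij.2 := by
      intro ij
      rw [map_smul, ← Module.End.mul_apply, mul_geom_sum, LinearMap.sub_apply,
        Module.End.one_apply, smul_sub]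
    rw [Finset.sum_congr rfl (fun ij _ => h1 ij), Finset.sum_sub_distrib, hc]
    have h2 : ∑ ij : Fin p × Fin r, c ij • v ij.2 = 0 := by
      rw [Fintype.sum_prod_type, Finset.sum_comm]
      apply Finset.sum_eq_zero
      intro j _
      show (∑ i : Fin p, c (i, j) • v j) = 0
      rw [← Finset.sum_smul, hd j, zero_smul]
    rw [h2, sub_zero]

end Cfsg.Agent.Helper5.TL
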