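import Mathlib
import Cfsg.Agent.Lib.Helper5.TLDefs
import Cfsg.Agent.Lib.Helper5.TL2Defs

set_option autoImplicit false

namespace Cfsg.Agent.Helper5.TL

open scoped Padic

variable (p : ℕ) [Fact p.Prime]

variable {L : Type*} [AddCommGroup L] [Module ℤ_[p] L]

/-- the projection onto `P` along a complement `Q`, both `X`-stable -/
theorem proj_one (X : Module.End ℤ_[p] L) (P Q : Submodule ℤ_[p] L) (h : IsCompl P Q)
    (hP : ∀ u ∈ P, X u ∈ P) (hQ : ∀ u ∈ Q, X u ∈ Q) :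
    ∃ q : Module.End ℤ_[p] L, (∀ u, q u ∈ P) ∧ (∀ u ∈ P, q u = u) ∧ (∀ u ∈ Q, q u = 0) ∧
      Commute q X := by
  have hleft : ∀ u ∈ P, (P.subtype ∘ₗ Submodule.projectionOnto P Q h) u = u := by
    intro u hu
    have := Submodule.projectionOnto_apply_of_mem_left h hu
    simp only [LinearMap.coe_comp, Function.comp_apply, Submodule.subtype_apply]
    rw [this]
  have hright : ∀ u ∈ Q, (P.subtype ∘ₗ Submodule.projectionOnto P Q h) u = 0 := by
    intro u hu
    have := Submodule.projectionOnto_apply_of_mem_right h hu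
    simp only [LinearMap.coe_comp, Function.comp_apply, Submodule.subtype_apply]
    rw [this]; rfl
  refine ⟨P.subtype ∘ₗ Submodule.projectionOnto P Q h, ?_, hleft, hright, ?_⟩
  · intro u
    exact (Submodule.projectionOnto P Q h u).2
  · show (P.subtype ∘ₗ Submodule.projectionOnto P Q h) * X =
      X * (P.subtype ∘ₗ Submodule.projectionOnto P Q h)
    ext u
    have hu : u ∈ P ⊔ Q := by rw [h.sup_eq_top]; trivial
    obtain ⟨a, ha, b, hb, rfl⟩ := Submodule.mem_sup.1 hu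
    simp only [Module.End.mul_apply, map_add]
    rw [hleft a ha, hright b hb, hleft (X a) (hP a ha), hright (X b) (hQ b hb)]
    simp

theorem proj_stable_sup (X : Module.End ℤ_[p] L) (P Q : Submodule ℤ_[p] L)
    (hP : ∀ u ∈ P, X u ∈ P) (hQ : ∀ u ∈ Q, X u ∈ Q) : ∀ u ∈ P ⊔ Q, X u ∈ P ⊔ Q := by
  intro u hu
  obtain ⟨a, ha, b, hb, rfl⟩ := Submodule.mem_sup.1 hu
  rw [map_add]
  exact Submodule.add_mem _ (Submodule.mem_sup_left (hP a ha)) (Submodule.mem_sup_right (hQ b hb))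

/-- PIECE PROJ: the projections of a decomposition into three `X`-stable summands. -/
theorem reiner_proj (X : Module.End ℤ_[p] L) (F L₁ L₂ : Submodule ℤ_[p] L)
    (hsup : F ⊔ L₁ ⊔ L₂ = ⊤) (hd1 : Disjoint F (L₁ ⊔ L₂)) (hd2 : Disjoint L₁ L₂)
    (hF : ∀ u ∈ F, X u ∈ F) (h1 : ∀ u ∈ L₁, X u ∈ L₁) (h2 : ∀ u ∈ L₂, X u ∈ L₂) :
    ∃ qF q₁ q₂ : Module.End ℤ_[p] L, IsReinerProj p X F L₁ L₂ qF q₁ q₂ := by
  have hcF : IsCompl F (L₁ ⊔ L₂) := ⟨hd1, by rw [codisjoint_iff, ← sup_assoc]; exact hsup⟩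
  -- the key uniqueness fact
  have hkey : ∀ f ∈ F, ∀ a ∈ L₁, ∀ b ∈ L₂, f + a + b = 0 → f = 0 ∧ a = 0 ∧ b = 0 := by
    intro f hf a ha b hb h0
    have hf' : f ∈ L₁ ⊔ L₂ := by
      have : f = -(a + b) := by
        rw [eq_neg_iff_add_eq_zero, ← add_assoc]; exact h0
      rw [this]
      exact Submodule.neg_mem _
        (Submodule.add_mem _ (Submodule.mem_sup_left ha) (Submodule.mem_sup_right hb))
    have hf0 : f = 0 := by
      have := Submodule.disjoint_def.1 hd1 f hf hf'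
      exact this
    rw [hf0, zero_add] at h0
    have ha' : a ∈ L₂ := by
      have : a = -b := eq_neg_of_add_eq_zero_left h0
      rw [this]; exact Submodule.neg_mem _ hb
    have ha0 : a = 0 := Submodule.disjoint_def.1 hd2 a ha ha'
    rw [ha0, zero_add] at h0
    exact ⟨hf0, ha0, h0⟩
  have hc1 : IsCompl L₁ (F ⊔ L₂) := by
    constructor
    · rw [Submodule.disjoint_def]
      intro x hx hx'
      obtain ⟨f, hf, b, hb, hfb⟩ := Submodule.mem_sup.1 hx'
      have h0 : f + (-x) + b = 0 := by rw [← hfb]; abel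
      exact neg_eq_zero.1 (hkey f hf (-x) (Submodule.neg_mem _ hx) b hb h0).2.1
    · rw [codisjoint_iff, ← hsup]
      apply le_antisymm
      · exact sup_le (le_sup_of_le_left le_sup_right)
          (sup_le (le_sup_of_le_left le_sup_left) le_sup_right)
      · exact sup_le (sup_le (le_sup_of_le_right le_sup_left) le_sup_left)
          (le_sup_of_le_right le_sup_right)
  have hc2 : IsCompl L₂ (F ⊔ L₁) := by
    constructor
    · rw [Submodule.disjoint_def]
      intro x hx hx'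
      obtain ⟨f, hf, a, ha, hfa⟩ := Submodule.mem_sup.1 hx'
      have h0 : f + a + (-x) = 0 := by rw [hfa]; abel
      exact neg_eq_zero.1 (hkey f hf a ha (-x) (Submodule.neg_mem _ hx) h0).2.2
    · rw [codisjoint_iff, ← hsup]
      apply le_antisymm
      · exact sup_le le_sup_right le_sup_left
      · exact sup_le le_sup_right le_sup_left
  obtain ⟨qF, hqF1, hqF2, hqF3, hqF4⟩ :=
    proj_one p X F (L₁ ⊔ L₂) hcF hF (proj_stable_sup p X L₁ L₂ h1 h2)
  obtain ⟨q₁, hq11, hq12, hq13, hq14⟩ :=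
    proj_one p X L₁ (F ⊔ L₂) hc1 h1 (proj_stable_sup p X F L₂ hF h2)
  obtain ⟨q₂, hq21, hq22, hq23, hq24⟩ :=
    proj_one p X L₂ (F ⊔ L₁) hc2 h2 (proj_stable_sup p X F L₁ hF h1)
  refine ⟨qF, q₁, q₂, ?_, hqF1, hq11, hq21, ?_, ?_, ?_, hqF4, hq14, hq24⟩
  · ext u
    have hu : u ∈ F ⊔ L₁ ⊔ L₂ := by rw [hsup]; trivial
    obtain ⟨y, hy, b, hb, rfl⟩ := Submodule.mem_sup.1 hu
    obtain ⟨f, hf, a, ha, rfl⟩ := Submodule.mem_sup.1 hy
    simp only [LinearMap.add_apply, map_add, Module.End.one_apply]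
    rw [hqF2 f hf, hqF3 a (Submodule.mem_sup_left ha), hqF3 b (Submodule.mem_sup_right hb),
      hq13 f (Submodule.mem_sup_left hf), hq12 a ha, hq13 b (Submodule.mem_sup_right hb),
      hq23 f (Submodule.mem_sup_left hf), hq23 a (Submodule.mem_sup_right ha), hq22 b hb]
    abel
  · intro u hu
    exact ⟨hqF2 u hu, hq13 u (Submodule.mem_sup_left hu), hq23 u (Submodule.mem_sup_left hu)⟩
  · intro u hu
    exact ⟨hqF3 u (Submodule.mem_sup_left hu), hq12 u hu, hq23 u (Submodule.mem_sup_right hu)⟩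
  · intro u hu
    exact ⟨hqF3 u (Submodule.mem_sup_right hu), hq13 u (Submodule.mem_sup_right hu), hq22 u hu⟩

end Cfsg.Agent.Helper5.TL
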