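import Mathlib
import Cfsg.Prelude.Def_Blocks
import Cfsg.Agent.Lib.Helper24.CharInduced
import Cfsg.Agent.Lib.Helper24.CharComplete
import Cfsg.Agent.Lib.Helper24.CharCentral
import Cfsg.Agent.Lib.Helper24.CharLinear

/-!
# Sums over pairs of conjugates (helper16's library)
-/

set_option autoImplicit false

namespace Cfsg.Agent.Helper16

open Cfsg Cfsg.Agent.Helper24

universe u

open scoped ComplexConjugate

section

variable {G : Type u} [Group G] [Fintype G]

/-- Summing a function over the conjugates `y t y⁻¹`, `y ∈ G`, counts each conjugate with the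
multiplicity of its fibre. -/
theorem sum_conj_eq_sum_card (t : G) (F : G → ℂ) :
    ∑ y : G, F (y * t * y⁻¹) =
      ∑ u : G, (Nat.card {y : G // y * t * y⁻¹ = u} : ℂ) * F u := by
  classical
  have h1 : ∀ u : G, (Nat.card {y : G // y * t * y⁻¹ = u} : ℂ) * F u =
      ∑ y : G, if y * t * y⁻¹ = u then F u else 0 := by
    intro u
    rw [Nat.card_eq_fintype_card, Fintype.card_subtype, Finset.card_filter]
    push_cast
    rw [Finset.sum_mul]
    refine Finset.sum_congr rfl fun y _ => ?_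
    split_ifs <;> simp
  rw [Finset.sum_congr rfl (fun u _ => h1 u), Finset.sum_comm]
  refine Finset.sum_congr rfl fun y _ => ?_
  rw [Finset.sum_ite_eq]
  simp

omit [Fintype G] in
/-- The value of a character at an involution is an integer. -/
theorem char_involution_int {χ : G → ℂ} (hχ : IsCharacter G χ) {g : G} (hg : g ^ 2 = 1) :
    ∃ m : ℤ, χ g = m := by
  obtain ⟨n, ρ, rfl⟩ := hχ
  have hf : (ρ g) ^ 2 = 1 := by rw [← map_pow, hg, map_one]
  obtain ⟨k, b, μ, hμ, hb⟩ := exists_eigenbasis_of_pow_eq_one (ρ g) two_pos hf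
  have htr : ρ.character g = ∑ i, μ i := trace_eq_sum_of_eigenbasis b μ (ρ g) hb
  have hμ' : ∀ i, ∃ m : ℤ, μ i = m := by
    intro i
    have h1 : (μ i - 1) * (μ i + 1) = 0 := by linear_combination hμ i
    rcases mul_eq_zero.1 h1 with h2 | h2
    · exact ⟨1, by push_cast; linear_combination h2⟩
    · exact ⟨-1, by push_cast; linear_combination h2⟩
  choose m hm using hμ'
  refine ⟨∑ i, m i, ?_⟩
  rw [htr]
  push_cast
  exact Finset.sum_congr rfl fun i _ => hm i

/-- The double class sum of an irreducible character. -/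
theorem sum_sum_char_conj_mul_conj {χ : G → ℂ} (hχ : IsIrrCharacter G χ) (t : G) :
    ∑ x : G, ∑ y : G, χ ((x * t * x⁻¹) * (y * t * y⁻¹)) =
      (Nat.card G : ℂ) * (Nat.card G : ℂ) * χ t * χ t / χ 1 := by
  have hcf := isClassFunction_of_isIrrCharacter hχ
  have h1 : ∀ x : G, ∑ y : G, χ ((x * t * x⁻¹) * (y * t * y⁻¹)) =
      (Nat.card G : ℂ) * χ t * χ t / χ 1 := by
    intro x
    rw [sum_char_mul_conj hχ (x * t * x⁻¹) t, hcf t x]
  rw [Finset.sum_congr rfl (fun x _ => h1 x), Finset.sum_const, Finset.card_univ, nsmul_eq_mul,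
    ← Nat.card_eq_fintype_card]
  ring

/-- The double class sum of an induced class function. -/
theorem sum_sum_indFun_conj_mul_conj (C : Subgroup G) (φ : C → ℂ) (t : G) :
    ∑ x : G, ∑ y : G, indFun C φ ((x * t * x⁻¹) * (y * t * y⁻¹)) =
      (Nat.card G : ℂ) * (Nat.card C : ℂ)⁻¹ *
        ∑ x : G, ∑ y : G, extendByZero C φ ((x * t * x⁻¹) * (y * t * y⁻¹)) := by
  simp only [indFun_apply]
  have h1 : ∀ x : G, ∑ y : G, (Nat.card C : ℂ)⁻¹ *
      ∑ h : G, extendByZero C φ (h⁻¹ * ((x * t * x⁻¹) * (y * t * y⁻¹)) * h) =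
      (Nat.card C : ℂ)⁻¹ * ∑ h : G, ∑ y : G,
        extendByZero C φ (((h⁻¹ * x) * t * (h⁻¹ * x)⁻¹) * ((h⁻¹ * y) * t * (h⁻¹ * y)⁻¹)) := by
    intro x
    rw [← Finset.mul_sum, Finset.sum_comm]
    congr 1
    refine Finset.sum_congr rfl fun h _ => ?_
    refine Finset.sum_congr rfl fun y _ => ?_
    congr 1
    group
  rw [Finset.sum_congr rfl (fun x _ => h1 x), ← Finset.mul_sum, Finset.sum_comm]
  have h2 : ∀ h : G, ∑ x : G, ∑ y : G,
      extendByZero C φ (((h⁻¹ * x) * t * (h⁻¹ * x)⁻¹) * ((h⁻¹ * y) * t * (h⁻¹ * y)⁻¹)) =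
      ∑ x : G, ∑ y : G, extendByZero C φ ((x * t * x⁻¹) * (y * t * y⁻¹)) := by
    intro h
    rw [← Equiv.sum_comp (Equiv.mulLeft h⁻¹)
      (fun x => ∑ y : G, extendByZero C φ ((x * t * x⁻¹) * (y * t * y⁻¹)))]
    refine Finset.sum_congr rfl fun x _ => ?_
    exact Equiv.sum_comp (Equiv.mulLeft h⁻¹)
      (fun y => extendByZero C φ ((h⁻¹ * x * t * (h⁻¹ * x)⁻¹) * (y * t * y⁻¹)))
  rw [Finset.sum_congr rfl (fun h _ => h2 h), Finset.sum_const, Finset.card_univ, nsmul_eq_mul,
    ← Nat.card_eq_fintype_card]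
  ring

end

end Cfsg.Agent.Helper16
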