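import Mathlib

set_option autoImplicit false

namespace Cfsg.Agent.Helper16

/-- Stability trick: an automorphism of odd order sending `x` to `x * c` with `c` a fixed
element of square `1` fixes `x`. -/
theorem eq_one_of_odd_aut_stab {P : Type*} [Group P] (α : MulAut P) (r : ℕ) (hr : Odd r)
    (hα : α ^ r = 1) (x c : P) (hc : α c = c) (hc2 : c * c = 1) (hx : α x = x * c) : c = 1 := by
  have hcj : ∀ j : ℕ, (α ^ j) c = c := by
    intro j
    induction j with
    | zero => simp
    | succ j ih => rw [pow_succ, MulAut.mul_apply, hc, ih]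
  have hxj : ∀ j : ℕ, (α ^ j) x = x * c ^ j := by
    intro j
    induction j with
    | zero => simp
    | succ j ih =>
      rw [pow_succ, MulAut.mul_apply, hx, map_mul, ih, hcj, mul_assoc, ← pow_succ]
  have h1 := hxj r
  rw [hα, MulAut.one_apply] at h1
  have h2 : c ^ r = 1 := by
    have : x * 1 = x * c ^ r := by rw [mul_one]; exact h1
    exact (mul_left_cancel this).symm
  obtain ⟨k, hk⟩ := hr
  rw [hk, pow_succ, pow_mul, pow_two, hc2, one_pow, one_mul] at h2
  exact h2

/-- An automorphism of odd order of an abelian `2`-group fixing all involutions is trivial. -/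
theorem odd_aut_eq_one_of_fix_involutions {P : Type*} [CommGroup P] (hP : IsPGroup 2 P)
    (α : MulAut P) (r : ℕ) (hr : Odd r) (hα : α ^ r = 1)
    (hfix : ∀ w : P, w * w = 1 → α w = w) : α = 1 := by
  have key : ∀ k : ℕ, ∀ x : P, x ^ 2 ^ k = 1 → α x = x := by
    intro k
    induction k with
    | zero =>
      intro x hx
      rw [pow_zero, pow_one] at hx
      rw [hx, map_one]
    | succ k ih =>
      intro x hx
      have h1 : (x * x) ^ 2 ^ k = 1 := by
        rw [← pow_two, ← pow_mul, ← pow_succ']; exact hx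
      have h2 : α (x * x) = x * x := ih _ h1
      have hc2 : (x⁻¹ * α x) * (x⁻¹ * α x) = 1 := by
        have : (x⁻¹ * α x) * (x⁻¹ * α x) = (x * x)⁻¹ * (α x * α x) := by
          rw [mul_mul_mul_comm, mul_inv]
        rw [this, ← map_mul, h2, inv_mul_cancel]
      have hc : α (x⁻¹ * α x) = x⁻¹ * α x := hfix _ hc2
      have hx' : α x = x * (x⁻¹ * α x) := by rw [mul_inv_cancel_left]
      have := eq_one_of_odd_aut_stab α r hr hα x _ hc hc2 hx'
      rw [this, mul_one] at hx'
      exact hx'
  apply MulEquiv.ext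
  intro x
  obtain ⟨k, hk⟩ := hP x
  rw [MulAut.one_apply]
  exact key k x hk

/-- An abelian group of order `2^(m+1)`, `m ≥ 2`, with an element of order `2^m` has no
nontrivial automorphism of odd order. -/
theorem odd_aut_eq_one {P : Type*} [CommGroup P] [Finite P] (m : ℕ) (hm : 2 ≤ m)
    (hcard : Nat.card P = 2 ^ (m + 1)) (u : P) (hu : orderOf u = 2 ^ m)
    (α : MulAut P) (r : ℕ) (hr : Odd r) (hα : α ^ r = 1) : α = 1 := by
  have hF : Fact (Nat.Prime 2) := ⟨Nat.prime_two⟩
  have hP : IsPGroup 2 P := IsPGroup.of_card hcard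
  apply odd_aut_eq_one_of_fix_involutions hP α r hr hα
  -- the squaring map
  set sq : P →* P := powMonoidHom 2 with hsq
  have hker : ∀ w : P, w ∈ sq.ker ↔ w * w = 1 := by
    intro w
    rw [MonoidHom.mem_ker, hsq, powMonoidHom_apply, pow_two]
  set z : P := u ^ 2 ^ (m - 1) with hz
  have hz2 : z * z = 1 := by
    rw [hz, ← pow_add, ← two_mul, ← pow_succ', Nat.sub_add_cancel (by omega), ← hu,
      pow_orderOf_eq_one]
  have hz1 : z ≠ 1 := by
    intro h
    have h1 := orderOf_dvd_of_pow_eq_one h
    rw [hu] at h1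
    have h2 := Nat.le_of_dvd (by positivity) h1
    have h3 : 2 ^ (m - 1) < 2 ^ m := Nat.pow_lt_pow_right (by norm_num) (by omega)
    omega
  have hzo : orderOf z = 2 := orderOf_eq_prime (by rw [pow_two]; exact hz2) hz1
  have hZcard : Nat.card (Subgroup.zpowers z) = 2 := by rw [Nat.card_zpowers, hzo]
  have hZmem : ∀ c ∈ Subgroup.zpowers z, c = 1 ∨ c = z := by
    intro c hc
    rw [Subgroup.mem_zpowers_iff] at hc
    obtain ⟨i, rfl⟩ := hc
    rcases Int.even_or_odd' i with ⟨j, rfl | rfl⟩
    · left
      rw [zpow_mul, zpow_two, hz2, one_zpow]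
    · right
      rw [zpow_add, zpow_mul, zpow_two, hz2, one_zpow, one_mul, zpow_one]
  have hZker : Subgroup.zpowers z ≤ sq.ker := by
    rw [Subgroup.zpowers_le, hker]; exact hz2
  -- cardinalities
  have hu2o : orderOf (u ^ 2) = 2 ^ (m - 1) := by
    rw [orderOf_pow, hu]
    have : (2 ^ m).gcd 2 = 2 := by
      apply Nat.gcd_eq_right
      exact dvd_pow_self 2 (by omega)
    rw [this]
    have : 2 ^ m = 2 ^ (m - 1) * 2 := by rw [← pow_succ, Nat.sub_add_cancel (by omega)]
    rw [this, Nat.mul_div_cancel _ (by norm_num)]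
  have hU2range : Subgroup.zpowers (u ^ 2) ≤ sq.range := by
    rw [Subgroup.zpowers_le]
    exact ⟨u, by rw [hsq, powMonoidHom_apply]⟩
  have hU2card : Nat.card (Subgroup.zpowers (u ^ 2)) = 2 ^ (m - 1) := by
    rw [Nat.card_zpowers, hu2o]
  have hprod : Nat.card sq.ker * Nat.card sq.range = 2 ^ (m + 1) := by
    rw [← hcard, ← Subgroup.index_ker]
    exact Subgroup.card_mul_index _
  have hrange_ge : 2 ^ (m - 1) ≤ Nat.card sq.range := hU2card ▸ Subgroup.card_le_of_le hU2range
  have hker_le : Nat.card sq.ker ≤ 4 := by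
    by_contra hcon
    push Not at hcon
    have : 5 * 2 ^ (m - 1) ≤ Nat.card sq.ker * Nat.card sq.range :=
      Nat.mul_le_mul hcon hrange_ge
    rw [hprod] at this
    have h3 : 2 ^ (m + 1) = 4 * 2 ^ (m - 1) := by
      have : m + 1 = 2 + (m - 1) := by omega
      rw [this, pow_add]; norm_num
    have hpos : 0 < 2 ^ (m - 1) := by positivity
    omega
  -- α fixes z
  have hαz : α z = z := by
    have hαz_ker : α z ∈ sq.ker := by
      rw [hker, ← map_mul, hz2, map_one]
    have hαz1 : α z ≠ 1 := by
      intro h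
      exact hz1 (α.injective (h.trans (map_one α).symm))
    by_cases h4 : Nat.card sq.ker = 4
    · -- range = zpowers (u^2)
      have hrange_card : Nat.card sq.range = 2 ^ (m - 1) := by
        rw [h4] at hprod
        have h3 : 2 ^ (m + 1) = 4 * 2 ^ (m - 1) := by
          have : m + 1 = 2 + (m - 1) := by omega
          rw [this, pow_add]; norm_num
        rw [h3] at hprod
        exact Nat.eq_of_mul_eq_mul_left (by norm_num) hprod
      have hrange_eq : Subgroup.zpowers (u ^ 2) = sq.range :=
        Subgroup.eq_of_le_of_card_ge hU2range (by rw [hrange_card, hU2card])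
      have h5 : (α u) ^ 2 ∈ Subgroup.zpowers (u ^ 2) := by
        rw [hrange_eq]
        exact ⟨α u, by rw [hsq, powMonoidHom_apply]⟩
      rw [Subgroup.mem_zpowers_iff] at h5
      obtain ⟨i, hi⟩ := h5
      have h6 : α z = z ^ i := by
        have e1 : 2 ^ (m - 1) = 2 * 2 ^ (m - 2) := by
          rw [← pow_succ']; congr 1; omega
        calc α z = (α u) ^ 2 ^ (m - 1) := by rw [hz, map_pow]
          _ = ((α u) ^ 2) ^ 2 ^ (m - 2) := by rw [e1, pow_mul]
          _ = ((u ^ 2) ^ i) ^ 2 ^ (m - 2) := by rw [hi]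
          _ = ((u ^ 2) ^ 2 ^ (m - 2)) ^ i := by
            rw [← zpow_natCast, ← zpow_mul, mul_comm, zpow_mul, zpow_natCast]
          _ = z ^ i := by rw [hz, ← pow_mul, ← e1]
      have h7 : α z ∈ Subgroup.zpowers z := by
        rw [h6]; exact Subgroup.zpow_mem_zpowers z i
      exact (hZmem _ h7).resolve_left hαz1
    · -- ker has order 2
      have hdiv : Nat.card sq.ker ∣ 2 ^ (m + 1) := hcard ▸ Subgroup.card_subgroup_dvd_card _
      obtain ⟨j, hj, hjk⟩ := (Nat.dvd_prime_pow Nat.prime_two).1 hdiv
      have h2le : 2 ≤ Nat.card sq.ker := hZcard ▸ Subgroup.card_le_of_le hZker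
      have hj2 : j = 1 := by
        rcases Nat.lt_or_ge j 2 with h | h
        · interval_cases j
          · rw [hjk] at h2le; omega
          · rfl
        · exfalso
          have : 2 ^ 2 ≤ 2 ^ j := Nat.pow_le_pow_right (by norm_num) h
          rw [← hjk] at this
          have : Nat.card sq.ker = 4 := by omega
          exact h4 this
      rw [hj2, pow_one] at hjk
      have hZeq : Subgroup.zpowers z = sq.ker :=
        Subgroup.eq_of_le_of_card_ge hZker (by rw [hjk, hZcard])
      rw [← hZeq] at hαz_ker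
      exact (hZmem _ hαz_ker).resolve_left hαz1
  -- all involutions fixed
  intro w hw
  have hwker : w ∈ sq.ker := (hker w).2 hw
  by_cases hwZ : w ∈ Subgroup.zpowers z
  · rcases hZmem w hwZ with h | h
    · rw [h, map_one]
    · rw [h]; exact hαz
  · have hαw_ker : α w ∈ sq.ker := by rw [hker, ← map_mul, hw, map_one]
    have hαwZ : α w ∉ Subgroup.zpowers z := by
      intro h
      rcases hZmem _ h with h | h
      · apply hwZ
        have : w = 1 := α.injective (h.trans (map_one α).symm)
        rw [this]; exact Subgroup.one_mem _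
      · apply hwZ
        have : w = z := α.injective (h.trans hαz.symm)
        rw [this]; exact Subgroup.mem_zpowers z
    -- relIndex of Z in ker is 2
    have hrel : (Subgroup.zpowers z).relIndex sq.ker = 2 := by
      have h1 : (Subgroup.zpowers z).relIndex sq.ker * Nat.card (Subgroup.zpowers z)
          = Nat.card sq.ker := by
        have := Subgroup.relIndex_mul_relIndex ⊥ (Subgroup.zpowers z) sq.ker bot_le hZker
        rw [Subgroup.relIndex_bot_left, Subgroup.relIndex_bot_left] at this
        rw [mul_comm]; exact this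
      rw [hZcard] at h1
      have h2 : (Subgroup.zpowers z).relIndex sq.ker ≤ 2 := by omega
      have h3 : (Subgroup.zpowers z).relIndex sq.ker ≠ 1 := by
        intro h
        rw [Subgroup.relIndex_eq_one] at h
        exact hwZ (h hwker)
      have h4 : (Subgroup.zpowers z).relIndex sq.ker ≠ 0 := by
        intro h
        rw [h, zero_mul] at h1
        have : 0 < Nat.card sq.ker := Nat.card_pos
        omega
      omega
    rw [Subgroup.relIndex_eq_two_iff] at hrel
    obtain ⟨a, -, ha⟩ := hrel
    have e1 : w * a ∈ Subgroup.zpowers z := by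
      rcases ha w hwker with ⟨h, -⟩ | ⟨h, -⟩
      · exact h
      · exact absurd h hwZ
    have e2 : α w * a ∈ Subgroup.zpowers z := by
      rcases ha _ hαw_ker with ⟨h, -⟩ | ⟨h, -⟩
      · exact h
      · exact absurd h hαwZ
    have e3 : w⁻¹ * α w ∈ Subgroup.zpowers z := by
      have : w⁻¹ * α w = (w * a)⁻¹ * (α w * a) := by
        rw [mul_inv, mul_mul_mul_comm, inv_mul_cancel, mul_one]
      rw [this]
      exact Subgroup.mul_mem _ (Subgroup.inv_mem _ e1) e2
    have hc2 : (w⁻¹ * α w) * (w⁻¹ * α w) = 1 := by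
      rcases hZmem _ e3 with h | h
      · rw [h, mul_one]
      · rw [h]; exact hz2
    have hc : α (w⁻¹ * α w) = w⁻¹ * α w := by
      rcases hZmem _ e3 with h | h
      · rw [h, map_one]
      · rw [h]; exact hαz
    have hx' : α w = w * (w⁻¹ * α w) := by rw [mul_inv_cancel_left]
    have := eq_one_of_odd_aut_stab α r hr hα w _ hc hc2 hx'
    rw [this, mul_one] at hx'
    exact hx'

end Cfsg.Agent.Helper16
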