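import Mathlib
import Cfsg.Prelude.Def_Transfer
import Cfsg.Agent.Lib.Helper16.OddAut

set_option autoImplicit false

namespace Cfsg.Agent.Helper16

/-- For an abelian Sylow `p`-subgroup `P`, the image of `N(P) → Aut(P)` has order prime to `p`. -/
theorem not_dvd_card_range_normalizerMonoidHom' {G : Type*} [Group G] [Finite G] {p : ℕ}
    [Fact p.Prime] (P : Sylow p G)
    (hc : ∀ x ∈ (P : Subgroup G), ∀ y ∈ (P : Subgroup G), x * y = y * x) :
    ¬ p ∣ Nat.card ((P : Subgroup G).normalizerMonoidHom).range := by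
  rw [← Subgroup.index_ker, Subgroup.normalizerMonoidHom_ker]
  intro h
  apply P.not_dvd_index
  have hPC : (P : Subgroup G) ≤ Subgroup.centralizer ((P : Subgroup G) : Set G) := by
    intro x hx
    rw [Subgroup.mem_centralizer_iff]
    intro y hy
    exact hc y hy x hx
  have h1 : ((Subgroup.centralizer ((P : Subgroup G) : Set G)).subgroupOf
      (Subgroup.normalizer ((P : Subgroup G) : Set G))).index ∣
      (P : Subgroup G).relIndex (Subgroup.normalizer ((P : Subgroup G) : Set G)) :=
    Subgroup.relIndex_dvd_of_le_left _ hPC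
  exact h.trans (h1.trans (Subgroup.relIndex_dvd_index_of_le Subgroup.le_normalizer))

/-- An abelian Sylow `2`-subgroup of order `2^(m+1)`, `m ≥ 2`, with an element of order `2^m`
is central in its normalizer. -/
theorem normalizer_le_centralizer_of_abelian_two {K : Type*} [Group K] [Finite K]
    (P : Sylow 2 K)
    (hc : ∀ x ∈ (P : Subgroup K), ∀ y ∈ (P : Subgroup K), x * y = y * x)
    (m : ℕ) (hm : 2 ≤ m) (hcard : Nat.card (P : Subgroup K) = 2 ^ (m + 1))
    (u : K) (huP : u ∈ (P : Subgroup K)) (hu : orderOf u = 2 ^ m) :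
    Subgroup.normalizer ((P : Subgroup K) : Set K) ≤ Subgroup.centralizer ((P : Subgroup K) : Set K) := by
  have hF : Fact (Nat.Prime 2) := ⟨Nat.prime_two⟩
  have hodd : ¬ 2 ∣ Nat.card ((P : Subgroup K).normalizerMonoidHom).range :=
    not_dvd_card_range_normalizerMonoidHom' P hc
  let inst : CommGroup (P : Subgroup K) :=
    { (inferInstance : Group (P : Subgroup K)) with
      mul_comm := fun x y => Subtype.ext (hc x x.2 y y.2) }
  intro g hg
  set α : MulAut (P : Subgroup K) := (P : Subgroup K).normalizerMonoidHom ⟨g, hg⟩ with hα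
  have hαr : α ^ Nat.card ((P : Subgroup K).normalizerMonoidHom).range = 1 := by
    have hmem : α ∈ ((P : Subgroup K).normalizerMonoidHom).range := ⟨_, rfl⟩
    have := pow_card_eq_one' (G := ((P : Subgroup K).normalizerMonoidHom).range) (x := ⟨α, hmem⟩)
    have := congrArg (fun v : ((P : Subgroup K).normalizerMonoidHom).range => (v : MulAut (P : Subgroup K))) this
    simpa using this
  have hu' : orderOf (⟨u, huP⟩ : (P : Subgroup K)) = 2 ^ m := by
    rw [← hu]; exact Subgroup.orderOf_mk u huP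
  have h1 : α = 1 := odd_aut_eq_one (P := (P : Subgroup K)) m hm hcard ⟨u, huP⟩ hu' α _
    (Nat.odd_iff.2 (Nat.two_dvd_ne_zero.1 hodd)) hαr
  have h2 : (⟨g, hg⟩ : Subgroup.normalizer ((P : Subgroup K) : Set K))
      ∈ ((P : Subgroup K).normalizerMonoidHom).ker := by
    rw [MonoidHom.mem_ker]; exact h1
  rw [Subgroup.normalizerMonoidHom_ker, Subgroup.mem_subgroupOf] at h2
  exact h2

/-- A normal `2`-complement of a subgroup of index `2` is a normal `2`-complement of the group. -/
theorem hasNormalPComplement_of_index_two {G : Type*} [Group G] [Finite G] (G₁ : Subgroup G)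
    (h2 : G₁.index = 2) (h : Cfsg.HasNormalPComplement 2 G₁) : Cfsg.HasNormalPComplement 2 G := by
  have hF : Fact (Nat.Prime 2) := ⟨Nat.prime_two⟩
  obtain ⟨P₁, K, hKn, hKc⟩ := h
  have hG₁n : G₁.Normal := Subgroup.normal_of_index_eq_two h2
  have hcardmul : Nat.card K * Nat.card (P₁ : Subgroup G₁) = Nat.card G₁ := hKc.card_mul_card
  have hP₁idx : (P₁ : Subgroup G₁).index = Nat.card K := by
    have h1 := Subgroup.card_mul_index (P₁ : Subgroup G₁)
    rw [← hcardmul, mul_comm] at h1
    exact Nat.eq_of_mul_eq_mul_right Nat.card_pos h1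
  have hKodd : ¬ 2 ∣ Nat.card K := hP₁idx ▸ P₁.not_dvd_index
  -- characterization of K
  have hKchar : ∀ x : G₁, x ∈ K ↔ ¬ 2 ∣ orderOf x := by
    intro x
    constructor
    · intro hx h
      apply hKodd
      have : orderOf (⟨x, hx⟩ : K) ∣ Nat.card K := orderOf_dvd_natCard _
      rw [Subgroup.orderOf_mk] at this
      exact h.trans this
    · intro hx
      have hq : Nat.card (G₁ ⧸ K) = Nat.card (P₁ : Subgroup G₁) := by
        have h1 := Subgroup.card_eq_card_quotient_mul_card_subgroup K
        rw [← hcardmul, mul_comm] at h1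
        exact (Nat.eq_of_mul_eq_mul_right Nat.card_pos h1).symm
      obtain ⟨k, hk⟩ := (IsPGroup.iff_card.1 P₁.2)
      have h3 : (QuotientGroup.mk x : G₁ ⧸ K) ^ 2 ^ k = 1 := by
        rw [← hk, ← hq]; exact pow_card_eq_one'
      have h4 : (QuotientGroup.mk x : G₁ ⧸ K) ^ orderOf x = 1 := by
        rw [← QuotientGroup.mk_pow, pow_orderOf_eq_one]; rfl
      have hcop : Nat.Coprime (orderOf x) (2 ^ k) :=
        Nat.Coprime.pow_right k ((Nat.coprime_comm.1 ((Nat.Prime.coprime_iff_not_dvd Nat.prime_two).2 hx)))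
      have h5 : orderOf (QuotientGroup.mk x : G₁ ⧸ K) ∣ 1 := by
        have := Nat.dvd_gcd (orderOf_dvd_of_pow_eq_one h4) (orderOf_dvd_of_pow_eq_one h3)
        rwa [hcop] at this
      have h6 : (QuotientGroup.mk x : G₁ ⧸ K) = 1 := orderOf_eq_one_iff.1 (Nat.dvd_one.1 h5)
      exact (QuotientGroup.eq_one_iff x).1 h6
  -- normal in G
  have hK'n : (K.map G₁.subtype).Normal := by
    constructor
    rintro _ ⟨x, hx, rfl⟩ g
    have hmem : g * (x : G) * g⁻¹ ∈ G₁ := hG₁n.conj_mem _ x.2 g
    refine ⟨⟨_, hmem⟩, ?_, rfl⟩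
    rw [SetLike.mem_coe, hKchar] at hx ⊢
    have e1 : orderOf (⟨g * (x : G) * g⁻¹, hmem⟩ : G₁) = orderOf (g * (x : G) * g⁻¹) :=
      Subgroup.orderOf_mk _ _
    have e2 : orderOf (g * (x : G) * g⁻¹) = orderOf (x : G) := by
      have := (MulAut.conj g).orderOf_eq (x : G)
      simpa using this
    have e3 : orderOf (x : G) = orderOf x := Subgroup.orderOf_coe x
    rw [e1, e2, e3]; exact hx
  obtain ⟨S⟩ : Nonempty (Sylow 2 G) := inferInstance
  refine ⟨S, K.map G₁.subtype, hK'n, ?_⟩
  have hK'card : Nat.card (K.map G₁.subtype) = Nat.card K :=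
    Subgroup.card_map_of_injective G₁.subtype_injective
  have hGcard : Nat.card G = Nat.card G₁ * 2 := by
    rw [← h2]; exact (Subgroup.card_mul_index G₁).symm
  have hScard := S.card_eq_multiplicity
  have hP₁card := P₁.card_eq_multiplicity
  have hfac : (Nat.card G).factorization 2 = (Nat.card G₁).factorization 2 + 1 := by
    rw [hGcard, Nat.factorization_mul Nat.card_pos.ne' (by norm_num)]
    simp [Nat.Prime.factorization_self Nat.prime_two]
  have hS2 : Nat.card (S : Subgroup G) = Nat.card (P₁ : Subgroup G₁) * 2 := by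
    rw [hScard, hP₁card, hfac, pow_succ]
  apply Subgroup.isComplement'_of_coprime
  · rw [hK'card, hS2, ← mul_assoc, hcardmul, hGcard]
  · rw [hK'card, hScard]
    exact Nat.Coprime.pow_right _ ((Nat.coprime_comm.1 ((Nat.Prime.coprime_iff_not_dvd Nat.prime_two).2 hKodd)))

end Cfsg.Agent.Helper16
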