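import Mathlib
import Cfsg.Agent.Lib.Helper16.TwoNilpotent

/-!
# Involutions of the homocyclic group `Z/2^m × Z/2^m` (helper16's library)
-/

set_option autoImplicit false

namespace Cfsg.Agent.Helper16

/-- Pairs with coordinates in `{0, h}`, `h + h = 0`: two distinct nonzero ones and their sum are
all the nonzero ones. -/
theorem pair_cases {M : Type*} [AddCommGroup M] (h : M) (hh : h + h = 0) (a b c : M × M)
    (ha1 : a.1 = 0 ∨ a.1 = h) (ha2 : a.2 = 0 ∨ a.2 = h)
    (hb1 : b.1 = 0 ∨ b.1 = h) (hb2 : b.2 = 0 ∨ b.2 = h)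
    (hc1 : c.1 = 0 ∨ c.1 = h) (hc2 : c.2 = 0 ∨ c.2 = h)
    (ha : a ≠ 0) (hb : b ≠ 0) (hab : a ≠ b) : c = 0 ∨ c = a ∨ c = b ∨ c = a + b := by
  obtain ⟨a1, a2⟩ := a
  obtain ⟨b1, b2⟩ := b
  obtain ⟨c1, c2⟩ := c
  simp only [ne_eq, Prod.mk_eq_zero, Prod.mk.injEq, Prod.mk_add_mk] at *
  rcases ha1 with rfl | rfl <;> rcases ha2 with rfl | rfl <;> rcases hb1 with rfl | rfl <;>
    rcases hb2 with rfl | rfl <;> rcases hc1 with rfl | rfl <;> rcases hc2 with rfl | rfl <;>
    simp_all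

/-- The `2`-torsion of `Z/2^m`. -/
theorem zmod_two_torsion {m : ℕ} (hm : 1 ≤ m) (x : ZMod (2 ^ m)) (hx : x + x = 0) :
    x = 0 ∨ x = ((2 ^ (m - 1) : ℕ) : ZMod (2 ^ m)) := by
  have : NeZero (2 ^ m) := ⟨by positivity⟩
  have h1 : ((x.val + x.val : ℕ) : ZMod (2 ^ m)) = 0 := by
    rw [Nat.cast_add, ZMod.natCast_zmod_val]; exact hx
  rw [ZMod.natCast_eq_zero_iff] at h1
  have h2 := ZMod.val_lt x
  obtain ⟨c, hc⟩ := h1
  have h3 : 2 ^ m = 2 * 2 ^ (m - 1) := by rw [← pow_succ']; congr 1; omega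
  have hpos : 0 < 2 ^ (m - 1) := by positivity
  have hc1 : c < 2 := by
    by_contra hcon
    push Not at hcon
    have : 2 ^ m * 2 ≤ 2 ^ m * c := Nat.mul_le_mul_left _ hcon
    omega
  interval_cases c
  · left
    have : x.val = 0 := by omega
    exact (ZMod.val_eq_zero x).1 this
  · right
    have : x.val = 2 ^ (m - 1) := by omega
    rw [← this, ZMod.natCast_zmod_val]

/-- In a group isomorphic to `Z/2^m × Z/2^m`, two distinct involutions `u`, `v` and `u * v` are
all the involutions. -/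
theorem homocyclic_involution_cases {P : Type*} [Group P] {m : ℕ} (hm : 1 ≤ m)
    (e : P ≃* Multiplicative (ZMod (2 ^ m) × ZMod (2 ^ m))) {u v t : P}
    (hu : u ^ 2 = 1) (hv : v ^ 2 = 1) (ht : t ^ 2 = 1) (hu1 : u ≠ 1) (hv1 : v ≠ 1)
    (huv : u ≠ v) : t = 1 ∨ t = u ∨ t = v ∨ t = u * v := by
  set A : P → ZMod (2 ^ m) × ZMod (2 ^ m) := fun x => Multiplicative.toAdd (e x) with hA
  have hAmul : ∀ x y, A (x * y) = A x + A y := by
    intro x y
    simp only [hA, map_mul, toAdd_mul]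
  have hAinj : Function.Injective A :=
    fun x y h => e.injective (Multiplicative.toAdd.injective h)
  have hA1 : A 1 = 0 := by simp only [hA, map_one, toAdd_one]
  set h : ZMod (2 ^ m) := ((2 ^ (m - 1) : ℕ) : ZMod (2 ^ m)) with hh
  have hhh : h + h = 0 := by
    rw [hh, ← Nat.cast_add, ZMod.natCast_eq_zero_iff]
    have : 2 ^ m = 2 * 2 ^ (m - 1) := by rw [← pow_succ']; congr 1; omega
    rw [this, two_mul]
  have htor : ∀ x : P, x ^ 2 = 1 →
      ((A x).1 = 0 ∨ (A x).1 = h) ∧ ((A x).2 = 0 ∨ (A x).2 = h) := by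
    intro x hx
    have h1 : A x + A x = 0 := by rw [← hAmul, ← pow_two, hx, hA1]
    exact ⟨zmod_two_torsion hm _ (congrArg Prod.fst h1),
      zmod_two_torsion hm _ (congrArg Prod.snd h1)⟩
  have hcases := pair_cases h hhh (A u) (A v) (A t) (htor u hu).1 (htor u hu).2 (htor v hv).1
    (htor v hv).2 (htor t ht).1 (htor t ht).2 (fun h0 => hu1 (hAinj (h0.trans hA1.symm)))
    (fun h0 => hv1 (hAinj (h0.trans hA1.symm))) (fun h0 => huv (hAinj h0))
  rcases hcases with h0 | h0 | h0 | h0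
  · left; exact hAinj (h0.trans hA1.symm)
  · right; left; exact hAinj h0
  · right; right; left; exact hAinj h0
  · right; right; right; exact hAinj (h0.trans (hAmul u v).symm)

/-- An automorphism of odd order whose square fixes `d` fixes `d`. -/
theorem apply_eq_of_sq_apply_eq {X : Type*} [Group X] (α : MulAut X) (r : ℕ) (hr : Odd r)
    (hα : α ^ r = 1) {d : X} (h : α (α d) = d) : α d = d := by
  have hfix2 : ∀ j : ℕ, ((α ^ 2) ^ j) d = d := by
    intro j
    induction j with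
    | zero => simp
    | succ j ih =>
      rw [pow_succ, MulAut.mul_apply]
      have : (α ^ 2) d = d := by rw [pow_two, MulAut.mul_apply]; exact h
      rw [this, ih]
  obtain ⟨k, hk⟩ := hr
  have h1 : α = (α ^ 2) ^ (k + 1) := by
    rw [← pow_mul]
    have : 2 * (k + 1) = r + 1 := by omega
    rw [this, pow_succ, hα, one_mul]
  have h2 := hfix2 (k + 1)
  rw [← h1] at h2
  exact h2

end Cfsg.Agent.Helper16
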