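import Mathlib
import Cfsg.Agent.Lib.Helper16.Homocyclic
import Cfsg.Agent.Lib.Helper16.CyclicTwo

/-!
# Odd-order automorphisms of `Z/2^m × Z/2^m` (helper16's library)
-/

set_option autoImplicit false

namespace Cfsg.Agent.Helper16

/-- An odd-order automorphism of `Z/2^m × Z/2^m` moving the involution `u` permutes the three
involutions cyclically. -/
theorem homocyclic_odd_aut_cycle {P : Type*} [Group P] {m : ℕ} (hm : 1 ≤ m)
    (e : P ≃* Multiplicative (ZMod (2 ^ m) × ZMod (2 ^ m))) (β : MulAut P) (r : ℕ) (hr : Odd r)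
    (hβ : β ^ r = 1) {u : P} (hu : u ^ 2 = 1) (hβu : β u ≠ u) : β (β u) = u * β u := by
  have hu1 : u ≠ 1 := by
    rintro rfl
    exact hβu (map_one _)
  have hv2 : (β u) ^ 2 = 1 := by rw [← map_pow, hu, map_one]
  have hv1 : β u ≠ 1 := by
    intro h
    apply hu1
    exact β.injective (h.trans (map_one β).symm)
  have hw2 : (β (β u)) ^ 2 = 1 := by rw [← map_pow, hv2, map_one]
  rcases homocyclic_involution_cases hm e hu hv2 hw2 hu1 hv1 (Ne.symm hβu) with h | h | h | h
  · exact absurd (β.injective (h.trans (map_one β).symm)) hv1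
  · exact absurd (apply_eq_of_sq_apply_eq β r hr hβ h) hβu
  · exact absurd (β.injective h) hβu
  · exact h

/-- An odd-order automorphism of `Z/2^m × Z/2^m` fixing an involution is trivial. -/
theorem homocyclic_odd_aut_eq_one_of_fix {P : Type*} [Group P] {m : ℕ} (hm : 1 ≤ m)
    (e : P ≃* Multiplicative (ZMod (2 ^ m) × ZMod (2 ^ m))) (β : MulAut P) (r : ℕ) (hr : Odd r)
    (hβ : β ^ r = 1) {t : P} (ht : t ^ 2 = 1) (ht1 : t ≠ 1) (hβt : β t = t) : β = 1 := by
  have hF : Fact (Nat.Prime 2) := ⟨Nat.prime_two⟩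
  have hcomm : ∀ x y : P, x * y = y * x := by
    intro x y
    apply e.injective
    rw [map_mul, map_mul, mul_comm]
  have hP : IsPGroup 2 P := by
    have hfin : Finite P := Finite.of_equiv _ e.symm.toEquiv
    have hcard : Nat.card P = 2 ^ (m + m) := by
      rw [Nat.card_congr e.toEquiv]
      change Nat.card (ZMod (2 ^ m) × ZMod (2 ^ m)) = _
      rw [Nat.card_prod, Nat.card_zmod, pow_add]
    exact IsPGroup.of_card hcard
  let inst : CommGroup P := { (inferInstance : Group P) with mul_comm := hcomm }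
  by_contra hne
  have hex : ∃ u : P, u * u = 1 ∧ β u ≠ u := by
    by_contra hcon
    push Not at hcon
    exact hne (odd_aut_eq_one_of_fix_involutions (P := P) hP β r hr hβ hcon)
  obtain ⟨u, hu2', hβu⟩ := hex
  have hu : u ^ 2 = 1 := by rw [pow_two]; exact hu2'
  have hu1 : u ≠ 1 := by
    rintro rfl
    exact hβu (map_one _)
  have hv2 : (β u) ^ 2 = 1 := by rw [← map_pow, hu, map_one]
  have hv1 : β u ≠ 1 := by
    intro h
    apply hu1
    exact β.injective (h.trans (map_one β).symm)
  have hw := homocyclic_odd_aut_cycle hm e β r hr hβ hu hβu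
  rcases homocyclic_involution_cases hm e hu hv2 ht hu1 hv1 (Ne.symm hβu) with h | h | h | h
  · exact ht1 h
  · rw [h] at hβt; exact hβu hβt
  · rw [h, hw] at hβt
    -- `u * β u = β u`
    apply hu1
    have : u * β u = 1 * β u := by rw [one_mul]; exact hβt
    exact mul_right_cancel this
  · rw [h, map_mul, hw] at hβt
    -- `β u * (u * β u) = u * β u`
    apply hv1
    have : β u * (u * β u) = 1 * (u * β u) := by rw [one_mul]; exact hβt
    exact mul_right_cancel this

end Cfsg.Agent.Helper16
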