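import Mathlib
import Cfsg.Agent.Lib.Helper5.TLRDefs

set_option autoImplicit false
set_option linter.unusedSectionVars false

/-!
# S4442 Layer A, piece FP (helper16): port of `TL2FP.lean` to a field of characteristic `p`
-/

namespace Cfsg.Agent.Helper5.TLR

variable (p : ℕ) [Fact p.Prime]

section Field

variable {K : Type*} [Field K] [CharP K p]

/-- the embedding of the prime field -/
noncomputable def fpι : ZMod p →+* K := ZMod.castHom (dvd_refl p) K

/-- the "Fourier idempotent" attached to `c` for a matrix with `N^(p-1) = 1`. -/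
noncomputable def fpE {n : ℕ} (N : Matrix (Fin n) (Fin n) K) (c : (ZMod p)ˣ) :
    Matrix (Fin n) (Fin n) K :=
  -∑ i ∈ Finset.range (p - 1), (fpι p (K := K) ((c⁻¹ : (ZMod p)ˣ) : ZMod p)) ^ i • N ^ i

theorem fp_sum_E {n : ℕ} (N : Matrix (Fin n) (Fin n) K) :
    ∑ c : (ZMod p)ˣ, fpE p N c = 1 := by
  classical
  have hp : p.Prime := Fact.out
  unfold fpE
  rw [Finset.sum_neg_distrib, Finset.sum_comm]
  have key : ∀ i ∈ Finset.range (p - 1),
      ∑ c : (ZMod p)ˣ, (fpι p (K := K) ((c⁻¹ : (ZMod p)ˣ) : ZMod p)) ^ i • N ^ i =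
        (if i = 0 then (-1 : K) else 0) • N ^ i := by
    intro i hi
    rw [← Finset.sum_smul]
    congr 1
    have h0 : ∑ c : (ZMod p)ˣ, (fpι p (K := K) ((c⁻¹ : (ZMod p)ˣ) : ZMod p)) ^ i =
        fpι p (K := K) (∑ c : (ZMod p)ˣ, ((c⁻¹ : (ZMod p)ˣ) : ZMod p) ^ i) := by
      rw [map_sum]
      exact Finset.sum_congr rfl (fun c _ => (map_pow _ _ _).symm)
    rw [h0]
    have h1 : ∑ c : (ZMod p)ˣ, ((c⁻¹ : (ZMod p)ˣ) : ZMod p) ^ i =
        ∑ c : (ZMod p)ˣ, ((c : (ZMod p)ˣ) : ZMod p) ^ i :=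
      Fintype.sum_equiv (Equiv.inv _) _ _ (fun c => rfl)
    rw [h1, FiniteField.sum_pow_units, ZMod.card]
    have hi' : i < p - 1 := Finset.mem_range.1 hi
    by_cases h0 : i = 0
    · simp [h0]
    · rw [if_neg h0, if_neg, map_zero]
      intro hd
      exact h0 (Nat.eq_zero_of_dvd_of_lt hd hi')
  rw [Finset.sum_congr rfl key]
  have hpos : 0 < p - 1 := by have := hp.two_le; omega
  rw [Finset.sum_eq_single_of_mem 0 (Finset.mem_range.2 hpos)]
  · simp
  · intro i _ hi
    rw [if_neg hi, zero_smul]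

theorem fp_mul_E {n : ℕ} (N : Matrix (Fin n) (Fin n) K) (hN : N ^ (p - 1) = 1)
    (c : (ZMod p)ˣ) : N * fpE p N c = (fpι p (K := K) (c : ZMod p)) • fpE p N c := by
  have hp : p.Prime := Fact.out
  obtain ⟨m, hm⟩ : ∃ m, p - 1 = m + 1 := ⟨p - 2, by have := hp.two_le; omega⟩
  unfold fpE
  rw [mul_neg, smul_neg, neg_inj, Finset.mul_sum, Finset.smul_sum, hm]
  set d : K := fpι p (K := K) ((c⁻¹ : (ZMod p)ˣ) : ZMod p) with hd
  set e : K := fpι p (K := K) (c : ZMod p) with he
  have hcd : e * d = 1 := by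
    rw [hd, he, ← map_mul, ← Units.val_mul, mul_inv_cancel, Units.val_one, map_one]
  have hd1 : d ^ (m + 1) = 1 := by
    rw [← hm, hd, ← map_pow, ZMod.pow_card_sub_one_eq_one (Units.ne_zero _), map_one]
  have hdm : d ^ m = e := by
    calc d ^ m = d ^ m * (e * d) := by rw [hcd, mul_one]
      _ = d ^ (m + 1) * e := by rw [pow_succ]; ring
      _ = e := by rw [hd1, one_mul]
  rw [Finset.sum_range_succ, Finset.sum_range_succ']
  have h1 : ∀ i ∈ Finset.range m, N * (d ^ i • N ^ i) = e • d ^ (i + 1) • N ^ (i + 1) := by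
    intro i _
    rw [Matrix.mul_smul, ← pow_succ', smul_smul]
    congr 1
    rw [pow_succ]
    calc d ^ i = d ^ i * (e * d) := by rw [hcd, mul_one]
      _ = e * (d ^ i * d) := by ring
  rw [Finset.sum_congr rfl h1]
  congr 1
  rw [Matrix.mul_smul, ← pow_succ', ← hm, hN, hdm, pow_zero, pow_zero, one_smul]

theorem fp_matrix_field {n : ℕ} (hn : 2 ≤ n) (N : Matrix (Fin n) (Fin n) K)
    (hN : N ^ (p - 1) = 1) :
    ∃ (f : Matrix (Fin n) (Fin n) K) (u₀ u₁ : Fin n → K),
      f * N = N * f ∧ u₀ ≠ 0 ∧ u₁ ≠ 0 ∧ f.mulVec u₀ = 0 ∧ f.mulVec u₁ = u₁ := by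
  classical
  have hsum := fp_sum_E p N
  have hmul := fp_mul_E p N hN
  -- an eigenvector from a nonzero E
  have heig : ∀ c : (ZMod p)ˣ, fpE p N c ≠ 0 →
      ∃ u : Fin n → K, u ≠ 0 ∧ N.mulVec u = (fpι p (K := K) (c : ZMod p)) • u := by
    intro c hc
    obtain ⟨j, hj⟩ : ∃ j, (fpE p N c).mulVec (Pi.single j 1) ≠ 0 := by
      by_contra hcon
      push Not at hcon
      apply hc
      ext i j
      have := congrFun (hcon j) i
      simpa [Matrix.mulVec_single_one] using this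
    refine ⟨_, hj, ?_⟩
    rw [Matrix.mulVec_mulVec, hmul c, Matrix.smul_mulVec]
  by_cases hA : ∃ a b : (ZMod p)ˣ, a ≠ b ∧ fpE p N a ≠ 0 ∧ fpE p N b ≠ 0
  · obtain ⟨a, b, hab, ha, hb⟩ := hA
    obtain ⟨u₀, hu₀, hNu₀⟩ := heig a ha
    obtain ⟨u₁, hu₁, hNu₁⟩ := heig b hb
    set ea : K := fpι p (K := K) (a : ZMod p) with hea
    set eb : K := fpι p (K := K) (b : ZMod p) with heb
    have hba : eb - ea ≠ 0 := by
      intro h
      apply hab
      have h2 : fpι p (K := K) (b : ZMod p) = fpι p (K := K) (a : ZMod p) := sub_eq_zero.1 h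
      exact (Units.ext ((fpι p (K := K)).injective h2)).symm
    refine ⟨(eb - ea)⁻¹ • (N - ea • 1), u₀, u₁, ?_, hu₀, hu₁, ?_, ?_⟩
    · rw [Matrix.smul_mul, Matrix.mul_smul, sub_mul, mul_sub, Matrix.smul_mul, Matrix.mul_smul,
        one_mul, mul_one]
    · rw [Matrix.smul_mulVec, Matrix.sub_mulVec, Matrix.smul_mulVec, Matrix.one_mulVec, hNu₀,
        sub_self, smul_zero]
    · rw [Matrix.smul_mulVec, Matrix.sub_mulVec, Matrix.smul_mulVec, Matrix.one_mulVec, hNu₁,
        ← sub_smul, smul_smul, inv_mul_cancel₀ hba, one_smul]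
  · push Not at hA
    -- scalar case
    have hn0 : (1 : Matrix (Fin n) (Fin n) K) ≠ 0 := by
      intro h
      have := congrFun (congrFun h ⟨0, by omega⟩) ⟨0, by omega⟩
      simp at this
    obtain ⟨a, ha⟩ : ∃ a : (ZMod p)ˣ, fpE p N a ≠ 0 := by
      by_contra hcon
      push Not at hcon
      apply hn0
      rw [← hsum]
      exact Finset.sum_eq_zero (fun c _ => hcon c)
    have hone : fpE p N a = 1 := by
      rw [← hsum]
      symm
      apply Finset.sum_eq_single_of_mem a (Finset.mem_univ a)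
      intro b _ hb
      by_contra hb0
      exact hb0 (hA a b (Ne.symm hb) ha)
    have hscal : N = (fpι p (K := K) (a : ZMod p)) • 1 := by
      have := hmul a
      rwa [hone, mul_one] at this
    refine ⟨Matrix.diagonal (fun i => if i = (⟨0, by omega⟩ : Fin n) then 1 else 0),
      Pi.single (⟨1, by omega⟩ : Fin n) 1, Pi.single (⟨0, by omega⟩ : Fin n) 1, ?_, ?_, ?_, ?_, ?_⟩
    · rw [hscal, Matrix.mul_smul, Matrix.smul_mul, mul_one, one_mul]
    · intro h
      have := congrFun h (⟨1, by omega⟩ : Fin n)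
      simp at this
    · intro h
      have := congrFun h (⟨0, by omega⟩ : Fin n)
      simp at this
    · ext i
      rw [Matrix.mulVec_diagonal]
      by_cases hi : i = (⟨0, by omega⟩ : Fin n)
      · subst hi
        simp [Fin.ext_iff]
      · simp [hi]
    · ext i
      rw [Matrix.mulVec_diagonal]
      by_cases hi : i = (⟨0, by omega⟩ : Fin n)
      · subst hi
        simp
      · simp [hi]

end Field

variable {R : Type*} [CommRing R] [IsDomain R] [IsDiscreteValuationRing R]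
  [CharZero R] [PUnif R p]

/-- PIECE FP (pure linear algebra over the residue field): a matrix with `N^(p-1) = 1` of size
`≥ 2` commutes with some matrix having both eigenvalues `0` and `1`. -/
theorem fp_matrix {n : ℕ} (hn : 2 ≤ n) (N : Matrix (Fin n) (Fin n) (kk R)) (hN : N ^ (p - 1) = 1) :
    ∃ (f : Matrix (Fin n) (Fin n) (kk R)) (u₀ u₁ : Fin n → kk R),
      f * N = N * f ∧ u₀ ≠ 0 ∧ u₁ ≠ 0 ∧ f.mulVec u₀ = 0 ∧ f.mulVec u₁ = u₁ := by
  have := charP_kk p (R := R)
  exact fp_matrix_field p hn N hN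

end Cfsg.Agent.Helper5.TLR
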