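import Mathlib
import Cfsg.Agent.Lib.Helper5.TLRDefs
import Cfsg.Agent.Lib.Helper16.TL2Sig0W
import Cfsg.Agent.Lib.Helper19.TLS2W

set_option autoImplicit false
set_option linter.unusedSectionVars false

/-!
# S4442 Layer A (helper16): port of `TL2THB0.lean` to `R`: the core of piece THB0
(`theta_sig_zero_of_basis`, with the basis of piece S2 as a hypothesis).
-/

namespace Cfsg.Agent.Helper5.TLR

variable (p : ℕ) [Fact p.Prime] {R : Type*} [CommRing R] [IsDomain R] [IsDiscreteValuationRing R]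
  [CharZero R] [PUnif R p]

variable {L : Type*} [AddCommGroup L] [Module R L]

theorem thb0_pow_sub_mem (X : Module.End R L) (i : ℕ) (v : L) :
    (X ^ i) v - v ∈ augRange p X := by
  induction i with
  | zero => simp
  | succ i ih =>
    have h1 : (X ^ (i + 1)) v - v = (X - 1) ((X ^ i) v) + ((X ^ i) v - v) := by
      rw [pow_succ', Module.End.mul_apply, LinearMap.sub_apply, Module.End.one_apply]
      abel
    rw [h1]
    exact Submodule.add_mem _ (LinearMap.mem_range_self _ _) ih

theorem thb0_p_smul_mem (X : Module.End R L) (h0 : sig p X = 0) (v : L) :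
    (p : R) • v ∈ augRange p X := by
  have h1 : sig p X v = 0 := by rw [h0]; rfl
  have h3 : ∑ i ∈ Finset.range p, (X ^ i) v = 0 := by
    unfold sig at h1
    rwa [LinearMap.sum_apply] at h1
  have h2 : (p : R) • v = - ∑ i ∈ Finset.range p, ((X ^ i) v - v) := by
    rw [Finset.sum_sub_distrib, Finset.sum_const, Finset.card_range, h3, zero_sub, neg_neg,
      Nat.cast_smul_eq_nsmul]
  rw [h2]
  exact Submodule.neg_mem _ (Submodule.sum_mem _ fun i _ => thb0_pow_sub_mem p X i v)

variable {b : ℕ}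

theorem thb0_zero_of_mem (X : Module.End R L) (h0 : sig p X = 0) (w : Fin b → L)
    (B : Module.Basis (Fin (p - 1) × Fin b) R L)
    (hB : ∀ i j, B (i, j) = (X ^ (i : ℕ)) (w j)) (u : L) (hu : u ∈ augRange p X) :
    sg0Theta p B u = 0 := by
  obtain ⟨y, rfl⟩ := hu
  rw [LinearMap.sub_apply, Module.End.one_apply, map_sub, sg0Theta_X p X h0 w B hB, sub_self]

theorem thb0_mem_of_zero (X : Module.End R L) (h0 : sig p X = 0) (w : Fin b → L)
    (B : Module.Basis (Fin (p - 1) × Fin b) R L)
    (hB : ∀ i j, B (i, j) = (X ^ (i : ℕ)) (w j)) (z : L) (hz : sg0Theta p B z = 0) :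
    z ∈ augRange p X := by
  have hd : ∀ j : Fin b, ∃ a : R, ∑ i : Fin (p - 1), B.repr z (i, j) = a * p := by
    intro j
    have h1 : IsLocalRing.residue R (∑ i : Fin (p - 1), B.repr z (i, j)) = 0 := congrFun hz j
    obtain ⟨a, ha⟩ := (residue_eq_zero_iff p).1 h1
    exact ⟨a, by rw [ha, mul_comm]⟩
  choose a ha using hd
  have hz' : z = ∑ ij : Fin (p - 1) × Fin b,
        B.repr z ij • ((X ^ (ij.1 : ℕ)) (w ij.2) - w ij.2)
      + ∑ j : Fin b, a j • ((p : R) • w j) := by
    have e1 : ∑ j : Fin b, a j • ((p : R) • w j)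
        = ∑ ij : Fin (p - 1) × Fin b, B.repr z ij • w ij.2 := by
      rw [Fintype.sum_prod_type_right]
      apply Finset.sum_congr rfl
      intro j _
      show a j • ((p : R) • w j) = ∑ x : Fin (p - 1), (B.repr z) (x, j) • w j
      rw [← Finset.sum_smul, ha j, mul_smul]
    rw [e1, ← Finset.sum_add_distrib]
    conv_lhs => rw [← B.sum_repr z]
    apply Finset.sum_congr rfl
    rintro ⟨i, j⟩ _
    rw [← smul_add, sub_add_cancel, hB]
  rw [hz']
  apply Submodule.add_mem
  · exact Submodule.sum_mem _ fun ij _ =>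
      Submodule.smul_mem _ _ (thb0_pow_sub_mem p X _ _)
  · exact Submodule.sum_mem _ fun j _ =>
      Submodule.smul_mem _ _ (thb0_p_smul_mem p X h0 _)

/-- a set-theoretic section of the residue map. -/
noncomputable def thb0Lift (c : kk R) : R := Function.surjInv IsLocalRing.residue_surjective c

theorem thb0_toZMod_val (c : kk R) : IsLocalRing.residue R (thb0Lift c) = c :=
  Function.surjInv_eq IsLocalRing.residue_surjective c

theorem thb0_sum_single (c : Fin b → kk R) :
    ∑ j : Fin b, c j • (Pi.single j 1 : Fin b → kk R) = c := by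
  ext j'
  rw [Finset.sum_apply]
  simp [Pi.single_apply]

theorem thb0_surj (B : Module.Basis (Fin (p - 1) × Fin b) R L) (c : Fin b → kk R) :
    ∃ u : L, sg0Theta p B u = c := by
  have hp1 := sg0_one_le p
  refine ⟨∑ j : Fin b, (thb0Lift (c j) : R) • B (⟨0, by omega⟩, j), ?_⟩
  rw [map_sum]
  simp only [map_smulₛₗ, sg0Theta_basis, thb0_toZMod_val]
  exact thb0_sum_single c

theorem thb0_lift (X : Module.End R L) (h0 : sig p X = 0) (w : Fin b → L)
    (B : Module.Basis (Fin (p - 1) × Fin b) R L)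
    (hB : ∀ i j, B (i, j) = (X ^ (i : ℕ)) (w j)) (g : Matrix (Fin b) (Fin b) (kk R)) :
    ∃ φ : Module.End R L, Commute φ X ∧
      ∀ u, sg0Theta p B (φ u) = g.mulVec (sg0Theta p B u) := by
  set G : Matrix (Fin b) (Fin b) R := fun j' j => (thb0Lift (g j' j) : R) with hG
  set y : Fin b → L := fun j => ∑ j' : Fin b, G j' j • w j' with hy
  set φ : Module.End R L :=
    B.constr R (fun ij : Fin (p - 1) × Fin b => (X ^ (ij.1 : ℕ)) (y ij.2)) with hφdef
  have hφ : ∀ i j, φ (B (i, j)) = (X ^ (i : ℕ)) (y j) := by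
    intro i j
    rw [hφdef, Module.Basis.constr_basis]
  refine ⟨φ, ?_, ?_⟩
  · show φ * X = X * φ
    apply B.ext
    rintro ⟨i, j⟩
    rw [Module.End.mul_apply, Module.End.mul_apply, hφ]
    by_cases h : (i : ℕ) + 1 < p - 1
    · rw [sg0_X_basis_lt p X w B hB i j h, hφ]
      show (X ^ ((i : ℕ) + 1)) (y j) = X ((X ^ (i : ℕ)) (y j))
      rw [pow_succ', Module.End.mul_apply]
    · have h' : (i : ℕ) + 1 = p - 1 := by
        have := i.2
        omega
      rw [sg0_X_basis_eq p X h0 w B hB i j h', map_neg, map_sum]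
      simp only [hφ]
      have h2 : X ((X ^ (i : ℕ)) (y j)) = (X ^ (p - 1)) (y j) := by
        have h3 : X ((X ^ (i : ℕ)) (y j)) = (X ^ ((i : ℕ) + 1)) (y j) := by
          rw [pow_succ', Module.End.mul_apply]
        rw [h3]
        exact congrArg (fun n => (X ^ n) (y j)) h'
      rw [h2, sg0_pow_pred p X h0, Finset.sum_range]
  · intro u
    have key : (sg0Theta p B).comp φ = (Matrix.mulVecLin g).comp (sg0Theta p B) := by
      apply B.ext
      rintro ⟨i, j⟩
      rw [LinearMap.comp_apply, LinearMap.comp_apply, hφ, sg0Theta_basis,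
        Matrix.mulVecLin_apply, Matrix.mulVec_single_one]
      have h1 : (X ^ (i : ℕ)) (y j) = ∑ j' : Fin b, G j' j • B (i, j') := by
        rw [hy]
        simp only [map_sum, map_smul, hB]
      rw [h1, map_sum]
      simp only [map_smulₛₗ, sg0Theta_basis, hG, thb0_toZMod_val]
      exact thb0_sum_single (fun j' => g j' j)
    have := congrArg (fun f => f u) key
    simpa using this

/-- core of PIECE THB0: a lattice with `σ = 0` and a basis `X^i w_j` (`i < p - 1`):
`Ĥ⁻¹ = L / (X - 1) L`. -/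
theorem theta_sig_zero_of_basis (X : Module.End R L) (h0 : sig p X = 0) (b : ℕ) (w : Fin b → L)
    (hli : LinearIndependent R (fun ij : Fin (p - 1) × Fin b => (X ^ (ij.1 : ℕ)) (w ij.2)))
    (hspan : Submodule.span R
      (Set.range (fun ij : Fin (p - 1) × Fin b => (X ^ (ij.1 : ℕ)) (w ij.2))) = ⊤) :
    ∃ (θ : L → Fin b → kk R), (p - 1) * b = Module.finrank R L ∧
      ThetaData p X ⊤ (augRange p X) b θ := by
  set B : Module.Basis (Fin (p - 1) × Fin b) R L := Module.Basis.mk hli hspan.ge with hBdef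
  have hB : ∀ i j, B (i, j) = (X ^ (i : ℕ)) (w j) := by
    intro i j
    rw [hBdef, Module.Basis.mk_apply]
  have hrank : Module.finrank R L = (p - 1) * b := by
    rw [Module.finrank_eq_card_basis B, Fintype.card_prod, Fintype.card_fin, Fintype.card_fin]
  refine ⟨fun u => sg0Theta p B u, hrank.symm, ?_, ?_, ?_, ?_, ?_, ?_⟩
  · intro u u'
    exact map_add _ u u'
  · intro c u
    exact map_smulₛₗ _ c u
  · intro u hu
    exact thb0_zero_of_mem p X h0 w B hB u hu
  · intro u _ hu
    exact thb0_mem_of_zero p X h0 w B hB u hu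
  · intro c
    obtain ⟨u, hu⟩ := thb0_surj p B c
    exact ⟨u, Submodule.mem_top, hu⟩
  · intro g
    obtain ⟨φ, hc, hφ⟩ := thb0_lift p X h0 w B hB g
    exact ⟨φ, hc, fun u _ => Submodule.mem_top, fun u _ => hφ u⟩

/-- PIECE THB0: a lattice with `σ = 0`: `Ĥ⁻¹ = L / (X - 1) L`. -/
theorem theta_sig_zero [Module.Free R L] [Module.Finite R L] (X : Module.End R L)
    (hX : X ^ p = 1) (h0 : sig p X = 0) :
    ∃ (b : ℕ) (θ : L → Fin b → kk R), (p - 1) * b = Module.finrank R L ∧
      ThetaData p X ⊤ (augRange p X) b θ := by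
  obtain ⟨b, w, hli, hspan⟩ := sig_zero_basis p X hX h0
  exact ⟨b, theta_sig_zero_of_basis p X h0 b w hli hspan⟩

end Cfsg.Agent.Helper5.TLR
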