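import Mathlib
import Cfsg.Prelude.Def_Blocks
import Cfsg.Agent.Lib.Helper24.CharLinear
import Cfsg.Agent.Lib.Helper24.CharInduced
import Cfsg.Agent.Lib.Helper24.CharComplete
import Cfsg.Agent.Lib.Helper10.BR996Defs

/-!
# S0996 piece INVOL (helper16): all elements of `C_G(τ) ∖ W` are involutions conjugate to `τ`
-/

set_option autoImplicit false
set_option linter.unusedSectionVars false
set_option linter.unusedVariables false

namespace Cfsg.Agent.Helper10.BR996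

open scoped ComplexConjugate
open Cfsg Cfsg.Agent.Helper24

universe u

variable {G : Type u} [Group G] [Fintype G] [Fintype (IrrCharacter G)]
  (p : ℕ) [Fact p.Prime] (P : Subgroup G)

namespace INVOL

omit [Fintype (IrrCharacter G)] in
/-- a finite cyclic group has at most one element of order two -/
theorem eq_of_sq_eq_one_of_isCyclic (W : Subgroup G) (hWc : IsCyclic W) {x τ : G} (hx : x ∈ W)
    (hτ : τ ∈ W) (hx2 : x * x = 1) (hτ2 : τ * τ = 1) (hx1 : x ≠ 1) (hτ1 : τ ≠ 1) : x = τ := by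
  classical
  by_contra hne
  have hle := IsCyclic.card_pow_eq_one_le (α := W) (n := 2) (by norm_num)
  have hsub : ({1, ⟨x, hx⟩, ⟨τ, hτ⟩} : Finset W) ⊆ Finset.univ.filter (fun a : W => a ^ 2 = 1) := by
    intro a ha
    rw [Finset.mem_insert, Finset.mem_insert, Finset.mem_singleton] at ha
    rw [Finset.mem_filter]
    refine ⟨Finset.mem_univ _, ?_⟩
    rcases ha with rfl | rfl | rfl
    · simp
    · apply Subtype.ext; simp [pow_two, hx2]
    · apply Subtype.ext; simp [pow_two, hτ2]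
  have hcard : ({1, ⟨x, hx⟩, ⟨τ, hτ⟩} : Finset W).card = 3 := by
    rw [Finset.card_insert_of_notMem, Finset.card_pair]
    · intro h; exact hne (congrArg Subtype.val h)
    · rw [Finset.mem_insert, Finset.mem_singleton]
      push Not
      constructor
      · intro h; exact hx1 (congrArg Subtype.val h).symm
      · intro h; exact hτ1 (congrArg Subtype.val h).symm
  have := Finset.card_le_card hsub
  omega

end INVOL

/-- PIECE INVOL (pure group theory + counting). `k = |C_G(τ) ∖ W|`. -/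
theorem invol_of_count (τ : G) (hτ2 : τ * τ = 1) (hτ1 : τ ≠ 1) (W : Subgroup G) (hWc : IsCyclic W)
    (hτW : τ ∈ W) (hWle : W ≤ Subgroup.centralizer ({τ} : Set G)) (c w : ℕ)
    (hc : Nat.card (Subgroup.centralizer ({τ} : Set G)) = c) (hw : Nat.card W = w)
    (hcount : Nat.card {d : G × G // (d.1 * τ * d.1⁻¹) * (d.2 * τ * d.2⁻¹) = τ} = (c - w) * c ^ 2) :
    ∀ x ∈ Subgroup.centralizer ({τ} : Set G), x ∉ W → x * x = 1 ∧ IsConj x τ := by
  classical
  have hτinv : τ⁻¹ = τ := inv_eq_of_mul_eq_one_left hτ2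
  have memC : ∀ g : G, g ∈ Subgroup.centralizer ({τ} : Set G) ↔ g * τ = τ * g := by
    intro g
    rw [Subgroup.mem_centralizer_iff]
    simp only [Set.mem_singleton_iff, forall_eq]
    exact eq_comm
  have hcpos : 0 < c := by rw [← hc]; exact Nat.card_pos
  -- the three finsets
  obtain ⟨SC, hSC⟩ : ∃ S : Finset G, ∀ x, x ∈ S ↔ x ∈ Subgroup.centralizer ({τ} : Set G) :=
    ⟨Finset.univ.filter (fun x => x ∈ Subgroup.centralizer ({τ} : Set G)), fun x => by simp⟩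
  obtain ⟨SW, hSW⟩ : ∃ S : Finset G, ∀ x, x ∈ S ↔ x ∈ W :=
    ⟨Finset.univ.filter (fun x => x ∈ W), fun x => by simp⟩
  obtain ⟨SB, hSB⟩ : ∃ S : Finset G, ∀ x, x ∈ S ↔ (x ∈ Subgroup.centralizer ({τ} : Set G) ∧ x ∉ W ∧
      x * x = 1 ∧ IsConj x τ) :=
    ⟨Finset.univ.filter (fun x => x ∈ Subgroup.centralizer ({τ} : Set G) ∧ x ∉ W ∧
      x * x = 1 ∧ IsConj x τ), fun x => by simp⟩
  have hSCcard : SC.card = c := by
    rw [← hc, Nat.card_eq_fintype_card, Fintype.card_subtype]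
    congr 1
    ext x
    rw [hSC, Finset.mem_filter]
    simp
  have hSWcard : SW.card = w := by
    rw [← hw, Nat.card_eq_fintype_card, Fintype.card_subtype]
    congr 1
    ext x
    rw [hSW, Finset.mem_filter]
    simp
  have hSWsub : SW ⊆ SC := by
    intro x hx
    rw [hSW] at hx
    rw [hSC]
    exact hWle hx
  have hCWcard : (SC \ SW).card = c - w := by
    rw [Finset.card_sdiff_of_subset hSWsub, hSCcard, hSWcard]
  have hSBsub : SB ⊆ SC \ SW := by
    intro x hx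
    rw [hSB] at hx
    rw [Finset.mem_sdiff, hSC, hSW]
    exact ⟨hx.1, hx.2.1⟩
  -- the injection
  have key : ∀ d : {d : G × G // (d.1 * τ * d.1⁻¹) * (d.2 * τ * d.2⁻¹) = τ},
      d.1.1 * τ * d.1.1⁻¹ ∈ SB := by
    rintro ⟨⟨d1, d2⟩, hd⟩
    simp only at hd ⊢
    rw [hSB]
    have hx2 : (d1 * τ * d1⁻¹) * (d1 * τ * d1⁻¹) = 1 := by
      calc (d1 * τ * d1⁻¹) * (d1 * τ * d1⁻¹) = d1 * (τ * τ) * d1⁻¹ := by group
        _ = 1 := by rw [hτ2]; group
    have hy2 : (d2 * τ * d2⁻¹) * (d2 * τ * d2⁻¹) = 1 := by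
      calc (d2 * τ * d2⁻¹) * (d2 * τ * d2⁻¹) = d2 * (τ * τ) * d2⁻¹ := by group
        _ = 1 := by rw [hτ2]; group
    have hx1 : d1 * τ * d1⁻¹ ≠ 1 := by
      intro h
      apply hτ1
      have : τ = d1⁻¹ * (d1 * τ * d1⁻¹) * d1 := by group
      rw [this, h]; group
    have hy1 : d2 * τ * d2⁻¹ ≠ 1 := by
      intro h
      apply hτ1
      have : τ = d2⁻¹ * (d2 * τ * d2⁻¹) * d2 := by group
      rw [this, h]; group
    set x := d1 * τ * d1⁻¹ with hxdef
    set y := d2 * τ * d2⁻¹ with hydef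
    have hxinv : x⁻¹ = x := inv_eq_of_mul_eq_one_left hx2
    have hyx : y = x * τ := by
      calc y = x⁻¹ * (x * y) := by group
        _ = x * τ := by rw [hd, hxinv]
    have hcomm : x * τ = τ * x := by
      have h1 : (x * τ) * (x * τ) = 1 := by rw [← hyx]; exact hy2
      have h2 : (x * τ)⁻¹ = x * τ := inv_eq_of_mul_eq_one_left h1
      rw [mul_inv_rev, hτinv, hxinv] at h2
      exact h2.symm
    refine ⟨(memC x).mpr hcomm, ?_, hx2, ?_⟩
    · intro hxW
      have hxτ : x = τ := INVOL.eq_of_sq_eq_one_of_isCyclic W hWc hxW hτW hx2 hτ2 hx1 hτ1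
      apply hy1
      rw [hyx, hxτ, hτ2]
    · rw [isConj_iff]
      refine ⟨d1⁻¹, ?_⟩
      rw [hxdef]; group
  -- choose conjugators
  have hex : ∀ x : G, ∃ g : G, IsConj x τ → g * τ * g⁻¹ = x := by
    intro x
    by_cases h : IsConj x τ
    · rw [isConj_iff] at h
      obtain ⟨cc, hcc⟩ := h
      refine ⟨cc⁻¹, fun _ => ?_⟩
      rw [← hcc]; group
    · exact ⟨1, fun h' => absurd h' h⟩
  choose gx hgx using hex
  -- the map
  let F : {d : G × G // (d.1 * τ * d.1⁻¹) * (d.2 * τ * d.2⁻¹) = τ} → (SB × SC) × SC := fun d =>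
    ((⟨d.1.1 * τ * d.1.1⁻¹, key d⟩,
      ⟨(gx (d.1.1 * τ * d.1.1⁻¹))⁻¹ * d.1.1, by
        have hconj : IsConj (d.1.1 * τ * d.1.1⁻¹) τ := ((hSB _).mp (key d)).2.2.2
        have h1 := hgx _ hconj
        rw [hSC, memC]
        have h2 : (gx (d.1.1 * τ * d.1.1⁻¹))⁻¹ * (d.1.1 * τ * d.1.1⁻¹) * gx (d.1.1 * τ * d.1.1⁻¹) = τ := by
          nth_rewrite 2 [← h1]; group
        calc (gx (d.1.1 * τ * d.1.1⁻¹))⁻¹ * d.1.1 * τ
            = ((gx (d.1.1 * τ * d.1.1⁻¹))⁻¹ * (d.1.1 * τ * d.1.1⁻¹) * gx (d.1.1 * τ * d.1.1⁻¹)) *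
                ((gx (d.1.1 * τ * d.1.1⁻¹))⁻¹ * d.1.1) := by group
          _ = τ * ((gx (d.1.1 * τ * d.1.1⁻¹))⁻¹ * d.1.1) := by rw [h2]⟩),
      ⟨(gx (d.1.2 * τ * d.1.2⁻¹))⁻¹ * d.1.2, by
        have hconj : IsConj (d.1.2 * τ * d.1.2⁻¹) τ := by
          rw [isConj_iff]; exact ⟨d.1.2⁻¹, by group⟩
        have h1 := hgx _ hconj
        rw [hSC, memC]
        have h2 : (gx (d.1.2 * τ * d.1.2⁻¹))⁻¹ * (d.1.2 * τ * d.1.2⁻¹) * gx (d.1.2 * τ * d.1.2⁻¹) = τ := by
          nth_rewrite 2 [← h1]; group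
        calc (gx (d.1.2 * τ * d.1.2⁻¹))⁻¹ * d.1.2 * τ
            = ((gx (d.1.2 * τ * d.1.2⁻¹))⁻¹ * (d.1.2 * τ * d.1.2⁻¹) * gx (d.1.2 * τ * d.1.2⁻¹)) *
                ((gx (d.1.2 * τ * d.1.2⁻¹))⁻¹ * d.1.2) := by group
          _ = τ * ((gx (d.1.2 * τ * d.1.2⁻¹))⁻¹ * d.1.2) := by rw [h2]⟩)
  have hFinj : Function.Injective F := by
    rintro ⟨⟨d1, d2⟩, hd⟩ ⟨⟨e1, e2⟩, he⟩ hF
    simp only [F, Prod.mk.injEq, Subtype.mk.injEq] at hF
    obtain ⟨⟨hx, h1⟩, h2⟩ := hF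
    -- x equal
    have hd1 : d1 = e1 := by
      rw [hx] at h1
      exact mul_left_cancel h1
    -- y equal: y = x⁻¹ τ
    have hy : d2 * τ * d2⁻¹ = e2 * τ * e2⁻¹ := by
      have e1' : d2 * τ * d2⁻¹ = (d1 * τ * d1⁻¹)⁻¹ * τ := by
        rw [eq_inv_mul_iff_mul_eq]; exact hd
      have e2' : e2 * τ * e2⁻¹ = (e1 * τ * e1⁻¹)⁻¹ * τ := by
        rw [eq_inv_mul_iff_mul_eq]; exact he
      rw [e1', e2', hx]
    have hd2 : d2 = e2 := by
      rw [hy] at h2
      exact mul_left_cancel h2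
    subst hd1; subst hd2; rfl
  have hle := Nat.card_le_card_of_injective F hFinj
  rw [hcount, Nat.card_prod, Nat.card_prod, Nat.card_eq_fintype_card, Nat.card_eq_fintype_card,
    Fintype.card_coe, Fintype.card_coe, hSCcard] at hle
  have hle2 : (c - w) ≤ SB.card := by
    have : (c - w) * c ^ 2 ≤ SB.card * c ^ 2 := by
      calc (c - w) * c ^ 2 ≤ SB.card * c * c := hle
        _ = SB.card * c ^ 2 := by ring
    exact Nat.le_of_mul_le_mul_right this (by positivity)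
  have heq : SB = SC \ SW := Finset.eq_of_subset_of_card_le hSBsub (by rw [hCWcard]; exact hle2)
  intro x hxC hxW
  have hx : x ∈ SC \ SW := by
    rw [Finset.mem_sdiff, hSC, hSW]; exact ⟨hxC, hxW⟩
  rw [← heq, hSB] at hx
  exact ⟨hx.2.2.1, hx.2.2.2⟩

end Cfsg.Agent.Helper10.BR996
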