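import Mathlib

/-!
# Simple groups of order 168: the action on the Sylow 7-subgroups (helper16's library)

Part a: generic facts about a Sylow subgroup of prime order acting on the set of Sylow subgroups,
and the labelling of the eight Sylow 7-subgroups by the projective line over `ZMod 7`.
-/

set_option autoImplicit false
set_option linter.unusedSectionVars false

namespace Cfsg.Agent.Helper16

namespace O168

variable {G : Type*} [Group G]

/-- A nonidentity element of a Sylow subgroup of prime order fixes no other Sylow subgroup. -/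
theorem sylow_eq_of_smul_eq [Finite G] {p : ℕ} [Fact p.Prime] (P Q : Sylow p G) (hP : Nat.card P = p)
    {y : G} (hy : y ∈ P) (hy1 : y ≠ 1) (hyQ : y • Q = Q) : Q = P := by
  have hyN : y ∈ Subgroup.normalizer ((Q : Subgroup G) : Set G) :=
    Sylow.smul_eq_iff_mem_normalizer.1 hyQ
  have hzP : Subgroup.zpowers y ≤ (P : Subgroup G) := Subgroup.zpowers_le.2 hy
  have hpg : IsPGroup p (Subgroup.zpowers y) := P.2.to_le hzP
  have h1 := hpg.inf_normalizer_sylow Q
  have hyQ' : y ∈ (Q : Subgroup G) := by
    have : y ∈ Subgroup.zpowers y ⊓ Subgroup.normalizer ((Q : Subgroup G) : Set G) :=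
      ⟨Subgroup.mem_zpowers y, hyN⟩
    exact (h1.le this).2
  have hord : orderOf y = p := by
    have hdvd : orderOf y ∣ p := by
      rw [← hP]
      have := Subgroup.orderOf_dvd_natCard (P : Subgroup G) hy
      exact this
    rcases (Nat.dvd_prime (Fact.out : p.Prime)).1 hdvd with h | h
    · rw [orderOf_eq_one_iff] at h; exact absurd h hy1
    · exact h
  have hzeq : Subgroup.zpowers y = (P : Subgroup G) := by
    apply Subgroup.eq_of_le_of_card_ge hzP
    rw [Nat.card_zpowers, hord]
    exact hP.le
  have hle : (P : Subgroup G) ≤ (Q : Subgroup G) := by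
    rw [← hzeq]; exact Subgroup.zpowers_le.2 hyQ'
  exact Sylow.ext (P.3 Q.2 hle)

/-- Powers of an element of order dividing `7`, indexed by `ZMod 7`. -/
theorem pow_val_add {x : G} (hx : x ^ 7 = 1) (i j : ZMod 7) :
    x ^ (i + j).val = x ^ i.val * x ^ j.val := by
  rw [← pow_add, ZMod.val_add, ← pow_eq_pow_mod _ hx]

theorem pow_val_mul {x : G} (hx : x ^ 7 = 1) (i j : ZMod 7) :
    x ^ (i * j).val = (x ^ i.val) ^ j.val := by
  rw [← pow_mul, ZMod.val_mul, ← pow_eq_pow_mod _ hx]

theorem pow_val_natCast {x : G} (hx : x ^ 7 = 1) (n : ℕ) :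
    x ^ ((n : ZMod 7)).val = x ^ n := by
  rw [ZMod.val_natCast, ← pow_eq_pow_mod _ hx]

section Label

variable [Finite G] (P Q0 : Sylow 7 G) (x : G)

/-- The labelling of the Sylow 7-subgroups by the projective line over `ZMod 7`. -/
noncomputable def lab : OnePoint (ZMod 7) → Sylow 7 G :=
  fun p => p.elim P (fun i => x ^ i.val • Q0)

theorem lab_infty : lab P Q0 x OnePoint.infty = P := rfl

theorem lab_coe (i : ZMod 7) : lab P Q0 x (i : OnePoint (ZMod 7)) = x ^ i.val • Q0 := rfl

variable {P Q0 x}

theorem pow_smul_fixed (hxP : x • P = P) (n : ℕ) : x ^ n • P = P := by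
  induction n with
  | zero => rw [pow_zero, one_smul]
  | succ n ih => rw [pow_succ, mul_smul, hxP, ih]

theorem lab_injective (hx7 : x ^ 7 = 1) (hxP : x • P = P) (hPQ : Q0 ≠ P)
    (hfree : ∀ n : ℕ, x ^ n • Q0 = Q0 → 7 ∣ n) : Function.Injective (lab P Q0 x) := by
  have hne : ∀ i : ZMod 7, x ^ i.val • Q0 ≠ P := by
    intro i h
    apply hPQ
    have h1 : x ^ i.val • Q0 = x ^ i.val • P := by rw [h, pow_smul_fixed hxP]
    exact smul_left_cancel _ h1
  intro p q hpq
  induction p using OnePoint.rec with
  | infty =>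
    induction q using OnePoint.rec with
    | infty => rfl
    | coe j =>
      rw [lab_infty, lab_coe] at hpq
      exact absurd hpq.symm (hne j)
  | coe i =>
    induction q using OnePoint.rec with
    | infty =>
      rw [lab_infty, lab_coe] at hpq
      exact absurd hpq (hne i)
    | coe j =>
      rw [lab_coe, lab_coe] at hpq
      have h1 : x ^ i.val = x ^ j.val * x ^ (i - j).val := by
        rw [← pow_val_add hx7]; congr 2; ring
      rw [h1, mul_smul] at hpq
      have h2 := smul_left_cancel _ hpq
      have h3 := hfree _ h2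
      have h4 : (i - j).val = 0 := Nat.eq_zero_of_dvd_of_lt h3 (ZMod.val_lt _)
      rw [ZMod.val_eq_zero, sub_eq_zero] at h4
      rw [h4]

theorem lab_bijective (hx7 : x ^ 7 = 1) (hxP : x • P = P) (hPQ : Q0 ≠ P)
    (hfree : ∀ n : ℕ, x ^ n • Q0 = Q0 → 7 ∣ n) (hcard : Nat.card (Sylow 7 G) = 8) :
    Function.Bijective (lab P Q0 x) := by
  apply (lab_injective hx7 hxP hPQ hfree).bijective_of_nat_card_le
  rw [hcard, Nat.card_eq_fintype_card]
  have : Fintype.card (OnePoint (ZMod 7)) = 8 := by
    show Fintype.card (Option (ZMod 7)) = 8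
    rw [Fintype.card_option, ZMod.card]
  rw [this]

end Label

end O168

end Cfsg.Agent.Helper16
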