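import Mathlib
import Cfsg.Agent.Lib.Helper3.Dihedral

set_option autoImplicit false

namespace Cfsg.Agent.Helper16

open QuaternionGroup Cfsg.Agent.Helper3

section

variable {M : Type*} [Group M] {n : ℕ} [NeZero n]

theorem conj_zmodPow_of_inverts {x t : M} (htx : t * x * t⁻¹ = x⁻¹) (i : ZMod (2 * n)) :
    t * zmodPow x i * t⁻¹ = (zmodPow x i)⁻¹ := by
  unfold zmodPow
  rw [← conj_pow, htx, inv_pow]

theorem conj_inv_zmodPow_of_inverts {x t : M} (htx : t * x * t⁻¹ = x⁻¹) (i : ZMod (2 * n)) :
    t⁻¹ * zmodPow x i * t = (zmodPow x i)⁻¹ := by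
  have h := conj_zmodPow_of_inverts htx i
  have h2 : zmodPow x i = t⁻¹ * (zmodPow x i)⁻¹ * t := by
    rw [← h]; group
  have h3 : (zmodPow x i)⁻¹ = t⁻¹ * zmodPow x i * t := by
    have := congrArg (fun v => v⁻¹) h2
    simp only [mul_inv_rev, inv_inv] at this
    rw [this, mul_assoc]
  exact h3.symm

/-- The universal property of the generalized quaternion group. -/
def quaternionLift (x t : M) (hx : x ^ (2 * n) = 1) (ht : t ^ 2 = x ^ n)
    (htx : t * x * t⁻¹ = x⁻¹) : QuaternionGroup n →* M where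
  toFun
    | a i => zmodPow x i
    | xa i => t * zmodPow x i
  map_one' := by
    show zmodPow x (0 : ZMod (2 * n)) = 1
    exact zmodPow_zero x
  map_mul' := by
    have hn : zmodPow x ((n : ℕ) : ZMod (2 * n)) = x ^ n := by
      unfold zmodPow
      rw [ZMod.val_natCast, Nat.mod_eq_of_lt]
      have := NeZero.pos n
      omega
    rintro (i | i) (j | j)
    · show zmodPow x (i + j) = zmodPow x i * zmodPow x j
      exact zmodPow_add hx i j
    · show t * zmodPow x (j - i) = zmodPow x i * (t * zmodPow x j)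
      have h1 := conj_inv_zmodPow_of_inverts (n := n) htx i
      have h2 : zmodPow x i * t = t * (zmodPow x i)⁻¹ := by
        rw [← h1]; group
      have hc : Commute (zmodPow x j) (zmodPow x i)⁻¹ := by
        unfold zmodPow
        exact ((Commute.refl x).pow_pow _ _).inv_right
      rw [zmodPow_sub hx, ← mul_assoc (zmodPow x i), h2, mul_assoc, hc.eq]
    · show t * zmodPow x (i + j) = t * zmodPow x i * zmodPow x j
      rw [zmodPow_add hx, mul_assoc]
    · show zmodPow x ((n : ZMod (2 * n)) + j - i) = t * zmodPow x i * (t * zmodPow x j)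
      have h1 := conj_inv_zmodPow_of_inverts (n := n) htx i
      have h2 : zmodPow x i * t = t * (zmodPow x i)⁻¹ := by
        rw [← h1]; group
      rw [zmodPow_sub hx, zmodPow_add hx, hn, ← ht]
      have hc : Commute (zmodPow x j) (zmodPow x i)⁻¹ := by
        unfold zmodPow
        exact ((Commute.refl x).pow_pow _ _).inv_right
      calc t ^ 2 * zmodPow x j * (zmodPow x i)⁻¹
          = t * (t * (zmodPow x i)⁻¹) * zmodPow x j := by
            rw [pow_two, mul_assoc, hc.eq]; group
        _ = t * (zmodPow x i * t) * zmodPow x j := by rw [h2]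
        _ = t * zmodPow x i * (t * zmodPow x j) := by group

@[simp] theorem quaternionLift_a (x t : M) (hx : x ^ (2 * n) = 1) (ht : t ^ 2 = x ^ n)
    (htx : t * x * t⁻¹ = x⁻¹) (i : ZMod (2 * n)) :
    quaternionLift x t hx ht htx (a i) = zmodPow x i := rfl

@[simp] theorem quaternionLift_xa (x t : M) (hx : x ^ (2 * n) = 1) (ht : t ^ 2 = x ^ n)
    (htx : t * x * t⁻¹ = x⁻¹) (i : ZMod (2 * n)) :
    quaternionLift x t hx ht htx (xa i) = t * zmodPow x i := rfl

/-- Recognition of generalized quaternion groups. -/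
theorem nonempty_mulEquiv_quaternion (x t : M) (hxo : orderOf x = 2 * n) (ht : t ^ 2 = x ^ n)
    (htx : t * x * t⁻¹ = x⁻¹) (htn : t ∉ Subgroup.zpowers x)
    (hall : ∀ g : M, g ∈ Subgroup.zpowers x ∨ ∃ s : ℕ, g = t * x ^ s) :
    Nonempty (M ≃* QuaternionGroup n) := by
  have hx : x ^ (2 * n) = 1 := by rw [← hxo]; exact pow_orderOf_eq_one x
  have hpos : 0 < 2 * n := by have := NeZero.pos n; omega
  have hne : NeZero (2 * n) := ⟨by omega⟩
  have hfin : IsOfFinOrder x := by rw [← orderOf_pos_iff, hxo]; exact hpos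
  have hzp : ∀ s : ℕ, zmodPow x ((s : ℕ) : ZMod (2 * n)) = x ^ s := by
    intro s
    unfold zmodPow
    rw [ZMod.val_natCast, ← hxo, pow_mod_orderOf]
  let f := quaternionLift x t hx ht htx
  have hinj : Function.Injective f := by
    rw [injective_iff_map_eq_one]
    rintro (i | i) hi
    · change zmodPow x i = 1 at hi
      unfold zmodPow at hi
      have h1 := orderOf_dvd_of_pow_eq_one hi
      rw [hxo] at h1
      have h2 : i.val < 2 * n := ZMod.val_lt i
      have h3 : i.val = 0 := Nat.eq_zero_of_dvd_of_lt h1 h2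
      have h4 : i = 0 := (ZMod.val_eq_zero i).1 h3
      rw [h4]; rfl
    · exfalso
      change t * zmodPow x i = 1 at hi
      apply htn
      have : t = (zmodPow x i)⁻¹ := eq_inv_of_mul_eq_one_left hi
      rw [this]
      exact Subgroup.inv_mem _ (Subgroup.pow_mem _ (Subgroup.mem_zpowers x) _)
  have hsurj : Function.Surjective f := by
    intro g
    rcases hall g with hg | ⟨s, rfl⟩
    · rw [← hfin.mem_powers_iff_mem_zpowers, Submonoid.mem_powers_iff] at hg
      obtain ⟨s, rfl⟩ := hg
      exact ⟨a (s : ZMod (2 * n)), hzp s⟩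
    · exact ⟨xa (s : ZMod (2 * n)), by
        show t * zmodPow x ((s : ℕ) : ZMod (2 * n)) = t * x ^ s
        rw [hzp s]⟩
  exact ⟨(MulEquiv.ofBijective f ⟨hinj, hsurj⟩).symm⟩

end

end Cfsg.Agent.Helper16
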