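import Mathlib
import Cfsg.Agent.Lib.Helper16.QuatRecog
import Cfsg.Agent.Lib.Helper16.UniqueOrderP
import Cfsg.Agent.Lib.Helper16.CyclicTwo
import Cfsg.Agent.Lib.Helper8.PGroup

set_option autoImplicit false

namespace Cfsg.Agent.Helper16

theorem inv_conj_of_conj_inv {G : Type*} [Group G] {t x : G} (h : t * x * t⁻¹ = x⁻¹) :
    t⁻¹ * x * t = x⁻¹ := by
  have h1 : x = t⁻¹ * x⁻¹ * t := by rw [← h]; group
  have h2 : x⁻¹ = (t⁻¹ * x⁻¹ * t)⁻¹ := congrArg (fun v => v⁻¹) h1
  rw [h2]; group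

/-- A finite `2`-group with at most one involution is cyclic or generalized quaternion. -/
theorem cyclic_or_quaternion_of_uniqueOrderP_two {G : Type*} [Group G] [Finite G]
    (hG : IsPGroup 2 G) (h : UniqueOrderP 2 G) :
    IsCyclic G ∨ ∃ n : ℕ, Nonempty (G ≃* QuaternionGroup (2 ^ n)) := by
  classical
  have hF : Fact (Nat.Prime 2) := ⟨Nat.prime_two⟩
  obtain ⟨A, hAn, hAc, hCA⟩ := Cfsg.Agent.Helper8.exists_normal_abelian_self_centralizing hG
  have hAcyc : IsCyclic A :=
    isCyclic_of_comm_of_uniqueOrderP (hG.to_subgroup A) (fun x y => hAc.is_comm.comm x y)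
      (h.subgroup A)
  by_cases hAtop : A = ⊤
  · left
    rw [hAtop] at hAcyc
    exact isCyclic_of_surjective (Subgroup.topEquiv : (⊤ : Subgroup G) ≃* G)
      Subgroup.topEquiv.surjective
  right
  obtain ⟨a', ha'⟩ := hAcyc.exists_generator
  obtain ⟨a, haA⟩ := a'
  have hzA : Subgroup.zpowers a = A := by
    apply le_antisymm
    · exact Subgroup.zpowers_le.2 haA
    · intro x hx
      have := ha' ⟨x, hx⟩
      rw [Subgroup.mem_zpowers_iff] at this ⊢
      obtain ⟨i, hi⟩ := this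
      exact ⟨i, by simpa using congrArg Subtype.val hi⟩
  obtain ⟨k, hao⟩ := IsPGroup.iff_orderOf.1 hG a
  obtain ⟨g0, hg0⟩ : ∃ g : G, g ∉ A := by
    by_contra hcon
    push Not at hcon
    exact hAtop (eq_top_iff.2 fun x _ => hcon x)
  -- centralizing `a` means lying in `A`
  have hcent : ∀ g : G, g * a * g⁻¹ = a → g ∈ A := by
    intro g hg
    apply hCA
    rw [Subgroup.mem_centralizer_iff]
    intro x hx
    rw [SetLike.mem_coe, ← hzA, Subgroup.mem_zpowers_iff] at hx
    obtain ⟨i, rfl⟩ := hx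
    have h1 : g * a = a * g := by
      calc g * a = g * a * g⁻¹ * g := by group
        _ = a * g := by rw [hg]
    exact ((Commute.zpow_left (show Commute a g from h1.symm) i)).eq
  have hconjA : ∀ g : G, g * a * g⁻¹ ∈ Subgroup.zpowers a := by
    intro g
    rw [hzA]
    exact hAn.conj_mem a haA g
  -- k ≥ 2
  have hk : 2 ≤ k := by
    by_contra hk'
    have hk1 : k = 0 ∨ k = 1 := by omega
    apply hg0
    apply hcent
    rcases hk1 with rfl | rfl
    · rw [pow_zero, orderOf_eq_one_iff] at hao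
      rw [hao]; group
    · rw [pow_one] at hao
      have h1 : orderOf (g0 * a * g0⁻¹) = 2 := by
        have := MulEquiv.orderOf_eq (MulAut.conj g0) a
        rw [MulAut.conj_apply] at this
        rw [this, hao]
      have h2 := h a (g0 * a * g0⁻¹) hao h1
      obtain ⟨s, hs, hs'⟩ := mem_zpowers_exists_nat (by norm_num) hao h2
      interval_cases s
      · exfalso
        rw [pow_zero] at hs'
        rw [hs', orderOf_one] at h1
        norm_num at h1
      · rw [hs', pow_one]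
  have hk1 : 1 ≤ k := by omega
  have hz2 := pow_half_sq (a := a) (k := k) hk1 hao
  have hz1 := pow_half_ne_one (a := a) (k := k) hk1 hao
  have hzo : orderOf (a ^ 2 ^ (k - 1)) = 2 := orderOf_eq_prime hz2 hz1
  have hzA' : a ^ 2 ^ (k - 1) ∈ A := A.pow_mem haA _
  -- no involutions outside A
  have hnoinv : ∀ x : G, x ∉ A → x ^ 2 ≠ 1 := by
    intro x hx hx2
    have hx1 : x ≠ 1 := by
      intro h1; rw [h1] at hx; exact hx A.one_mem
    have hxo : orderOf x = 2 := orderOf_eq_prime hx2 hx1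
    have := h _ x hzo hxo
    exact hx ((Subgroup.zpowers_le.2 hzA') this)
  -- claim (i)
  have hi : ∀ g : G, g ∉ A → g ^ 2 ∈ A →
      g * a * g⁻¹ = a⁻¹ ∧ g ^ 2 = a ^ 2 ^ (k - 1) := by
    intro g hgA hg2
    rw [← hzA] at hg2
    rcases cyclic_index_two_cases hk hao (hconjA g) hg2 with h1 | ⟨h1, h2 | h2⟩ |
      ⟨-, h1, h2 | h2⟩ | ⟨-, h1, i, h2⟩
    · exact absurd (hcent g h1) hgA
    · exact absurd h2 (hnoinv g hgA)
    · exact ⟨h1, h2⟩
    · exact absurd h2 (hnoinv g hgA)
    · exfalso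
      have hga : g * a ∉ A := by
        intro hmem
        apply hgA
        have : g = g * a * a⁻¹ := by group
        rw [this]; exact A.mul_mem hmem (A.inv_mem haA)
      apply hnoinv (g * a) hga
      have e : (g * a) ^ 2 = (g * a * g⁻¹) * g ^ 2 * a := by
        rw [pow_two, pow_two]; group
      rw [e, h1, h2, mul_assoc a⁻¹, ← pow_two, hz2, mul_one, inv_mul_cancel]
    · exfalso
      have hga : g * a ^ i ∉ A := by
        intro hmem
        apply hgA
        have : g = g * a ^ i * (a ^ i)⁻¹ := by group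
        rw [this]; exact A.mul_mem hmem (A.inv_mem (A.pow_mem haA i))
      exact hnoinv _ hga h2
  -- claim (ii)
  have hii : ∀ x : G, x ∉ A → x ^ 2 ∈ A := by
    intro x hxA
    by_contra hx2
    have hex : ∃ j : ℕ, x ^ 2 ^ j ∈ A := by
      obtain ⟨j, hj⟩ := hG x
      exact ⟨j, by rw [hj]; exact A.one_mem⟩
    have hj0 : Nat.find hex ≠ 0 := by
      intro h0
      have := Nat.find_spec hex
      rw [h0, pow_zero, pow_one] at this
      exact hxA this
    have hj1 : Nat.find hex ≠ 1 := by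
      intro h0
      have := Nat.find_spec hex
      rw [h0, pow_one] at this
      exact hx2 this
    obtain ⟨j, hj⟩ : ∃ j, Nat.find hex = j + 2 := ⟨Nat.find hex - 2, by omega⟩
    have h2n : (x ^ 2 ^ j) ^ 2 ∉ A := by
      have := Nat.find_min hex (m := j + 1) (by omega)
      rwa [pow_succ, pow_mul] at this
    have h4 : ((x ^ 2 ^ j) ^ 2) ^ 2 ∈ A := by
      have := Nat.find_spec hex
      rwa [hj, pow_succ, pow_succ, pow_mul, pow_mul] at this
    generalize x ^ 2 ^ j = y at h2n h4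
    obtain ⟨hinv, -⟩ := hi (y ^ 2) h2n h4
    obtain ⟨r, -, hr⟩ := mem_zpowers_exists_nat (by positivity) hao (hconjA y)
    have e1 : y ^ 2 * a * (y ^ 2)⁻¹ = a ^ (r ^ 2) := by
      have : y ^ 2 * a * (y ^ 2)⁻¹ = y * (y * a * y⁻¹) * y⁻¹ := by rw [pow_two]; group
      rw [this, hr, ← conj_pow, hr, ← pow_mul, ← pow_two]
    rw [hinv] at e1
    have e2 : a ^ (r ^ 2 + 1) = 1 := by
      rw [pow_succ, ← e1, inv_mul_cancel]
    have e3 := orderOf_dvd_of_pow_eq_one e2
    rw [hao] at e3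
    have e4 : (4 : ℕ) ∣ r ^ 2 + 1 := by
      refine dvd_trans ⟨2 ^ (k - 2), ?_⟩ e3
      rw [show (4 : ℕ) = 2 ^ 2 by norm_num, ← pow_add]; congr 1; omega
    rcases Nat.even_or_odd' r with ⟨m, hm | hm⟩
    · rw [hm] at e4
      have : (2 * m) ^ 2 + 1 = 4 * (m * m) + 1 := by ring
      rw [this] at e4
      omega
    · rw [hm] at e4
      have : (2 * m + 1) ^ 2 + 1 = 4 * (m * m + m) + 2 := by ring
      rw [this] at e4
      omega
  -- claim (iii)
  obtain ⟨ht1, ht2⟩ := hi g0 hg0 (hii g0 hg0)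
  have hall : ∀ x : G, x ∈ Subgroup.zpowers a ∨ ∃ s : ℕ, x = g0 * a ^ s := by
    intro x
    by_cases hx : x ∈ A
    · left; rw [hzA]; exact hx
    · right
      obtain ⟨hx1, -⟩ := hi x hx (hii x hx)
      have h1 : (g0⁻¹ * x) * a * (g0⁻¹ * x)⁻¹ = a := by
        have : (g0⁻¹ * x) * a * (g0⁻¹ * x)⁻¹ = g0⁻¹ * (x * a * x⁻¹) * g0 := by group
        rw [this, hx1]
        have : g0⁻¹ * a⁻¹ * g0 = (g0⁻¹ * a * g0)⁻¹ := by group
        rw [this]
        rw [inv_conj_of_conj_inv ht1, inv_inv]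
      have h2 := hcent _ h1
      rw [← hzA] at h2
      obtain ⟨s, -, hs⟩ := mem_zpowers_exists_nat (by positivity) hao h2
      exact ⟨s, by rw [← hs]; group⟩
  have hne : NeZero (2 ^ (k - 1)) := ⟨by positivity⟩
  refine ⟨k - 1, nonempty_mulEquiv_quaternion a g0 ?_ ht2 ht1 ?_ hall⟩
  · rw [hao, ← pow_succ']; congr 1; omega
  · rw [hzA]; exact hg0

end Cfsg.Agent.Helper16
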