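import Mathlib
import Cfsg.Prelude.Def_FusionSystem
import Cfsg.Agent.Lib.Helper25.FusionHyp
import Cfsg.Agent.Lib.Helper25.FusionSubSys

/-!
# The hyperfocal subgroup of a subsystem of `p`-power index (helper16)

If `E` over a strongly closed `T` has `p`-power index in `F`, then `hyp(F) = hyp(E)`.
-/

set_option autoImplicit false

namespace Cfsg.Agent.Helper16.ResLim

open Cfsg Cfsg.FusionSystem Cfsg.Agent.Helper25

variable {Ω : Type*} [Group Ω] {S : Subgroup Ω}

/-- a `p'`-element of `Aut_F(P)` moves the elements of `P ∩ T` inside `hyp(E)` -/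
theorem inv_mul_apply_mem_hyp [Finite S] (p : ℕ) [Fact p.Prime] (F : FusionSystem S)
    {T : Subgroup Ω} (E : FusionSystem T) (hT : F.StronglyClosed T)
    (hidx : E.HasPPowerIndexIn F p) {P : Subgroup Ω} (hPS : P ≤ S) {b : MulAut P}
    (hb : b ∈ F.autGroup P) {n : ℕ} (hbn : b ^ n = 1) (hn : n.Coprime p) (y : P)
    (hy : (y : Ω) ∈ T) :
    (y : Ω)⁻¹ * ((b y : P) : Ω) ∈ E.hyperfocalSubgroup p := by
  have hTS : T ≤ S := hT.1
  set Q : Subgroup Ω := P ⊓ T with hQ
  have hQP : Q ≤ P := inf_le_left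
  have hQT : Q ≤ T := inf_le_right
  have hQS : Q ≤ S := hQP.trans hPS
  -- automorphisms of `P` in `F` preserve `Q`
  have hpres : ∀ c : MulAut P, c ∈ F.autGroup P → ∀ z : P, (z : Ω) ∈ T → ((c z : P) : Ω) ∈ T := by
    intro c hc z hz
    have h1 : P.subtype.comp c.toMonoidHom ∈ F.Hom P := (mem_autGroup_iff F hPS c).1 hc
    have h2 := restrict_mem F hQP h1
    exact hT.2 Q hQT _ h2 ⟨(z : Ω), ⟨z.2, hz⟩⟩
  have hbinv : b⁻¹ ∈ F.autGroup P := Subgroup.inv_mem _ hb
  -- the restriction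
  let β : MulAut Q :=
    { toFun := fun z => ⟨((b ⟨(z : Ω), hQP z.2⟩ : P) : Ω),
        ⟨(b ⟨(z : Ω), hQP z.2⟩ : P).2, hpres b hb ⟨(z : Ω), hQP z.2⟩ z.2.2⟩⟩
      invFun := fun z => ⟨((b⁻¹ ⟨(z : Ω), hQP z.2⟩ : P) : Ω),
        ⟨(b⁻¹ ⟨(z : Ω), hQP z.2⟩ : P).2, hpres b⁻¹ hbinv ⟨(z : Ω), hQP z.2⟩ z.2.2⟩⟩
      left_inv := by
        intro z
        apply Subtype.ext
        simp
      right_inv := by
        intro z
        apply Subtype.ext
        simp
      map_mul' := by
        intro z w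
        apply Subtype.ext
        have : (⟨((z * w : Q) : Ω), hQP (z * w).2⟩ : P) =
            ⟨(z : Ω), hQP z.2⟩ * ⟨(w : Ω), hQP w.2⟩ := rfl
        simp only [this, map_mul]
        rfl }
  have hβapp : ∀ z : Q, ((β z : Q) : Ω) = ((b ⟨(z : Ω), hQP z.2⟩ : P) : Ω) := fun z => rfl
  have hβF : β ∈ F.autGroup Q := by
    rw [mem_autGroup_iff F hQS]
    have h1 : P.subtype.comp b.toMonoidHom ∈ F.Hom P := (mem_autGroup_iff F hPS b).1 hb
    have h2 := restrict_mem F hQP h1
    have : Q.subtype.comp β.toMonoidHom =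
        (P.subtype.comp b.toMonoidHom).comp (Subgroup.inclusion hQP) := by
      ext z; rfl
    rw [this]; exact h2
  have hβpow : ∀ k : ℕ, ∀ z : Q, (((β ^ k) z : Q) : Ω) = (((b ^ k) ⟨(z : Ω), hQP z.2⟩ : P) : Ω) := by
    intro k
    induction k with
    | zero => intro z; rfl
    | succ k ih =>
      intro z
      rw [pow_succ, pow_succ, MulAut.mul_apply, MulAut.mul_apply, ih (β z)]
      rfl
  have hβn : β ^ n = 1 := by
    ext z
    rw [hβpow n z, hbn]
    rfl
  have hβord : (orderOf β).Coprime p :=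
    Nat.Coprime.coprime_dvd_left (orderOf_dvd_of_pow_eq_one hβn) hn
  -- `β` lies in `O^p(Aut_F(Q))`, hence in `Aut_E(Q)`
  have h1 : (⟨β, hβF⟩ : F.autGroup Q) ∈ pResidual p ↥(F.autGroup Q) := by
    apply Subgroup.subset_closure
    show (orderOf (⟨β, hβF⟩ : F.autGroup Q)).Coprime p
    rw [← Subgroup.orderOf_coe]
    exact hβord
  have hβE : β ∈ E.autGroup Q := hidx.2.2 Q hQT ⟨⟨β, hβF⟩, h1, rfl⟩
  have h2 : (⟨β, hβE⟩ : E.autGroup Q) ∈ pResidual p ↥(E.autGroup Q) := by
    apply Subgroup.subset_closure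
    show (orderOf (⟨β, hβE⟩ : E.autGroup Q)).Coprime p
    rw [← Subgroup.orderOf_coe]
    exact hβord
  have h3 := hyperfocal_gen_mem E p hQT ⟨β, hβE⟩ h2 ⟨(y : Ω), ⟨y.2, hy⟩⟩
  exact h3

/-- **Lemma A.** A subsystem of `p`-power index over a strongly closed subgroup has the same
hyperfocal subgroup (the non-obvious inclusion). -/
theorem hyp_le_of_pPowerIndex [Finite S] (p : ℕ) [Fact p.Prime] (hS : IsPGroup p S)
    (F : FusionSystem S) {T : Subgroup Ω} (E : FusionSystem T) (hT : F.StronglyClosed T)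
    (hidx : E.HasPPowerIndexIn F p) :
    F.hyperfocalSubgroup p ≤ E.hyperfocalSubgroup p := by
  have hp : p.Prime := Fact.out
  have hTS : T ≤ S := hT.1
  have hhypT : F.hyperfocalSubgroup p ≤ T := hidx.2.1
  set U := E.hyperfocalSubgroup p with hU
  conv_lhs => unfold FusionSystem.hyperfocalSubgroup
  rw [Subgroup.closure_le]
  rintro _ ⟨P, α, x, hPS, hα, rfl⟩
  rw [SetLike.mem_coe]
  suffices h : ∀ x : P, (x : Ω)⁻¹ * (((α : MulAut P) x : P) : Ω) ∈ U from h x
  clear x
  unfold pResidual at hα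
  induction hα using Subgroup.closure_induction with
  | mem α hα =>
    intro x
    have hcop : Nat.Coprime (orderOf α) p := hα
    set a : MulAut P := (α : MulAut P) with ha
    have haA : a ∈ F.autGroup P := α.2
    set n := orderOf α with hn
    have han : a ^ n = 1 := by
      have h1 : α ^ n = 1 := pow_orderOf_eq_one α
      have h2 := congrArg Subtype.val h1
      simpa using h2
    have hαres : α ∈ pResidual p ↥(F.autGroup P) := Subgroup.subset_closure hα
    obtain ⟨d, hd⟩ : ∃ d : P, d = x⁻¹ * a x := ⟨_, rfl⟩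
    have hdT : (d : Ω) ∈ T := by
      have := hyperfocal_gen_mem F p hPS α hαres x
      rw [hd]
      exact hhypT this
    have hdS : (d : Ω) ∈ S := hPS d.2
    have hax : a x = x * d := by rw [hd, mul_inv_cancel_left]
    have hkey : ∀ k : ℕ, ((x : Ω) * (d : Ω) ^ k)⁻¹ * (((a ^ k) x : P) : Ω) ∈ U := by
      intro k
      induction k with
      | zero =>
        rw [pow_zero, pow_zero, mul_one, MulAut.one_apply, inv_mul_cancel]
        exact U.one_mem
      | succ k ih =>
        have hak : a ^ k ∈ F.autGroup P := Subgroup.pow_mem _ haA k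
        have hakn : (a ^ k) ^ n = 1 := by
          rw [← pow_mul, mul_comm, pow_mul, han, one_pow]
        have e1 : (a ^ (k + 1)) x = (a ^ k) x * (a ^ k) d := by
          rw [pow_succ, MulAut.mul_apply, hax, map_mul]
        have h1 := inv_mul_apply_mem_hyp p F E hT hidx hPS hak hakn hcop d hdT
        have h2 := conj_mem_hyperfocalSubgroup E p (T.inv_mem hdT) ih
        have h3 := U.mul_mem h2 h1
        have : ((x : Ω) * (d : Ω) ^ (k + 1))⁻¹ * (((a ^ (k + 1)) x : P) : Ω) =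
            (d : Ω)⁻¹ * (((x : Ω) * (d : Ω) ^ k)⁻¹ * (((a ^ k) x : P) : Ω)) * (d : Ω)⁻¹⁻¹ *
              ((d : Ω)⁻¹ * (((a ^ k) d : P) : Ω)) := by
          rw [e1, Subgroup.coe_mul, pow_succ]
          group
        rw [this]
        exact h3
    have h1 := hkey n
    rw [han, MulAut.one_apply] at h1
    have h2 : (d : Ω) ^ n ∈ U := by
      have : ((x : Ω) * (d : Ω) ^ n)⁻¹ * (x : Ω) = ((d : Ω) ^ n)⁻¹ := by group
      rw [this] at h1
      exact (Subgroup.inv_mem_iff _).1 h1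
    have hdord : ∃ j : ℕ, orderOf (d : Ω) = p ^ j := by
      obtain ⟨k, hk⟩ := hS (⟨(d : Ω), hdS⟩ : S)
      have hk' : (d : Ω) ^ p ^ k = 1 := by
        have := congrArg Subtype.val hk
        simpa using this
      obtain ⟨j, -, hj⟩ := (Nat.dvd_prime_pow hp).1 (orderOf_dvd_of_pow_eq_one hk')
      exact ⟨j, hj⟩
    obtain ⟨j, hj⟩ := hdord
    have hc2 : Nat.Coprime n (orderOf (d : Ω)) := by
      rw [hj]
      exact Nat.Coprime.pow_right j hcop
    obtain ⟨m, hm⟩ := exists_pow_eq_self_of_coprime hc2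
    have h3 : (d : Ω) ∈ U := by
      rw [← hm]
      exact U.pow_mem h2 m
    have : (x : Ω)⁻¹ * ((a x : P) : Ω) = (d : Ω) := by
      rw [hd]; simp
    rw [this]
    exact h3
  | one =>
    intro x
    have : (((1 : ↥(F.autGroup P)) : MulAut P) x : P) = x := rfl
    rw [this, inv_mul_cancel]
    exact U.one_mem
  | mul α β _ _ hα hβ =>
    intro x
    have e : (x : Ω)⁻¹ * ((((α * β : ↥(F.autGroup P)) : MulAut P) x : P) : Ω) =
        ((x : Ω)⁻¹ * (((β : MulAut P) x : P) : Ω)) *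
          ((((β : MulAut P) x : P) : Ω)⁻¹ *
            (((α : MulAut P) ((β : MulAut P) x) : P) : Ω)) := by
      rw [Subgroup.coe_mul, MulAut.mul_apply]
      group
    rw [e]
    exact U.mul_mem (hβ x) (hα _)
  | inv α _ hα =>
    intro x
    have h1 := hα (((α : MulAut P)⁻¹) x)
    have e : (x : Ω)⁻¹ * ((((α⁻¹ : ↥(F.autGroup P)) : MulAut P) x : P) : Ω) =
        ((((α : MulAut P)⁻¹ x : P) : Ω)⁻¹ *
          (((α : MulAut P) ((α : MulAut P)⁻¹ x) : P) : Ω))⁻¹ := by
      rw [Subgroup.coe_inv, MulAut.apply_inv_self]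
      group
    rw [e]
    exact U.inv_mem h1

/-- **Lemma A**, equality form. -/
theorem hyp_eq_of_pPowerIndex [Finite S] (p : ℕ) [Fact p.Prime] (hS : IsPGroup p S)
    (F : FusionSystem S) {T : Subgroup Ω} (E : FusionSystem T) (hT : F.StronglyClosed T)
    (hidx : E.HasPPowerIndexIn F p) :
    E.hyperfocalSubgroup p = F.hyperfocalSubgroup p :=
  le_antisymm (hyperfocalSubgroup_mono F E hT.1 hidx.1 p)
    (hyp_le_of_pPowerIndex p hS F E hT hidx)

end Cfsg.Agent.Helper16.ResLim
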