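import Mathlib
import Cfsg.Prelude.Def_FusionReduction
import Cfsg.Agent.Lib.Helper26.FusionRestrict
import Cfsg.Agent.Lib.Helper16.ResLim1

/-!
# Uniqueness of the residual limit (helper16)
-/

set_option autoImplicit false

namespace Cfsg.Agent.Helper16.ResLim

open Cfsg Cfsg.FusionSystem Cfsg.Agent.Helper25 Cfsg.Agent.Helper26

universe u

variable {Ω : Type u} [Group Ω]

/-- fusion systems over the same subgroup with the same maps are equal -/
theorem fs_ext {S : Subgroup Ω} (A B : FusionSystem S) (h : ∀ P : Subgroup Ω, A.Hom P = B.Hom P) :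
    A = B := by
  cases A
  cases B
  simp only [FusionSystem.mk.injEq]
  funext P
  exact h P

/-- systems with the same maps live over the same subgroup -/
theorem base_eq_of_homEq {T₁ T₂ : Subgroup Ω} (A : FusionSystem T₁) (B : FusionSystem T₂)
    (h : ∀ P : Subgroup Ω, A.Hom P = B.Hom P) : T₁ = T₂ := by
  apply le_antisymm
  · have h1 : T₁.subtype ∈ A.Hom T₁ := subtype_mem A le_rfl
    rw [h] at h1
    exact (B.le_of_mem h1).1
  · have h1 : T₂.subtype ∈ B.Hom T₂ := subtype_mem B le_rfl
    rw [← h] at h1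
    exact (A.le_of_mem h1).1

/-- transport of stability along equality of maps -/
theorem stable_of_homEq (p : ℕ) {T₁ T₂ : Subgroup Ω} (A : FusionSystem T₁) (B : FusionSystem T₂)
    (h : ∀ P : Subgroup Ω, A.Hom P = B.Hom P) (hB1 : B.hyperfocalSubgroup p = T₂)
    (hB2 : B.IsPPrimeResidual p B) :
    A.hyperfocalSubgroup p = T₁ ∧ A.IsPPrimeResidual p A := by
  obtain rfl := base_eq_of_homEq A B h
  obtain rfl := fs_ext A B h
  exact ⟨hB1, hB2⟩

/-- the `p'`-elements of `A` generate the same subgroup inside any `B` containing `O^p(A)` -/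
theorem pResidual_map_le {M : Type*} [Group M] (p : ℕ) (A B : Subgroup M)
    (h : (pResidual p ↥A).map A.subtype ≤ B) :
    (pResidual p ↥A).map A.subtype ≤ (pResidual p ↥B).map B.subtype := by
  rintro _ ⟨g, hg, rfl⟩
  unfold pResidual at hg
  induction hg using Subgroup.closure_induction with
  | mem g hg =>
    have hgB : (g : M) ∈ B := h ⟨g, Subgroup.subset_closure hg, rfl⟩
    refine ⟨⟨(g : M), hgB⟩, Subgroup.subset_closure ?_, rfl⟩
    show (orderOf (⟨(g : M), hgB⟩ : B)).Coprime p
    have hg' : (orderOf g).Coprime p := hg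
    rw [← Subgroup.orderOf_coe] at hg' ⊢
    exact hg'
  | one => exact Subgroup.one_mem _
  | mul a b _ _ ha hb =>
    rw [map_mul]
    exact Subgroup.mul_mem _ ha hb
  | inv a _ ha =>
    rw [map_inv]
    exact Subgroup.inv_mem _ ha

/-- **Containment.** A saturated subsystem `A` of `F` over `T` is contained in any system over
`U ≥ T` whose automorphism groups contain the `O^p(Aut_F(P))`, `P ≤ T`. -/
theorem hom_subset_of_pResidual {S T U : Subgroup Ω} [Finite T] (p : ℕ) [Fact p.Prime]
    (hTp : IsPGroup p T) (F : FusionSystem S) (A : FusionSystem T) (hA : A.IsSaturated p)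
    (hAF : A.IsSubsystemOf F) (hTS : T ≤ S) (B : FusionSystem U) (hTU : T ≤ U)
    (hB : ∀ P : Subgroup Ω, P ≤ T →
      (pResidual p ↥(F.autGroup P)).map (F.autGroup P).subtype ≤ B.autGroup P) :
    ∀ P : Subgroup Ω, A.Hom P ⊆ B.Hom P := by
  refine le_resSys_of_pResidual p hTp A hA B hTU ?_
  intro P hPT ν hν
  have hPS : P ≤ S := hPT.trans hTS
  have hle : ∀ a ∈ A.autGroup P, (MonoidHom.id (MulAut P)) a ∈ F.autGroup P := by
    intro a ha
    rw [mem_autGroup_iff F hPS]
    exact hAF P ((mem_autGroup_iff A hPT a).mp ha)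
  have h1 := pResidual_transport p (MonoidHom.id (MulAut P)) (fun _ _ h => h) hle hν
  exact hB P hPT ⟨_, h1, rfl⟩

/-- uniqueness of the `p`-residual subsystem -/
theorem pResidual_unique {S : Subgroup Ω} [Finite S] (p : ℕ) [Fact p.Prime] (hS : IsPGroup p S)
    (F : FusionSystem S) (D₁ D₂ : FusionSystem (F.hyperfocalSubgroup p))
    (h1 : F.IsPResidual p D₁) (h2 : F.IsPResidual p D₂) : D₁ = D₂ := by
  have hle : F.hyperfocalSubgroup p ≤ S := hyperfocalSubgroup_le F p
  have : Finite ↥(F.hyperfocalSubgroup p) := finite_of_le_finite hle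
  have hHp : IsPGroup p ↥(F.hyperfocalSubgroup p) := hS.to_le hle
  apply fs_ext
  intro P
  apply Set.Subset.antisymm
  · exact hom_subset_of_pResidual p hHp F D₁ h1.1 h1.2.1 hle D₂ le_rfl h2.2.2.2 P
  · exact hom_subset_of_pResidual p hHp F D₂ h2.1 h2.2.1 hle D₁ le_rfl h1.2.2.2 P

/-- uniqueness of the `p'`-residual subsystem -/
theorem pPrimeResidual_unique {S : Subgroup Ω} (p : ℕ) (F : FusionSystem S)
    (D₁ D₂ : FusionSystem S) (h1 : F.IsPPrimeResidual p D₁) (h2 : F.IsPPrimeResidual p D₂) :
    D₁ = D₂ := by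
  apply fs_ext
  intro P
  exact Set.Subset.antisymm (h1.2.2 D₂ h2.1 h2.2.1 P) (h2.2.2 D₁ h1.1 h1.2.1 P)

/-- a stable system coincides with the `p'`-residual of its `p`-residual -/
theorem stable_step_aux {S T₂ : Subgroup Ω} [Finite S] (p : ℕ) [Fact p.Prime] (hS : IsPGroup p S)
    (F : FusionSystem S) (D D' : FusionSystem T₂) (hT : T₂ = S)
    (hDsub : D.IsSubsystemOf F)
    (hDres : ∀ P : Subgroup Ω, P ≤ T₂ →
      (pResidual p ↥(F.autGroup P)).map (F.autGroup P).subtype ≤ D.autGroup P)
    (hD' : D.IsPPrimeResidual p D') (hF : F.IsPPrimeResidual p F) :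
    ∀ P : Subgroup Ω, D'.Hom P = F.Hom P := by
  subst hT
  have hDF : D = F := by
    apply fs_ext
    intro P
    apply Set.Subset.antisymm (hDsub P)
    exact hom_subset_of_pResidual p hS F F hF.1 (fun _ _ h => h) le_rfl D le_rfl hDres P
  subst hDF
  have := pPrimeResidual_unique p D D' D hD' hF
  intro P
  rw [this]

/-- **(L')** the residual limit of a stable system is the system itself -/
theorem lim_of_stable {p : ℕ} {T S : Subgroup Ω} {X : FusionSystem T} {F : FusionSystem S}
    (h : X.IsResidualLimitOf F p) :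
    Fact p.Prime → Finite S → IsPGroup p S → F.hyperfocalSubgroup p = S →
      F.IsPPrimeResidual p F → ∀ P : Subgroup Ω, X.Hom P = F.Hom P := by
  induction h with
  | stable F p h1 h2 =>
    intro _ _ _ _ _ P
    rfl
  | step F p D D' hD hD' hlim ih =>
    intro hp hfin hS hst1 hst2
    have hle : F.hyperfocalSubgroup p ≤ _ := hyperfocalSubgroup_le F p
    have : Finite ↥(F.hyperfocalSubgroup p) := finite_of_le_finite hle
    have hHp : IsPGroup p ↥(F.hyperfocalSubgroup p) := hS.to_le hle
    have hD'F := stable_step_aux p hS F D D' hst1 hD.2.1 hD.2.2.2 hD' hst2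
    obtain ⟨hs1, hs2⟩ := stable_of_homEq p D' F hD'F hst1 hst2
    have h3 := ih hp inferInstance hHp hs1 hs2
    intro P
    rw [h3 P, hD'F P]

/-- **(L)** uniqueness of the residual limit -/
theorem lim_unique {p : ℕ} {T₁ S : Subgroup Ω} {X₁ : FusionSystem T₁} {F : FusionSystem S}
    (h1 : X₁.IsResidualLimitOf F p) :
    Fact p.Prime → Finite S → IsPGroup p S → ∀ {T₂ : Subgroup Ω} (X₂ : FusionSystem T₂),
      X₂.IsResidualLimitOf F p → ∀ P : Subgroup Ω, X₁.Hom P = X₂.Hom P := by
  induction h1 with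
  | stable F p hs1 hs2 =>
    intro hp hfin hS T₂ X₂ h2 P
    exact (lim_of_stable h2 hp hfin hS hs1 hs2 P).symm
  | step F p D D' hD hD' hlim ih =>
    intro hp hfin hS T₂ X₂ h2
    have hle : F.hyperfocalSubgroup p ≤ _ := hyperfocalSubgroup_le F p
    have : Finite ↥(F.hyperfocalSubgroup p) := finite_of_le_finite hle
    have hHp : IsPGroup p ↥(F.hyperfocalSubgroup p) := hS.to_le hle
    cases h2 with
    | stable _ _ hs1 hs2 =>
      exact lim_of_stable (IsResidualLimitOf.step F p D D' hD hD' hlim) hp hfin hS hs1 hs2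
    | step _ _ D₂ D₂' hD₂ hD₂' hlim₂ =>
      have e1 : D = D₂ := pResidual_unique p hS F D D₂ hD hD₂
      subst e1
      have e2 : D' = D₂' := pPrimeResidual_unique p D D' D₂' hD' hD₂'
      subst e2
      exact ih hp inferInstance hHp X₂ hlim₂

/-- a first step over a subgroup equal to the hyperfocal subgroup -/
theorem step_of {p : ℕ} {S T₂ : Subgroup Ω} (F : FusionSystem S) (D D' : FusionSystem T₂)
    (hT : T₂ = F.hyperfocalSubgroup p) (hDsat : D.IsSaturated p)
    (hDidx : D.HasPPowerIndexIn F p) (hD' : D.IsPPrimeResidual p D') {V : Subgroup Ω}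
    (X : FusionSystem V) (hX : X.IsResidualLimitOf D' p) : X.IsResidualLimitOf F p := by
  subst hT
  exact IsResidualLimitOf.step F p D D' ⟨hDsat, hDidx⟩ hD' hX

/-- **Main theorem.** A normal subsystem of `p`-power index has the same residual limit. -/
theorem residualLimit_eq {S : Subgroup Ω} [Finite S] (p : ℕ) [Fact p.Prime] (hS : IsPGroup p S)
    (F : FusionSystem S) {T : Subgroup Ω} (E : FusionSystem T) (hE : E.IsNormalIn F p)
    (hidx : E.HasPPowerIndexIn F p) {U V : Subgroup Ω} (Finf : FusionSystem U)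
    (hFinf : Finf.IsResidualLimitOf F p) (Einf : FusionSystem V)
    (hEinf : Einf.IsResidualLimitOf E p) : ∀ P : Subgroup Ω, Finf.Hom P = Einf.Hom P := by
  have hEsat : E.IsSaturated p := hE.1.1
  have hEsub : E.IsSubsystemOf F := hE.1.2.2.1
  have hTsc : F.StronglyClosed T := hE.1.2.2.2.1
  have hhyp : E.hyperfocalSubgroup p = F.hyperfocalSubgroup p :=
    hyp_eq_of_pPowerIndex p hS F E hTsc hidx
  have key : Einf.IsResidualLimitOf F p := by
    cases hEinf with
    | stable _ _ h1 h2 =>
      exact step_of F E E (h1.symm.trans hhyp) hEsat hidx h2 E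
        (IsResidualLimitOf.stable E p h1 h2)
    | step _ _ D D' hD hD' hlim =>
      have hEle : E.hyperfocalSubgroup p ≤ T := hyperfocalSubgroup_le E p
      have hDidx : D.HasPPowerIndexIn F p := by
        refine ⟨fun P φ hφ => hEsub P (hD.2.1 P hφ), hhyp.ge, ?_⟩
        intro P hP
        have hPT : P ≤ T := hP.trans hEle
        have h1 := hidx.2.2 P hPT
        have h2 := pResidual_map_le p (F.autGroup P) (E.autGroup P) h1
        exact h2.trans (hD.2.2.2 P hP)
      exact step_of F D D' hhyp hD.1 hDidx hD' Einf hlim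
  exact lim_unique hFinf inferInstance inferInstance hS Einf key

end Cfsg.Agent.Helper16.ResLim
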