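import Mathlib
import Cfsg.Prelude.Def_FusionSystem
import Cfsg.Agent.Lib.Helper25.FusionPrimeIndex2
import Cfsg.Agent.Lib.Helper26.FusionRestrict
import Cfsg.Agent.Lib.Helper16.ResLim2

/-!
# Subsystems of `p`-power index are normal (helper16), part 1

`T ⊴ S` containing the hyperfocal subgroup is strongly closed, and a saturated subsystem of
`p`-power index over `T` is invariant under `Aut_F(T)`.
-/

set_option autoImplicit false

namespace Cfsg.Agent.Helper16.PPowNormal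

open Cfsg Cfsg.FusionSystem Cfsg.Agent.Helper25 Cfsg.Agent.Helper26

variable {Ω : Type*} [Group Ω] {S : Subgroup Ω}

/-- conjugation by elements of `S` preserves a subgroup normal in `S` -/
theorem conj_mem_iff_of_normal {T : Subgroup Ω} (hTS : T ≤ S) (hTn : (T.subgroupOf S).Normal)
    {s : Ω} (hs : s ∈ S) (y : Ω) : y ∈ T ↔ s * y * s⁻¹ ∈ T := by
  constructor
  · intro hy
    have h1 : (⟨y, hTS hy⟩ : S) ∈ T.subgroupOf S := Subgroup.mem_subgroupOf.mpr hy
    have h2 := hTn.conj_mem _ h1 ⟨s, hs⟩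
    exact Subgroup.mem_subgroupOf.mp h2
  · intro hy
    have h1 : (⟨s * y * s⁻¹, hTS hy⟩ : S) ∈ T.subgroupOf S := Subgroup.mem_subgroupOf.mpr hy
    have h2 := hTn.conj_mem _ h1 ⟨s, hs⟩⁻¹
    have h3 := Subgroup.mem_subgroupOf.mp h2
    have e : ((⟨s, hs⟩⁻¹ * (⟨s * y * s⁻¹, hTS hy⟩ : S) * (⟨s, hs⟩ : S)⁻¹⁻¹ : S) : Ω) = y := by
      show s⁻¹ * (s * y * s⁻¹) * s⁻¹⁻¹ = y
      group
    rwa [e] at h3

/-- **W1.** A subgroup normal in `S` containing the hyperfocal subgroup is strongly closed. -/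
theorem stronglyClosed_of_hyp_le [Finite S] (p : ℕ) [Fact p.Prime] (hS : IsPGroup p S)
    (F : FusionSystem S) (hF : F.IsSaturated p) {T : Subgroup Ω} (hTS : T ≤ S)
    (hTn : (T.subgroupOf S).Normal) (hT : F.hyperfocalSubgroup p ≤ T) : F.StronglyClosed T := by
  have hnorm : ∀ s ∈ S, ∀ y : Ω, y ∈ T ↔ s * y * s⁻¹ ∈ T :=
    fun s hs y => conj_mem_iff_of_normal hTS hTn hs y
  refine ⟨hTS, fun R hR φ hφ x => ?_⟩
  refine (alperin_induction p hS F hF (fun P φ => ∀ x : P, (x : Ω) ∈ T ↔ φ x ∈ T) ?_ ?_ ?_ ?_ hφ x).mp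
    (hR x.2)
  · intro P g _ hg x
    rw [conjHom_apply]
    exact hnorm g hg x
  · intro P Q φ ψ _ _ hφ hψ h x
    exact (hφ x).trans (hψ ⟨φ x, h x⟩)
  · rintro P φ _ hφ ψ _ hinv ⟨_, x, rfl⟩
    rw [hinv x]
    exact (hφ x).symm
  · intro P hP α hα x
    have hPS : P ≤ S := by
      rcases hP with rfl | hP
      · exact le_rfl
      · exact hP.1.1
    have hFA := isFullyAutomized_of_eq_or_essential p hS F hF hP
    obtain ⟨σ, hσ, ν, hν, rfl⟩ := exists_mul_autInducedBy_pResidual p F hFA hα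
    obtain ⟨s, hs, hσs⟩ := (mem_autInducedBy_iff σ).mp hσ
    show (x : Ω) ∈ T ↔ (((σ * (ν : MulAut P)) x : P) : Ω) ∈ T
    rw [MulAut.mul_apply, hσs, ← hnorm s hs]
    have h1 : (x : Ω)⁻¹ * (((ν : MulAut P) x : P) : Ω) ∈ T :=
      hT (hyperfocal_gen_mem F p hPS ν hν x)
    constructor
    · intro hx
      have := T.mul_mem hx h1
      simpa using this
    · intro hy
      have := T.mul_mem hy (T.inv_mem h1)
      simpa using this

/-- `Aut_F(T)` and `Aut` of the restricted system coincide -/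
theorem mem_autGroup_resSys (F : FusionSystem S) {T : Subgroup Ω} (hTS : T ≤ S) (α : MulAut T) :
    α ∈ (resSys F T hTS).autGroup T ↔ α ∈ F.autGroup T := by
  rw [mem_autGroup_iff _ le_rfl, mem_autGroup_iff F hTS]
  constructor
  · intro h; exact h.1
  · intro h; exact ⟨h, le_rfl, fun x => (α x).2⟩

/-- `O^p(Aut_F(P))` lies in the automizer of the `Aut_F(T)`-invariant core of `E`. -/
theorem pResidual_le_invCore_autGroup (p : ℕ) (F : FusionSystem S) {T : Subgroup Ω} (hTS : T ≤ S)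
    (E : FusionSystem T) (hEi : E.HasPPowerIndexIn F p) {P : Subgroup Ω} (hPT : P ≤ T) :
    (pResidual p ↥(F.autGroup P)).map (F.autGroup P).subtype ≤
      (invCore (resSys F T hTS) E).autGroup P := by
  rintro _ ⟨ν, hν, rfl⟩
  show (ν : MulAut P) ∈ (invCore (resSys F T hTS) E).autGroup P
  rw [mem_autGroup_iff (invCore (resSys F T hTS) E) hPT]
  refine ⟨(mem_autGroup_iff E hPT _).mp (hEi.2.2 P hPT ⟨ν, hν, rfl⟩), ?_⟩
  intro α hα hP' hφS
  have he := (autRestr_mem (resSys F T hTS) hPT hα).1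
  have hmap : ∀ a ∈ F.autGroup P, (MulAut.congr (autRestr hPT α)).toMonoidHom a ∈
      F.autGroup ((P.subgroupOf T).map (T.subtype.comp α.toMonoidHom)) :=
    fun a ha => congr_mem_autGroup' F _ he ha
  have hν' := pResidual_transport p (MulAut.congr (autRestr hPT α)).toMonoidHom
    (MulAut.congr (autRestr hPT α)).injective hmap hν
  have h1 : MulAut.congr (autRestr hPT α) (ν : MulAut P) ∈
      E.autGroup ((P.subgroupOf T).map (T.subtype.comp α.toMonoidHom)) :=
    hEi.2.2 _ (map_aut_le α P) ⟨_, hν', rfl⟩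
  refine ⟨_, (mem_autGroup_iff E (map_aut_le α P) _).mp h1, fun x => ?_⟩
  show (((autRestr hPT α) ((ν : MulAut P) ((autRestr hPT α).symm ⟨_, _⟩)) :
    ↥((P.subgroupOf T).map (T.subtype.comp α.toMonoidHom))) : Ω) = _
  have e : (⟨((α ⟨x, hP' x.2⟩ : T) : Ω), mem_map_aut hP' α x⟩ :
      ↥((P.subgroupOf T).map (T.subtype.comp α.toMonoidHom))) = autRestr hPT α x := Subtype.ext rfl
  rw [e, MulEquiv.symm_apply_apply]
  rfl

/-- **W2.** A saturated subsystem of `p`-power index is invariant under `Aut_F(T)`. -/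
theorem autInv_of_pPowerIndex [Finite S] (p : ℕ) [Fact p.Prime] (hS : IsPGroup p S)
    (F : FusionSystem S) {T : Subgroup Ω} (hTS : T ≤ S) (E : FusionSystem T)
    (hEs : E.IsSaturated p) (hEi : E.HasPPowerIndexIn F p) : AutInv F E := by
  have : Finite T := finite_of_le_finite hTS
  have hTp : IsPGroup p T := hS.to_le hTS
  have hsub := Cfsg.Agent.Helper16.ResLim.hom_subset_of_pResidual p hTp F E hEs hEi.1 hTS
    (invCore (resSys F T hTS) E) le_rfl
    (fun P hPT => pResidual_le_invCore_autGroup p F hTS E hEi hPT)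
  intro α hα P hPT φ hφ
  have hφI : InvPr (resSys F T hTS) E P φ := (hsub P hφ).2
  obtain ⟨χ, hχ, hχv⟩ := hφI α ((mem_autGroup_resSys F hTS α).mpr hα) hPT (E.le_of_mem hφ).2
  exact ⟨χ, hχ, hχv⟩

end Cfsg.Agent.Helper16.PPowNormal
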