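import Mathlib
import Cfsg.Prelude.Def_FusionSystem
import Cfsg.Agent.Lib.Helper25.FusionInvariant
import Cfsg.Agent.Lib.Helper25.FusionHyp
import Cfsg.Agent.Lib.Helper25.FusionSat3
import Cfsg.Agent.Lib.Helper25.FusionRS

/-!
# Subsystems of `p`-power index are normal (helper16), part 3: the extension condition
-/

set_option autoImplicit false

namespace Cfsg.Agent.Helper16.PPowNormal

open Cfsg Cfsg.FusionSystem Cfsg.Agent.Helper25

variable {Ω : Type*} [Group Ω] {S : Subgroup Ω}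

/-- for a surjective homomorphism from a finite group, `O^p` of the target is covered -/
theorem pResidual_le_map_of_surjective {G H : Type*} [Group G] [Group H] [Finite G] (p : ℕ)
    [Fact p.Prime] (f : G →* H) (hf : Function.Surjective f) :
    pResidual p H ≤ (pResidual p G).map f := by
  show Subgroup.closure {h : H | Nat.Coprime (orderOf h) p} ≤ _
  rw [Subgroup.closure_le]
  intro h hh
  obtain ⟨g, rfl⟩ := hf h
  obtain ⟨k, hk⟩ := exists_pow_mem_pResidual' p g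
  have hh' : Nat.Coprime (orderOf (f g)) p := hh
  have hcop : (p ^ k).Coprime (orderOf (f g)) := (Nat.Coprime.pow_right k hh').symm
  obtain ⟨m, hm⟩ := exists_pow_eq_self_of_coprime hcop
  rw [SetLike.mem_coe, ← hm, ← map_pow, ← map_pow]
  exact ⟨_, Subgroup.pow_mem _ hk m, rfl⟩

theorem conj_cancel_aux {G : Type*} [Group G] (c t b : G) (hct : t * c = c * t)
    (hzt : t * (c⁻¹ * b) = (c⁻¹ * b) * t) : c⁻¹ * (t * b * t⁻¹) = c⁻¹ * b := by
  calc c⁻¹ * (t * b * t⁻¹) = (c⁻¹ * (t * c) * c⁻¹) * b * t⁻¹ := by group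
    _ = (c⁻¹ * (c * t) * c⁻¹) * b * t⁻¹ := by rw [hct]
    _ = (t * (c⁻¹ * b)) * t⁻¹ := by group
    _ = (c⁻¹ * b) * t * t⁻¹ := by rw [hzt]
    _ = c⁻¹ * b := by group

/-- a strongly closed subgroup is fully normalized -/
theorem isFullyNormalized_of_stronglyClosed [Finite S] (F : FusionSystem S) {T : Subgroup Ω}
    (hT : F.StronglyClosed T) : F.IsFullyNormalized T := by
  refine ⟨hT.1, fun Q _ => ?_⟩
  have hN : normalizerIn S T = S := by
    unfold normalizerIn
    exact inf_eq_left.mpr (fun s hs => mem_normalizer_of_stronglyClosed hT hs)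
  rw [hN]
  exact Subgroup.card_le_of_le normalizerIn_le

/-- every `F`-automorphism of a strongly closed `T` extends to `T C_S(T)` -/
theorem exists_aut_ext [Finite S] (p : ℕ) [Fact p.Prime] (hS : IsPGroup p S)
    (F : FusionSystem S) (hF : F.IsSaturated p) {T : Subgroup Ω} (hT : F.StronglyClosed T)
    (ν : MulAut T) (hν : ν ∈ F.autGroup T) :
    ∃ β : MulAut ↥(T ⊔ centralizerIn S T), β ∈ F.autGroup (T ⊔ centralizerIn S T) ∧
      ∀ x : T, ((β (Subgroup.inclusion le_sup_left x) : ↥(T ⊔ centralizerIn S T)) : Ω) =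
        ((ν x : T) : Ω) := by
  have hTS := hT.1
  have hfn := isFullyNormalized_of_stronglyClosed F hT
  obtain ⟨-, -, hrec⟩ := of_fullyNormalized p hS F hF hfn
  obtain ⟨φ, hφdef⟩ : ∃ φ : T →* Ω, φ = T.subtype.comp ν.toMonoidHom := ⟨_, rfl⟩
  have hφ : φ ∈ F.Hom T := hφdef ▸ (mem_autGroup_iff F hTS ν).mp hν
  have hφx : ∀ x : T, φ x = ((ν x : T) : Ω) := fun x => by rw [hφdef]; rfl
  have hrange : φ.range = T := by
    ext y
    constructor
    · rintro ⟨x, rfl⟩; rw [hφx]; exact (ν x).2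
    · intro hy
      refine ⟨ν⁻¹ ⟨y, hy⟩, ?_⟩
      rw [hφx, MulAut.apply_inv_self]
  obtain ⟨ψ, hψ, hψext⟩ := hrec.2 T φ hφ hrange
  have hle : T ⊔ centralizerIn S T ≤ extender S T φ :=
    sup_le (le_extender F hφ) (centralizerIn_le_extender φ)
  have hψR := restrict_mem F hle hψ
  have hψQ : ∀ (a : Ω) (ha : a ∈ T),
      ψ ⟨a, hle (le_sup_left (b := centralizerIn S T) ha)⟩ = φ ⟨a, ha⟩ :=
    fun a ha => hψext a ha _
  have hmem : ∀ x : ↥(T ⊔ centralizerIn S T),
      (ψ.comp (Subgroup.inclusion hle)) x ∈ T ⊔ centralizerIn S T := by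
    apply sup_hom_mem
    · intro a ha
      show ψ ⟨a, _⟩ ∈ _
      rw [hψQ a ha, hφx]
      exact le_sup_left (b := centralizerIn S T) (ν ⟨a, ha⟩).2
    · intro c hc
      apply le_sup_right (a := T)
      show ψ ⟨c, _⟩ ∈ _
      rw [mem_centralizerIn]
      refine ⟨(F.le_of_mem hψ).2 _, ?_⟩
      intro q hq
      have hc' := (mem_centralizerIn.mp hc).2
      have hq' : q ∈ φ.range := by rw [hrange]; exact hq
      obtain ⟨q', rfl⟩ := hq'
      rw [← hψQ q'.1 q'.2, ← map_mul, ← map_mul]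
      congr 1
      apply Subtype.ext
      exact hc' q'.1 q'.2
  have hRS : T ⊔ centralizerIn S T ≤ S := sup_le hTS centralizerIn_le
  have : Finite ↥(T ⊔ centralizerIn S T) := finite_of_le_finite hRS
  have hinj : Function.Injective ((ψ.comp (Subgroup.inclusion hle)).codRestrict _ hmem) := by
    intro a b hab
    have := congrArg Subtype.val hab
    exact F.injective_of_mem hψR this
  refine ⟨MulEquiv.ofBijective _ (Finite.injective_iff_bijective.mp hinj), ?_, fun x => ?_⟩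
  · rw [mem_autGroup_iff F hRS]
    have e : (T ⊔ centralizerIn S T).subtype.comp
        (MulEquiv.ofBijective _ (Finite.injective_iff_bijective.mp hinj)).toMonoidHom =
        ψ.comp (Subgroup.inclusion hle) := by
      ext x; rfl
    rw [e]; exact hψR
  · rw [← hφx]
    exact hψQ x x.2

/-- **W4.** The extension condition. -/
theorem extension_of_pPowerIndex [Finite S] (p : ℕ) [Fact p.Prime] (hS : IsPGroup p S)
    (F : FusionSystem S) (hF : F.IsSaturated p) {T : Subgroup Ω} (E : FusionSystem T)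
    (hT : F.StronglyClosed T) (hEs : E.IsSaturated p) (hEi : E.HasPPowerIndexIn F p) :
    ∀ α ∈ E.autGroup T, ∃ β ∈ F.autGroup (T ⊔ centralizerIn S T),
      (∀ x : T, ((β (Subgroup.inclusion le_sup_left x) : ↥(T ⊔ centralizerIn S T)) : Ω) =
        ((α x : T) : Ω)) ∧
      ∀ c : ↥(T ⊔ centralizerIn S T), (c : Ω) ∈ centralizerIn S T →
        (c : Ω)⁻¹ * ((β c : ↥(T ⊔ centralizerIn S T)) : Ω) ∈
          T ⊓ Subgroup.centralizer (T : Set Ω) := by
  intro α hα
  have hTS := hT.1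
  have : Finite T := finite_of_le_finite hTS
  have hRS : T ⊔ centralizerIn S T ≤ S := sup_le hTS centralizerIn_le
  have : Finite ↥(T ⊔ centralizerIn S T) := finite_of_le_finite hRS
  have hTR : T ≤ T ⊔ centralizerIn S T := le_sup_left
  have hstab : ∀ δ ∈ F.autGroup (T ⊔ centralizerIn S T), ∀ x : ↥(T ⊔ centralizerIn S T),
      (x : Ω) ∈ T → ((δ x : ↥(T ⊔ centralizerIn S T)) : Ω) ∈ T :=
    fun δ hδ x hx => aut_mem_of_stronglyClosed F hT hRS hδ hx
  have hresmem : ∀ a : ↥(F.autGroup (T ⊔ centralizerIn S T)),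
      resHom hTR (F.autGroup (T ⊔ centralizerIn S T)) hstab a ∈ F.autGroup T := by
    intro a
    rw [mem_autGroup_iff F hTS]
    have e : T.subtype.comp (resHom hTR (F.autGroup (T ⊔ centralizerIn S T)) hstab a).toMonoidHom =
        ((T ⊔ centralizerIn S T).subtype.comp
          (a : MulAut ↥(T ⊔ centralizerIn S T)).toMonoidHom).comp (Subgroup.inclusion hTR) := by
      ext x; rfl
    rw [e]
    exact restrict_mem F hTR ((mem_autGroup_iff F hRS _).mp a.2)
  obtain ⟨res, hres⟩ : ∃ res : ↥(F.autGroup (T ⊔ centralizerIn S T)) →* ↥(F.autGroup T),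
      res = (resHom hTR (F.autGroup (T ⊔ centralizerIn S T)) hstab).codRestrict _ hresmem :=
    ⟨_, rfl⟩
  have hresx : ∀ (a : ↥(F.autGroup (T ⊔ centralizerIn S T))) (x : T),
      ((((res a : ↥(F.autGroup T)) : MulAut T) x : T) : Ω) =
        (((a : MulAut ↥(T ⊔ centralizerIn S T)) (Subgroup.inclusion hTR x) :
          ↥(T ⊔ centralizerIn S T)) : Ω) := by
    intro a x
    rw [hres]
    rfl
  have hsurj : Function.Surjective res := by
    rintro ⟨ν, hν⟩
    obtain ⟨β, hβ, hβν⟩ := exists_aut_ext p hS F hF hT ν hν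
    refine ⟨⟨β, hβ⟩, ?_⟩
    apply Subtype.ext
    apply MulEquiv.ext
    intro x
    apply Subtype.ext
    rw [hresx]
    exact hβν x
  have hFA := isFullyAutomized_self p E hEs
  obtain ⟨σ, hσ, ν, hν, rfl⟩ := exists_mul_autInducedBy_pResidual p E hFA hα
  obtain ⟨t, ht, hσt⟩ := (mem_autInducedBy_iff σ).mp hσ
  have hle : ∀ a ∈ E.autGroup T, (MonoidHom.id (MulAut T)) a ∈ F.autGroup T := by
    intro a ha
    rw [mem_autGroup_iff F hTS]
    exact hEi.1 T ((mem_autGroup_iff E le_rfl a).mp ha)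
  have hν' := pResidual_transport p (MonoidHom.id (MulAut T)) (fun _ _ h => h) hle hν
  obtain ⟨β', hβ', hβ'ν⟩ := pResidual_le_map_of_surjective p res hsurj hν'
  have hβ'x : ∀ x : T, (((β' : MulAut ↥(T ⊔ centralizerIn S T)) (Subgroup.inclusion hTR x) :
      ↥(T ⊔ centralizerIn S T)) : Ω) = (((ν : MulAut T) x : T) : Ω) := by
    intro x
    rw [← hresx, hβ'ν]
    rfl
  have htR : t ∈ T ⊔ centralizerIn S T := hTR ht
  have htN : t ∈ Subgroup.normalizer ((T ⊔ centralizerIn S T : Subgroup Ω) : Set Ω) :=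
    Subgroup.le_normalizer htR
  obtain ⟨β'', hβ''def⟩ : ∃ β'' : MulAut ↥(T ⊔ centralizerIn S T),
      β'' = (T ⊔ centralizerIn S T).normalizerMonoidHom ⟨t, htN⟩ := ⟨_, rfl⟩
  have hβ''x : ∀ r : ↥(T ⊔ centralizerIn S T),
      ((β'' r : ↥(T ⊔ centralizerIn S T)) : Ω) = t * (r : Ω) * t⁻¹ := by
    intro r; rw [hβ''def]; rfl
  have hβ''F : β'' ∈ F.autGroup (T ⊔ centralizerIn S T) :=
    autInducedBy_le_autGroup F hRS ((mem_autInducedBy_iff _).2 ⟨t, hTS ht, hβ''x⟩)
  refine ⟨β'' * β', Subgroup.mul_mem _ hβ''F β'.2, fun x => ?_, fun c hc => ?_⟩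
  · show ((β'' ((β' : MulAut ↥(T ⊔ centralizerIn S T)) (Subgroup.inclusion hTR x)) :
      ↥(T ⊔ centralizerIn S T)) : Ω) = ((σ ((ν : MulAut T) x) : T) : Ω)
    rw [hβ''x, hβ'x, hσt]
  · have hz1 : (c : Ω)⁻¹ * (((β' : MulAut ↥(T ⊔ centralizerIn S T)) c :
        ↥(T ⊔ centralizerIn S T)) : Ω) ∈ T :=
      hEi.2.1 (hyperfocal_gen_mem F p hRS β' hβ' c)
    have hcC := (mem_centralizerIn.mp hc).2
    have hβc : ∀ y ∈ T, y * (((β' : MulAut ↥(T ⊔ centralizerIn S T)) c :
        ↥(T ⊔ centralizerIn S T)) : Ω) =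
        (((β' : MulAut ↥(T ⊔ centralizerIn S T)) c : ↥(T ⊔ centralizerIn S T)) : Ω) * y := by
      intro y hy
      have hy' : (((β' : MulAut ↥(T ⊔ centralizerIn S T))
          (Subgroup.inclusion hTR ((ν : MulAut T)⁻¹ ⟨y, hy⟩)) : ↥(T ⊔ centralizerIn S T)) : Ω) = y := by
        rw [hβ'x, MulAut.apply_inv_self]
      have hcomm : Subgroup.inclusion hTR ((ν : MulAut T)⁻¹ ⟨y, hy⟩) * c =
          c * Subgroup.inclusion hTR ((ν : MulAut T)⁻¹ ⟨y, hy⟩) :=
        Subtype.ext (hcC _ ((ν : MulAut T)⁻¹ ⟨y, hy⟩).2)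
      have h1 := congrArg (fun r : ↥(T ⊔ centralizerIn S T) =>
        (((β' : MulAut ↥(T ⊔ centralizerIn S T)) r : ↥(T ⊔ centralizerIn S T)) : Ω)) hcomm
      simp only [map_mul, Subgroup.coe_mul] at h1
      rw [hy'] at h1
      exact h1
    have hz2 : (c : Ω)⁻¹ * (((β' : MulAut ↥(T ⊔ centralizerIn S T)) c :
        ↥(T ⊔ centralizerIn S T)) : Ω) ∈ Subgroup.centralizer (T : Set Ω) := by
      rw [Subgroup.mem_centralizer_iff]
      intro y hy
      have h0 := hcC y hy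
      have h1 : y * (c : Ω)⁻¹ = (c : Ω)⁻¹ * y := by
        calc y * (c : Ω)⁻¹ = (c : Ω)⁻¹ * (c * y) * (c : Ω)⁻¹ := by group
          _ = (c : Ω)⁻¹ * (y * c) * (c : Ω)⁻¹ := by rw [h0]
          _ = (c : Ω)⁻¹ * y := by group
      rw [← mul_assoc, h1, mul_assoc, hβc y hy, mul_assoc]
    show (c : Ω)⁻¹ * ((β'' ((β' : MulAut ↥(T ⊔ centralizerIn S T)) c) :
      ↥(T ⊔ centralizerIn S T)) : Ω) ∈ T ⊓ Subgroup.centralizer (T : Set Ω)
    rw [hβ''x, conj_cancel_aux _ _ _ (hcC t ht) ((Subgroup.mem_centralizer_iff.mp hz2) t ht)]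
    exact ⟨hz1, hz2⟩

end Cfsg.Agent.Helper16.PPowNormal
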