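import Mathlib

/-!
# Nilpotency class of finite `p`-groups (helper16's library)

`|X| = p ^ m` implies class `≤ max (m - 1) 1`; a group of maximal class has centre of order `p`.
-/

set_option autoImplicit false

namespace Cfsg.Agent.Helper16

universe u

/-- A group with cyclic central quotient is commutative (in terms of cardinalities). -/
theorem isMulCommutative_of_card_quotient_center_le {p : ℕ} [hp : Fact p.Prime] {X : Type*}
    [Group X] [Finite X] (h : Nat.card (X ⧸ Subgroup.center X) ∣ p) : IsMulCommutative X := by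
  have hcyc : IsCyclic (X ⧸ Subgroup.center X) := by
    rcases (Nat.dvd_prime hp.out).1 h with h1 | h1
    · have : Subsingleton (X ⧸ Subgroup.center X) := (Nat.card_eq_one_iff_unique.1 h1).1
      exact isCyclic_of_subsingleton
    · exact isCyclic_of_prime_card h1
  exact MonoidHom.isMulCommutative_of_isCyclic_of_ker_le_center
    (QuotientGroup.mk' (Subgroup.center X)) (by rw [QuotientGroup.ker_mk'])

/-- The centre and central quotient of a nonabelian group of order `p ^ m`. -/
theorem exists_card_center_of_not_comm {p : ℕ} [hp : Fact p.Prime] {X : Type*} [Group X]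
    [Finite X] {m : ℕ} (hX : Nat.card X = p ^ m) (hnc : ¬ IsMulCommutative X) :
    ∃ k : ℕ, 1 ≤ k ∧ k + 2 ≤ m ∧ Nat.card (Subgroup.center X) = p ^ k ∧
      Nat.card (X ⧸ Subgroup.center X) = p ^ (m - k) := by
  have hXp : IsPGroup p X := IsPGroup.of_card hX
  have hnt : Nontrivial X := by
    by_contra h
    rw [not_nontrivial_iff_subsingleton] at h
    exact hnc ⟨⟨fun a b => Subsingleton.elim _ _⟩⟩
  have hZnt : Nontrivial (Subgroup.center X) := hXp.center_nontrivial
  have hdvd : Nat.card (Subgroup.center X) ∣ p ^ m := hX ▸ Subgroup.card_subgroup_dvd_card _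
  obtain ⟨k, hkm, hk⟩ := (Nat.dvd_prime_pow hp.out).1 hdvd
  have hmul : Nat.card (X ⧸ Subgroup.center X) * Nat.card (Subgroup.center X) = Nat.card X :=
    (Subgroup.card_eq_card_quotient_mul_card_subgroup _).symm
  have hq : Nat.card (X ⧸ Subgroup.center X) = p ^ (m - k) := by
    rw [hk, hX] at hmul
    have h1 : p ^ m = p ^ (m - k) * p ^ k := by rw [← pow_add]; congr 1; omega
    rw [h1] at hmul
    exact Nat.eq_of_mul_eq_mul_right (pow_pos hp.out.pos k) hmul
  have hk1 : 1 ≤ k := by
    by_contra h
    have hk0 : k = 0 := by omega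
    rw [hk0, pow_zero] at hk
    have : Subsingleton (Subgroup.center X) := (Nat.card_eq_one_iff_unique.1 hk).1
    exact not_subsingleton _ this
  refine ⟨k, hk1, ?_, hk, hq⟩
  by_contra h
  have h1 : m - k ≤ 1 := by omega
  apply hnc
  apply isMulCommutative_of_card_quotient_center_le (p := p)
  rw [hq]
  calc p ^ (m - k) ∣ p ^ 1 := pow_dvd_pow p h1
    _ = p := pow_one p

/-- A group of order `p ^ m` has nilpotency class at most `max (m - 1) 1`. -/
theorem nilpotencyClass_le_of_card_pow {p : ℕ} [hp : Fact p.Prime] : ∀ (m : ℕ) (X : Type u)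
    [Group X] [Finite X], Nat.card X = p ^ m → Group.nilpotencyClass X ≤ max (m - 1) 1 := by
  intro m
  induction m using Nat.strong_induction_on with
  | _ m ih =>
  intro X _ _ hX
  have hXp : IsPGroup p X := IsPGroup.of_card hX
  haveI : Group.IsNilpotent X := hXp.isNilpotent
  by_cases hc : IsMulCommutative X
  · exact (Group.IsNilpotent.nilpotencyClass_le_one_iff.2 hc).trans (le_max_right _ _)
  · obtain ⟨k, hk1, hk2, -, hq⟩ := exists_card_center_of_not_comm hX hc
    have h1 := ih (m - k) (by omega) (X ⧸ Subgroup.center X) hq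
    rw [Group.nilpotencyClass_quotient_center] at h1
    have h2 : max (m - k - 1) 1 = m - k - 1 := max_eq_left (by omega)
    rw [h2] at h1
    have h3 : Group.nilpotencyClass X ≤ m - 1 := by omega
    exact h3.trans (le_max_left _ _)

/-- A `p`-group of maximal class has centre of order `p`, and its central quotient has order
`p ^ (n - 1)` and class `n - 2`. -/
theorem maximal_class_center {p : ℕ} [hp : Fact p.Prime] {X : Type u} [Group X] [Finite X]
    (n : ℕ) (hn : 3 ≤ n) (hX : Nat.card X = p ^ n) (hc : Group.nilpotencyClass X = n - 1) :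
    Nat.card (Subgroup.center X) = p ∧ Nat.card (X ⧸ Subgroup.center X) = p ^ (n - 1) ∧
      Group.nilpotencyClass (X ⧸ Subgroup.center X) = n - 2 := by
  have hXp : IsPGroup p X := IsPGroup.of_card hX
  haveI : Group.IsNilpotent X := hXp.isNilpotent
  have hnc : ¬ IsMulCommutative X := by
    intro h
    have := Group.IsNilpotent.nilpotencyClass_le_one_iff.2 h
    omega
  obtain ⟨k, hk1, hk2, hk, hq⟩ := exists_card_center_of_not_comm hX hnc
  have h1 := nilpotencyClass_le_of_card_pow (p := p) (n - k) (X ⧸ Subgroup.center X) hq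
  rw [Group.nilpotencyClass_quotient_center] at h1
  have h2 : max (n - k - 1) 1 = n - k - 1 := max_eq_left (by omega)
  rw [h2, hc] at h1
  have hk' : k = 1 := by omega
  subst hk'
  refine ⟨by rw [hk, pow_one], hq, ?_⟩
  rw [Group.nilpotencyClass_quotient_center, hc]
  omega

end Cfsg.Agent.Helper16
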