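import Mathlib
import Cfsg.Agent.Lib.Helper16.NilClassBound
import Cfsg.Agent.Lib.Helper16.CyclicTwo
import Cfsg.Agent.Lib.Helper16.MaxClass

/-!
# `2`-groups of maximal class have a cyclic maximal subgroup (helper16's library)
-/

set_option autoImplicit false

namespace Cfsg.Agent.Helper16

universe u

/-- The elements of a subgroup of order `2`. -/
theorem eq_one_or_eq_of_card_two {X : Type*} [Group X] {H : Subgroup X} (h : Nat.card H = 2)
    {z w : X} (hz : z ∈ H) (hz1 : z ≠ 1) (hw : w ∈ H) : w = 1 ∨ w = z := by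
  by_cases hw1 : w = 1
  · exact Or.inl hw1
  · right
    obtain ⟨y, -, hy⟩ := (Nat.card_eq_two_iff' (1 : H)).1 h
    have h1 := hy ⟨z, hz⟩ (fun h => hz1 (congrArg Subtype.val h))
    have h2 := hy ⟨w, hw⟩ (fun h => hw1 (congrArg Subtype.val h))
    exact congrArg Subtype.val (h2.trans h1.symm)

/-- A group in which every element squares to `1` is commutative. -/
theorem comm_of_forall_sq_eq_one {X : Type*} [Group X] (h : ∀ x : X, x ^ 2 = 1) (a b : X) :
    a * b = b * a := by
  have ha : a⁻¹ = a := by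
    rw [inv_eq_iff_mul_eq_one, ← pow_two]; exact h a
  have hb : b⁻¹ = b := by
    rw [inv_eq_iff_mul_eq_one, ← pow_two]; exact h b
  have hab : (a * b)⁻¹ = a * b := by
    rw [inv_eq_iff_mul_eq_one, ← pow_two]; exact h (a * b)
  rw [mul_inv_rev, ha, hb] at hab
  exact hab.symm

/-- In a group with a subgroup `C` of index two and `t ∉ C`, every element lies in `C` or `t C`. -/
theorem mem_or_inv_mul_mem_of_index_two {X : Type*} [Group X] {C : Subgroup X}
    (hC : C.index = 2) {t : X} (ht : t ∉ C) (g : X) : g ∈ C ∨ t⁻¹ * g ∈ C := by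
  by_cases hg : g ∈ C
  · exact Or.inl hg
  · right
    rw [Subgroup.mul_mem_iff_of_index_two hC]
    constructor
    · intro h; exact absurd (C.inv_mem_iff.1 h) ht
    · intro h; exact absurd h hg

/-- The nonabelian groups of order `8` contain an element of order `4`. -/
theorem exists_orderOf_four_of_card_eight {X : Type*} [Group X] [Finite X]
    (hX : Nat.card X = 8) (hnc : ¬ IsMulCommutative X) : ∃ a : X, orderOf a = 4 := by
  have hsq : ∃ x : X, x ^ 2 ≠ 1 := by
    by_contra h
    push Not at h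
    exact hnc ⟨⟨comm_of_forall_sq_eq_one h⟩⟩
  obtain ⟨x, hx⟩ := hsq
  refine ⟨x, ?_⟩
  have hdvd : orderOf x ∣ 2 ^ 3 := by
    have := orderOf_dvd_natCard x
    rw [hX] at this
    exact this
  obtain ⟨j, hj3, hj⟩ := (Nat.dvd_prime_pow Nat.prime_two).1 hdvd
  have hj2 : 2 ≤ j := by
    by_contra h
    apply hx
    have : orderOf x ∣ 2 := by
      rw [hj]
      calc 2 ^ j ∣ 2 ^ 1 := pow_dvd_pow 2 (by omega)
        _ = 2 := pow_one 2
    exact orderOf_dvd_iff_pow_eq_one.1 this
  have hj3' : j ≠ 3 := by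
    intro h
    apply hnc
    rw [h] at hj
    have hcyc : IsCyclic X := isCyclic_of_orderOf_eq_card x (by rw [hj, hX]; norm_num)
    exact IsCyclic.isMulCommutative (α := X)
  have : j = 2 := by omega
  rw [hj, this]
  norm_num

/-- A `2`-group of maximal class of order `2 ^ n` contains an element of order `2 ^ (n - 1)`. -/
theorem exists_orderOf_of_maximal_class : ∀ (n : ℕ), 3 ≤ n → ∀ (X : Type u) [Group X] [Finite X],
    Nat.card X = 2 ^ n → Group.nilpotencyClass X = n - 1 → ∃ a : X, orderOf a = 2 ^ (n - 1) := by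
  intro n hn
  induction n, hn using Nat.le_induction with
  | base =>
    intro X _ _ hX hc
    have hXp : IsPGroup 2 X := IsPGroup.of_card hX
    have hF : Fact (Nat.Prime 2) := ⟨Nat.prime_two⟩
    haveI : Group.IsNilpotent X := hXp.isNilpotent
    have hnc : ¬ IsMulCommutative X := by
      intro h
      have := Group.IsNilpotent.nilpotencyClass_le_one_iff.2 h
      omega
    obtain ⟨a, ha⟩ := exists_orderOf_four_of_card_eight (by rw [hX]; norm_num) hnc
    exact ⟨a, by rw [ha]; norm_num⟩
  | succ n hn ih =>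
    intro X _ _ hX hc
    have hF : Fact (Nat.Prime 2) := ⟨Nat.prime_two⟩
    obtain ⟨hZ, hQ, hQc⟩ := maximal_class_center (p := 2) (n + 1) (by omega) hX hc
    rw [Nat.add_sub_cancel] at hQ hc
    have hQc' : Group.nilpotencyClass (X ⧸ Subgroup.center X) = n - 1 := by
      rw [hQc]; omega
    obtain ⟨ab, hab⟩ := ih (X ⧸ Subgroup.center X) hQ hQc'
    obtain ⟨a, rfl⟩ := QuotientGroup.mk_surjective ab
    rw [Nat.add_sub_cancel]
    -- a ^ 2 ^ (n - 1) is central
    have hpc : a ^ 2 ^ (n - 1) ∈ Subgroup.center X := by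
      rw [← QuotientGroup.eq_one_iff, QuotientGroup.mk_pow, ← hab]
      exact pow_orderOf_eq_one _
    have hsqc : ∀ w ∈ Subgroup.center X, w ^ 2 = 1 := by
      intro w hw
      have h1 : orderOf (⟨w, hw⟩ : Subgroup.center X) ∣ 2 := hZ ▸ orderOf_dvd_natCard _
      rw [Subgroup.orderOf_mk] at h1
      exact orderOf_dvd_iff_pow_eq_one.1 h1
    by_cases h1 : a ^ 2 ^ (n - 1) = 1
    swap
    · refine ⟨a, ?_⟩
      have h2 : a ^ 2 ^ (n - 1 + 1) = 1 := by
        rw [pow_succ, pow_mul]
        exact hsqc _ hpc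
      have := orderOf_eq_prime_pow h1 h2
      rw [this]
      congr 1
      omega
    exfalso
    -- now `a` has order `2 ^ (n - 1)`
    have hao : orderOf a = 2 ^ (n - 1) := by
      apply Nat.dvd_antisymm (orderOf_dvd_of_pow_eq_one h1)
      rw [← hab]
      exact orderOf_map_dvd (QuotientGroup.mk' (Subgroup.center X)) a
    -- the central involution
    have hZnt : Nontrivial (Subgroup.center X) := by
      rw [← Finite.one_lt_card_iff_nontrivial, hZ]; norm_num
    obtain ⟨⟨z, hzZ⟩, hz1'⟩ := exists_ne (1 : Subgroup.center X)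
    have hz1 : z ≠ 1 := fun h => hz1' (Subtype.ext h)
    have hzc : ∀ g : X, g * z = z * g := fun g => (Subgroup.mem_center_iff.1 hzZ) g
    have hz2 : z ^ 2 = 1 := hsqc z hzZ
    have hZlist : ∀ w ∈ Subgroup.center X, w = 1 ∨ w = z :=
      fun w hw => eq_one_or_eq_of_card_two hZ hzZ hz1 hw
    have hza : z ∉ Subgroup.zpowers a := by
      intro h
      obtain ⟨i, hi⟩ := Subgroup.mem_zpowers_iff.1 h
      have h2 : ((a : X ⧸ Subgroup.center X)) ^ i = 1 := by
        rw [← QuotientGroup.mk_zpow, hi]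
        exact (QuotientGroup.eq_one_iff z).2 hzZ
      have h3 : (orderOf a : ℤ) ∣ i := by
        rw [hao, ← hab]
        exact orderOf_dvd_iff_zpow_eq_one.2 h2
      have h4 : a ^ i = 1 := orderOf_dvd_iff_zpow_eq_one.1 h3
      exact hz1 (hi.symm.trans h4)
    -- the subgroup C
    set C : Subgroup X := (Subgroup.zpowers (a : X ⧸ Subgroup.center X)).comap
      (QuotientGroup.mk' (Subgroup.center X)) with hCdef
    have hCidx : C.index = 2 := by
      rw [hCdef, Subgroup.index_comap_of_surjective _ (QuotientGroup.mk'_surjective _)]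
      have h2 := Subgroup.card_mul_index (Subgroup.zpowers (a : X ⧸ Subgroup.center X))
      rw [Nat.card_zpowers, hab, hQ] at h2
      have h3 : 2 ^ n = 2 ^ (n - 1) * 2 := by rw [← pow_succ]; congr 1; omega
      rw [h3] at h2
      exact Nat.eq_of_mul_eq_mul_left (pow_pos two_pos _) h2
    have haC : a ∈ C := by
      rw [hCdef, Subgroup.mem_comap]
      exact Subgroup.mem_zpowers _
    have hClist : ∀ g ∈ C, ∃ i : ℕ, g = a ^ i ∨ g = a ^ i * z := by
      intro g hg
      rw [hCdef, Subgroup.mem_comap] at hg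
      obtain ⟨i, -, hi⟩ := mem_zpowers_exists_nat (by positivity) hab hg
      refine ⟨i, ?_⟩
      have h2 : (a ^ i)⁻¹ * g ∈ Subgroup.center X := by
        rw [← QuotientGroup.eq_one_iff, QuotientGroup.mk_mul, QuotientGroup.mk_inv,
          QuotientGroup.mk_pow]
        rw [QuotientGroup.mk'_apply] at hi
        rw [hi, inv_mul_cancel]
      rcases hZlist _ h2 with h3 | h3
      · left
        rw [inv_mul_eq_one] at h3
        exact h3.symm
      · right
        rw [← h3, mul_inv_cancel_left]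
    obtain ⟨t, ht⟩ : ∃ t : X, t ∉ C := by
      by_contra h
      push Not at h
      have : C = ⊤ := (Subgroup.eq_top_iff' C).2 h
      rw [this, Subgroup.index_top] at hCidx
      norm_num at hCidx
    have hCn : C.Normal := Subgroup.normal_of_index_eq_two hCidx
    have hconj : t⁻¹ * a * t ∈ C := by
      have := hCn.conj_mem a haC t⁻¹
      rwa [inv_inv] at this
    -- the involution a₀
    have hn2 : n - 1 = (n - 2) + 1 := by omega
    have ha0sq : (a ^ 2 ^ (n - 2)) ^ 2 = 1 := by
      rw [← pow_mul, ← pow_succ, ← hn2]; exact h1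
    have ha0ne : a ^ 2 ^ (n - 2) ≠ 1 := by
      intro h
      have := orderOf_dvd_of_pow_eq_one h
      rw [hao, hn2, pow_succ] at this
      have h3 := Nat.le_of_dvd (pow_pos two_pos _) this
      have : 0 < 2 ^ (n - 2) := pow_pos two_pos _
      omega
    have hev : Even (2 ^ (n - 2)) := (Nat.even_pow' (by omega)).2 even_two
    -- conjugate of a₀
    have hconj0 : ∃ i : ℕ, t⁻¹ * a ^ 2 ^ (n - 2) * t = (a ^ 2 ^ (n - 2)) ^ i := by
      obtain ⟨i, hi⟩ := hClist _ hconj
      refine ⟨i, ?_⟩
      have e1 : t⁻¹ * a ^ 2 ^ (n - 2) * t = (t⁻¹ * a * t) ^ 2 ^ (n - 2) := by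
        have := conj_pow (a := t⁻¹) (b := a) (i := 2 ^ (n - 2))
        rw [inv_inv] at this
        exact this.symm
      rw [e1]
      rcases hi with hi | hi
      · rw [hi, ← pow_mul, ← pow_mul, mul_comm]
      · rw [hi]
        have hc : Commute (a ^ i) z := (hzc (a ^ i))
        rw [hc.mul_pow]
        obtain ⟨r, hr⟩ := hev
        have hzp : z ^ 2 ^ (n - 2) = 1 := by
          rw [hr, ← two_mul, pow_mul, hz2, one_pow]
        rw [hzp, mul_one, ← pow_mul, ← pow_mul, mul_comm]
    obtain ⟨i, hi⟩ := hconj0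
    rcases Nat.even_or_odd i with hie | hio
    · obtain ⟨r, hr⟩ := hie
      have : (a ^ 2 ^ (n - 2)) ^ i = 1 := by
        rw [hr, ← two_mul, pow_mul, ha0sq, one_pow]
      rw [this] at hi
      apply ha0ne
      have h5 : a ^ 2 ^ (n - 2) = t * (t⁻¹ * a ^ 2 ^ (n - 2) * t) * t⁻¹ := by group
      rw [h5, hi]
      group
    · obtain ⟨r, hr⟩ := hio
      have : (a ^ 2 ^ (n - 2)) ^ i = a ^ 2 ^ (n - 2) := by
        rw [hr, pow_succ, pow_mul, ha0sq, one_pow, one_mul]
      rw [this] at hi
      have hta0 : a ^ 2 ^ (n - 2) * t = t * a ^ 2 ^ (n - 2) := by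
        calc a ^ 2 ^ (n - 2) * t = t * (t⁻¹ * a ^ 2 ^ (n - 2) * t) := by group
          _ = t * a ^ 2 ^ (n - 2) := by rw [hi]
      have hCcomm : ∀ g ∈ C, g * a ^ 2 ^ (n - 2) = a ^ 2 ^ (n - 2) * g := by
        intro g hg
        obtain ⟨j, hj | hj⟩ := hClist g hg
        · rw [hj, ← pow_add, ← pow_add, add_comm]
        · rw [hj, mul_assoc, ← hzc, ← mul_assoc, ← pow_add, ← mul_assoc, ← pow_add, add_comm]
      have hcen : a ^ 2 ^ (n - 2) ∈ Subgroup.center X := by
        rw [Subgroup.mem_center_iff]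
        intro g
        rcases mem_or_inv_mul_mem_of_index_two hCidx ht g with hg | hg
        · exact hCcomm g hg
        · have h6 := hCcomm _ hg
          calc g * a ^ 2 ^ (n - 2) = t * ((t⁻¹ * g) * a ^ 2 ^ (n - 2)) := by group
            _ = t * (a ^ 2 ^ (n - 2) * (t⁻¹ * g)) := by rw [h6]
            _ = (t * a ^ 2 ^ (n - 2)) * (t⁻¹ * g) := by group
            _ = (a ^ 2 ^ (n - 2) * t) * (t⁻¹ * g) := by rw [hta0]
            _ = a ^ 2 ^ (n - 2) * g := by group
      rcases hZlist _ hcen with h7 | h7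
      · exact ha0ne h7
      · apply hza
        rw [← h7]
        exact Subgroup.pow_mem _ (Subgroup.mem_zpowers a) _

end Cfsg.Agent.Helper16
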