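import Mathlib
import Cfsg.Agent.Lib.Helper16.CyclicTwo
import Cfsg.Agent.Lib.Helper16.MaxClass
import Cfsg.Agent.Lib.Helper16.MaxClassTwo
import Cfsg.Agent.Lib.Helper16.NilClassBound
import Cfsg.Agent.Lib.Lead.DihedralRecog

/-!
# Dihedral, semidihedral and generalized quaternion presentations (helper16's library)

`IsDSQ k a x`: the group has order `2 ^ (k + 1)`, `a` has order `2 ^ k`, `x ∉ ⟨a⟩`,
`x a x⁻¹ = a⁻¹` or `a⁻¹ z` (the latter only for `k ≥ 3`), `x ^ 2 ∈ {1, z}` where `z = a ^ 2 ^ (k - 1)`.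
-/

set_option autoImplicit false

namespace Cfsg.Agent.Helper16

universe u

structure IsDSQ {X : Type*} [Group X] (k : ℕ) (a x : X) : Prop where
  hk : 2 ≤ k
  card : Nat.card X = 2 ^ (k + 1)
  hao : orderOf a = 2 ^ k
  hxa : x ∉ Subgroup.zpowers a
  hconj : x * a * x⁻¹ = a⁻¹ ∨ (3 ≤ k ∧ x * a * x⁻¹ = a⁻¹ * a ^ 2 ^ (k - 1))
  hx2 : x ^ 2 = 1 ∨ x ^ 2 = a ^ 2 ^ (k - 1)

namespace IsDSQ

variable {X : Type*} [Group X] {k : ℕ} {a x : X}

theorem finite (h : IsDSQ k a x) : Finite X :=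
  Nat.finite_of_card_ne_zero (by rw [h.card]; positivity)

theorem index (h : IsDSQ k a x) : (Subgroup.zpowers a).index = 2 := by
  have h1 := Subgroup.card_mul_index (Subgroup.zpowers a)
  rw [Nat.card_zpowers, h.hao, h.card, pow_succ] at h1
  exact Nat.eq_of_mul_eq_mul_left (pow_pos two_pos _) h1

theorem gen (h : IsDSQ k a x) (g : X) : ∃ i : ℕ, g = a ^ i ∨ g = x * a ^ i := by
  rcases mem_or_inv_mul_mem_of_index_two h.index h.hxa g with hg | hg
  · obtain ⟨i, -, hi⟩ := mem_zpowers_exists_nat (by positivity) h.hao hg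
    exact ⟨i, Or.inl hi⟩
  · obtain ⟨i, -, hi⟩ := mem_zpowers_exists_nat (by positivity) h.hao hg
    refine ⟨i, Or.inr ?_⟩
    rw [← hi, mul_inv_cancel_left]

theorem z_sq (h : IsDSQ k a x) : (a ^ 2 ^ (k - 1)) ^ 2 = 1 :=
  pow_half_sq (by have := h.hk; omega) h.hao

theorem z_ne (h : IsDSQ k a x) : a ^ 2 ^ (k - 1) ≠ 1 :=
  pow_half_ne_one (by have := h.hk; omega) h.hao

theorem z_inv (h : IsDSQ k a x) : (a ^ 2 ^ (k - 1))⁻¹ = a ^ 2 ^ (k - 1) := by
  rw [inv_eq_iff_mul_eq_one, ← pow_two]; exact h.z_sq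

theorem orderOf_z (h : IsDSQ k a x) : orderOf (a ^ 2 ^ (k - 1)) = 2 :=
  orderOf_eq_prime h.z_sq h.z_ne

theorem exists_eps (h : IsDSQ k a x) :
    ∃ ε : ℕ, (ε = 0 ∨ (ε = 1 ∧ 3 ≤ k)) ∧ x * a * x⁻¹ = a⁻¹ * (a ^ 2 ^ (k - 1)) ^ ε := by
  rcases h.hconj with h1 | ⟨h3, h1⟩
  · exact ⟨0, Or.inl rfl, by rw [pow_zero, mul_one]; exact h1⟩
  · exact ⟨1, Or.inr ⟨rfl, h3⟩, by rw [pow_one]; exact h1⟩

theorem even_half (h : IsDSQ k a x) : Even (2 ^ (k - 1)) :=
  (Nat.even_pow' (by have := h.hk; omega)).2 even_two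

theorem conj_pow' (_h : IsDSQ k a x) {ε : ℕ}
    (he : x * a * x⁻¹ = a⁻¹ * (a ^ 2 ^ (k - 1)) ^ ε) (i : ℕ) :
    x * a ^ i * x⁻¹ = (a ^ i)⁻¹ * (a ^ 2 ^ (k - 1)) ^ (ε * i) := by
  rw [conj_pow_eq he i]
  have hc : Commute a⁻¹ ((a ^ 2 ^ (k - 1)) ^ ε) := by
    apply Commute.inv_left
    exact (Commute.pow_right (Commute.refl a) _).pow_right _
  rw [hc.mul_pow, inv_pow, ← pow_mul]

theorem z_comm_x (h : IsDSQ k a x) : x * a ^ 2 ^ (k - 1) = a ^ 2 ^ (k - 1) * x := by
  obtain ⟨ε, -, he⟩ := h.exists_eps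
  have h1 := h.conj_pow' he (2 ^ (k - 1))
  have h2 : (a ^ 2 ^ (k - 1)) ^ (ε * 2 ^ (k - 1)) = 1 :=
    sq_eq_one_pow_even h.z_sq (h.even_half.mul_left ε)
  rw [h2, mul_one, h.z_inv] at h1
  calc x * a ^ 2 ^ (k - 1) = (x * a ^ 2 ^ (k - 1) * x⁻¹) * x := by group
    _ = a ^ 2 ^ (k - 1) * x := by rw [h1]

theorem z_mem_center (h : IsDSQ k a x) : a ^ 2 ^ (k - 1) ∈ Subgroup.center X := by
  rw [Subgroup.mem_center_iff]
  intro g
  obtain ⟨i, hi | hi⟩ := h.gen g
  · rw [hi, ← pow_add, ← pow_add, add_comm]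
  · rw [hi, mul_assoc, ← pow_add, add_comm, pow_add, ← mul_assoc, h.z_comm_x, mul_assoc]

/-- `x` does not commute with `a`. -/
theorem not_comm (h : IsDSQ k a x) : x * a * x⁻¹ ≠ a := by
  intro hc
  obtain ⟨ε, hε, he⟩ := h.exists_eps
  rw [hc] at he
  have hk := h.hk
  rcases hε with rfl | ⟨rfl, h3⟩
  · rw [pow_zero, mul_one] at he
    have h1 : a ^ 2 = 1 := by
      rw [pow_two]
      calc a * a = a⁻¹ * a := by rw [← he]
        _ = 1 := inv_mul_cancel a
    have h2 := orderOf_dvd_of_pow_eq_one h1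
    rw [h.hao] at h2
    have h3 : 2 ^ 2 ≤ 2 ^ k := Nat.pow_le_pow_right (by norm_num) hk
    have := Nat.le_of_dvd (by norm_num) h2
    omega
  · rw [pow_one] at he
    have h1 : a ^ 2 = a ^ 2 ^ (k - 1) := by
      rw [pow_two]
      calc a * a = a * (a⁻¹ * a ^ 2 ^ (k - 1)) := by rw [← he]
        _ = a ^ 2 ^ (k - 1) := by group
    have h2 : a ^ 4 = 1 := by
      have : a ^ 4 = (a ^ 2) ^ 2 := by rw [← pow_mul]
      rw [this, h1, h.z_sq]
    have h4 := orderOf_dvd_of_pow_eq_one h2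
    rw [h.hao] at h4
    have h5 : 2 ^ 3 ≤ 2 ^ k := Nat.pow_le_pow_right (by norm_num) h3
    have := Nat.le_of_dvd (by norm_num) h4
    omega

theorem mem_center (h : IsDSQ k a x) {g : X} (hg : g ∈ Subgroup.center X) :
    g = 1 ∨ g = a ^ 2 ^ (k - 1) := by
  have hk := h.hk
  rw [Subgroup.mem_center_iff] at hg
  obtain ⟨i, hi | hi⟩ := h.gen g
  · -- g = a ^ i commutes with x
    obtain ⟨ε, hε, he⟩ := h.exists_eps
    have h1 := h.conj_pow' he i
    have h2 : x * a ^ i * x⁻¹ = a ^ i := by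
      have := hg x
      rw [hi] at this
      rw [this, mul_inv_cancel_right]
    rw [h2] at h1
    have h3 : a ^ (2 * i) = (a ^ 2 ^ (k - 1)) ^ (ε * i) := by
      rw [two_mul, pow_add]
      calc a ^ i * a ^ i = a ^ i * ((a ^ i)⁻¹ * (a ^ 2 ^ (k - 1)) ^ (ε * i)) := by rw [← h1]
        _ = (a ^ 2 ^ (k - 1)) ^ (ε * i) := by group
    rw [hi]
    rcases sq_eq_one_pow h.z_sq (ε * i) with h4 | h4
    · rw [h4] at h3
      exact pow_eq_one_or_half (by omega) h.hao h3
    · exfalso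
      rcases hε with rfl | ⟨rfl, hk3⟩
      · rw [zero_mul, pow_zero] at h4
        exact h.z_ne h4.symm
      · rw [one_mul] at h4 h3
        rw [h4] at h3
        have h5 : a ^ (4 * i) = 1 := by
          have : 4 * i = (2 * i) * 2 := by ring
          rw [this, pow_mul, h3, h.z_sq]
        have h6 := orderOf_dvd_of_pow_eq_one h5
        rw [h.hao] at h6
        have h7 : Even i := by
          obtain ⟨k', rfl⟩ : ∃ k', k = k' + 3 := ⟨k - 3, by omega⟩
          have h8 : 2 ^ (k' + 3) = 4 * (2 * 2 ^ k') := by ring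
          rw [h8] at h6
          have h9 : 2 * 2 ^ k' ∣ i := Nat.dvd_of_mul_dvd_mul_left (by norm_num) h6
          exact even_iff_two_dvd.2 (Dvd.dvd.trans ⟨2 ^ k', rfl⟩ h9)
        have := sq_eq_one_pow_even h.z_sq h7
        rw [this] at h4
        exact h.z_ne h4.symm
  · -- g = x a^i commutes with a
    exfalso
    apply h.not_comm
    have h1 := hg a
    rw [hi] at h1
    have h2 : a * x = x * a := by
      have h3 : a * x * a ^ i = x * a * a ^ i := by
        calc a * x * a ^ i = a * (x * a ^ i) := by group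
          _ = x * a ^ i * a := h1
          _ = x * a * a ^ i := by
            rw [mul_assoc, mul_assoc, ← pow_succ, ← pow_succ']
      exact mul_right_cancel h3
    rw [← h2, mul_inv_cancel_right]

theorem center_eq (h : IsDSQ k a x) :
    Subgroup.center X = Subgroup.zpowers (a ^ 2 ^ (k - 1)) := by
  apply le_antisymm
  · intro g hg
    rw [mem_zpowers_of_orderOf_two h.orderOf_z]
    exact h.mem_center hg
  · rw [Subgroup.zpowers_le]
    exact h.z_mem_center

theorem card_center (h : IsDSQ k a x) : Nat.card (Subgroup.center X) = 2 := by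
  rw [h.center_eq, Nat.card_zpowers, h.orderOf_z]

/-- The images of `a`, `x` in the central quotient form a dihedral presentation. -/
theorem quotient_facts (h : IsDSQ k a x) :
    orderOf (a : X ⧸ Subgroup.center X) = 2 ^ (k - 1) ∧
      (x : X ⧸ Subgroup.center X) * (x : X ⧸ Subgroup.center X) = 1 ∧
      (x : X ⧸ Subgroup.center X) * (a : X ⧸ Subgroup.center X) * (x : X ⧸ Subgroup.center X)⁻¹
        = (a : X ⧸ Subgroup.center X)⁻¹ ∧
      (x : X ⧸ Subgroup.center X) ∉ Subgroup.zpowers (a : X ⧸ Subgroup.center X) ∧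
      Nat.card (X ⧸ Subgroup.center X) = 2 ^ k := by
  have hk := h.hk
  haveI := h.finite
  have hzc := h.z_mem_center
  have hz1 : ((a ^ 2 ^ (k - 1) : X) : X ⧸ Subgroup.center X) = 1 :=
    (QuotientGroup.eq_one_iff _).2 hzc
  refine ⟨?_, ?_, ?_, ?_, ?_⟩
  · have hk1 : k - 1 = (k - 2) + 1 := by omega
    rw [hk1]
    apply orderOf_eq_prime_pow
    · intro h1
      rw [← QuotientGroup.mk_pow, QuotientGroup.eq_one_iff] at h1
      have hsq : (a ^ 2 ^ (k - 2)) ^ 2 = a ^ 2 ^ (k - 1) := by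
        rw [← pow_mul, ← pow_succ, ← hk1]
      rcases h.mem_center h1 with h2 | h2
      · rw [h2, one_pow] at hsq
        exact h.z_ne hsq.symm
      · rw [h2, h.z_sq] at hsq
        exact h.z_ne hsq.symm
    · rw [← hk1, ← QuotientGroup.mk_pow]
      exact hz1
  · rw [← QuotientGroup.mk_mul, QuotientGroup.eq_one_iff, ← pow_two]
    rcases h.hx2 with h1 | h1
    · rw [h1]; exact Subgroup.one_mem _
    · rw [h1]; exact hzc
  · obtain ⟨ε, -, he⟩ := h.exists_eps
    rw [← QuotientGroup.mk_inv, ← QuotientGroup.mk_mul, ← QuotientGroup.mk_mul, he,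
      QuotientGroup.mk_mul, QuotientGroup.mk_pow, hz1, one_pow, mul_one, QuotientGroup.mk_inv]
  · intro hmem
    have hao' : orderOf (a : X ⧸ Subgroup.center X) ≠ 0 := by
      intro h0
      exact (orderOf_pos (a : X ⧸ Subgroup.center X)).ne' h0
    obtain ⟨i, -, hi⟩ := mem_zpowers_exists_nat (Nat.pos_of_ne_zero hao') rfl hmem
    rw [← QuotientGroup.mk_pow, eq_comm, QuotientGroup.eq] at hi
    apply h.hxa
    rcases h.mem_center hi with h1 | h1
    · rw [inv_mul_eq_one] at h1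
      rw [← h1]
      exact Subgroup.pow_mem _ (Subgroup.mem_zpowers a) _
    · have : x = a ^ i * a ^ 2 ^ (k - 1) := by rw [← h1, mul_inv_cancel_left]
      rw [this]
      exact Subgroup.mul_mem _ (Subgroup.pow_mem _ (Subgroup.mem_zpowers a) _)
        (Subgroup.pow_mem _ (Subgroup.mem_zpowers a) _)
  · have h1 := Subgroup.card_eq_card_quotient_mul_card_subgroup (Subgroup.center X)
    rw [h.card, h.card_center, pow_succ] at h1
    exact (Nat.eq_of_mul_eq_mul_right two_pos h1).symm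

theorem quotient_center_dihedral (h : IsDSQ k a x) :
    Nonempty (X ⧸ Subgroup.center X ≃* DihedralGroup (2 ^ (k - 1))) := by
  have hk := h.hk
  obtain ⟨h1, h2, h3, h4, h5⟩ := h.quotient_facts
  haveI : NeZero (2 ^ (k - 1)) := ⟨by positivity⟩
  apply Cfsg.Agent.Lead.nonempty_mulEquiv_dihedral (2 ^ (k - 1)) (a : X ⧸ Subgroup.center X)
    (x : X ⧸ Subgroup.center X) h1 h2 _ h4
  · rw [h5, ← pow_succ']
    congr 1
    omega
  · have hinv : (x : X ⧸ Subgroup.center X)⁻¹ = (x : X ⧸ Subgroup.center X) :=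
      inv_eq_of_mul_eq_one_right h2
    rw [hinv] at h3
    exact h3

theorem quotient_isDSQ (h : IsDSQ (k + 1) a x) (hk : 2 ≤ k) :
    IsDSQ k (a : X ⧸ Subgroup.center X) (x : X ⧸ Subgroup.center X) := by
  obtain ⟨h1, h2, h3, h4, h5⟩ := h.quotient_facts
  rw [Nat.add_sub_cancel] at h1
  exact
    { hk := hk
      card := h5
      hao := h1
      hxa := h4
      hconj := Or.inl h3
      hx2 := Or.inl (by rw [pow_two]; exact h2) }

theorem not_isMulCommutative (h : IsDSQ k a x) : ¬ IsMulCommutative X := by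
  intro hc
  apply h.not_comm
  rw [hc.is_comm.comm x a, mul_inv_cancel_right]

/-- The nilpotency class of a dihedral, semidihedral or quaternion group. -/
theorem nilpotencyClass_eq : ∀ (k : ℕ), 2 ≤ k → ∀ (X : Type u) [Group X] (a x : X),
    IsDSQ k a x → Group.nilpotencyClass X = k := by
  intro k hk
  induction k, hk using Nat.le_induction with
  | base =>
    intro X _ a x h
    haveI := h.finite
    have hF : Fact (Nat.Prime 2) := ⟨Nat.prime_two⟩
    have hXp : IsPGroup 2 X := IsPGroup.of_card h.card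
    haveI : Group.IsNilpotent X := hXp.isNilpotent
    have h1 := nilpotencyClass_le_of_card_pow (p := 2) 3 X h.card
    have h2 : ¬ Group.nilpotencyClass X ≤ 1 := by
      rw [Group.IsNilpotent.nilpotencyClass_le_one_iff]
      exact h.not_isMulCommutative
    have h3 : max (3 - 1) 1 = 2 := by norm_num
    rw [h3] at h1
    omega
  | succ k hk ih =>
    intro X _ a x h
    have h1 := ih (X ⧸ Subgroup.center X) _ _ (h.quotient_isDSQ hk)
    rw [Group.nilpotencyClass_quotient_center] at h1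
    omega

end IsDSQ

end Cfsg.Agent.Helper16
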