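import Mathlib
import Cfsg.Agent.Lib.Helper16.DSQ

/-!
# Recognizing dihedral / semidihedral / quaternion presentations (helper16's library)
-/

set_option autoImplicit false

namespace Cfsg.Agent.Helper16

universe u

/-- Elements of a group with a cyclic subgroup `⟨a⟩` of index two. -/
theorem gen_of_index_two {X : Type*} [Group X] {a x : X} (hidx : (Subgroup.zpowers a).index = 2)
    (hxa : x ∉ Subgroup.zpowers a) (hao : 0 < orderOf a) (g : X) :
    ∃ i : ℕ, g = a ^ i ∨ g = x * a ^ i := by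
  rcases mem_or_inv_mul_mem_of_index_two hidx hxa g with hg | hg
  · obtain ⟨i, -, hi⟩ := mem_zpowers_exists_nat hao rfl hg
    exact ⟨i, Or.inl hi⟩
  · obtain ⟨i, -, hi⟩ := mem_zpowers_exists_nat hao rfl hg
    refine ⟨i, Or.inr ?_⟩
    rw [← hi, mul_inv_cancel_left]

/-- A group generated (in the strong sense) by two commuting elements is commutative. -/
theorem comm_of_gen_comm {Q : Type*} [Group Q] (α ξ : Q)
    (hgen : ∀ q : Q, ∃ i : ℕ, q = α ^ i ∨ q = ξ * α ^ i) (hc : ξ * α = α * ξ) (p q : Q) :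
    p * q = q * p := by
  have hcom : Commute ξ α := hc
  have hα : ∀ q : Q, Commute α q := by
    intro q
    obtain ⟨i, hi | hi⟩ := hgen q
    · rw [hi]; exact (Commute.refl α).pow_right i
    · rw [hi]; exact hcom.symm.mul_right ((Commute.refl α).pow_right i)
  have hξ : ∀ q : Q, Commute ξ q := by
    intro q
    obtain ⟨i, hi | hi⟩ := hgen q
    · rw [hi]; exact hcom.pow_right i
    · rw [hi]; exact (Commute.refl ξ).mul_right (hcom.pow_right i)
  obtain ⟨i, hi | hi⟩ := hgen p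
  · rw [hi]; exact ((hα q).pow_left i).eq
  · rw [hi]; exact ((hξ q).mul_left ((hα q).pow_left i)).eq

/-- The modular case: `x a x⁻¹ = a z` forces `X' ≤ ⟨z⟩ ≤ Z(X)`. -/
theorem modular_facts {X : Type*} [Group X] {a x : X} {k : ℕ} (hk : 2 ≤ k)
    (hao : orderOf a = 2 ^ k) (hidx : (Subgroup.zpowers a).index = 2)
    (hxa : x ∉ Subgroup.zpowers a) (hconj : x * a * x⁻¹ = a * a ^ 2 ^ (k - 1)) :
    a ^ 2 ^ (k - 1) ∈ Subgroup.center X ∧
      commutator X ≤ Subgroup.zpowers (a ^ 2 ^ (k - 1)) := by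
  have hz2 : (a ^ 2 ^ (k - 1)) ^ 2 = 1 := pow_half_sq (by omega) hao
  have hev : Even (2 ^ (k - 1)) := (Nat.even_pow' (by omega)).2 even_two
  have hgen := gen_of_index_two hidx hxa (by rw [hao]; positivity)
  have hzx : x * a ^ 2 ^ (k - 1) = a ^ 2 ^ (k - 1) * x := by
    have h1 := conj_pow_eq hconj (2 ^ (k - 1))
    have hc : Commute a (a ^ 2 ^ (k - 1)) := (Commute.refl a).pow_right _
    rw [hc.mul_pow, sq_eq_one_pow_even hz2 hev, mul_one] at h1
    calc x * a ^ 2 ^ (k - 1) = (x * a ^ 2 ^ (k - 1) * x⁻¹) * x := by group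
      _ = a ^ 2 ^ (k - 1) * x := by rw [h1]
  have hzc : a ^ 2 ^ (k - 1) ∈ Subgroup.center X := by
    rw [Subgroup.mem_center_iff]
    intro g
    obtain ⟨i, hi | hi⟩ := hgen g
    · rw [hi, ← pow_add, ← pow_add, add_comm]
    · rw [hi, mul_assoc, ← pow_add, add_comm, pow_add, ← mul_assoc, hzx, mul_assoc]
  refine ⟨hzc, ?_⟩
  haveI hN : (Subgroup.zpowers (a ^ 2 ^ (k - 1))).Normal :=
    normal_of_le_center (Subgroup.zpowers_le.2 hzc)
  rw [← Subgroup.Normal.quotient_commutative_iff_commutator_le]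
  refine ⟨⟨comm_of_gen_comm (a : X ⧸ Subgroup.zpowers (a ^ 2 ^ (k - 1)))
    (x : X ⧸ Subgroup.zpowers (a ^ 2 ^ (k - 1))) ?_ ?_⟩⟩
  · intro q
    obtain ⟨g, rfl⟩ := QuotientGroup.mk_surjective q
    obtain ⟨i, hi | hi⟩ := hgen g
    · exact ⟨i, Or.inl (by rw [hi, QuotientGroup.mk_pow])⟩
    · exact ⟨i, Or.inr (by rw [hi, QuotientGroup.mk_mul, QuotientGroup.mk_pow])⟩
  · have h1 : x * a = a * a ^ 2 ^ (k - 1) * x := by
      rw [← hconj]; group
    have : ((a ^ 2 ^ (k - 1) : X) : X ⧸ Subgroup.zpowers (a ^ 2 ^ (k - 1))) = 1 :=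
      (QuotientGroup.eq_one_iff _).2 (Subgroup.mem_zpowers _)
    calc (x : X ⧸ Subgroup.zpowers (a ^ 2 ^ (k - 1))) * (a : X ⧸ Subgroup.zpowers (a ^ 2 ^ (k - 1)))
        = ((x * a : X) : X ⧸ Subgroup.zpowers (a ^ 2 ^ (k - 1))) := rfl
      _ = ((a * a ^ 2 ^ (k - 1) * x : X) : X ⧸ Subgroup.zpowers (a ^ 2 ^ (k - 1))) := by rw [h1]
      _ = (a : X ⧸ Subgroup.zpowers (a ^ 2 ^ (k - 1))) *
          ((a ^ 2 ^ (k - 1) : X) : X ⧸ Subgroup.zpowers (a ^ 2 ^ (k - 1))) *
          (x : X ⧸ Subgroup.zpowers (a ^ 2 ^ (k - 1))) := rfl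
      _ = (a : X ⧸ Subgroup.zpowers (a ^ 2 ^ (k - 1))) *
          (x : X ⧸ Subgroup.zpowers (a ^ 2 ^ (k - 1))) := by rw [this, mul_one]

/-- A group with a cyclic subgroup `⟨a⟩` of index two, `a` of order `2 ^ k`, is commutative,
"modular", or has a dihedral / semidihedral / quaternion presentation. -/
theorem isDSQ_or {X : Type*} [Group X] [Finite X] {a : X} {k : ℕ} (hk : 2 ≤ k)
    (hcard : Nat.card X = 2 ^ (k + 1)) (hao : orderOf a = 2 ^ k) :
    IsMulCommutative X ∨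
      (3 ≤ k ∧ a ^ 2 ^ (k - 1) ∈ Subgroup.center X ∧
        commutator X ≤ Subgroup.zpowers (a ^ 2 ^ (k - 1))) ∨
      ∃ x : X, IsDSQ k a x := by
  have hidx : (Subgroup.zpowers a).index = 2 := by
    have h1 := Subgroup.card_mul_index (Subgroup.zpowers a)
    rw [Nat.card_zpowers, hao, hcard, pow_succ] at h1
    exact Nat.eq_of_mul_eq_mul_left (pow_pos two_pos _) h1
  obtain ⟨x, hxa⟩ : ∃ x : X, x ∉ Subgroup.zpowers a := by
    by_contra h
    push Not at h
    have : Subgroup.zpowers a = ⊤ := (Subgroup.eq_top_iff' _).2 h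
    rw [this, Subgroup.index_top] at hidx
    norm_num at hidx
  have hN : (Subgroup.zpowers a).Normal := Subgroup.normal_of_index_eq_two hidx
  have hconj : x * a * x⁻¹ ∈ Subgroup.zpowers a := hN.conj_mem a (Subgroup.mem_zpowers a) x
  have hx2 : x ^ 2 ∈ Subgroup.zpowers a := Subgroup.sq_mem_of_index_two hidx x
  rcases cyclic_index_two_cases hk hao hconj hx2 with h1 | ⟨h1, h2⟩ | ⟨h3, h1, h2⟩ | ⟨h3, h1, -⟩
  · left
    have hgen := gen_of_index_two hidx hxa (by rw [hao]; positivity)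
    refine ⟨⟨comm_of_gen_comm a x hgen ?_⟩⟩
    calc x * a = (x * a * x⁻¹) * x := by group
      _ = a * x := by rw [h1]
  · right; right
    exact ⟨x, ⟨hk, hcard, hao, hxa, Or.inl h1, h2⟩⟩
  · right; right
    exact ⟨x, ⟨hk, hcard, hao, hxa, Or.inr ⟨h3, h1⟩, h2⟩⟩
  · right; left
    exact ⟨h3, modular_facts hk hao hidx hxa h1⟩

/-- A `2`-group of maximal class has a dihedral / semidihedral / quaternion presentation. -/
theorem exists_isDSQ_of_maximal_class (n : ℕ) (hn : 3 ≤ n) (X : Type u) [Group X] [Finite X]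
    (hX : Nat.card X = 2 ^ n) (hc : Group.nilpotencyClass X = n - 1) :
    ∃ a x : X, IsDSQ (n - 1) a x := by
  have hF : Fact (Nat.Prime 2) := ⟨Nat.prime_two⟩
  have hXp : IsPGroup 2 X := IsPGroup.of_card hX
  haveI : Group.IsNilpotent X := hXp.isNilpotent
  obtain ⟨a, ha⟩ := exists_orderOf_of_maximal_class n hn X hX hc
  have hcard : Nat.card X = 2 ^ (n - 1 + 1) := by rw [hX]; congr 1; omega
  rcases isDSQ_or (k := n - 1) (by omega) hcard ha with h1 | ⟨h3, hzc, hcomm⟩ | ⟨x, hx⟩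
  · exfalso
    have := Group.IsNilpotent.nilpotencyClass_le_one_iff.2 h1
    omega
  · exfalso
    -- class at most 2
    haveI hN : (Subgroup.zpowers (a ^ 2 ^ (n - 1 - 1))).Normal :=
      normal_of_le_center (Subgroup.zpowers_le.2 hzc)
    have hQc : IsMulCommutative (X ⧸ Subgroup.zpowers (a ^ 2 ^ (n - 1 - 1))) :=
      Subgroup.Normal.quotient_commutative_iff_commutator_le.2 hcomm
    have h1 : Group.nilpotencyClass (X ⧸ Subgroup.zpowers (a ^ 2 ^ (n - 1 - 1))) ≤ 1 :=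
      Group.IsNilpotent.nilpotencyClass_le_one_iff.2 hQc
    have h2 := Group.nilpotencyClass_le_of_ker_le_center
      (QuotientGroup.mk' (Subgroup.zpowers (a ^ 2 ^ (n - 1 - 1))))
      (by rw [QuotientGroup.ker_mk']; exact Subgroup.zpowers_le.2 hzc)
    omega
  · exact ⟨a, x, hx⟩

end Cfsg.Agent.Helper16
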