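import Mathlib
import Cfsg.Agent.Lib.Helper16.QuatRecog
import Cfsg.Agent.Lib.Helper16.DSQRecog
import Cfsg.Agent.Lib.Helper16.CyclicTwo

/-!
# Odd-order automorphisms of the quaternion group of order eight (helper16's library)
-/

set_option autoImplicit false

namespace Cfsg.Agent.Helper16

namespace Q8

open QuaternionGroup

/-- `w` lies outside the cyclic subgroup generated by the element `d` of order four. -/
def out {X : Type*} [Group X] (d w : X) : Prop := w ≠ 1 ∧ w ≠ d ∧ w ≠ d ^ 2 ∧ w ≠ d ^ 3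

instance (d w : QuaternionGroup 2) : Decidable (out d w) := by
  unfold out; infer_instance

theorem F1 : ∀ d w : QuaternionGroup 2, d ^ 2 ≠ 1 → out d w →
    w ^ 2 = d ^ 2 ∧ w * d * w⁻¹ = d⁻¹ := by decide

theorem F2 : ∀ d v w : QuaternionGroup 2, d ^ 2 ≠ 1 → out d v → out d w → out v w →
    w = d * v ∨ w = (d * v)⁻¹ := by decide

theorem F3 : ∀ d v : QuaternionGroup 2, d ^ 2 ≠ 1 → out d v → d⁻¹ * v⁻¹ = d * v := by decide

theorem F4 : ∀ p : QuaternionGroup 2, p ^ 4 = 1 := by decide

theorem F5 : ∀ d v w t : QuaternionGroup 2, d ^ 2 ≠ 1 → out d v → out d w → out v w →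
    out d t → out w t → t = v ∨ t = v ^ 3 := by decide

theorem F6 : ∀ p d : QuaternionGroup 2, d ^ 2 ≠ 1 → p ^ 2 = 1 → p = 1 ∨ p = d ^ 2 := by decide

section transport

variable {X : Type*} [Group X]

theorem out_map (e : X ≃* QuaternionGroup 2) (d w : X) : out (e d) (e w) ↔ out d w := by
  unfold out
  rw [← map_pow, ← map_pow, ← map_one e]
  simp only [ne_eq, EmbeddingLike.apply_eq_iff_eq]

theorem mem_zpowers_iff_of_orderOf_four {d w : X} (hd : orderOf d = 4) :
    w ∈ Subgroup.zpowers d ↔ w = 1 ∨ w = d ∨ w = d ^ 2 ∨ w = d ^ 3 := by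
  constructor
  · intro h
    obtain ⟨s, hs, rfl⟩ := mem_zpowers_exists_nat (by norm_num) hd h
    interval_cases s
    · left; exact pow_zero d
    · right; left; exact pow_one d
    · right; right; left; rfl
    · right; right; right; rfl
  · rintro (h | h | h | h) <;> rw [h]
    · exact Subgroup.one_mem _
    · exact Subgroup.mem_zpowers d
    · exact Subgroup.pow_mem _ (Subgroup.mem_zpowers d) _
    · exact Subgroup.pow_mem _ (Subgroup.mem_zpowers d) _

theorem out_iff_notMem {d w : X} (hd : orderOf d = 4) : out d w ↔ w ∉ Subgroup.zpowers d := by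
  rw [mem_zpowers_iff_of_orderOf_four hd]
  unfold out
  tauto

theorem sq_ne_one_of_orderOf_four {d : X} (hd : orderOf d = 4) : d ^ 2 ≠ 1 := by
  intro h
  have := orderOf_dvd_of_pow_eq_one h
  rw [hd] at this
  norm_num at this

theorem orderOf_four_of_sq_ne_one (e : X ≃* QuaternionGroup 2) {d : X} (hd : d ^ 2 ≠ 1) :
    orderOf d = 4 := by
  have h4 : d ^ 4 = 1 := by
    apply e.injective
    rw [map_pow, map_one]
    exact F4 _
  have := orderOf_eq_prime_pow (p := 2) (n := 1) (x := d) (by simpa using hd) (by simpa using h4)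
  simpa using this

theorem sq_ne_one_map (e : X ≃* QuaternionGroup 2) {d : X} (hd : d ^ 2 ≠ 1) : (e d) ^ 2 ≠ 1 := by
  rw [← map_pow, ← map_one e]
  exact fun h => hd (e.injective h)

theorem G1 (e : X ≃* QuaternionGroup 2) {d w : X} (hd : d ^ 2 ≠ 1) (hw : out d w) :
    w ^ 2 = d ^ 2 ∧ w * d * w⁻¹ = d⁻¹ := by
  obtain ⟨h1, h2⟩ := F1 (e d) (e w) (sq_ne_one_map e hd) ((out_map e d w).2 hw)
  constructor
  · apply e.injective; rw [map_pow, map_pow]; exact h1
  · apply e.injective; rw [map_mul, map_mul, map_inv, map_inv]; exact h2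

theorem G2 (e : X ≃* QuaternionGroup 2) {d v w : X} (hd : d ^ 2 ≠ 1) (hv : out d v)
    (hw : out d w) (hvw : out v w) : w = d * v ∨ w = (d * v)⁻¹ := by
  rcases F2 (e d) (e v) (e w) (sq_ne_one_map e hd) ((out_map e d v).2 hv) ((out_map e d w).2 hw)
    ((out_map e v w).2 hvw) with h | h
  · left; apply e.injective; rw [map_mul]; exact h
  · right; apply e.injective; rw [map_inv, map_mul]; exact h

theorem G3 (e : X ≃* QuaternionGroup 2) {d v : X} (hd : d ^ 2 ≠ 1) (hv : out d v) :
    d⁻¹ * v⁻¹ = d * v := by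
  apply e.injective
  rw [map_mul, map_mul, map_inv, map_inv]
  exact F3 (e d) (e v) (sq_ne_one_map e hd) ((out_map e d v).2 hv)

theorem G5 (e : X ≃* QuaternionGroup 2) {d v w t : X} (hd : d ^ 2 ≠ 1) (hv : out d v)
    (hw : out d w) (hvw : out v w) (ht : out d t) (hwt : out w t) : t = v ∨ t = v ^ 3 := by
  rcases F5 (e d) (e v) (e w) (e t) (sq_ne_one_map e hd) ((out_map e d v).2 hv)
    ((out_map e d w).2 hw) ((out_map e v w).2 hvw) ((out_map e d t).2 ht)
    ((out_map e w t).2 hwt) with h | h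
  · left; exact e.injective h
  · right; apply e.injective; rw [map_pow]; exact h

theorem G6 (e : X ≃* QuaternionGroup 2) {p d : X} (hd : d ^ 2 ≠ 1) (hp : p ^ 2 = 1) :
    p = 1 ∨ p = d ^ 2 := by
  rcases F6 (e p) (e d) (sq_ne_one_map e hd) (by rw [← map_pow, hp, map_one]) with h | h
  · left; apply e.injective; rw [map_one]; exact h
  · right; apply e.injective; rw [map_pow]; exact h

end transport

/-- Stability trick: an automorphism of odd order sending `x` to `x * c` with `c` a fixed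
`2`-element fixes `x`. -/
theorem eq_one_of_odd_aut_stab' {P : Type*} [Group P] (α : MulAut P) (r : ℕ) (hr : Odd r)
    (hα : α ^ r = 1) (x c : P) (hc : α c = c) (k : ℕ) (hck : c ^ 2 ^ k = 1) (hx : α x = x * c) :
    c = 1 := by
  have hcj : ∀ j : ℕ, (α ^ j) c = c := by
    intro j
    induction j with
    | zero => simp
    | succ j ih => rw [pow_succ, MulAut.mul_apply, hc, ih]
  have hxj : ∀ j : ℕ, (α ^ j) x = x * c ^ j := by
    intro j
    induction j with
    | zero => simp
    | succ j ih =>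
      rw [pow_succ, MulAut.mul_apply, hx, map_mul, ih, hcj, mul_assoc, ← pow_succ]
  have h1 := hxj r
  rw [hα, MulAut.one_apply] at h1
  have h2 : c ^ r = 1 := by
    have : x * 1 = x * c ^ r := by rw [mul_one]; exact h1
    exact (mul_left_cancel this).symm
  have h3 : orderOf c ∣ Nat.gcd r (2 ^ k) :=
    Nat.dvd_gcd (orderOf_dvd_of_pow_eq_one h2) (orderOf_dvd_of_pow_eq_one hck)
  have h4 : Nat.gcd r (2 ^ k) = 1 := Nat.Coprime.pow_right k (Nat.coprime_two_right.2 hr)
  rw [h4, Nat.dvd_one, orderOf_eq_one_iff] at h3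
  exact h3

/-- An automorphism of odd order of a group of order eight which normalizes a cyclic subgroup of
order four is trivial. -/
theorem aut_eq_one_of_map_mem_zpowers {X : Type*} [Group X] [Finite X] (hcard : Nat.card X = 8)
    (α : MulAut X) (r : ℕ) (hr : Odd r) (hα : α ^ r = 1) {d : X} (hd : orderOf d = 4)
    (hαd : α d ∈ Subgroup.zpowers d) : α = 1 := by
  have hd4 : d ^ 4 = 1 := by rw [← hd]; exact pow_orderOf_eq_one d
  have hidx : (Subgroup.zpowers d).index = 2 := by
    have h1 := Subgroup.card_mul_index (Subgroup.zpowers d)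
    rw [Nat.card_zpowers, hd, hcard] at h1
    omega
  -- `α d = d`
  have hαd2 : α (α d) = d := by
    rcases (mem_zpowers_iff_of_orderOf_four hd).1 hαd with h | h | h | h
    · exfalso
      have : orderOf (α d) = 4 := by rw [MulEquiv.orderOf_eq, hd]
      rw [h, orderOf_one] at this
      norm_num at this
    · rw [h, h]
    · exfalso
      have : orderOf (α d) = 4 := by rw [MulEquiv.orderOf_eq, hd]
      have h2 : (α d) ^ 2 = 1 := by rw [h, ← pow_mul]; exact hd4
      have h3 := orderOf_dvd_of_pow_eq_one h2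
      rw [this] at h3
      norm_num at h3
    · rw [h, map_pow, h, ← pow_mul]
      have : d ^ (3 * 3) = d ^ 4 * d ^ 4 * d := by rw [← pow_add, ← pow_succ]
      rw [this, hd4, one_mul, one_mul]
  have hfix2 : ∀ j : ℕ, ((α ^ 2) ^ j) d = d := by
    intro j
    induction j with
    | zero => simp
    | succ j ih =>
      rw [pow_succ, MulAut.mul_apply]
      have : (α ^ 2) d = d := by rw [pow_two, MulAut.mul_apply]; exact hαd2
      rw [this, ih]
  have hfix : α d = d := by
    obtain ⟨k, hk⟩ := hr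
    have h1 : α = (α ^ 2) ^ (k + 1) := by
      rw [← pow_mul]
      have : 2 * (k + 1) = r + 1 := by omega
      rw [this, pow_succ, hα, one_mul]
    have h2 := hfix2 (k + 1)
    rw [← h1] at h2
    exact h2
  have hfixD : ∀ p ∈ Subgroup.zpowers d, α p = p := by
    intro p hp
    obtain ⟨i, rfl⟩ := Subgroup.mem_zpowers_iff.1 hp
    rw [map_zpow, hfix]
  ext p
  rw [MulAut.one_apply]
  by_cases hp : p ∈ Subgroup.zpowers d
  · exact hfixD p hp
  · have hαp : α p ∉ Subgroup.zpowers d := by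
      intro h
      apply hp
      have h1 := hfixD _ h
      have h2 : α p = p := α.injective h1
      rw [← h2]
      exact h
    have hc : p⁻¹ * α p ∈ Subgroup.zpowers d := by
      rw [Subgroup.mul_mem_iff_of_index_two hidx]
      constructor
      · intro h; exact absurd ((Subgroup.inv_mem_iff _).1 h) hp
      · intro h; exact absurd h hαp
    have hc4 : (p⁻¹ * α p) ^ 2 ^ 2 = 1 := by
      obtain ⟨i, hi⟩ := Subgroup.mem_zpowers_iff.1 hc
      rw [← hi, ← zpow_natCast, ← zpow_mul, mul_comm, zpow_mul]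
      have : d ^ ((2 ^ 2 : ℕ) : ℤ) = 1 := by
        rw [zpow_natCast]; exact hd4
      rw [this, one_zpow]
    have hx : α p = p * (p⁻¹ * α p) := by rw [mul_inv_cancel_left]
    have := eq_one_of_odd_aut_stab' α r hr hα p (p⁻¹ * α p) (hfixD _ hc) 2 hc4 hx
    rw [this, mul_one] at hx
    exact hx

/-- The quaternion relations. -/
structure IsQ8 {X : Type*} [Group X] (b y : X) : Prop where
  card : Nat.card X = 8
  hb : orderOf b = 4
  hy : y ^ 2 = b ^ 2
  hyb : y * b * y⁻¹ = b⁻¹

theorem IsQ8.finite {X : Type*} [Group X] {b y : X} (h : IsQ8 b y) : Finite X :=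
  Nat.finite_of_card_ne_zero (by rw [h.card]; norm_num)

theorem IsQ8.nonempty_mulEquiv {X : Type*} [Group X] {b y : X} (h : IsQ8 b y) :
    Nonempty (X ≃* QuaternionGroup 2) := by
  have := h.finite
  have hidx : (Subgroup.zpowers b).index = 2 := by
    have h1 := Subgroup.card_mul_index (Subgroup.zpowers b)
    rw [Nat.card_zpowers, h.hb, h.card] at h1
    omega
  have hyn : y ∉ Subgroup.zpowers b := by
    intro hy
    obtain ⟨k, hk⟩ := Subgroup.mem_zpowers_iff.1 hy
    have h1 : y * b * y⁻¹ = b := by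
      rw [← hk, mul_inv_eq_iff_eq_mul]
      exact ((Commute.refl b).zpow_left k).eq
    rw [h.hyb] at h1
    have h2 : b ^ 2 = 1 := by
      rw [pow_two]
      calc b * b = b⁻¹ * b := by rw [h1]
        _ = 1 := inv_mul_cancel b
    exact sq_ne_one_of_orderOf_four h.hb h2
  have hgen := gen_of_index_two hidx hyn (by rw [h.hb]; norm_num)
  apply nonempty_mulEquiv_quaternion (n := 2) b y h.hb h.hy h.hyb hyn
  intro g
  obtain ⟨i, hi | hi⟩ := hgen g
  · left; rw [hi]; exact Subgroup.pow_mem _ (Subgroup.mem_zpowers b) _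
  · right; exact ⟨i, hi⟩

/-- **Normal form of an odd-order automorphism of `Q8`**: there are generators `x, y` with
`α x = y`, `α y = x y`. -/
theorem IsQ8.exists_rel_of_odd_aut {X : Type*} [Group X] {b y₀ : X} (h : IsQ8 b y₀)
    (α : MulAut X) (r : ℕ) (hr : Odd r) (hα : α ^ r = 1) (hα1 : α ≠ 1) :
    ∃ x y : X, orderOf x = 4 ∧ y ^ 2 = x ^ 2 ∧ y * x * y⁻¹ = x⁻¹ ∧ α x = y ∧ α y = x * y := by
  have := h.finite
  obtain ⟨e⟩ := h.nonempty_mulEquiv
  have hb2 : b ^ 2 ≠ 1 := sq_ne_one_of_orderOf_four h.hb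
  -- `α ^ 2` is also of odd order and nontrivial
  have hα2 : (α ^ 2) ^ r = 1 := by rw [← pow_mul, mul_comm, pow_mul, hα, one_pow]
  have hα21 : α ^ 2 ≠ 1 := by
    intro h2
    apply hα1
    obtain ⟨k, hk⟩ := hr
    have h1 : α = (α ^ 2) ^ (k + 1) := by
      rw [← pow_mul]
      have : 2 * (k + 1) = r + 1 := by omega
      rw [this, pow_succ, hα, one_mul]
    rw [h1, h2, one_pow]
  -- y₁ = α b
  have h1 : out b (α b) := by
    rw [out_iff_notMem h.hb]
    intro hm
    exact hα1 (aut_eq_one_of_map_mem_zpowers h.card α r hr hα h.hb hm)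
  have hy1o : orderOf (α b) = 4 := by rw [MulEquiv.orderOf_eq, h.hb]
  have h2 : out (α b) (α (α b)) := by
    rw [out_iff_notMem hy1o]
    intro hm
    exact hα1 (aut_eq_one_of_map_mem_zpowers h.card α r hr hα hy1o hm)
  have h3 : out b (α (α b)) := by
    rw [out_iff_notMem h.hb]
    intro hm
    have : (α ^ 2) b ∈ Subgroup.zpowers b := by rw [pow_two, MulAut.mul_apply]; exact hm
    exact hα21 (aut_eq_one_of_map_mem_zpowers h.card (α ^ 2) r hr hα2 h.hb this)
  obtain ⟨g1, g2⟩ := G1 e hb2 h1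
  rcases G2 e hb2 h1 h3 h2 with h4 | h4
  · exact ⟨b, α b, h.hb, g1, g2, rfl, h4⟩
  · refine ⟨b⁻¹, (α b)⁻¹, by rw [orderOf_inv, h.hb], ?_, ?_, by rw [map_inv], ?_⟩
    · rw [inv_pow, inv_pow, g1]
    · rw [inv_inv]
      have := congrArg (fun v => v⁻¹) g2
      simp only [mul_inv_rev, inv_inv] at this
      have h5 : α b * b⁻¹ * (α b)⁻¹ = b := by rw [← mul_assoc] at this; exact this
      -- conjugating by the inverse
      have h6 : (α b)⁻¹ * b⁻¹ * α b = b := by
        have hz : (α b) ^ 2 = b ^ 2 := g1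
        have : (α b)⁻¹ = (α b) * ((α b) ^ 2)⁻¹ := by
          rw [pow_two]; group
        calc (α b)⁻¹ * b⁻¹ * α b = (α b)⁻¹ * b⁻¹ * (α b)⁻¹⁻¹ := by rw [inv_inv]
          _ = (α b) * ((α b) ^ 2)⁻¹ * b⁻¹ * ((α b) * ((α b) ^ 2)⁻¹)⁻¹ := by rw [← this]
          _ = (α b) * ((b ^ 2)⁻¹ * b⁻¹ * b ^ 2) * (α b)⁻¹ := by rw [hz]; group
          _ = (α b) * b⁻¹ * (α b)⁻¹ := by
            have : (b ^ 2)⁻¹ * b⁻¹ * b ^ 2 = b⁻¹ := by group
            rw [this]
          _ = b := h5
      rw [inv_inv]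
      exact h6
    · rw [map_inv, h4, inv_inv]
      exact (G3 e hb2 h1).symm

end Q8

end Cfsg.Agent.Helper16
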