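import Mathlib
import Cfsg.Agent.Lib.Helper11.G2TDefs

/-!
# S2371 piece CHIB (helper16): `T(K) ≅ (Kˣ)²` through the values at the fundamental roots `a = 7`, `b = 6`
-/

set_option autoImplicit false
set_option linter.unusedSectionVars false
set_option linter.unusedVariables false

namespace Cfsg.Agent.Helper11.G2T

open Cfsg Cfsg.Lie Cfsg.Agent.Lead.Chev Cfsg.Agent.Lead.Tw

section K

variable {K : Type*} [Field K]

/-- the character of `G₂` in terms of the two coordinates -/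
theorem g2tchib_chi (c : ℕ → K) (v : ℕ) :
    chi chevG2 c v = c 0 ^ chevG2.cartan 0 v * c 1 ^ chevG2.cartan 1 v := by
  unfold chi
  have : chevG2.rank = 2 := rfl
  rw [this]
  simp [List.range_succ]

theorem g2tchib_cartan (i : ℕ) (hi : i < 2) (v : ℕ) (hv : v < 12) :
    chevG2.cartan i v = chevG2.cartan i 7 * rcA v + chevG2.cartan i 6 * rcB v := by
  interval_cases i <;> interval_cases v <;> decide

theorem g2tchib_ev_Tmat (h : GL chevG2.Idx K) (c : ℕ → K)
    (e : (h : Matrix chevG2.Idx chevG2.Idx K) = Tmat chevG2 c) (v : ℕ) (hv : v < 12) :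
    ev h v = chi chevG2 c v := by
  unfold ev
  have hv' : v < chevG2.nroots := hv
  rw [dif_pos hv', e]
  unfold Tmat
  rw [Matrix.diagonal_apply_eq]
  rfl

theorem g2tchib_chi_rc (c : ℕ → K) (hc : ∀ i < 2, c i ≠ 0) (v : ℕ) (hv : v < 12) :
    chi chevG2 c v = chi chevG2 c 7 ^ rcA v * chi chevG2 c 6 ^ rcB v := by
  have h0 : c 0 ≠ 0 := hc 0 (by norm_num)
  have h1 : c 1 ≠ 0 := hc 1 (by norm_num)
  rw [g2tchib_chi c v, g2tchib_chi c 7, g2tchib_chi c 6,
    g2tchib_cartan 0 (by norm_num) v hv, g2tchib_cartan 1 (by norm_num) v hv,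
    zpow_add₀ h0, zpow_add₀ h1, zpow_mul, zpow_mul, zpow_mul, zpow_mul, mul_zpow, mul_zpow]
  ring

theorem ev_rc (h : GL chevG2.Idx K) (hh : h ∈ chevG2.diagonalSubgroup K) (v : ℕ) (hv : v < 12) :
    ev h v = ev h 7 ^ rcA v * ev h 6 ^ rcB v := by
  obtain ⟨c, hc, e⟩ := exists_Tmat_of_mem chevG2 (g2F K).hall h hh
  rw [g2tchib_ev_Tmat h c e v hv, g2tchib_ev_Tmat h c e 7 (by norm_num),
    g2tchib_ev_Tmat h c e 6 (by norm_num)]
  exact g2tchib_chi_rc c hc v hv

theorem eq_one_of_ev (h : GL chevG2.Idx K) (hh : h ∈ chevG2.diagonalSubgroup K) (h7 : ev h 7 = 1)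
    (h6 : ev h 6 = 1) : h = 1 := by
  obtain ⟨c, hc, e⟩ := exists_Tmat_of_mem chevG2 (g2F K).hall h hh
  apply Units.ext
  rw [e, Units.val_one, ← Matrix.diagonal_one]
  unfold Tmat
  congr 1
  funext idx
  rcases idx with i | v
  · rfl
  · have hv : v.val < 12 := v.2
    have h1 := ev_rc h hh v.val hv
    rw [h7, h6, one_zpow, one_zpow, one_mul, g2tchib_ev_Tmat h c e v.val hv] at h1
    simpa using h1

theorem exists_ev (ξ η : K) (hξ : ξ ≠ 0) (hη : η ≠ 0) :
    ∃ h ∈ chevG2.diagonalSubgroup K, ev h 7 = ξ ∧ ev h 6 = η := by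
  have hF := g2F K
  let c : Fin chevG2.rank → Kˣ := fun i =>
    if i.val = 0 then Units.mk0 ξ hξ ^ 2 * Units.mk0 η hη else Units.mk0 ξ hξ ^ 3 * Units.mk0 η hη ^ 2
  have hmem : torusHom chevG2 K c ∈ chevG2.diagonalSubgroup K := by
    rw [← torusHom_range chevG2 hF.xadd hF.hsimple hF.hall (fun i hi => hF.simple_lt i hi)]
    exact ⟨c, rfl⟩
  have hr : (2 : ℕ) = chevG2.rank := rfl
  have e0 : extC chevG2 c 0 = ξ ^ 2 * η := by
    rw [extC_lt chevG2 c 0 (by rw [← hr]; norm_num)]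
    simp [c]
  have e1 : extC chevG2 c 1 = ξ ^ 3 * η ^ 2 := by
    rw [extC_lt chevG2 c 1 (by rw [← hr]; norm_num)]
    simp [c]
  have c7a : chevG2.cartan 0 7 = 2 := by decide
  have c7b : chevG2.cartan 1 7 = -1 := by decide
  have c6a : chevG2.cartan 0 6 = -3 := by decide
  have c6b : chevG2.cartan 1 6 = 2 := by decide
  refine ⟨torusHom chevG2 K c, hmem, ?_, ?_⟩
  · rw [g2tchib_ev_Tmat _ _ (torusHom_val chevG2 c) 7 (by norm_num), g2tchib_chi, e0, e1, c7a, c7b]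
    rw [zpow_neg, zpow_one, zpow_ofNat]
    field_simp
  · rw [g2tchib_ev_Tmat _ _ (torusHom_val chevG2 c) 6 (by norm_num), g2tchib_chi, e0, e1, c6a, c6b]
    rw [zpow_neg, zpow_ofNat, zpow_ofNat]
    field_simp

end K

end Cfsg.Agent.Helper11.G2T
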