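import Mathlib
import Cfsg.Agent.Lib.Helper16.DSQRecog

/-!
# The commutator subgroup of a dihedral / semidihedral / quaternion group (helper16's library)
-/

set_option autoImplicit false

open scoped commutatorElement

namespace Cfsg.Agent.Helper16

namespace IsDSQ

variable {X : Type*} [Group X] {k : ℕ} {a x : X}

theorem orderOf_sq (h : IsDSQ k a x) : orderOf (a ^ 2) = 2 ^ (k - 1) := by
  have hk := h.hk
  rw [orderOf_pow' a two_ne_zero, h.hao]
  have h1 : 2 ^ k = 2 ^ (k - 1) * 2 := by rw [← pow_succ]; congr 1; omega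
  rw [h1, Nat.gcd_mul_left_left]
  exact Nat.mul_div_cancel _ two_pos

theorem z_mem (h : IsDSQ k a x) : a ^ 2 ^ (k - 1) ∈ Subgroup.zpowers (a ^ 2) := by
  have hk := h.hk
  have h1 : 2 ^ (k - 1) = 2 * 2 ^ (k - 2) := by rw [← pow_succ']; congr 1; omega
  rw [h1, pow_mul]
  exact Subgroup.pow_mem _ (Subgroup.mem_zpowers _) _

theorem conj_sq (h : IsDSQ k a x) : x * a ^ 2 * x⁻¹ = (a ^ 2)⁻¹ := by
  obtain ⟨ε, -, he⟩ := h.exists_eps
  have h1 := h.conj_pow' he 2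
  rw [sq_eq_one_pow_even h.z_sq (even_two.mul_left ε), mul_one] at h1
  exact h1

theorem normal_zpowers_sq (h : IsDSQ k a x) : (Subgroup.zpowers (a ^ 2)).Normal := by
  have hconj : ∀ g : X, g * a ^ 2 * g⁻¹ ∈ Subgroup.zpowers (a ^ 2) := by
    intro g
    obtain ⟨i, hi | hi⟩ := h.gen g
    · have : g * a ^ 2 * g⁻¹ = a ^ 2 := by
        rw [hi, mul_inv_eq_iff_eq_mul, ← pow_add, ← pow_add, add_comm]
      rw [this]
      exact Subgroup.mem_zpowers _
    · have : g * a ^ 2 * g⁻¹ = (a ^ 2)⁻¹ := by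
        have e1 : a ^ i * a ^ 2 * (a ^ i)⁻¹ = a ^ 2 := by
          rw [mul_inv_eq_iff_eq_mul, ← pow_add, ← pow_add, add_comm]
        calc g * a ^ 2 * g⁻¹ = x * (a ^ i * a ^ 2 * (a ^ i)⁻¹) * x⁻¹ := by rw [hi]; group
          _ = (a ^ 2)⁻¹ := by rw [e1, h.conj_sq]
      rw [this]
      exact Subgroup.inv_mem _ (Subgroup.mem_zpowers _)
  refine ⟨fun n hn g => ?_⟩
  obtain ⟨m, rfl⟩ := Subgroup.mem_zpowers_iff.1 hn
  rw [← conj_zpow]
  exact Subgroup.zpow_mem _ (hconj g) m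

theorem card_quotient_zpowers_sq (h : IsDSQ k a x) [(Subgroup.zpowers (a ^ 2)).Normal] :
    Nat.card (X ⧸ Subgroup.zpowers (a ^ 2)) = 4 := by
  have hk := h.hk
  have h1 := Subgroup.card_eq_card_quotient_mul_card_subgroup (Subgroup.zpowers (a ^ 2))
  rw [Nat.card_zpowers, h.orderOf_sq, h.card] at h1
  have h2 : 2 ^ (k + 1) = 4 * 2 ^ (k - 1) := by
    have : k + 1 = 2 + (k - 1) := by omega
    rw [this, pow_add]
    norm_num
  rw [h2] at h1
  exact (Nat.eq_of_mul_eq_mul_right (pow_pos two_pos _) h1).symm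

theorem sq_mem_commutator (h : IsDSQ k a x) : a ^ 2 ∈ commutator X := by
  have hk := h.hk
  obtain ⟨ε, hε, he⟩ := h.exists_eps
  have hxa : ⁅x, a⁆ ∈ commutator X := by
    rw [commutator_def]
    exact Subgroup.commutator_mem_commutator (Subgroup.mem_top x) (Subgroup.mem_top a)
  have hxa2 : ⁅x, a ^ 2⁆ ∈ commutator X := by
    rw [commutator_def]
    exact Subgroup.commutator_mem_commutator (Subgroup.mem_top x) (Subgroup.mem_top _)
  have e1 : ⁅x, a⁆ = (a ^ 2)⁻¹ * (a ^ 2 ^ (k - 1)) ^ ε := by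
    have hc : (a ^ 2 ^ (k - 1)) ^ ε * a⁻¹ = a⁻¹ * (a ^ 2 ^ (k - 1)) ^ ε := by
      have : Commute ((a ^ 2 ^ (k - 1)) ^ ε) a⁻¹ :=
        (((Commute.refl a).pow_left _).pow_left _).inv_right
      exact this.eq
    calc ⁅x, a⁆ = (x * a * x⁻¹) * a⁻¹ := by rw [commutatorElement_def]
      _ = a⁻¹ * ((a ^ 2 ^ (k - 1)) ^ ε * a⁻¹) := by rw [he, mul_assoc]
      _ = a⁻¹ * (a⁻¹ * (a ^ 2 ^ (k - 1)) ^ ε) := by rw [hc]
      _ = (a ^ 2)⁻¹ * (a ^ 2 ^ (k - 1)) ^ ε := by group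
  rcases hε with rfl | ⟨rfl, h3⟩
  · rw [pow_zero, mul_one] at e1
    rw [e1] at hxa
    exact (Subgroup.inv_mem_iff _).1 hxa
  · rw [pow_one] at e1
    have e2 : ⁅x, a ^ 2⁆ = (a ^ 4)⁻¹ := by
      calc ⁅x, a ^ 2⁆ = (x * a ^ 2 * x⁻¹) * (a ^ 2)⁻¹ := by rw [commutatorElement_def]
        _ = (a ^ 2)⁻¹ * (a ^ 2)⁻¹ := by rw [h.conj_sq]
        _ = (a ^ 4)⁻¹ := by group
    rw [e2] at hxa2
    have h4 : a ^ 4 ∈ commutator X := (Subgroup.inv_mem_iff _).1 hxa2
    have hz : a ^ 2 ^ (k - 1) ∈ commutator X := by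
      have h1 : 2 ^ (k - 1) = 4 * 2 ^ (k - 3) := by
        have : k - 1 = 2 + (k - 3) := by omega
        rw [this, pow_add]
        norm_num
      rw [h1, pow_mul]
      exact Subgroup.pow_mem _ h4 _
    have h5 : (a ^ 2)⁻¹ = ⁅x, a⁆ * (a ^ 2 ^ (k - 1))⁻¹ := by
      rw [e1, mul_inv_cancel_right]
    have h6 : (a ^ 2)⁻¹ ∈ commutator X := by
      rw [h5]
      exact Subgroup.mul_mem _ hxa (Subgroup.inv_mem _ hz)
    exact (Subgroup.inv_mem_iff _).1 h6

/-- The commutator subgroup of a dihedral / semidihedral / quaternion group is `⟨a ^ 2⟩`. -/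
theorem commutator_eq (h : IsDSQ k a x) : commutator X = Subgroup.zpowers (a ^ 2) := by
  have := h.finite
  have hN := h.normal_zpowers_sq
  apply le_antisymm
  · rw [← Subgroup.Normal.quotient_commutative_iff_commutator_le]
    have : Fact (Nat.Prime 2) := ⟨Nat.prime_two⟩
    exact IsPGroup.isMulCommutative_of_card_eq_prime_sq (p := 2)
      (by rw [h.card_quotient_zpowers_sq]; norm_num)
  · exact Subgroup.zpowers_le.2 h.sq_mem_commutator

theorem index_commutator (h : IsDSQ k a x) : (commutator X).index = 4 := by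
  have hN := h.normal_zpowers_sq
  rw [h.commutator_eq, Subgroup.index_eq_card, h.card_quotient_zpowers_sq]

/-- Squares lie in `⟨a ^ 2⟩`. -/
theorem sq_mem_zpowers_sq (h : IsDSQ k a x) (g : X) : g ^ 2 ∈ Subgroup.zpowers (a ^ 2) := by
  obtain ⟨i, hi | hi⟩ := h.gen g
  · rw [hi, ← pow_mul, mul_comm, pow_mul]
    exact Subgroup.pow_mem _ (Subgroup.mem_zpowers _) _
  · obtain ⟨ε, -, he⟩ := h.exists_eps
    have h1 := h.conj_pow' he i
    have hw : x ^ 2 ∈ Subgroup.zpowers (a ^ 2) := by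
      rcases h.hx2 with h2 | h2
      · rw [h2]; exact Subgroup.one_mem _
      · rw [h2]; exact h.z_mem
    have hwc : x ^ 2 * a ^ i = a ^ i * x ^ 2 := by
      rcases h.hx2 with h2 | h2
      · rw [h2, one_mul, mul_one]
      · rw [h2, ← pow_add, ← pow_add, add_comm]
    have hzc : (a ^ 2 ^ (k - 1)) ^ (ε * i) * a ^ i = a ^ i * (a ^ 2 ^ (k - 1)) ^ (ε * i) := by
      have : Commute ((a ^ 2 ^ (k - 1)) ^ (ε * i)) (a ^ i) :=
        ((Commute.pow_pow_self a _ i).pow_left _)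
      exact this.eq
    have : g ^ 2 = (a ^ 2 ^ (k - 1)) ^ (ε * i) * x ^ 2 := by
      calc g ^ 2 = (x * a ^ i * x⁻¹) * (x ^ 2 * a ^ i) := by rw [hi, pow_two, pow_two]; group
        _ = (a ^ i)⁻¹ * (a ^ 2 ^ (k - 1)) ^ (ε * i) * (a ^ i * x ^ 2) := by rw [h1, hwc]
        _ = (a ^ i)⁻¹ * ((a ^ 2 ^ (k - 1)) ^ (ε * i) * a ^ i) * x ^ 2 := by group
        _ = (a ^ i)⁻¹ * (a ^ i * (a ^ 2 ^ (k - 1)) ^ (ε * i)) * x ^ 2 := by rw [hzc]
        _ = (a ^ 2 ^ (k - 1)) ^ (ε * i) * x ^ 2 := by group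
    rw [this]
    exact Subgroup.mul_mem _ (Subgroup.pow_mem _ h.z_mem _) hw

/-- The abelianization of a dihedral / semidihedral / quaternion group is a Klein four-group. -/
theorem isKleinFour (h : IsDSQ k a x) : IsKleinFour (X ⧸ commutator X) := by
  have hcard : Nat.card (X ⧸ commutator X) = 4 := by
    rw [← Subgroup.index_eq_card, h.index_commutator]
  refine ⟨hcard, ?_⟩
  have h1 : Monoid.exponent (X ⧸ commutator X) ∣ 2 := by
    apply Monoid.exponent_dvd_of_forall_pow_eq_one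
    intro q
    obtain ⟨g, rfl⟩ := QuotientGroup.mk_surjective q
    rw [← QuotientGroup.mk_pow, QuotientGroup.eq_one_iff, h.commutator_eq]
    exact h.sq_mem_zpowers_sq g
  rcases (Nat.dvd_prime Nat.prime_two).1 h1 with h2 | h2
  · exfalso
    rw [Monoid.exp_eq_one_iff] at h2
    have := Nat.card_of_subsingleton (1 : X ⧸ commutator X)
    omega
  · exact h2

end IsDSQ

end Cfsg.Agent.Helper16
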