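import Mathlib
import Cfsg.Agent.Lib.Helper16.MaxClassTwo

/-!
# Groups with an abelian subgroup of index two (helper16's library)

If `C` is an abelian subgroup of index two of `X` and `t ∉ C`, then `c ↦ ⁅c, t⁆` is an
endomorphism of `C` whose image contains the commutator subgroup of `X`; hence
`|X'| * |C_C(t)| ≤ |C|`.
-/

set_option autoImplicit false

open scoped commutatorElement

namespace Cfsg.Agent.Helper16

/-- The endomorphism `c ↦ c * (t * c⁻¹ * t⁻¹)` of an abelian normal subgroup. -/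
noncomputable def commHom {X : Type*} [Group X] (C : Subgroup X) [hCn : C.Normal]
    (hcomm : ∀ c ∈ C, ∀ d ∈ C, c * d = d * c) (t : X) : C →* C where
  toFun c := ⟨c * (t * (c : X)⁻¹ * t⁻¹), C.mul_mem c.2 (hCn.conj_mem _ (C.inv_mem c.2) t)⟩
  map_one' := by
    apply Subtype.ext
    simp
  map_mul' c d := by
    apply Subtype.ext
    show ((c * d : C) : X) * (t * ((c * d : C) : X)⁻¹ * t⁻¹) =
      ((c : X) * (t * (c : X)⁻¹ * t⁻¹)) * ((d : X) * (t * (d : X)⁻¹ * t⁻¹))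
    have hu : t * (c : X)⁻¹ * t⁻¹ ∈ C := hCn.conj_mem _ (C.inv_mem c.2) t
    have hv : t * (d : X)⁻¹ * t⁻¹ ∈ C := hCn.conj_mem _ (C.inv_mem d.2) t
    have h1 : ((d : X) * (t * (d : X)⁻¹ * t⁻¹)) * (t * (c : X)⁻¹ * t⁻¹) =
        (t * (c : X)⁻¹ * t⁻¹) * ((d : X) * (t * (d : X)⁻¹ * t⁻¹)) :=
      hcomm _ (C.mul_mem d.2 hv) _ hu
    calc ((c * d : C) : X) * (t * ((c * d : C) : X)⁻¹ * t⁻¹)
        = (c : X) * (((d : X) * (t * (d : X)⁻¹ * t⁻¹)) * (t * (c : X)⁻¹ * t⁻¹)) := by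
          rw [Subgroup.coe_mul]; group
      _ = (c : X) * ((t * (c : X)⁻¹ * t⁻¹) * ((d : X) * (t * (d : X)⁻¹ * t⁻¹))) := by rw [h1]
      _ = ((c : X) * (t * (c : X)⁻¹ * t⁻¹)) * ((d : X) * (t * (d : X)⁻¹ * t⁻¹)) := by group

/-- **Lemma** (abelian subgroup of index two): `|X'| * |K| ≤ |C|` for every subgroup `K ≤ C`
centralized by `t ∉ C`. -/
theorem card_commutator_mul_card_le {X : Type*} [Group X] [Finite X] {C : Subgroup X}
    (hC : C.index = 2) (hcomm : ∀ c ∈ C, ∀ d ∈ C, c * d = d * c) {t : X} (ht : t ∉ C)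
    (K : Subgroup X) (hKC : K ≤ C) (hKt : ∀ k ∈ K, k * t = t * k) :
    Nat.card (commutator X) * Nat.card K ≤ Nat.card C := by
  have hCn : C.Normal := Subgroup.normal_of_index_eq_two hC
  set φ := commHom C hcomm t with hφdef
  set R : Subgroup X := φ.range.map C.subtype with hRdef
  have hRmem : ∀ c ∈ C, c * (t * c⁻¹ * t⁻¹) ∈ R := by
    intro c hc
    exact ⟨φ ⟨c, hc⟩, ⟨⟨c, hc⟩, rfl⟩, rfl⟩
  have ht2 : t ^ 2 ∈ C := Subgroup.sq_mem_of_index_two hC t
  have hle : commutator X ≤ R := by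
    rw [commutator_def, Subgroup.commutator_le]
    intro g₁ _ g₂ _
    have key2 : ∀ c ∈ C, ∀ d ∈ C, ⁅c, t * d⁆ ∈ R := by
      intro c hc d hd
      have h1 : d * c⁻¹ = c⁻¹ * d := hcomm d hd c⁻¹ (C.inv_mem hc)
      have : ⁅c, t * d⁆ = c * (t * c⁻¹ * t⁻¹) := by
        calc ⁅c, t * d⁆ = c * t * (d * c⁻¹) * d⁻¹ * t⁻¹ := by
              rw [commutatorElement_def]; group
          _ = c * (t * c⁻¹ * t⁻¹) := by rw [h1]; group
      rw [this]
      exact hRmem c hc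
    rcases mem_or_inv_mul_mem_of_index_two hC ht g₁ with h1 | h1 <;>
    rcases mem_or_inv_mul_mem_of_index_two hC ht g₂ with h2 | h2
    · have : ⁅g₁, g₂⁆ = 1 := commutatorElement_eq_one_iff_mul_comm.2 (hcomm g₁ h1 g₂ h2)
      rw [this]
      exact R.one_mem
    · have := key2 g₁ h1 _ h2
      rwa [mul_inv_cancel_left] at this
    · have := key2 g₂ h2 _ h1
      rw [mul_inv_cancel_left] at this
      rw [← commutatorElement_inv]
      exact R.inv_mem this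
    · -- both outside `C`
      set c := t⁻¹ * g₁ with hc
      set d := t⁻¹ * g₂ with hd
      have hg1 : g₁ = t * c := by rw [hc, mul_inv_cancel_left]
      have hg2 : g₂ = t * d := by rw [hd, mul_inv_cancel_left]
      have hdc : d * c⁻¹ ∈ C := C.mul_mem h2 (C.inv_mem h1)
      have hp : t * (d * c⁻¹) * t⁻¹ ∈ C := hCn.conj_mem _ hdc t
      have e1 : t * (d * c⁻¹) * t⁻¹ * d⁻¹ = d⁻¹ * (t * (d * c⁻¹) * t⁻¹) :=
        hcomm _ hp _ (C.inv_mem h2)
      have e2 : t ^ 2 * (d * c⁻¹) = (d * c⁻¹) * t ^ 2 := hcomm _ ht2 _ hdc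
      have : ⁅g₁, g₂⁆ = ((c * d⁻¹) * (t * (c * d⁻¹)⁻¹ * t⁻¹))⁻¹ := by
        rw [hg1, hg2]
        calc ⁅t * c, t * d⁆ = t * c * (t * (d * c⁻¹) * t⁻¹ * d⁻¹) * t⁻¹ := by
              rw [commutatorElement_def]; group
          _ = t * c * (d⁻¹ * (t * (d * c⁻¹) * t⁻¹)) * t⁻¹ := by rw [e1]
          _ = t * (c * d⁻¹) * t⁻¹ * (t ^ 2 * (d * c⁻¹)) * t⁻¹ ^ 2 := by group
          _ = t * (c * d⁻¹) * t⁻¹ * ((d * c⁻¹) * t ^ 2) * t⁻¹ ^ 2 := by rw [e2]
          _ = ((c * d⁻¹) * (t * (c * d⁻¹)⁻¹ * t⁻¹))⁻¹ := by group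
      rw [this]
      exact R.inv_mem (hRmem _ (C.mul_mem h1 (C.inv_mem h2)))
  have hRcard : Nat.card R = Nat.card φ.range :=
    Subgroup.card_map_of_injective C.subtype_injective
  have hker : Nat.card φ.range * Nat.card φ.ker = Nat.card C := by
    rw [← Subgroup.index_ker, mul_comm]
    exact Subgroup.card_mul_index φ.ker
  have hKker : K.subgroupOf C ≤ φ.ker := by
    intro k hk
    rw [Subgroup.mem_subgroupOf] at hk
    rw [MonoidHom.mem_ker]
    apply Subtype.ext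
    show (k : X) * (t * (k : X)⁻¹ * t⁻¹) = 1
    have h1 := hKt _ hk
    calc (k : X) * (t * (k : X)⁻¹ * t⁻¹) = ((k : X) * t) * (k : X)⁻¹ * t⁻¹ := by group
      _ = (t * (k : X)) * (k : X)⁻¹ * t⁻¹ := by rw [h1]
      _ = 1 := by group
  have hKcard : Nat.card K = Nat.card (K.subgroupOf C) :=
    (Nat.card_congr (Subgroup.subgroupOfEquivOfLe hKC).toEquiv).symm
  calc Nat.card (commutator X) * Nat.card K ≤ Nat.card R * Nat.card φ.ker := by
        apply Nat.mul_le_mul (Subgroup.card_le_of_le hle)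
        rw [hKcard]
        exact Subgroup.card_le_of_le hKker
    _ = Nat.card C := by rw [hRcard, hker]

end Cfsg.Agent.Helper16
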