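import Mathlib

set_option autoImplicit false

namespace Cfsg.Agent.Helper16

/-- Membership in the centre of a subgroup, read in the ambient group. -/
theorem mem_centerMap {G : Type*} [Group G] {U : Subgroup G} {z : G} :
    z ∈ (Subgroup.center U).map U.subtype ↔ z ∈ U ∧ ∀ u ∈ U, u * z = z * u := by
  constructor
  · rintro ⟨w, hw, rfl⟩
    refine ⟨w.2, fun u hu => ?_⟩
    rw [SetLike.mem_coe, Subgroup.mem_center_iff] at hw
    have := hw ⟨u, hu⟩
    simpa using congrArg (fun v : U => (v : G)) this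
  · rintro ⟨hz, hc⟩
    refine ⟨⟨z, hz⟩, ?_, rfl⟩
    rw [SetLike.mem_coe, Subgroup.mem_center_iff]
    intro u
    apply Subtype.ext
    simpa using hc u u.2

/-- The centre of a subgroup is normalized by the normalizer of the subgroup. -/
theorem conj_mem_centerMap {G : Type*} [Group G] {R : Subgroup G} {g z : G}
    (hg : g ∈ Subgroup.normalizer (R : Set G)) (hz : z ∈ (Subgroup.center R).map R.subtype) :
    g * z * g⁻¹ ∈ (Subgroup.center R).map R.subtype := by
  rw [mem_centerMap] at hz ⊢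
  obtain ⟨hzR, hzc⟩ := hz
  have hg' := hg
  rw [Subgroup.mem_normalizer_iff] at hg
  refine ⟨(hg z).1 hzR, fun r hr => ?_⟩
  have hginv : g⁻¹ ∈ Subgroup.normalizer (R : Set G) := inv_mem hg'
  rw [Subgroup.mem_normalizer_iff] at hginv
  have h1 : g⁻¹ * r * g ∈ R := by
    have := (hginv r).1 hr
    simpa using this
  have h2 := hzc _ h1
  calc r * (g * z * g⁻¹) = g * ((g⁻¹ * r * g) * z) * g⁻¹ := by group
    _ = g * (z * (g⁻¹ * r * g)) * g⁻¹ := by rw [h2]
    _ = g * z * g⁻¹ * r := by group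

/-- In a finite `p`-group a nontrivial normal subgroup contains a nontrivial central element. -/
theorem exists_mem_center_of_normal_ne_bot' {G : Type*} [Group G] [Finite G] {p : ℕ}
    [Fact p.Prime] (hG : IsPGroup p G) (N : Subgroup G) [N.Normal] (hN : N ≠ ⊥) :
    ∃ z ∈ N, z ∈ Subgroup.center G ∧ z ≠ 1 := by
  have hNp : IsPGroup p N := hG.to_subgroup N
  have hnt : Nontrivial N := (Subgroup.nontrivial_iff_ne_bot N).mpr hN
  have dvd : p ∣ Nat.card N := by
    obtain ⟨n, hn0, hn⟩ := hNp.nontrivial_iff_card.mp hnt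
    exact hn.symm ▸ dvd_pow_self _ (ne_of_gt hn0)
  have h1 : (1 : N) ∈ MulAction.fixedPoints (ConjAct G) N := by
    intro g
    exact smul_one g
  obtain ⟨b, hb, hb1⟩ :=
    (hG.of_equiv ConjAct.toConjAct).exists_fixed_point_of_prime_dvd_card_of_fixed_point N dvd h1
  refine ⟨b, b.2, ?_, ?_⟩
  · rw [Subgroup.mem_center_iff]
    intro g
    have := hb (ConjAct.toConjAct g)
    have h2 : ((ConjAct.toConjAct g • b : N) : G) = (b : G) := by rw [this]
    rw [ConjAct.Subgroup.val_conj_smul, ConjAct.toConjAct_smul] at h2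
    calc g * b = g * b * g⁻¹ * g := by group
      _ = b * g := by rw [h2]
  · intro h
    apply hb1
    exact (Subtype.ext h).symm

/-- In a `p`-group with `p` odd, an element with `w * w = 1` is trivial. -/
theorem eq_one_of_mul_self_of_odd {G : Type*} [Group G] {p : ℕ} (hodd : Odd p)
    (hG : IsPGroup p G) {w : G} (hw : w * w = 1) : w = 1 := by
  obtain ⟨k, hk⟩ := hG w
  have h1 : orderOf w ∣ 2 := orderOf_dvd_of_pow_eq_one (by rw [pow_two]; exact hw)
  have h2 : orderOf w ∣ p ^ k := orderOf_dvd_of_pow_eq_one hk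
  have hcop : Nat.Coprime 2 (p ^ k) := Nat.Coprime.pow_right k (Nat.coprime_two_left.2 hodd)
  have : orderOf w = 1 := Nat.eq_one_of_dvd_coprimes hcop h1 h2
  exact orderOf_eq_one_iff.1 this

end Cfsg.Agent.Helper16
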