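import Mathlib
import Cfsg.Prelude.Def_Solvable
import Cfsg.Prelude.Def_Transfer
import Cfsg.Agent.Lib.Helper7.PLocal2
import Cfsg.Agent.Lib.Helper14.Basic
import Cfsg.Agent.Lib.Helper16.PClosed
import Cfsg.Agent.Lib.Helper16.Solvable2
import Cfsg.Agent.Lib.Helper20.InvolutionAction
import Cfsg.Agent.Lib.Helper21.CyclicSylow

/-!
# Solvable groups with `O(H) = 1` whose involution centralizers are 2-nilpotent

Part of helper16's library: no nonidentity element of odd order commutes with a nonidentity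
element of `O_2(H)`, and all involution centralizers are 2-groups.
-/

set_option autoImplicit false

namespace Cfsg.Agent.Helper16

open Cfsg

/-- An element whose order is both odd and a power of two is trivial. -/
theorem eq_one_of_odd_of_two_pow {G : Type*} [Group G] {x : G} (h1 : Odd (orderOf x))
    (h2 : ∃ j : ℕ, orderOf x = 2 ^ j) : x = 1 := by
  obtain ⟨j, hj⟩ := h2
  rcases Nat.eq_zero_or_pos j with h0 | h0
  · rw [h0, pow_zero] at hj
    exact orderOf_eq_one_iff.1 hj
  · exfalso
    rw [hj] at h1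
    have : Even (2 ^ j) := (Nat.even_pow' h0.ne').2 even_two
    exact (Nat.not_even_iff_odd.2 h1) this

/-- A complement of a Sylow `2`-subgroup has odd order and `2`-power index. -/
theorem complement_sylow_two_facts {C : Type*} [Group C] [Finite C] (P : Sylow 2 C)
    (K : Subgroup C) (hKP : K.IsComplement' (P : Subgroup C)) :
    Odd (Nat.card K) ∧ ∃ m : ℕ, K.index = 2 ^ m := by
  have hF : Fact (Nat.Prime 2) := ⟨Nat.prime_two⟩
  constructor
  · have h1 : (P : Subgroup C).index = Nat.card K := hKP.index_eq_card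
    have h2 : ¬ 2 ∣ (P : Subgroup C).index := P.not_dvd_index
    rw [h1] at h2
    rw [← Nat.not_even_iff_odd, even_iff_two_dvd]
    exact h2
  · have h1 : K.index = Nat.card (P : Subgroup C) := hKP.symm.index_eq_card
    obtain ⟨m, hm⟩ := IsPGroup.iff_card.1 P.2
    exact ⟨m, by rw [h1, hm]⟩

section main

variable {H : Type*} [Group H] [Finite H]

/-- The normal `2`-complement of `C_H(t)` centralizes `C_Y(t)` for `Y = O_2(H)`. -/
theorem commute_complement_pCore (t : H) (P : Sylow 2 ↥(Subgroup.centralizer ({t} : Set H)))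
    (K : Subgroup ↥(Subgroup.centralizer ({t} : Set H))) (hKn : K.Normal)
    (hKP : K.IsComplement' (P : Subgroup _)) (k : ↥(Subgroup.centralizer ({t} : Set H)))
    (hk : k ∈ K) (c : H) (hc : c ∈ pCore 2 H) (hct : c * t = t * c) :
    (k : H) * c = c * (k : H) := by
  have hYn : (pCore 2 H).Normal := pCore_normal' 2
  have hY : IsPGroup 2 (pCore 2 H) := Cfsg.Agent.Helper14.pCore_isPGroup 2 H
  obtain ⟨hodd, -⟩ := complement_sylow_two_facts P K hKP
  have hcC : c ∈ Subgroup.centralizer ({t} : Set H) := by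
    rw [Subgroup.mem_centralizer_iff]
    intro z hz
    rw [Set.mem_singleton_iff] at hz
    rw [hz]; exact hct.symm
  set c' : ↥(Subgroup.centralizer ({t} : Set H)) := ⟨c, hcC⟩ with hc'
  have hwK : k * (c' * k⁻¹ * c'⁻¹) ∈ K := K.mul_mem hk (hKn.conj_mem _ (K.inv_mem hk) c')
  have hwY : ((k * (c' * k⁻¹ * c'⁻¹) : ↥(Subgroup.centralizer ({t} : Set H))) : H) ∈ pCore 2 H := by
    have : ((k * (c' * k⁻¹ * c'⁻¹) : ↥(Subgroup.centralizer ({t} : Set H))) : H)
        = ((k : H) * c * (k : H)⁻¹) * c⁻¹ := by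
      simp [hc', mul_assoc]
    rw [this]
    exact (pCore 2 H).mul_mem (hYn.conj_mem _ hc _) ((pCore 2 H).inv_mem hc)
  have hw1 : k * (c' * k⁻¹ * c'⁻¹) = 1 := by
    apply eq_one_of_odd_of_two_pow
    · have h1 : orderOf (⟨_, hwK⟩ : K) ∣ Nat.card K := orderOf_dvd_natCard _
      rw [Subgroup.orderOf_mk] at h1
      exact Odd.of_dvd_nat hodd h1
    · obtain ⟨j, hj⟩ := IsPGroup.iff_orderOf.1 hY ⟨_, hwY⟩
      rw [Subgroup.orderOf_mk, Subgroup.orderOf_coe] at hj
      exact ⟨j, hj⟩
  have h2 : ((k * (c' * k⁻¹ * c'⁻¹) : ↥(Subgroup.centralizer ({t} : Set H))) : H) = 1 := by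
    rw [hw1]; rfl
  have h3 : (k : H) * (c * (k : H)⁻¹ * c⁻¹) = 1 := by
    simpa [hc'] using h2
  calc (k : H) * c = ((k : H) * (c * (k : H)⁻¹ * c⁻¹)) * (c * (k : H)) := by group
    _ = c * (k : H) := by rw [h3, one_mul]

/-- In a solvable group with `O(H) = 1` in which the centralizer of the involution `t`
has a normal `2`-complement, that complement is trivial. -/
theorem complement_eq_bot (hsol : Group.IsSolvable H) (hO : pPrimeCore 2 H = ⊥)
    (t : H) (ht : orderOf t = 2)
    (P : Sylow 2 ↥(Subgroup.centralizer ({t} : Set H)))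
    (K : Subgroup ↥(Subgroup.centralizer ({t} : Set H))) (hKn : K.Normal)
    (hKP : K.IsComplement' (P : Subgroup _)) : K = ⊥ := by
  have hF : Fact (Nat.Prime 2) := ⟨Nat.prime_two⟩
  have hYn : (pCore 2 H).Normal := pCore_normal' 2
  have hY : IsPGroup 2 (pCore 2 H) := Cfsg.Agent.Helper14.pCore_isPGroup 2 H
  have hCY := centralizer_pCore_le_of_isSolvable 2 hsol hO
  obtain ⟨hodd, -⟩ := complement_sylow_two_facts P K hKP
  have hNtop : Subgroup.normalizer ((pCore 2 H : Subgroup H) : Set H) = ⊤ :=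
    Subgroup.normalizer_eq_top _
  rw [eq_bot_iff]
  intro k hk
  rw [Subgroup.mem_bot]
  have hko : Odd (orderOf (k : H)) := by
    have h1 : orderOf (⟨k, hk⟩ : K) ∣ Nat.card K := orderOf_dvd_natCard _
    rw [Subgroup.orderOf_mk] at h1
    rw [Subgroup.orderOf_coe]
    exact Odd.of_dvd_nat hodd h1
  have hkt : (k : H) * t = t * (k : H) := by
    have := k.2
    rw [Subgroup.mem_centralizer_iff] at this
    exact (this t (Set.mem_singleton t)).symm
  have hP : IsPGroup 2 (Subgroup.zpowers t) := by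
    apply IsPGroup.of_card (n := 1)
    rw [Nat.card_zpowers, ht, pow_one]
  have hkc : (k : H) ∈ Subgroup.centralizer ((pCore 2 H : Subgroup H) : Set H) := by
    apply Cfsg.Agent.Helper7.thompson_AxB_element 2 (pCore 2 H) (Subgroup.zpowers t) hY hP
    · rw [hNtop]; exact le_top
    · rw [hNtop]; exact Subgroup.mem_top _
    · exact Nat.Coprime.symm (Nat.coprime_two_left.2 hko)
    · rw [Subgroup.mem_centralizer_iff]
      intro z hz
      rw [SetLike.mem_coe, Subgroup.mem_zpowers_iff] at hz
      obtain ⟨i, rfl⟩ := hz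
      exact ((Commute.zpow_left (show Commute t (k : H) from hkt.symm) i)).eq
    · rw [Subgroup.mem_centralizer_iff]
      intro c hc
      have hc1 : c ∈ pCore 2 H := hc.1
      have hc2 : c ∈ Subgroup.centralizer ((Subgroup.zpowers t : Subgroup H) : Set H) := hc.2
      rw [Subgroup.mem_centralizer_iff] at hc2
      have hct : c * t = t * c := (hc2 t (Subgroup.mem_zpowers t)).symm
      exact (commute_complement_pCore t P K hKn hKP k hk c hc1 hct).symm
  have hkY : (k : H) ∈ pCore 2 H := hCY hkc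
  have hk1 : (k : H) = 1 := by
    apply eq_one_of_odd_of_two_pow hko
    obtain ⟨j, hj⟩ := IsPGroup.iff_orderOf.1 hY ⟨_, hkY⟩
    rw [Subgroup.orderOf_mk] at hj
    exact ⟨j, hj⟩
  exact Subtype.ext hk1

/-- In a solvable group with `O(H) = 1` in which involution centralizers are `2`-nilpotent, no
nonidentity element of odd order commutes with an involution. -/
theorem eq_one_of_odd_of_commute_involution (hsol : Group.IsSolvable H)
    (hO : pPrimeCore 2 H = ⊥)
    (hI : ∀ t : H, orderOf t = 2 →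
      Cfsg.HasNormalPComplement 2 ↥(Subgroup.centralizer ({t} : Set H)))
    (t : H) (ht : orderOf t = 2) (x : H) (hx : Odd (orderOf x)) (hxt : x * t = t * x) :
    x = 1 := by
  have hF : Fact (Nat.Prime 2) := ⟨Nat.prime_two⟩
  obtain ⟨P, K, hKn, hKP⟩ := hI t ht
  have hK := complement_eq_bot hsol hO t ht P K hKn hKP
  obtain ⟨hodd, m, hm⟩ := complement_sylow_two_facts P K hKP
  have hxC : x ∈ Subgroup.centralizer ({t} : Set H) := by
    rw [Subgroup.mem_centralizer_iff]
    intro z hz
    rw [Set.mem_singleton_iff] at hz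
    rw [hz]; exact hxt.symm
  have hmem : (⟨x, hxC⟩ : ↥(Subgroup.centralizer ({t} : Set H))) ∈ K := by
    have := hKn
    rw [Cfsg.Agent.Helper21.mem_iff_coprime_orderOf K (Nat.Coprime.symm
      (Nat.coprime_two_left.2 hodd)) m hm, Subgroup.orderOf_mk]
    exact Nat.Coprime.symm (Nat.coprime_two_left.2 hx)
  rw [hK, Subgroup.mem_bot] at hmem
  exact congrArg Subtype.val hmem

/-- Every nonidentity `2`-element has an involution among its powers. -/
theorem exists_involution_zpowers {G : Type*} [Group G] {y : G} (hy : ∃ j : ℕ, orderOf y = 2 ^ j)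
    (hy1 : y ≠ 1) : ∃ i : ℕ, orderOf (y ^ i) = 2 := by
  obtain ⟨j, hj⟩ := hy
  rcases Nat.eq_zero_or_pos j with h0 | h0
  · exfalso
    rw [h0, pow_zero] at hj
    exact hy1 (orderOf_eq_one_iff.1 hj)
  · refine ⟨2 ^ (j - 1), ?_⟩
    have h1 : orderOf y = 2 ^ (j - 1) * 2 := by
      rw [hj, ← pow_succ]
      congr 1
      omega
    rw [orderOf_pow' y (pow_ne_zero _ two_ne_zero), h1, Nat.gcd_mul_right_left]
    exact Nat.mul_div_cancel_left 2 (pow_pos two_pos _)

/-- In a solvable group with `O(H) = 1` in which involution centralizers are `2`-nilpotent, no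
nonidentity element of odd order commutes with a nonidentity element of `O_2(H)`. -/
theorem eq_one_of_odd_of_commute_pCore (hsol : Group.IsSolvable H)
    (hO : pPrimeCore 2 H = ⊥)
    (hI : ∀ t : H, orderOf t = 2 →
      Cfsg.HasNormalPComplement 2 ↥(Subgroup.centralizer ({t} : Set H)))
    (x : H) (hx : Odd (orderOf x)) (y : H) (hy : y ∈ pCore 2 H) (hy1 : y ≠ 1)
    (hxy : x * y = y * x) : x = 1 := by
  have hY : IsPGroup 2 (pCore 2 H) := Cfsg.Agent.Helper14.pCore_isPGroup 2 H
  have hyo : ∃ j : ℕ, orderOf y = 2 ^ j := by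
    obtain ⟨j, hj⟩ := IsPGroup.iff_orderOf.1 hY ⟨y, hy⟩
    rw [Subgroup.orderOf_mk] at hj
    exact ⟨j, hj⟩
  obtain ⟨i, hi⟩ := exists_involution_zpowers hyo hy1
  apply eq_one_of_odd_of_commute_involution hsol hO hI (y ^ i) hi x hx
  exact ((show Commute x y from hxy).pow_right i).eq

end main

end Cfsg.Agent.Helper16
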