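import Mathlib
import Cfsg.Agent.Lib.Helper16.AbelianIndexTwo
import Cfsg.Agent.Lib.Helper16.DSQRecog
import Cfsg.Agent.Lib.Helper16.Center
import Cfsg.Agent.Lib.Helper16.InvCent

/-!
# Taussky's theorem: `2`-groups with abelianization of order four (helper16's library)
-/

set_option autoImplicit false

open scoped commutatorElement

namespace Cfsg.Agent.Helper16

universe u

/-- Lifting an element of order `2 ^ (n - 1)` through the quotient by a central involution:
either the lift has order `2 ^ n`, or we find an abelian subgroup of index two containing two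
distinct central involutions. -/
theorem lift_or_abelian_index_two {X : Type*} [Group X] [Finite X] {n : ℕ} (hn : 3 ≤ n) {z : X}
    (hzZ : z ∈ Subgroup.center X) (hz : orderOf z = 2) [hN : (Subgroup.zpowers z).Normal]
    (hQ : Nat.card (X ⧸ Subgroup.zpowers z) = 2 ^ n)
    (ab : X ⧸ Subgroup.zpowers z) (hab : orderOf ab = 2 ^ (n - 1)) :
    (∃ a : X, orderOf a = 2 ^ n) ∨
    ∃ (C : Subgroup X) (t a₀ : X), C.index = 2 ∧ (∀ c ∈ C, ∀ d ∈ C, c * d = d * c) ∧ t ∉ C ∧
      z ∈ C ∧ a₀ ∈ C ∧ a₀ ∈ Subgroup.center X ∧ a₀ ≠ 1 ∧ a₀ ≠ z := by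
  obtain ⟨a, rfl⟩ := QuotientGroup.mk_surjective ab
  have hz1 : z ≠ 1 := by
    intro h
    rw [h, orderOf_one] at hz
    norm_num at hz
  have hz2 : z ^ 2 = 1 := by rw [← hz]; exact pow_orderOf_eq_one z
  have hzc : ∀ g : X, g * z = z * g := fun g => (Subgroup.mem_center_iff.1 hzZ) g
  have hNcard : Nat.card (Subgroup.zpowers z) = 2 := by rw [Nat.card_zpowers, hz]
  have hNlist : ∀ w ∈ Subgroup.zpowers z, w = 1 ∨ w = z :=
    fun w hw => eq_one_or_eq_of_card_two hNcard (Subgroup.mem_zpowers z) hz1 hw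
  -- a ^ 2 ^ (n - 1) ∈ ⟨z⟩
  have hpc : a ^ 2 ^ (n - 1) ∈ Subgroup.zpowers z := by
    rw [← QuotientGroup.eq_one_iff, QuotientGroup.mk_pow, ← hab]
    exact pow_orderOf_eq_one _
  by_cases h1 : a ^ 2 ^ (n - 1) = 1
  swap
  · left
    refine ⟨a, ?_⟩
    have h2 : a ^ 2 ^ (n - 1 + 1) = 1 := by
      rw [pow_succ, pow_mul]
      rcases hNlist _ hpc with h | h
      · exact absurd h h1
      · rw [h, hz2]
    have := orderOf_eq_prime_pow h1 h2
    rw [this]
    congr 1
    omega
  right
  -- now `a` has order `2 ^ (n - 1)`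
  have hao : orderOf a = 2 ^ (n - 1) := by
    apply Nat.dvd_antisymm (orderOf_dvd_of_pow_eq_one h1)
    rw [← hab]
    exact orderOf_map_dvd (QuotientGroup.mk' (Subgroup.zpowers z)) a
  have hza : z ∉ Subgroup.zpowers a := by
    intro h
    obtain ⟨i, hi⟩ := Subgroup.mem_zpowers_iff.1 h
    have h2 : ((a : X ⧸ Subgroup.zpowers z)) ^ i = 1 := by
      rw [← QuotientGroup.mk_zpow, hi]
      exact (QuotientGroup.eq_one_iff z).2 (Subgroup.mem_zpowers z)
    have h3 : (orderOf a : ℤ) ∣ i := by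
      rw [hao, ← hab]
      exact orderOf_dvd_iff_zpow_eq_one.2 h2
    have h4 : a ^ i = 1 := orderOf_dvd_iff_zpow_eq_one.1 h3
    exact hz1 (hi.symm.trans h4)
  -- the subgroup C
  set C : Subgroup X := (Subgroup.zpowers (a : X ⧸ Subgroup.zpowers z)).comap
    (QuotientGroup.mk' (Subgroup.zpowers z)) with hCdef
  have hCidx : C.index = 2 := by
    rw [hCdef, Subgroup.index_comap_of_surjective _ (QuotientGroup.mk'_surjective _)]
    have h2 := Subgroup.card_mul_index (Subgroup.zpowers (a : X ⧸ Subgroup.zpowers z))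
    rw [Nat.card_zpowers, hab, hQ] at h2
    have h3 : 2 ^ n = 2 ^ (n - 1) * 2 := by rw [← pow_succ]; congr 1; omega
    rw [h3] at h2
    exact Nat.eq_of_mul_eq_mul_left (pow_pos two_pos _) h2
  have haC : a ∈ C := by
    rw [hCdef, Subgroup.mem_comap]
    exact Subgroup.mem_zpowers _
  have hzC : z ∈ C := by
    rw [hCdef, Subgroup.mem_comap]
    have : (QuotientGroup.mk' (Subgroup.zpowers z)) z = 1 :=
      (QuotientGroup.eq_one_iff z).2 (Subgroup.mem_zpowers z)
    rw [this]
    exact Subgroup.one_mem _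
  have hClist : ∀ g ∈ C, ∃ i : ℕ, g = a ^ i ∨ g = a ^ i * z := by
    intro g hg
    rw [hCdef, Subgroup.mem_comap] at hg
    obtain ⟨i, -, hi⟩ := mem_zpowers_exists_nat (by positivity) hab hg
    refine ⟨i, ?_⟩
    have h2 : (a ^ i)⁻¹ * g ∈ Subgroup.zpowers z := by
      rw [← QuotientGroup.eq_one_iff, QuotientGroup.mk_mul, QuotientGroup.mk_inv,
        QuotientGroup.mk_pow]
      rw [QuotientGroup.mk'_apply] at hi
      rw [hi, inv_mul_cancel]
    rcases hNlist _ h2 with h3 | h3
    · left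
      rw [inv_mul_eq_one] at h3
      exact h3.symm
    · right
      rw [← h3, mul_inv_cancel_left]
  have hCcomm' : ∀ c ∈ C, ∀ j : ℕ, c * a ^ j = a ^ j * c := by
    intro c hc j
    obtain ⟨i, hi | hi⟩ := hClist c hc
    · rw [hi, ← pow_add, ← pow_add, add_comm]
    · rw [hi, mul_assoc, ← hzc, ← mul_assoc, ← pow_add, ← mul_assoc, ← pow_add, add_comm]
  have hCcomm : ∀ c ∈ C, ∀ d ∈ C, c * d = d * c := by
    intro c hc d hd
    obtain ⟨j, hj | hj⟩ := hClist d hd
    · rw [hj]; exact hCcomm' c hc j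
    · rw [hj, ← mul_assoc, hCcomm' c hc j, mul_assoc, hzc c, mul_assoc]
  obtain ⟨t, ht⟩ : ∃ t : X, t ∉ C := by
    by_contra h
    push Not at h
    have : C = ⊤ := (Subgroup.eq_top_iff' C).2 h
    rw [this, Subgroup.index_top] at hCidx
    norm_num at hCidx
  have hCn : C.Normal := Subgroup.normal_of_index_eq_two hCidx
  have hconj : t⁻¹ * a * t ∈ C := by
    have := hCn.conj_mem a haC t⁻¹
    rwa [inv_inv] at this
  -- the involution a₀
  have hn2 : n - 1 = (n - 2) + 1 := by omega
  have ha0sq : (a ^ 2 ^ (n - 2)) ^ 2 = 1 := by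
    rw [← pow_mul, ← pow_succ, ← hn2]; exact h1
  have ha0ne : a ^ 2 ^ (n - 2) ≠ 1 := by
    intro h
    have := orderOf_dvd_of_pow_eq_one h
    rw [hao, hn2, pow_succ] at this
    have h3 := Nat.le_of_dvd (pow_pos two_pos _) this
    have : 0 < 2 ^ (n - 2) := pow_pos two_pos _
    omega
  have hev : Even (2 ^ (n - 2)) := (Nat.even_pow' (by omega)).2 even_two
  -- conjugate of a₀
  have hconj0 : ∃ i : ℕ, t⁻¹ * a ^ 2 ^ (n - 2) * t = (a ^ 2 ^ (n - 2)) ^ i := by
    obtain ⟨i, hi⟩ := hClist _ hconj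
    refine ⟨i, ?_⟩
    have e1 : t⁻¹ * a ^ 2 ^ (n - 2) * t = (t⁻¹ * a * t) ^ 2 ^ (n - 2) := by
      have := conj_pow (a := t⁻¹) (b := a) (i := 2 ^ (n - 2))
      rw [inv_inv] at this
      exact this.symm
    rw [e1]
    rcases hi with hi | hi
    · rw [hi, ← pow_mul, ← pow_mul, mul_comm]
    · rw [hi]
      have hc : Commute (a ^ i) z := (hzc (a ^ i))
      rw [hc.mul_pow]
      obtain ⟨r, hr⟩ := hev
      have hzp : z ^ 2 ^ (n - 2) = 1 := by
        rw [hr, ← two_mul, pow_mul, hz2, one_pow]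
      rw [hzp, mul_one, ← pow_mul, ← pow_mul, mul_comm]
  obtain ⟨i, hi⟩ := hconj0
  have ha0C : a ^ 2 ^ (n - 2) ∈ C := C.pow_mem haC _
  have ha0z : a ^ 2 ^ (n - 2) ≠ z := by
    intro h
    apply hza
    rw [← h]
    exact Subgroup.pow_mem _ (Subgroup.mem_zpowers a) _
  refine ⟨C, t, a ^ 2 ^ (n - 2), hCidx, hCcomm, ht, hzC, ha0C, ?_, ha0ne, ha0z⟩
  rcases Nat.even_or_odd i with hie | hio
  · exfalso
    obtain ⟨r, hr⟩ := hie
    have : (a ^ 2 ^ (n - 2)) ^ i = 1 := by
      rw [hr, ← two_mul, pow_mul, ha0sq, one_pow]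
    rw [this] at hi
    apply ha0ne
    have h5 : a ^ 2 ^ (n - 2) = t * (t⁻¹ * a ^ 2 ^ (n - 2) * t) * t⁻¹ := by group
    rw [h5, hi]
    group
  · obtain ⟨r, hr⟩ := hio
    have : (a ^ 2 ^ (n - 2)) ^ i = a ^ 2 ^ (n - 2) := by
      rw [hr, pow_succ, pow_mul, ha0sq, one_pow, one_mul]
    rw [this] at hi
    have hta0 : a ^ 2 ^ (n - 2) * t = t * a ^ 2 ^ (n - 2) := by
      calc a ^ 2 ^ (n - 2) * t = t * (t⁻¹ * a ^ 2 ^ (n - 2) * t) := by group
        _ = t * a ^ 2 ^ (n - 2) := by rw [hi]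
    rw [Subgroup.mem_center_iff]
    intro g
    rcases mem_or_inv_mul_mem_of_index_two hCidx ht g with hg | hg
    · exact hCcomm g hg _ ha0C
    · have h6 := hCcomm _ hg _ ha0C
      calc g * a ^ 2 ^ (n - 2) = t * ((t⁻¹ * g) * a ^ 2 ^ (n - 2)) := by group
        _ = t * (a ^ 2 ^ (n - 2) * (t⁻¹ * g)) := by rw [h6]
        _ = (t * a ^ 2 ^ (n - 2)) * (t⁻¹ * g) := by group
        _ = (a ^ 2 ^ (n - 2) * t) * (t⁻¹ * g) := by rw [hta0]
        _ = a ^ 2 ^ (n - 2) * g := by group

/-- The commutator subgroup of a quotient is the image of the commutator subgroup. -/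
theorem index_commutator_quotient {X : Type*} [Group X] (N : Subgroup X) [N.Normal]
    (hN : N ≤ commutator X) : (commutator (X ⧸ N)).index = (commutator X).index := by
  have h1 : (commutator X).map (QuotientGroup.mk' N) = commutator (X ⧸ N) := by
    rw [map_commutator_eq, MonoidHom.range_eq_top.2 (QuotientGroup.mk'_surjective N),
      commutator_def]
  have h2 : (QuotientGroup.mk' N).ker ≤ commutator X := by
    rw [QuotientGroup.ker_mk']
    exact hN
  have h3 := Subgroup.index_map_eq (H := commutator X) (QuotientGroup.mk'_surjective N) h2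
  rw [h1] at h3
  exact h3

/-- **Taussky**, first half: a `2`-group of order `2 ^ n` whose abelianization has order four
contains an element of order `2 ^ (n - 1)`. -/
theorem exists_orderOf_of_index_commutator : ∀ (n : ℕ), 3 ≤ n → ∀ (X : Type u) [Group X]
    [Finite X], Nat.card X = 2 ^ n → (commutator X).index = 4 →
    ∃ a : X, orderOf a = 2 ^ (n - 1) := by
  intro n hn
  induction n, hn using Nat.le_induction with
  | base =>
    intro X _ _ hX hidx
    have hnc : ¬ IsMulCommutative X := by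
      intro h
      rw [commutator_eq_bot, Subgroup.index_bot, hX] at hidx
      norm_num at hidx
    obtain ⟨a, ha⟩ := exists_orderOf_four_of_card_eight (by rw [hX]; norm_num) hnc
    exact ⟨a, by rw [ha]; norm_num⟩
  | succ n hn ih =>
    intro X _ _ hX hidx
    have hF : Fact (Nat.Prime 2) := ⟨Nat.prime_two⟩
    have hXp : IsPGroup 2 X := IsPGroup.of_card hX
    rw [Nat.add_sub_cancel]
    have hn1 : n + 1 = (n - 1) + 2 := by omega
    have hcardD : Nat.card (commutator X) = 2 ^ (n - 1) := by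
      have h1 := Subgroup.card_mul_index (commutator X)
      rw [hidx, hX, hn1, pow_add] at h1
      norm_num at h1
      exact h1
    have hne : commutator X ≠ ⊥ := by
      intro h
      rw [h, Subgroup.card_bot] at hcardD
      have : 2 ^ 1 ≤ 2 ^ (n - 1) := Nat.pow_le_pow_right (by norm_num) (by omega)
      omega
    obtain ⟨z₀, hz₀D, hz₀Z, hz₀1⟩ := exists_mem_center_of_normal_ne_bot' hXp (commutator X) hne
    obtain ⟨i, hi⟩ := exists_involution_zpowers ((IsPGroup.iff_orderOf.1 hXp) z₀) hz₀1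
    set z := z₀ ^ i with hzdef
    have hzD : z ∈ commutator X := Subgroup.pow_mem _ hz₀D _
    have hzZ : z ∈ Subgroup.center X := Subgroup.pow_mem _ hz₀Z _
    have hN : (Subgroup.zpowers z).Normal := normal_of_le_center (Subgroup.zpowers_le.2 hzZ)
    have hNcard : Nat.card (Subgroup.zpowers z) = 2 := by rw [Nat.card_zpowers, hi]
    have hQ : Nat.card (X ⧸ Subgroup.zpowers z) = 2 ^ n := by
      have h1 := Subgroup.card_eq_card_quotient_mul_card_subgroup (Subgroup.zpowers z)
      rw [hX, hNcard, pow_succ] at h1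
      exact (Nat.eq_of_mul_eq_mul_right two_pos h1).symm
    have hQidx : (commutator (X ⧸ Subgroup.zpowers z)).index = 4 := by
      rw [index_commutator_quotient _ (Subgroup.zpowers_le.2 hzD), hidx]
    obtain ⟨ab, hab⟩ := ih (X ⧸ Subgroup.zpowers z) hQ hQidx
    rcases lift_or_abelian_index_two hn hzZ hi hQ ab hab with h | ⟨C, t, a₀, hC, hcomm, ht, hzC,
      ha₀C, ha₀Z, ha₀1, ha₀z⟩
    · exact h
    · exfalso
      have hz1 : z ≠ 1 := by
        intro h
        rw [h, orderOf_one] at hi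
        norm_num at hi
      have hCcard : Nat.card C = 2 ^ n := by
        have h1 := Subgroup.card_mul_index C
        rw [hC, hX, pow_succ] at h1
        exact Nat.eq_of_mul_eq_mul_right two_pos h1
      have hK := card_commutator_mul_card_le hC hcomm ht (Subgroup.center X ⊓ C) inf_le_right
        (fun k hk => (Subgroup.mem_center_iff.1 hk.1 t).symm)
      rw [hcardD, hCcard] at hK
      have hK2 : Nat.card (Subgroup.center X ⊓ C : Subgroup X) ≤ 2 := by
        have h2 : 2 ^ n = 2 ^ (n - 1) * 2 := by rw [← pow_succ]; congr 1; omega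
        rw [h2] at hK
        exact Nat.le_of_mul_le_mul_left hK (pow_pos two_pos _)
      have hzK : z ∈ Subgroup.center X ⊓ C := ⟨hzZ, hzC⟩
      have hnt : Nontrivial (Subgroup.center X ⊓ C : Subgroup X) :=
        ⟨⟨⟨z, hzK⟩, 1, fun h => hz1 (congrArg Subtype.val h)⟩⟩
      have hK1 : 1 < Nat.card (Subgroup.center X ⊓ C : Subgroup X) :=
        Finite.one_lt_card_iff_nontrivial.2 hnt
      have hKcard : Nat.card (Subgroup.center X ⊓ C : Subgroup X) = 2 := by omega
      rcases eq_one_or_eq_of_card_two hKcard hzK hz1 (⟨ha₀Z, ha₀C⟩ : a₀ ∈ Subgroup.center X ⊓ C)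
        with h | h
      · exact ha₀1 h
      · exact ha₀z h

end Cfsg.Agent.Helper16
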