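import Mathlib
import Cfsg.Prelude.Def_LocalStructure
import Cfsg.Agent.Lib.Helper14.Basic
import Cfsg.Agent.Lib.Helper22.PResidual

set_option autoImplicit false

namespace Cfsg.Agent.Helper16

open Cfsg

/-- `x` is a `p`-element. -/
def IsPElem {G : Type*} [Monoid G] (p : ℕ) (x : G) : Prop := ∃ k : ℕ, x ^ p ^ k = 1

theorem IsPElem.map {G G' : Type*} [Monoid G] [Monoid G'] {p : ℕ} {x : G} (h : IsPElem p x)
    (f : G →* G') : IsPElem p (f x) := by
  obtain ⟨k, hk⟩ := h
  exact ⟨k, by rw [← map_pow, hk, map_one]⟩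

theorem IsPElem.inv {G : Type*} [Group G] {p : ℕ} {x : G} (h : IsPElem p x) : IsPElem p x⁻¹ := by
  obtain ⟨k, hk⟩ := h
  exact ⟨k, by rw [inv_pow, hk, inv_one]⟩

theorem IsPElem.conj {G : Type*} [Group G] {p : ℕ} {x : G} (h : IsPElem p x) (g : G) :
    IsPElem p (g * x * g⁻¹) := by
  have := h.map (MulAut.conj g).toMonoidHom
  simpa using this

theorem isPElem_one {G : Type*} [Monoid G] (p : ℕ) : IsPElem p (1 : G) := ⟨0, by simp⟩

/-- A finite group is `p`-closed iff its `p`-elements are closed under products. -/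
theorem isPClosed_iff_forall {G : Type*} [Group G] [Finite G] {p : ℕ} [Fact p.Prime] :
    IsPClosed p G ↔ ∀ x y : G, IsPElem p x → IsPElem p y → IsPElem p (x * y) := by
  constructor
  · intro hcl
    obtain ⟨P⟩ : Nonempty (Sylow p G) := inferInstance
    have hPn := hcl P
    have huniq := Sylow.unique_of_normal P hPn
    have hmem : ∀ x : G, IsPElem p x → x ∈ P := by
      intro x hx
      have hz : IsPGroup p (Subgroup.zpowers x) := by
        obtain ⟨k, hk⟩ := hx
        intro y
        obtain ⟨y, hy⟩ := y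
        rw [Subgroup.mem_zpowers_iff] at hy
        obtain ⟨n, rfl⟩ := hy
        refine ⟨k, ?_⟩
        apply Subtype.ext
        simp only [Subgroup.coe_pow, Subgroup.coe_one]
        rw [← zpow_natCast, ← zpow_mul, mul_comm, zpow_mul, zpow_natCast, hk, one_zpow]
      obtain ⟨Q, hQ⟩ := hz.exists_le_sylow
      have : Q = P := Subsingleton.elim _ _
      rw [← this]
      exact hQ (Subgroup.mem_zpowers x)
    intro x y hx hy
    have hxy : x * y ∈ P := mul_mem (hmem x hx) (hmem y hy)
    obtain ⟨k, hk⟩ := P.2 ⟨x * y, hxy⟩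
    refine ⟨k, ?_⟩
    have := congrArg (fun v : P => (v : G)) hk
    simpa using this
  · intro h
    let P₀ : Subgroup G :=
      { carrier := {x | IsPElem p x}
        one_mem' := isPElem_one p
        mul_mem' := fun {a b} ha hb => h a b ha hb
        inv_mem' := fun {a} ha => ha.inv }
    have hP₀ : IsPGroup p P₀ := by
      rintro ⟨x, k, hk⟩
      exact ⟨k, Subtype.ext (by simpa using hk)⟩
    have hP₀n : P₀.Normal := ⟨fun x hx g => IsPElem.conj hx g⟩
    intro P
    have hle : (P : Subgroup G) ≤ P₀ := by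
      intro x hx
      obtain ⟨k, hk⟩ := P.2 ⟨x, hx⟩
      refine ⟨k, ?_⟩
      have := congrArg (fun v : P => (v : G)) hk
      simpa using this
    have := P.is_maximal' hP₀ hle
    rw [← this]; exact hP₀n

/-- Subgroup version of `isPClosed_iff_forall`. -/
theorem isPClosed_subgroup_iff {G : Type*} [Group G] [Finite G] {p : ℕ} [Fact p.Prime]
    (N : Subgroup G) :
    IsPClosed p N ↔ ∀ x ∈ N, ∀ y ∈ N, IsPElem p x → IsPElem p y → IsPElem p (x * y) := by
  rw [isPClosed_iff_forall]
  have hco : ∀ z : N, IsPElem p z ↔ IsPElem p (z : G) := by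
    intro z
    constructor
    · rintro ⟨k, hk⟩
      exact ⟨k, by simpa using congrArg (fun v : N => (v : G)) hk⟩
    · rintro ⟨k, hk⟩
      exact ⟨k, Subtype.ext (by simpa using hk)⟩
  constructor
  · intro h x hx y hy hpx hpy
    have := h ⟨x, hx⟩ ⟨y, hy⟩ ((hco _).2 hpx) ((hco _).2 hpy)
    exact (hco _).1 this
  · intro h x y hpx hpy
    exact (hco _).2 (h x x.2 y y.2 ((hco _).1 hpx) ((hco _).1 hpy))

/-- Modulo a normal `p`-subgroup, `p`-elements lift. -/
theorem isPElem_mk_iff {G : Type*} [Group G] {p : ℕ} (D : Subgroup G) [D.Normal]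
    (hD : IsPGroup p D) (x : G) : IsPElem p (QuotientGroup.mk' D x) ↔ IsPElem p x := by
  constructor
  · rintro ⟨k, hk⟩
    rw [← map_pow, QuotientGroup.mk'_apply, QuotientGroup.eq_one_iff] at hk
    obtain ⟨j, hj⟩ := hD ⟨_, hk⟩
    refine ⟨k + j, ?_⟩
    have := congrArg (fun v : D => (v : G)) hj
    rw [pow_add, pow_mul]
    simpa using this
  · intro h
    exact h.map _

end Cfsg.Agent.Helper16
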