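import Mathlib
import Cfsg.Prelude.Def_LocalStructure
import Cfsg.Agent.Lib.Helper14.Basic
import Cfsg.Agent.Lib.Helper22.PResidual
import Cfsg.Agent.Lib.Helper16.PElem
import Cfsg.Agent.Lib.Helper16.PClosed

set_option autoImplicit false

namespace Cfsg.Agent.Helper16

open Cfsg

theorem map_pResidual_le {G G' : Type*} [Group G] [Group G'] {p : ℕ} (f : G →* G') :
    (pResidual p G).map f ≤ pResidual p G' := by
  rw [Subgroup.map_le_iff_le_comap]
  show Subgroup.closure {g : G | Nat.Coprime (orderOf g) p} ≤ _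
  rw [Subgroup.closure_le]
  intro g hg
  rw [SetLike.mem_coe, Subgroup.mem_comap]
  apply Subgroup.subset_closure
  exact Nat.Coprime.coprime_dvd_left (orderOf_map_dvd f g) hg

theorem pResidual_le_map_of_surjective {G G' : Type*} [Group G] [Group G'] [Finite G] {p : ℕ}
    [Fact p.Prime] (f : G →* G') (hf : Function.Surjective f) :
    pResidual p G' ≤ (pResidual p G).map f := by
  have hRn : (pResidual p G).Normal := Cfsg.Agent.Helper22.pResidual_normal
  have hMn : ((pResidual p G).map f).Normal := Subgroup.Normal.map hRn f hf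
  have hq : IsPGroup p (G' ⧸ (pResidual p G).map f) := by
    intro q
    obtain ⟨g', rfl⟩ := QuotientGroup.mk_surjective q
    obtain ⟨g, rfl⟩ := hf g'
    obtain ⟨a, ha⟩ := Cfsg.Agent.Helper22.exists_pow_mem_pResidual (p := p) g
    refine ⟨a, ?_⟩
    rw [← QuotientGroup.mk_pow, QuotientGroup.eq_one_iff, ← map_pow]
    exact ⟨_, ha, rfl⟩
  have := Cfsg.Agent.Helper22.pResidual_le_ker_of_isPGroup
    (QuotientGroup.mk' ((pResidual p G).map f)) hq
  rwa [QuotientGroup.ker_mk'] at this

theorem map_pResidual_eq_of_surjective {G G' : Type*} [Group G] [Group G'] [Finite G] {p : ℕ}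
    [Fact p.Prime] (f : G →* G') (hf : Function.Surjective f) :
    (pResidual p G).map f = pResidual p G' :=
  le_antisymm (map_pResidual_le f) (pResidual_le_map_of_surjective f hf)

theorem comap_pCore_quotient {G : Type*} [Group G] {p : ℕ} (D : Subgroup G) [D.Normal]
    (hD : IsPGroup p D) : (pCore p (G ⧸ D)).comap (QuotientGroup.mk' D) = pCore p G := by
  apply le_antisymm
  · have hn : ((pCore p (G ⧸ D)).comap (QuotientGroup.mk' D)).Normal :=
      Subgroup.Normal.comap (pCore_normal' p) _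
    apply Cfsg.Agent.Helper14.le_pCore hn
    rintro ⟨x, hx⟩
    rw [Subgroup.mem_comap] at hx
    obtain ⟨k, hk⟩ := Cfsg.Agent.Helper14.pCore_isPGroup p (G ⧸ D) ⟨_, hx⟩
    have h1 : IsPElem p (QuotientGroup.mk' D x) :=
      ⟨k, by simpa using congrArg (fun v : pCore p (G ⧸ D) => (v : G ⧸ D)) hk⟩
    obtain ⟨j, hj⟩ := (isPElem_mk_iff D hD x).1 h1
    exact ⟨j, Subtype.ext (by simpa using hj)⟩
  · rw [← Subgroup.map_le_iff_le_comap]
    apply Cfsg.Agent.Helper14.le_pCore
      (Subgroup.Normal.map (pCore_normal' p) _ (QuotientGroup.mk'_surjective D))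
    exact (Cfsg.Agent.Helper14.pCore_isPGroup p G).map _

theorem pResidual_le_of_le_sup {G : Type*} [Group G] {p : ℕ} (N D : Subgroup G) [N.Normal]
    (hD : IsPGroup p D) (h : pResidual p G ≤ N ⊔ D) : pResidual p G ≤ N := by
  show Subgroup.closure {g : G | Nat.Coprime (orderOf g) p} ≤ N
  rw [Subgroup.closure_le]
  intro g hg
  have hgR : g ∈ pResidual p G := Subgroup.subset_closure hg
  have hg2 := h hgR
  rw [Subgroup.mem_sup_of_normal_left] at hg2
  obtain ⟨n, hn, d, hd, rfl⟩ := hg2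
  have hcop : Nat.Coprime (orderOf (n * d)) p := hg
  obtain ⟨j, hj⟩ := hD ⟨d, hd⟩
  have hdj : d ^ p ^ j = 1 := by
    have := congrArg (fun v : D => (v : G)) hj
    simpa using this
  have e1 : ((n * d : G) : G ⧸ N) = (d : G ⧸ N) := by
    rw [QuotientGroup.mk_mul, (QuotientGroup.eq_one_iff n).2 hn, one_mul]
  have e2 : ((n * d : G) : G ⧸ N) ^ (p ^ j) = 1 := by
    rw [e1, ← QuotientGroup.mk_pow, hdj]; rfl
  have e3 : ((n * d : G) : G ⧸ N) ^ (orderOf (n * d)) = 1 := by
    rw [← QuotientGroup.mk_pow, pow_orderOf_eq_one]; rfl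
  have e4 := Cfsg.Agent.Helper14.eq_one_of_pow_eq_one_of_coprime e3 e2
    (Nat.Coprime.pow_right j hcop)
  exact (QuotientGroup.eq_one_iff (n * d)).1 e4

end Cfsg.Agent.Helper16
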