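import Mathlib
import Cfsg.Agent.Lib.Helper16.QuatRecog
import Cfsg.Agent.Lib.Helper2.CardSL

/-!
# Recognition of `SL(2,3)` (helper16's library)

A group generated by `x, y, c` with `x` of order `4`, `y ^ 2 = x ^ 2`, `y x y⁻¹ = x⁻¹`,
`c` of order `3`, `c x c⁻¹ = y`, `c y c⁻¹ = x y` is isomorphic to `SL(2,3)`.

The model is `QuaternionGroup 2 ⋊[phi] Multiplicative (ZMod 3)`.
-/

set_option autoImplicit false

namespace Cfsg.Agent.Helper16

namespace SL23

open QuaternionGroup Cfsg.Agent.Helper3

/-- The automorphism of order three of the quaternion group: `x ↦ y ↦ x y ↦ x`. -/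
def alphaFun : QuaternionGroup 2 → QuaternionGroup 2
  | a i => if i = 0 then a 0 else if i = 1 then xa 0 else if i = 2 then a 2 else xa 2
  | xa i => if i = 0 then xa 3 else if i = 1 then a 3 else if i = 2 then xa 1 else a 1

theorem alphaFun_mul : ∀ p q : QuaternionGroup 2, alphaFun (p * q) = alphaFun p * alphaFun q := by
  decide

theorem alphaFun_cube : ∀ p : QuaternionGroup 2, alphaFun (alphaFun (alphaFun p)) = p := by
  decide

/-- The automorphism of order three of the quaternion group. -/
def alpha : MulAut (QuaternionGroup 2) where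
  toFun := alphaFun
  invFun := fun p => alphaFun (alphaFun p)
  left_inv := alphaFun_cube
  right_inv := alphaFun_cube
  map_mul' := alphaFun_mul

theorem alpha_apply (p : QuaternionGroup 2) : alpha p = alphaFun p := rfl

theorem alpha_pow_three : alpha ^ 3 = 1 := by
  ext p
  show alphaFun (alphaFun (alphaFun p)) = p
  exact alphaFun_cube p

/-- The homomorphism `ZMod n → G` determined by an element with `c ^ n = 1`. -/
def zmodHom {G : Type*} [Group G] (n : ℕ) [NeZero n] (c : G) (hc : c ^ n = 1) :
    Multiplicative (ZMod n) →* G where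
  toFun k := zmodPow c (Multiplicative.toAdd k)
  map_one' := zmodPow_zero c
  map_mul' _ _ := zmodPow_add hc _ _

theorem zmodHom_apply {G : Type*} [Group G] (n : ℕ) [NeZero n] (c : G) (hc : c ^ n = 1)
    (k : Multiplicative (ZMod n)) : zmodHom n c hc k = c ^ (Multiplicative.toAdd k).val := rfl

/-- The action of `ZMod 3` on the quaternion group. -/
def phi : Multiplicative (ZMod 3) →* MulAut (QuaternionGroup 2) := zmodHom 3 alpha alpha_pow_three

/-- The model of `SL(2,3)`. -/
abbrev Model := QuaternionGroup 2 ⋊[phi] Multiplicative (ZMod 3)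

instance : Finite Model :=
  Finite.of_equiv (QuaternionGroup 2 × Multiplicative (ZMod 3)) SemidirectProduct.equivProd.symm

theorem card_model : Nat.card Model = 24 := by
  rw [SemidirectProduct.card, Nat.card_eq_fintype_card, QuaternionGroup.card,
    Nat.card_eq_fintype_card]
  rfl

/-- Homomorphisms out of a generalized quaternion group are determined by the images of the two
generators. -/
theorem quaternion_hom_ext {n : ℕ} [NeZero n] {L : Type*} [Group L]
    (f g : QuaternionGroup n →* L)
    (h1 : f (a 1) = g (a 1)) (h2 : f (xa 0) = g (xa 0)) : f = g := by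
  have hne : NeZero (2 * n) := ⟨by have := NeZero.pos n; omega⟩
  have ha : ∀ i : ZMod (2 * n), f (a i) = g (a i) := by
    intro i
    have : (a i : QuaternionGroup n) = (a 1) ^ i.val := by
      rw [a_one_pow, ZMod.natCast_zmod_val]
    rw [this, map_pow, map_pow, h1]
  ext q
  rcases q with i | i
  · exact ha i
  · have : (xa i : QuaternionGroup n) = xa 0 * a i := by rw [xa_mul_a, zero_add]
    rw [this, map_mul, map_mul, h2, ha i]

/-- The defining relations of `SL(2,3)` on three elements of a group. -/
structure Rel {L : Type*} [Group L] (x y c : L) : Prop where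
  hxo : orderOf x = 4
  hy : y ^ 2 = x ^ 2
  hyx : y * x * y⁻¹ = x⁻¹
  hco : orderOf c = 3
  hcx : c * x * c⁻¹ = y
  hcy : c * y * c⁻¹ = x * y

namespace Rel

variable {L : Type*} [Group L] {x y c : L}

theorem x_pow (h : Rel x y c) : x ^ (2 * 2) = 1 := by
  have : x ^ 4 = 1 := by rw [← h.hxo]; exact pow_orderOf_eq_one x
  exact this

theorem c_pow (h : Rel x y c) : c ^ 3 = 1 := by rw [← h.hco]; exact pow_orderOf_eq_one c

theorem y_notMem (h : Rel x y c) : y ∉ Subgroup.zpowers x := by
  intro hy
  obtain ⟨k, hk⟩ := Subgroup.mem_zpowers_iff.1 hy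
  have h1 : y * x * y⁻¹ = x := by
    rw [← hk, mul_inv_eq_iff_eq_mul]
    exact ((Commute.refl x).zpow_left k).eq
  rw [h.hyx] at h1
  have h2 : x ^ 2 = 1 := by
    rw [pow_two]
    calc x * x = x⁻¹ * x := by rw [h1]
      _ = 1 := inv_mul_cancel x
  have h3 := orderOf_dvd_of_pow_eq_one h2
  rw [h.hxo] at h3
  norm_num at h3

/-- The quaternion part of the homomorphism. -/
def fn (h : Rel x y c) : QuaternionGroup 2 →* L := quaternionLift x y h.x_pow h.hy h.hyx

/-- The cyclic part of the homomorphism. -/
def fg (h : Rel x y c) : Multiplicative (ZMod 3) →* L := zmodHom 3 c h.c_pow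

theorem fn_a_one (h : Rel x y c) : h.fn (a 1) = x := by
  show zmodPow x (1 : ZMod (2 * 2)) = x
  unfold zmodPow
  have : (1 : ZMod (2 * 2)).val = 1 := rfl
  rw [this, pow_one]

theorem fn_xa_zero (h : Rel x y c) : h.fn (xa 0) = y := by
  show y * zmodPow x (0 : ZMod (2 * 2)) = y
  rw [zmodPow_zero, mul_one]

theorem fn_xa_three (h : Rel x y c) : h.fn (xa 3) = y * x ^ 3 := by
  show y * zmodPow x (3 : ZMod (2 * 2)) = y * x ^ 3
  unfold zmodPow
  have : (3 : ZMod (2 * 2)).val = 3 := rfl
  rw [this]

theorem fn_injective (h : Rel x y c) : Function.Injective h.fn := by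
  rw [injective_iff_map_eq_one]
  rintro (i | i) hi
  · change zmodPow x i = 1 at hi
    unfold zmodPow at hi
    have h1 := orderOf_dvd_of_pow_eq_one hi
    rw [h.hxo] at h1
    have h2 : i.val < 2 * 2 := ZMod.val_lt i
    have h3 : i.val = 0 := Nat.eq_zero_of_dvd_of_lt h1 h2
    have h4 : i = 0 := (ZMod.val_eq_zero i).1 h3
    rw [h4]; rfl
  · exfalso
    change y * zmodPow x i = 1 at hi
    apply h.y_notMem
    have : y = (zmodPow x i)⁻¹ := eq_inv_of_mul_eq_one_left hi
    rw [this]
    exact Subgroup.inv_mem _ (Subgroup.pow_mem _ (Subgroup.mem_zpowers x) _)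

/-- Compatibility with the generator of `ZMod 3`. -/
theorem fn_alpha (h : Rel x y c) (q : QuaternionGroup 2) : h.fn (alpha q) = c * h.fn q * c⁻¹ := by
  have key : h.fn.comp alpha.toMonoidHom = (MulAut.conj c).toMonoidHom.comp h.fn := by
    apply quaternion_hom_ext
    · show h.fn (alphaFun (a 1)) = c * h.fn (a 1) * c⁻¹
      have : alphaFun (a 1 : QuaternionGroup 2) = xa 0 := by decide
      rw [this, h.fn_a_one, h.fn_xa_zero, h.hcx]
    · show h.fn (alphaFun (xa 0)) = c * h.fn (xa 0) * c⁻¹
      have : alphaFun (xa 0 : QuaternionGroup 2) = xa 3 := by decide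
      rw [this, h.fn_xa_zero, h.fn_xa_three, h.hcy]
      have h4 : x ^ 3 = x⁻¹ := by
        rw [eq_inv_iff_mul_eq_one, ← pow_succ]
        exact h.x_pow
      have h5 : y * x⁻¹ * y⁻¹ = x := by
        have := congrArg (fun v => v⁻¹) h.hyx
        simp only [mul_inv_rev, inv_inv] at this
        rw [← mul_assoc] at this
        exact this
      calc y * x ^ 3 = (y * x⁻¹ * y⁻¹) * y := by rw [h4]; group
        _ = x * y := by rw [h5]
  exact DFunLike.congr_fun key q

theorem fn_alpha_pow (h : Rel x y c) (m : ℕ) (q : QuaternionGroup 2) :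
    h.fn ((alpha ^ m) q) = c ^ m * h.fn q * (c ^ m)⁻¹ := by
  induction m generalizing q with
  | zero => simp
  | succ m ih =>
    rw [pow_succ, MulAut.mul_apply, ih, h.fn_alpha, pow_succ]
    group

theorem compat (h : Rel x y c) (g : Multiplicative (ZMod 3)) :
    h.fn.comp (phi g).toMonoidHom = (MulAut.conj (h.fg g)).toMonoidHom.comp h.fn := by
  ext q
  show h.fn ((phi g) q) = h.fg g * h.fn q * (h.fg g)⁻¹
  have h1 : phi g = alpha ^ (Multiplicative.toAdd g).val := rfl
  have h2 : h.fg g = c ^ (Multiplicative.toAdd g).val := rfl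
  rw [h1, h2, h.fn_alpha_pow]

/-- The homomorphism from the model. -/
def hom (h : Rel x y c) : Model →* L := SemidirectProduct.lift h.fn h.fg h.compat

theorem x_mem_range (h : Rel x y c) : x ∈ h.hom.range :=
  ⟨SemidirectProduct.inl (a 1), by rw [hom, SemidirectProduct.lift_inl, h.fn_a_one]⟩

theorem y_mem_range (h : Rel x y c) : y ∈ h.hom.range :=
  ⟨SemidirectProduct.inl (xa 0), by rw [hom, SemidirectProduct.lift_inl, h.fn_xa_zero]⟩

theorem c_mem_range (h : Rel x y c) : c ∈ h.hom.range := by
  refine ⟨SemidirectProduct.inr (Multiplicative.ofAdd 1), ?_⟩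
  rw [hom, SemidirectProduct.lift_inr]
  show c ^ (1 : ZMod 3).val = c
  have : (1 : ZMod 3).val = 1 := rfl
  rw [this, pow_one]

theorem card_range (h : Rel x y c) : Nat.card h.hom.range = 24 := by
  have hfin : Finite h.hom.range := Finite.of_surjective _ h.hom.rangeRestrict_surjective
  have hle : Nat.card h.hom.range ≤ 24 := by
    rw [← card_model]
    exact Nat.card_le_card_of_surjective _ h.hom.rangeRestrict_surjective
  have h8 : 8 ∣ Nat.card h.hom.range := by
    have h1 : h.fn.range ≤ h.hom.range := by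
      rintro _ ⟨q, rfl⟩
      exact ⟨SemidirectProduct.inl q, by rw [hom, SemidirectProduct.lift_inl]⟩
    have h2 : Nat.card h.fn.range = 8 := by
      rw [← Nat.card_congr (MonoidHom.ofInjective h.fn_injective).toEquiv,
        Nat.card_eq_fintype_card, QuaternionGroup.card]
    rw [← h2]
    exact Subgroup.card_dvd_of_le h1
  have h3 : 3 ∣ Nat.card h.hom.range := by
    have := orderOf_dvd_natCard (⟨c, h.c_mem_range⟩ : h.hom.range)
    rwa [Subgroup.orderOf_mk, h.hco] at this
  have h24 : 8 * 3 ∣ Nat.card h.hom.range :=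
    Nat.Coprime.mul_dvd_of_dvd_of_dvd (by norm_num) h8 h3
  have hpos : 0 < Nat.card h.hom.range := Nat.card_pos
  have := Nat.le_of_dvd hpos h24
  omega

theorem hom_injective (h : Rel x y c) : Function.Injective h.hom := by
  have hfin : Finite h.hom.range := Finite.of_surjective _ h.hom.rangeRestrict_surjective
  have hbij : Function.Bijective h.hom.rangeRestrict := by
    rw [Nat.bijective_iff_surjective_and_card]
    exact ⟨h.hom.rangeRestrict_surjective, by rw [card_model, h.card_range]⟩
  intro p q hpq
  apply hbij.1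
  exact Subtype.ext hpq

/-- Recognition of the model by generators and relations. -/
theorem nonempty_mulEquiv_of_closure (h : Rel x y c) (hgen : Subgroup.closure {x, y, c} = ⊤) :
    Nonempty (Model ≃* L) := by
  have hsurj : Function.Surjective h.hom := by
    rw [← MonoidHom.range_eq_top, eq_top_iff, ← hgen, Subgroup.closure_le]
    intro g hg
    rcases hg with rfl | rfl | rfl
    · exact h.x_mem_range
    · exact h.y_mem_range
    · exact h.c_mem_range
  exact ⟨MulEquiv.ofBijective h.hom ⟨h.hom_injective, hsurj⟩⟩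

/-- Recognition of the model by order and relations. -/
theorem nonempty_mulEquiv_of_card [Finite L] (h : Rel x y c) (hcard : Nat.card L = 24) :
    Nonempty (Model ≃* L) := by
  have hsurj : Function.Surjective h.hom := by
    rw [← MonoidHom.range_eq_top]
    apply Subgroup.eq_top_of_card_eq
    rw [h.card_range, hcard]
  exact ⟨MulEquiv.ofBijective h.hom ⟨h.hom_injective, hsurj⟩⟩

end Rel

/-- The three generators of `SL(2,3)`. -/
def matA : Matrix.SpecialLinearGroup (Fin 2) (ZMod 3) := ⟨!![0, -1; 1, 0], by decide +kernel⟩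
/-- The three generators of `SL(2,3)`. -/
def matB : Matrix.SpecialLinearGroup (Fin 2) (ZMod 3) := ⟨!![1, 1; 1, -1], by decide +kernel⟩
/-- The three generators of `SL(2,3)`. -/
def matC : Matrix.SpecialLinearGroup (Fin 2) (ZMod 3) := ⟨!![1, 1; 0, 1], by decide +kernel⟩

theorem card_SL23 : Nat.card (Matrix.SpecialLinearGroup (Fin 2) (ZMod 3)) = 24 := by
  have h := Cfsg.Agent.Helper2.card_SL_mul (F := ZMod 3) 2 (by norm_num)
  rw [ZMod.card, Fin.prod_univ_two] at h
  norm_num [-Nat.card_eq_fintype_card] at h
  omega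

theorem rel_SL23 : Rel matA matB matC where
  hxo := by
    have h4 : matA ^ 4 = 1 := by decide +kernel
    have h2 : matA ^ 2 ≠ 1 := by decide +kernel
    have := orderOf_eq_prime_pow (p := 2) (n := 1) (x := matA) (by simpa using h2) (by simpa using h4)
    simpa using this
  hy := by decide +kernel
  hyx := by decide +kernel
  hco := by
    have h3 : matC ^ 3 = 1 := by decide +kernel
    have h1 : matC ≠ 1 := by decide +kernel
    exact orderOf_eq_prime h3 h1
  hcx := by decide +kernel
  hcy := by decide +kernel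

/-- `SL(2,3)` is isomorphic to the model. -/
theorem nonempty_model_mulEquiv_SL23 :
    Nonempty (Model ≃* Matrix.SpecialLinearGroup (Fin 2) (ZMod 3)) :=
  rel_SL23.nonempty_mulEquiv_of_card card_SL23

/-- **Recognition of `SL(2,3)`** by generators and relations. -/
theorem nonempty_mulEquiv_SL23_of_closure {L : Type*} [Group L] {x y c : L} (h : Rel x y c)
    (hgen : Subgroup.closure {x, y, c} = ⊤) :
    Nonempty (L ≃* Matrix.SpecialLinearGroup (Fin 2) (ZMod 3)) := by
  obtain ⟨e₁⟩ := h.nonempty_mulEquiv_of_closure hgen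
  obtain ⟨e₂⟩ := nonempty_model_mulEquiv_SL23
  exact ⟨e₁.symm.trans e₂⟩

/-- **Recognition of `SL(2,3)`** by order and relations. -/
theorem nonempty_mulEquiv_SL23_of_card {L : Type*} [Group L] [Finite L] {x y c : L}
    (h : Rel x y c) (hcard : Nat.card L = 24) :
    Nonempty (L ≃* Matrix.SpecialLinearGroup (Fin 2) (ZMod 3)) := by
  obtain ⟨e₁⟩ := h.nonempty_mulEquiv_of_card hcard
  obtain ⟨e₂⟩ := nonempty_model_mulEquiv_SL23
  exact ⟨e₁.symm.trans e₂⟩

end SL23

end Cfsg.Agent.Helper16
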