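import Mathlib

set_option autoImplicit false

namespace Cfsg.Agent.Helper16

/-- A finite group of order `2^(n+1)` with a cyclic subgroup `⟨x⟩` of order `2^n` outside of which
all elements have order `< 2^n` has a `2`-group as automorphism group. -/
theorem aut_isPGroup_of_cyclic_index_two {X : Type*} [Group X] [Finite X] (n : ℕ) (hn : 1 ≤ n)
    (hcard : Nat.card X = 2 ^ (n + 1)) (x : X) (hx : orderOf x = 2 ^ n)
    (hout : ∀ g : X, g ∉ Subgroup.zpowers x → orderOf g < 2 ^ n) : IsPGroup 2 (MulAut X) := by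
  have hCcard : Nat.card (Subgroup.zpowers x) = 2 ^ n := by rw [Nat.card_zpowers, hx]
  have hidx : (Subgroup.zpowers x).index = 2 := by
    have h1 := Subgroup.card_mul_index (Subgroup.zpowers x)
    rw [hCcard, hcard, pow_succ] at h1
    exact Nat.eq_of_mul_eq_mul_left (by positivity) h1
  -- (1) automorphisms preserve `⟨x⟩`
  have hφx : ∀ φ : MulAut X, φ x ∈ Subgroup.zpowers x := by
    intro φ
    by_contra hcon
    have := hout _ hcon
    rw [MulEquiv.orderOf_eq, hx] at this
    exact lt_irrefl _ this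
  -- (3) an element outside
  obtain ⟨y, hy⟩ : ∃ y : X, y ∉ Subgroup.zpowers x := by
    by_contra hcon
    push Not at hcon
    have : Subgroup.zpowers x = ⊤ := by
      rw [eq_top_iff]; intro g _; exact hcon g
    rw [this, Subgroup.index_top] at hidx
    omega
  have hyinv : y⁻¹ ∉ Subgroup.zpowers x := fun h => hy (by simpa using Subgroup.inv_mem _ h)
  -- (4)
  have hcoset : ∀ g : X, g ∈ Subgroup.zpowers x ∨ g * y⁻¹ ∈ Subgroup.zpowers x := by
    intro g
    by_cases hg : g ∈ Subgroup.zpowers x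
    · left; exact hg
    · right
      rw [Subgroup.mul_mem_iff_of_index_two hidx]
      exact ⟨fun h => absurd h hg, fun h => absurd h hyinv⟩
  have hnat : ∀ g ∈ Subgroup.zpowers x, ∃ k : ℕ, x ^ k = g := by
    intro g hg
    rw [← mem_powers_iff_mem_zpowers] at hg
    exact hg
  -- (5)
  have hfix : ∀ ψ : MulAut X, ψ x = x → ψ y = y → ψ = 1 := by
    intro ψ h1 h2
    have hC : ∀ g ∈ Subgroup.zpowers x, ψ g = g := by
      intro g hg
      obtain ⟨k, rfl⟩ := hnat g hg
      rw [map_pow, h1]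
    apply MulEquiv.ext
    intro g
    rw [MulAut.one_apply]
    rcases hcoset g with hg | hg
    · exact hC g hg
    · have : g = (g * y⁻¹) * y := by group
      rw [this, map_mul, hC _ hg, h2]
  intro φ
  obtain ⟨i, hi⟩ := hnat _ (hφx φ)
  have hpow : ∀ m : ℕ, (φ ^ m) x = x ^ (i ^ m) := by
    intro m
    induction m with
    | zero => simp
    | succ m ih =>
      rw [pow_succ, MulAut.mul_apply, ← hi, map_pow, ih, ← pow_mul, pow_succ]
  have hcop : Nat.Coprime i (2 ^ n) := by
    have h1 : orderOf (x ^ i) = 2 ^ n := by rw [hi, MulEquiv.orderOf_eq, hx]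
    rw [orderOf_pow, hx] at h1
    have h2 : (2 ^ n).gcd i ∣ 2 ^ n := Nat.gcd_dvd_left _ _
    have h3 : 2 ^ n / (2 ^ n).gcd i * (2 ^ n).gcd i = 2 ^ n := Nat.div_mul_cancel h2
    rw [h1] at h3
    have h4 : (2 ^ n).gcd i = 1 := by
      have : 2 ^ n * (2 ^ n).gcd i = 2 ^ n * 1 := by rw [h3, mul_one]
      exact Nat.eq_of_mul_eq_mul_left (by positivity) this
    rw [Nat.coprime_comm]; exact h4
  have htot : (2 ^ n).totient = 2 ^ (n - 1) := by
    rw [Nat.totient_prime_pow Nat.prime_two (by omega)]; simp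
  have hψx : (φ ^ (2 ^ (n - 1))) x = x := by
    rw [hpow]
    have h1 := Nat.ModEq.pow_totient hcop
    rw [htot] at h1
    have h2 : x ^ (i ^ 2 ^ (n - 1)) = x ^ 1 := by
      rw [pow_eq_pow_iff_modEq, hx]; exact h1
    rw [h2, pow_one]
  set ψ := φ ^ (2 ^ (n - 1)) with hψ
  have hψy : ψ y ∉ Subgroup.zpowers x := by
    intro h
    obtain ⟨k, hk⟩ := hnat _ h
    have : ψ (x ^ k) = ψ y := by rw [map_pow, hψx, hk]
    have := ψ.injective this
    exact hy (this ▸ Subgroup.pow_mem _ (Subgroup.mem_zpowers x) k)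
  obtain ⟨j, hj⟩ := hnat _ ((hcoset (ψ y)).resolve_left hψy)
  have hψy' : ψ y = x ^ j * y := by rw [hj]; group
  have hψpowx : ∀ m : ℕ, (ψ ^ m) x = x := by
    intro m
    induction m with
    | zero => simp
    | succ m ih => rw [pow_succ, MulAut.mul_apply, hψx, ih]
  have hψpowy : ∀ m : ℕ, (ψ ^ m) y = x ^ (m * j) * y := by
    intro m
    induction m with
    | zero => simp
    | succ m ih =>
      rw [pow_succ, MulAut.mul_apply, hψy', map_mul, map_pow, hψpowx, ih, ← mul_assoc, ← pow_add]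
      congr 2
      ring
  have hfin : ψ ^ (2 ^ n) = 1 := by
    apply hfix _ (hψpowx _)
    rw [hψpowy, pow_mul, ← hx, pow_orderOf_eq_one, one_pow, one_mul]
  refine ⟨(n - 1) + n, ?_⟩
  rw [pow_add, pow_mul, ← hψ, hfin]

end Cfsg.Agent.Helper16
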