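import Mathlib
import Cfsg.Agent.Lib.Helper16.AutTwoGroup

set_option autoImplicit false

namespace Cfsg.Agent.Helper16

theorem isCyclic_of_le' {G : Type*} [Group G] {P K : Subgroup G} (h : P ≤ K) (hK : IsCyclic K) :
    IsCyclic P := by
  have : IsCyclic (P.subgroupOf K) := inferInstance
  exact isCyclic_of_surjective (Subgroup.subgroupOfEquivOfLe h)
    (Subgroup.subgroupOfEquivOfLe h).surjective

/-- The automorphism group of a finite cyclic `2`-group is a `2`-group. -/
theorem mulAut_isPGroup_of_isCyclic' {Q : Type*} [Group Q] [Finite Q] (hQ : IsPGroup 2 Q)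
    (hc : IsCyclic Q) : IsPGroup 2 (MulAut Q) := by
  have hF : Fact (Nat.Prime 2) := ⟨Nat.prime_two⟩
  obtain ⟨k, hk⟩ := IsPGroup.iff_card.1 hQ
  have h1 := IsCyclic.card_mulAut Q
  rw [hk] at h1
  rcases Nat.eq_zero_or_pos k with h0 | hpos
  · rw [h0, pow_zero, Nat.totient_one] at h1
    exact IsPGroup.of_card (n := 0) (by rw [h1, pow_zero])
  · rw [Nat.totient_prime_pow Nat.prime_two hpos] at h1
    exact IsPGroup.of_card (n := k - 1) (by rw [h1]; simp)

/-- In a group with a cyclic subgroup `⟨a⟩` of index `2` and order at least `16`, all of whose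
outside elements have order `4` and invert `a` (such as a generalized quaternion group of order
at least `32`), every normal subgroup has a `2`-group as automorphism group. -/
theorem mulAut_isPGroup_of_normal_of_quaternionLike {T : Type*} [Group T] [Finite T] (k : ℕ)
    (hk : 3 ≤ k) (a : T) (hao : orderOf a = 2 ^ (k + 1))
    (hidx : (Subgroup.zpowers a).index = 2)
    (hout4 : ∀ y : T, y ∉ Subgroup.zpowers a → orderOf y = 4)
    (hinv : ∀ y : T, y ∉ Subgroup.zpowers a → y * a * y⁻¹ = a⁻¹)
    (N : Subgroup T) [hN : N.Normal] : IsPGroup 2 (MulAut N) := by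
  have hF : Fact (Nat.Prime 2) := ⟨Nat.prime_two⟩
  have hAn : (Subgroup.zpowers a).Normal := Subgroup.normal_of_index_eq_two hidx
  have hTcard : Nat.card T = 2 ^ (k + 2) := by
    have h1 := Subgroup.card_mul_index (Subgroup.zpowers a)
    rw [hidx, Nat.card_zpowers, hao] at h1
    rw [← h1]; ring
  have hT2 : IsPGroup 2 T := IsPGroup.of_card hTcard
  have hN2 : IsPGroup 2 N := hT2.to_subgroup N
  by_cases hNA : N ≤ Subgroup.zpowers a
  · exact mulAut_isPGroup_of_isCyclic' hN2 (isCyclic_of_le' hNA inferInstance)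
  · obtain ⟨y, hyN, hyA⟩ := SetLike.not_le_iff_exists.1 hNA
    have ha2N : a ^ 2 ∈ N := by
      have h1 : a * y * a⁻¹ ∈ N := hN.conj_mem y hyN a
      have h2 : a * y * a⁻¹ * y⁻¹ ∈ N := N.mul_mem h1 (N.inv_mem hyN)
      have h3 : y * a⁻¹ * y⁻¹ = a := by
        have := congrArg (fun z => z⁻¹) (hinv y hyA)
        simp only [mul_inv_rev, inv_inv] at this
        rw [← mul_assoc] at this
        exact this
      have h4 : a * y * a⁻¹ * y⁻¹ = a ^ 2 := by
        calc a * y * a⁻¹ * y⁻¹ = a * (y * a⁻¹ * y⁻¹) := by group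
          _ = a * a := by rw [h3]
          _ = a ^ 2 := (pow_two a).symm
      rwa [h4] at h2
    -- C = A ∩ N inside N
    have hCcyc : IsCyclic ((Subgroup.zpowers a).subgroupOf N) := by
      have h1 : IsCyclic (Subgroup.zpowers a ⊓ N : Subgroup T) :=
        isCyclic_of_le' inf_le_left inferInstance
      rw [← Subgroup.inf_subgroupOf_right]
      exact isCyclic_of_surjective (Subgroup.subgroupOfEquivOfLe inf_le_right).symm
        (Subgroup.subgroupOfEquivOfLe inf_le_right).symm.surjective
    have hCidx : ((Subgroup.zpowers a).subgroupOf N).index = 2 := by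
      have h1 : (Subgroup.zpowers a).relIndex N ∣ (Subgroup.zpowers a).index :=
        Subgroup.relIndex_dvd_index_of_normal _ _
      rw [hidx] at h1
      have h2 : (Subgroup.zpowers a).relIndex N ≠ 1 := by
        intro h
        rw [Subgroup.relIndex_eq_one] at h
        exact hNA h
      have h3 : (Subgroup.zpowers a).relIndex N ≤ 2 := Nat.le_of_dvd (by norm_num) h1
      have h4 : (Subgroup.zpowers a).relIndex N ≠ 0 := fun h => by rw [h] at h1; simp at h1
      show (Subgroup.zpowers a).relIndex N = 2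
      omega
    obtain ⟨g, hg⟩ := hCcyc.exists_generator
    have hgo : orderOf g = Nat.card ((Subgroup.zpowers a).subgroupOf N) :=
      orderOf_eq_card_of_forall_mem_zpowers hg
    obtain ⟨c, hc⟩ := IsPGroup.iff_card.1 (hN2.to_subgroup ((Subgroup.zpowers a).subgroupOf N))
    have hxo : orderOf (g : N) = 2 ^ c := by
      rw [Subgroup.orderOf_coe, hgo, hc]
    -- zpowers (g : N) = C
    have hzp : ∀ z : N, z ∈ Subgroup.zpowers (g : N) ↔ z ∈ (Subgroup.zpowers a).subgroupOf N := by
      intro z
      constructor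
      · intro hz
        rw [Subgroup.mem_zpowers_iff] at hz
        obtain ⟨i, rfl⟩ := hz
        exact Subgroup.zpow_mem _ g.2 i
      · intro hz
        have := hg ⟨z, hz⟩
        rw [Subgroup.mem_zpowers_iff] at this ⊢
        obtain ⟨i, hi⟩ := this
        exact ⟨i, by simpa using congrArg (fun v : ((Subgroup.zpowers a).subgroupOf N) => (v : N)) hi⟩
    -- c ≥ k
    have hck : k ≤ c := by
      have hmem : (⟨a ^ 2, ha2N⟩ : N) ∈ (Subgroup.zpowers a).subgroupOf N := by
        rw [Subgroup.mem_subgroupOf]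
        exact Subgroup.pow_mem _ (Subgroup.mem_zpowers a) 2
      have h1 : orderOf (⟨⟨a ^ 2, ha2N⟩, hmem⟩ : (Subgroup.zpowers a).subgroupOf N)
          ∣ Nat.card ((Subgroup.zpowers a).subgroupOf N) := orderOf_dvd_natCard _
      rw [Subgroup.orderOf_mk, Subgroup.orderOf_mk, hc] at h1
      have h2 : orderOf (a ^ 2) = 2 ^ k := by
        rw [orderOf_pow, hao]
        have : (2 ^ (k + 1)).gcd 2 = 2 := Nat.gcd_eq_right (dvd_pow_self 2 (by omega))
        rw [this, pow_succ, Nat.mul_div_cancel _ (by norm_num)]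
      rw [h2] at h1
      exact (Nat.pow_dvd_pow_iff_le_right (by norm_num)).1 h1
    have hNcard : Nat.card N = 2 ^ (c + 1) := by
      have h1 := Subgroup.card_mul_index ((Subgroup.zpowers a).subgroupOf N)
      rw [hCidx, hc] at h1
      rw [← h1]; ring
    apply aut_isPGroup_of_cyclic_index_two c (by omega) hNcard (g : N) hxo
    intro z hz
    rw [hzp, Subgroup.mem_subgroupOf] at hz
    have h1 : orderOf z = 4 := by
      rw [← Subgroup.orderOf_coe]; exact hout4 _ hz
    rw [h1]
    calc 4 < 2 ^ 3 := by norm_num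
      _ ≤ 2 ^ c := Nat.pow_le_pow_right (by norm_num) (by omega)

end Cfsg.Agent.Helper16
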