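import Mathlib
import Cfsg.Agent.Lib.Helper16.AutTwoGroup
import Cfsg.Agent.Lib.Helper16.QuatNormal
import Cfsg.Agent.Lib.Helper16.OddAut
import Cfsg.Agent.Lib.Helper16.DSQRecog
import Cfsg.Agent.Lib.Helper16.CyclicTwo

/-!
# Odd-order automorphisms of subgroups of `2`-groups with a cyclic subgroup of index two
(helper16's library)

Let `T` be a `2`-group with a cyclic subgroup `⟨a⟩` of index two such that `y ^ 4 = 1` for all
`y ∉ ⟨a⟩` (dihedral, semidihedral, generalized quaternion, ...). A subgroup `Q` of `T` has no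
nontrivial automorphism of odd order, unless `Q` is a four-group or a quaternion group of order
eight.
-/

set_option autoImplicit false

namespace Cfsg.Agent.Helper16

/-- A group without nontrivial automorphisms of odd order. -/
def NoOddAut (Q : Type*) [Group Q] : Prop :=
  ∀ (α : MulAut Q) (r : ℕ), Odd r → α ^ r = 1 → α = 1

theorem NoOddAut.of_isPGroup {Q : Type*} [Group Q] (h : IsPGroup 2 (MulAut Q)) : NoOddAut Q := by
  intro α r hr hα
  obtain ⟨k, hk⟩ := h α
  have h1 : orderOf α ∣ r := orderOf_dvd_of_pow_eq_one hα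
  have h2 : orderOf α ∣ 2 ^ k := orderOf_dvd_of_pow_eq_one hk
  have h3 : orderOf α ∣ Nat.gcd r (2 ^ k) := Nat.dvd_gcd h1 h2
  have h4 : Nat.gcd r (2 ^ k) = 1 := Nat.Coprime.pow_right k (Nat.coprime_two_right.2 hr)
  rw [h4, Nat.dvd_one, orderOf_eq_one_iff] at h3
  exact h3

theorem NoOddAut.of_mulEquiv {Q Q' : Type*} [Group Q] [Group Q'] (e : Q ≃* Q')
    (h : NoOddAut Q) : NoOddAut Q' := by
  intro α r hr hα
  have h1 := h ((MulAut.congr e.symm) α) r hr (by rw [← map_pow, hα, map_one])
  exact (MulAut.congr e.symm).injective (by rw [h1, map_one])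

/-- An odd-order element normalizing a subgroup without odd-order automorphisms centralizes it. -/
theorem mem_centralizer_of_noOddAut {G : Type*} [Group G] (Q : Subgroup G) (hQ : NoOddAut Q)
    {g : G} (hg : g ∈ Subgroup.normalizer (Q : Set G)) (hodd : Odd (orderOf g)) :
    g ∈ Subgroup.centralizer (Q : Set G) := by
  have hα : (Q.normalizerMonoidHom ⟨g, hg⟩) ^ orderOf g = 1 := by
    rw [← map_pow]
    have : (⟨g, hg⟩ : Subgroup.normalizer (Q : Set G)) ^ orderOf g = 1 :=
      Subtype.ext (by simp [pow_orderOf_eq_one])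
    rw [this, map_one]
  have h1 := hQ _ _ hodd hα
  have h2 : (⟨g, hg⟩ : Subgroup.normalizer (Q : Set G)) ∈ Q.normalizerMonoidHom.ker := by
    rw [MonoidHom.mem_ker]; exact h1
  rw [Subgroup.normalizerMonoidHom_ker, Subgroup.mem_subgroupOf] at h2
  exact h2

/-- A group of order `8` with an element `b` of order `4` has no odd-order automorphisms, unless
it is the quaternion group. -/
theorem noOddAut_or_quat_of_card_eight {X : Type*} [Group X] [Finite X] (hcard : Nat.card X = 8)
    {b : X} (hb : orderOf b = 4) :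
    NoOddAut X ∨ ∃ y : X, y ^ 2 = b ^ 2 ∧ y * b * y⁻¹ = b⁻¹ := by
  have hb' : orderOf b = 2 ^ 2 := by rw [hb]; norm_num
  have hcard' : Nat.card X = 2 ^ (2 + 1) := by rw [hcard]; norm_num
  have hidx : (Subgroup.zpowers b).index = 2 := by
    have h1 := Subgroup.card_mul_index (Subgroup.zpowers b)
    rw [Nat.card_zpowers, hb, hcard] at h1
    omega
  obtain ⟨y, hy⟩ : ∃ y : X, y ∉ Subgroup.zpowers b := by
    by_contra h
    push Not at h
    have : Subgroup.zpowers b = ⊤ := (Subgroup.eq_top_iff' _).2 h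
    rw [this, Subgroup.index_top] at hidx
    norm_num at hidx
  have hN : (Subgroup.zpowers b).Normal := Subgroup.normal_of_index_eq_two hidx
  have hconj : y * b * y⁻¹ ∈ Subgroup.zpowers b := hN.conj_mem b (Subgroup.mem_zpowers b) y
  have hy2 : y ^ 2 ∈ Subgroup.zpowers b := Subgroup.sq_mem_of_index_two hidx y
  have hgen := gen_of_index_two hidx hy (by rw [hb]; norm_num)
  rcases cyclic_index_two_cases (k := 2) le_rfl hb' hconj hy2 with h | ⟨h, h2 | h2⟩ |
    ⟨h3, -⟩ | ⟨h3, -⟩
  · -- abelian
    left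
    have hc : y * b = b * y := by
      calc y * b = (y * b * y⁻¹) * y := by group
        _ = b * y := by rw [h]
    let inst : CommGroup X :=
      { (inferInstance : Group X) with
        mul_comm := comm_of_gen_comm b y hgen hc }
    exact fun α r hr hα => @odd_aut_eq_one X inst _ 2 le_rfl hcard' b hb' α r hr hα
  · -- dihedral
    left
    apply NoOddAut.of_isPGroup
    apply aut_isPGroup_of_cyclic_index_two 2 (by norm_num) hcard' b hb'
    intro g hg
    obtain ⟨i, hi | hi⟩ := hgen g
    · exfalso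
      apply hg
      rw [hi]
      exact Subgroup.pow_mem _ (Subgroup.mem_zpowers b) _
    · have hg2 : g ^ 2 = 1 := by
        rw [hi]
        calc (y * b ^ i) ^ 2 = (y * b ^ i * y⁻¹) * y ^ 2 * b ^ i := by
              rw [pow_two, pow_two]; group
          _ = (b⁻¹) ^ i * 1 * b ^ i := by rw [conj_pow_eq h i, h2]
          _ = 1 := by rw [mul_one, inv_pow, inv_mul_cancel]
      have h3 : orderOf g ≤ 2 := Nat.le_of_dvd two_pos (orderOf_dvd_of_pow_eq_one hg2)
      omega
  · -- quaternion
    right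
    refine ⟨y, ?_, h⟩
    rw [h2]
    norm_num
  · omega
  · omega

/-- **Main lemma**: subgroups of a `2`-group with a cyclic subgroup of index two all of whose
outside elements have order at most four. -/
theorem noOddAut_or_four_or_quat {T : Type*} [Group T] [Finite T] {n : ℕ} {a : T}
    (hao : orderOf a = 2 ^ n) (hcard : Nat.card T = 2 ^ (n + 1))
    (hout : ∀ y : T, y ∉ Subgroup.zpowers a → y ^ 4 = 1) (Q : Subgroup T) :
    NoOddAut Q ∨ (Nat.card Q = 4 ∧ ∀ q ∈ Q, q ^ 2 = 1) ∨
      (Nat.card Q = 8 ∧ ∃ b y : T, b ∈ Q ∧ y ∈ Q ∧ orderOf b = 4 ∧ y ^ 2 = b ^ 2 ∧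
        y * b * y⁻¹ = b⁻¹) := by
  have hF : Fact (Nat.Prime 2) := ⟨Nat.prime_two⟩
  have hT2 : IsPGroup 2 T := IsPGroup.of_card hcard
  have hQ2 : IsPGroup 2 Q := hT2.to_subgroup Q
  have hAidx : (Subgroup.zpowers a).index = 2 := by
    have h1 := Subgroup.card_mul_index (Subgroup.zpowers a)
    rw [Nat.card_zpowers, hao, hcard, pow_succ] at h1
    exact Nat.eq_of_mul_eq_mul_left (pow_pos two_pos _) h1
  have hAn : (Subgroup.zpowers a).Normal := Subgroup.normal_of_index_eq_two hAidx
  by_cases hQA : Q ≤ Subgroup.zpowers a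
  · left
    exact NoOddAut.of_isPGroup (mulAut_isPGroup_of_isCyclic' hQ2 (isCyclic_of_le' hQA inferInstance))
  -- the cyclic subgroup `B = Q ∩ A` of index two in `Q`
  set B : Subgroup Q := (Subgroup.zpowers a).subgroupOf Q with hBdef
  have hBidx : B.index = 2 := by
    have h1 : (Subgroup.zpowers a).relIndex Q ∣ (Subgroup.zpowers a).index :=
      Subgroup.relIndex_dvd_index_of_normal _ Q
    rw [hAidx] at h1
    have h2 : (Subgroup.zpowers a).relIndex Q ≠ 1 := by
      rw [Ne, Subgroup.relIndex_eq_one]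
      exact hQA
    rcases (Nat.dvd_prime Nat.prime_two).1 h1 with h3 | h3
    · exact absurd h3 h2
    · exact h3
  have hBcyc : IsCyclic B := by
    have hinj : Function.Injective
        (Subgroup.inclusion (show (Subgroup.zpowers a ⊓ Q) ≤ Subgroup.zpowers a from inf_le_left)) :=
      Subgroup.inclusion_injective _
    have h1 : IsCyclic ↥(Subgroup.zpowers a ⊓ Q) :=
      isCyclic_of_le' (inf_le_left : Subgroup.zpowers a ⊓ Q ≤ Subgroup.zpowers a) inferInstance
    have e : ((Subgroup.zpowers a ⊓ Q).subgroupOf Q) ≃* ↥(Subgroup.zpowers a ⊓ Q) :=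
      Subgroup.subgroupOfEquivOfLe inf_le_right
    have h2 : IsCyclic ↥((Subgroup.zpowers a ⊓ Q).subgroupOf Q) :=
      isCyclic_of_surjective e.symm e.symm.surjective
    rw [Subgroup.inf_subgroupOf_right] at h2
    exact h2
  obtain ⟨b', hb'⟩ := hBcyc.exists_generator
  set b : Q := (b' : Q) with hbdef
  have hzb : Subgroup.zpowers b = B := by
    apply le_antisymm
    · rw [Subgroup.zpowers_le]
      exact b'.2
    · intro x hx
      obtain ⟨k, hk⟩ := Subgroup.mem_zpowers_iff.1 (hb' ⟨x, hx⟩)
      rw [Subgroup.mem_zpowers_iff]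
      refine ⟨k, ?_⟩
      have := congrArg (fun v : B => (v : Q)) hk
      simpa using this
  have hbidx : (Subgroup.zpowers b).index = 2 := by rw [hzb]; exact hBidx
  -- orders
  obtain ⟨k, hk⟩ := IsPGroup.iff_card.1 hQ2
  have hk1 : 1 ≤ k := by
    rcases Nat.eq_zero_or_pos k with h0 | h0
    · exfalso
      have h1 := Subgroup.card_mul_index (Subgroup.zpowers b)
      rw [hbidx, hk, h0, pow_zero] at h1
      omega
    · exact h0
  obtain ⟨m, rfl⟩ : ∃ m, k = m + 1 := ⟨k - 1, by omega⟩
  have hbo : orderOf b = 2 ^ m := by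
    have h1 := Subgroup.card_mul_index (Subgroup.zpowers b)
    rw [hbidx, hk, Nat.card_zpowers, pow_succ] at h1
    exact Nat.eq_of_mul_eq_mul_right two_pos h1
  have hout' : ∀ g : Q, g ∉ Subgroup.zpowers b → g ^ 4 = 1 := by
    intro g hg
    rw [hzb, hBdef, Subgroup.mem_subgroupOf] at hg
    exact Subtype.ext (by simpa using hout _ hg)
  -- cases on `m`
  rcases Nat.lt_or_ge m 3 with hm | hm
  · interval_cases m
    · -- |Q| = 2
      left
      have hc : IsCyclic Q := isCyclic_of_prime_card (p := 2) (by rw [hk]; norm_num)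
      exact NoOddAut.of_isPGroup (mulAut_isPGroup_of_isCyclic' hQ2 hc)
    · -- |Q| = 4
      have hk4 : Nat.card Q = 4 := by rw [hk]; norm_num
      by_cases hex : ∀ q : Q, q ^ 2 = 1
      · right; left
        refine ⟨hk4, fun q hq => ?_⟩
        have := congrArg (fun v : Q => (v : T)) (hex ⟨q, hq⟩)
        simpa using this
      · left
        push Not at hex
        obtain ⟨q, hq⟩ := hex
        have h1 : orderOf q ∣ 4 := hk4 ▸ orderOf_dvd_natCard q
        have h2 : orderOf q ∣ 2 ^ 2 := by simpa using h1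
        obtain ⟨j, hj2, hj⟩ := (Nat.dvd_prime_pow Nat.prime_two).1 h2
        have hj' : j = 2 := by
          by_contra hne
          apply hq
          have : orderOf q ∣ 2 := by
            rw [hj]
            calc 2 ^ j ∣ 2 ^ 1 := pow_dvd_pow 2 (by omega)
              _ = 2 := pow_one 2
          exact orderOf_dvd_iff_pow_eq_one.1 this
        have hc : IsCyclic Q := isCyclic_of_orderOf_eq_card q (by rw [hj, hj', hk4]; norm_num)
        exact NoOddAut.of_isPGroup (mulAut_isPGroup_of_isCyclic' hQ2 hc)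
    · -- |Q| = 8
      have hk8 : Nat.card Q = 8 := by rw [hk]; norm_num
      have hb4 : orderOf b = 4 := by rw [hbo]; norm_num
      rcases noOddAut_or_quat_of_card_eight hk8 hb4 with h | ⟨y, hy2, hyb⟩
      · exact Or.inl h
      · right; right
        refine ⟨hk8, (b : T), (y : T), b.2, y.2, ?_, ?_, ?_⟩
        · rw [← hb4]; exact Subgroup.orderOf_coe b
        · have := congrArg (fun v : Q => (v : T)) hy2
          simpa using this
        · have := congrArg (fun v : Q => (v : T)) hyb
          simpa using this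
  · left
    apply NoOddAut.of_isPGroup
    apply aut_isPGroup_of_cyclic_index_two m (by omega) hk b hbo
    intro g hg
    have h4 := hout' g hg
    have h5 : orderOf g ≤ 4 := Nat.le_of_dvd (by norm_num) (orderOf_dvd_of_pow_eq_one h4)
    have h6 : 2 ^ 3 ≤ 2 ^ m := Nat.pow_le_pow_right (by norm_num) hm
    omega

/-- **Ambient version** of the main lemma: an odd-order element normalizing but not centralizing
a subgroup `Q` of `P`, where `P` has a cyclic subgroup `⟨a⟩` of index two all of whose outside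
elements have order at most four, forces `Q` to be a four-group or quaternion of order eight. -/
theorem four_or_quat_of_odd_normalizer {G : Type*} [Group G] (P : Subgroup G) [Finite P] {n : ℕ}
    {a : G} (haP : a ∈ P) (hao : orderOf a = 2 ^ n) (hcard : Nat.card P = 2 ^ (n + 1))
    (hout : ∀ y ∈ P, y ∉ Subgroup.zpowers a → y ^ 4 = 1) (Q : Subgroup G) (hQP : Q ≤ P)
    {g : G} (hg : g ∈ Subgroup.normalizer (Q : Set G)) (hodd : Odd (orderOf g))
    (hgc : g ∉ Subgroup.centralizer (Q : Set G)) :
    (Nat.card Q = 4 ∧ ∀ q ∈ Q, q ^ 2 = 1) ∨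
      (Nat.card Q = 8 ∧ ∃ b y : G, b ∈ Q ∧ y ∈ Q ∧ orderOf b = 4 ∧ y ^ 2 = b ^ 2 ∧
        y * b * y⁻¹ = b⁻¹) := by
  have e : (Q.subgroupOf P) ≃* Q := Subgroup.subgroupOfEquivOfLe hQP
  have hao' : orderOf (⟨a, haP⟩ : P) = 2 ^ n := by rw [← hao]; exact Subgroup.orderOf_mk a haP
  have hout' : ∀ y : P, y ∉ Subgroup.zpowers (⟨a, haP⟩ : P) → y ^ 4 = 1 := by
    intro y hy
    apply Subtype.ext
    have h1 : (y : G) ∉ Subgroup.zpowers a := by
      intro h
      apply hy
      obtain ⟨k, hk⟩ := Subgroup.mem_zpowers_iff.1 h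
      rw [Subgroup.mem_zpowers_iff]
      exact ⟨k, Subtype.ext (by simpa using hk)⟩
    simpa using hout _ y.2 h1
  rcases noOddAut_or_four_or_quat hao' hcard hout' (Q.subgroupOf P) with h | ⟨h4, hsq⟩ |
    ⟨h8, b, y, hb, hy, hbo, hy2, hyb⟩
  · exact absurd (mem_centralizer_of_noOddAut Q (h.of_mulEquiv e) hg hodd) hgc
  · left
    refine ⟨by rw [← Nat.card_congr e.toEquiv, h4], fun q hq => ?_⟩
    have h1 := hsq ⟨q, hQP hq⟩ (by rw [Subgroup.mem_subgroupOf]; exact hq)
    have := congrArg (fun v : P => (v : G)) h1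
    simpa using this
  · right
    refine ⟨by rw [← Nat.card_congr e.toEquiv, h8], (b : G), (y : G), ?_, ?_, ?_, ?_, ?_⟩
    · exact Subgroup.mem_subgroupOf.1 hb
    · exact Subgroup.mem_subgroupOf.1 hy
    · rw [← hbo]; exact Subgroup.orderOf_coe b
    · have := congrArg (fun v : P => (v : G)) hy2
      simpa using this
    · have := congrArg (fun v : P => (v : G)) hyb
      simpa using this

end Cfsg.Agent.Helper16
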