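import Mathlib
import Cfsg.Agent.Lib.Helper16.OddAutSub
import Cfsg.Agent.Lib.Helper16.Q8Aut

/-!
# Dihedral `2`-subgroups and odd-order normalizing elements (helper16's library)
-/

set_option autoImplicit false

namespace Cfsg.Agent.Helper16

/-- A group isomorphic to a dihedral group has a cyclic subgroup `⟨a⟩` of index two all of whose
outside elements are involutions inverting `a`. -/
theorem dihedralLike_of_mulEquiv {T : Type*} [Group T] (m : ℕ) [NeZero m]
    (e : T ≃* DihedralGroup m) :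
    ∃ a : T, orderOf a = m ∧ (Subgroup.zpowers a).index = 2 ∧
      (∀ y : T, y ∉ Subgroup.zpowers a → y ^ 2 = 1) ∧
      (∀ y : T, y ∉ Subgroup.zpowers a → y * a * y⁻¹ = a⁻¹) := by
  have hfin : Finite T := Finite.of_equiv _ e.symm.toEquiv
  have hea : e (e.symm (DihedralGroup.r 1)) = DihedralGroup.r 1 := e.apply_symm_apply _
  have hao : orderOf (e.symm (DihedralGroup.r 1 : DihedralGroup m)) = m := by
    rw [MulEquiv.orderOf_eq, DihedralGroup.orderOf_r_one]
  have hout : ∀ y : T, y ∉ Subgroup.zpowers (e.symm (DihedralGroup.r 1)) →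
      ∃ i, e y = DihedralGroup.sr i := by
    intro y hy
    rcases h : e y with i | i
    · exfalso
      apply hy
      rw [Subgroup.mem_zpowers_iff]
      refine ⟨(i.val : ℤ), ?_⟩
      apply e.injective
      rw [map_zpow, hea, zpow_natCast, DihedralGroup.r_one_pow, h]
      simp
    · exact ⟨i, rfl⟩
  refine ⟨e.symm (DihedralGroup.r 1), hao, ?_, ?_, ?_⟩
  · have h1 := Subgroup.card_mul_index (Subgroup.zpowers (e.symm (DihedralGroup.r 1)))
    rw [Nat.card_zpowers, hao, Nat.card_congr e.toEquiv, DihedralGroup.nat_card] at h1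
    have h3 : 0 < m := NeZero.pos m
    rw [mul_comm 2 m] at h1
    exact Nat.eq_of_mul_eq_mul_left h3 h1
  · intro y hy
    obtain ⟨i, hi⟩ := hout y hy
    apply e.injective
    rw [map_pow, hi, map_one, pow_two, DihedralGroup.sr_mul_self]
  · intro y hy
    obtain ⟨i, hi⟩ := hout y hy
    apply e.injective
    rw [map_mul, map_mul, map_inv, map_inv, hea, hi]
    rw [mul_inv_eq_iff_eq_mul, eq_comm, inv_mul_eq_iff_eq_mul, DihedralGroup.sr_mul_r,
      DihedralGroup.r_mul_sr]
    simp

/-- **Stability lemma**: an automorphism of odd order fixing pointwise a subgroup `D` of index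
two, all of whose elements are `2`-elements, is trivial. -/
theorem aut_eq_one_of_fix_index_two {X : Type*} [Group X] (α : MulAut X) (r : ℕ) (hr : Odd r)
    (hα : α ^ r = 1) (D : Subgroup X) (hidx : D.index = 2) (k : ℕ) (hD : ∀ c ∈ D, c ^ 2 ^ k = 1)
    (hfix : ∀ c ∈ D, α c = c) : α = 1 := by
  ext p
  rw [MulAut.one_apply]
  by_cases hp : p ∈ D
  · exact hfix p hp
  · have hαp : α p ∉ D := by
      intro h
      apply hp
      have h1 := hfix _ h
      have h2 : α p = p := α.injective h1
      rw [← h2]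
      exact h
    have hc : p⁻¹ * α p ∈ D := by
      rw [Subgroup.mul_mem_iff_of_index_two hidx]
      constructor
      · intro h; exact absurd ((Subgroup.inv_mem_iff _).1 h) hp
      · intro h; exact absurd h hαp
    have hx : α p = p * (p⁻¹ * α p) := by rw [mul_inv_cancel_left]
    have := Q8.eq_one_of_odd_aut_stab' α r hr hα p (p⁻¹ * α p) (hfix _ hc) k (hD _ hc) hx
    rw [this, mul_one] at hx
    exact hx

/-- An odd-order element normalizing a four-group and fixing one of its involutions centralizes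
it. -/
theorem mem_centralizer_four_of_fix {G : Type*} [Group G] (Q : Subgroup G)
    (hcard : Nat.card Q = 4) (hsq : ∀ q ∈ Q, q ^ 2 = 1) {g : G}
    (hg : g ∈ Subgroup.normalizer (Q : Set G)) (hodd : Odd (orderOf g)) {t : G} (htQ : t ∈ Q)
    (ht1 : t ≠ 1) (hgt : g * t * g⁻¹ = t) : g ∈ Subgroup.centralizer (Q : Set G) := by
  have hfin : Finite Q := Nat.finite_of_card_ne_zero (by rw [hcard]; norm_num)
  set α : MulAut Q := Q.normalizerMonoidHom ⟨g, hg⟩ with hαdef
  have hα : α ^ orderOf g = 1 := by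
    rw [hαdef, ← map_pow]
    have : (⟨g, hg⟩ : Subgroup.normalizer (Q : Set G)) ^ orderOf g = 1 :=
      Subtype.ext (by simp [pow_orderOf_eq_one])
    rw [this, map_one]
  set t' : Q := ⟨t, htQ⟩ with ht'
  have ht'1 : t' ≠ 1 := fun h => ht1 (congrArg Subtype.val h)
  have ht'2 : t' ^ 2 = 1 := Subtype.ext (by simpa using hsq t htQ)
  have ht'o : orderOf t' = 2 := orderOf_eq_prime ht'2 ht'1
  have hidx : (Subgroup.zpowers t').index = 2 := by
    have h1 := Subgroup.card_mul_index (Subgroup.zpowers t')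
    rw [Nat.card_zpowers, ht'o, hcard] at h1
    omega
  have hαt : α t' = t' := by
    apply Subtype.ext
    rw [hαdef, Subgroup.normalizerMonoidHom_apply_apply_coe]
    exact hgt
  have h1 : α = 1 := by
    apply aut_eq_one_of_fix_index_two α _ hodd hα (Subgroup.zpowers t') hidx 1
    · intro c hc
      obtain ⟨i, rfl⟩ := Subgroup.mem_zpowers_iff.1 hc
      rw [pow_one, ← zpow_natCast, ← zpow_mul, mul_comm, zpow_mul, zpow_natCast, ht'2, one_zpow]
    · intro c hc
      obtain ⟨i, rfl⟩ := Subgroup.mem_zpowers_iff.1 hc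
      rw [map_zpow, hαt]
  have h2 : (⟨g, hg⟩ : Subgroup.normalizer (Q : Set G)) ∈ Q.normalizerMonoidHom.ker := by
    rw [MonoidHom.mem_ker]; exact h1
  rw [Subgroup.normalizerMonoidHom_ker, Subgroup.mem_subgroupOf] at h2
  exact h2

/-- **Dihedral version** of the main lemma: an odd-order element normalizing but not centralizing
a subgroup `Q` of a dihedral `2`-group forces `Q` to be a four-group. -/
theorem four_of_odd_normalizer_dihedral {G : Type*} [Group G] (P : Subgroup G) [Finite P] {n : ℕ}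
    {a : G} (haP : a ∈ P) (hao : orderOf a = 2 ^ n) (hcard : Nat.card P = 2 ^ (n + 1))
    (hout : ∀ y ∈ P, y ∉ Subgroup.zpowers a → y ^ 2 = 1) (Q : Subgroup G) (hQP : Q ≤ P)
    {g : G} (hg : g ∈ Subgroup.normalizer (Q : Set G)) (hodd : Odd (orderOf g))
    (hgc : g ∉ Subgroup.centralizer (Q : Set G)) :
    Nat.card Q = 4 ∧ ∀ q ∈ Q, q ^ 2 = 1 := by
  have hout4 : ∀ y ∈ P, y ∉ Subgroup.zpowers a → y ^ 4 = 1 := by
    intro y hy hya
    have : y ^ 4 = (y ^ 2) ^ 2 := by rw [← pow_mul]
    rw [this, hout y hy hya, one_pow]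
  rcases four_or_quat_of_odd_normalizer P haP hao hcard hout4 Q hQP hg hodd hgc with h |
    ⟨-, b, y, hb, hy, hbo, hy2, hyb⟩
  · exact h
  · exfalso
    have hb2 : b ^ 2 ≠ 1 := Q8.sq_ne_one_of_orderOf_four hbo
    have hba : b ∈ Subgroup.zpowers a := by
      by_contra h
      exact hb2 (hout b (hQP hb) h)
    have hya : y ∈ Subgroup.zpowers a := by
      by_contra h
      apply hb2
      rw [← hy2]
      exact hout y (hQP hy) h
    obtain ⟨i, rfl⟩ := Subgroup.mem_zpowers_iff.1 hba
    obtain ⟨j, rfl⟩ := Subgroup.mem_zpowers_iff.1 hya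
    have h1 : a ^ j * a ^ i * (a ^ j)⁻¹ = a ^ i := by
      rw [mul_inv_eq_iff_eq_mul, ← zpow_add, ← zpow_add, add_comm]
    rw [h1] at hyb
    apply hb2
    rw [pow_two]
    calc a ^ i * a ^ i = (a ^ i)⁻¹ * a ^ i := by rw [← hyb]
      _ = 1 := inv_mul_cancel _

end Cfsg.Agent.Helper16
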