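import Mathlib
import Cfsg.Agent.Lib.Helper16.DihedralSylow

/-!
# Dihedral `2`-subgroups of an ambient group (helper16's library)
-/

set_option autoImplicit false

namespace Cfsg.Agent.Helper16

theorem coe_mem_zpowers_iff {G : Type*} [Group G] {H : Subgroup G} (a y : H) :
    (y : G) ∈ Subgroup.zpowers (a : G) ↔ y ∈ Subgroup.zpowers a := by
  constructor
  · intro h
    obtain ⟨k, hk⟩ := Subgroup.mem_zpowers_iff.1 h
    rw [Subgroup.mem_zpowers_iff]
    exact ⟨k, Subtype.ext (by simpa using hk)⟩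
  · intro h
    obtain ⟨k, hk⟩ := Subgroup.mem_zpowers_iff.1 h
    rw [Subgroup.mem_zpowers_iff]
    refine ⟨k, ?_⟩
    have := congrArg (fun v : H => (v : G)) hk
    simpa using this

/-- The subgroup `P` of `G` is a dihedral `2`-group with rotation `a` of order `2 ^ j`. -/
structure IsDihedralSub {G : Type*} [Group G] (P : Subgroup G) (a : G) (j : ℕ) : Prop where
  mem : a ∈ P
  hao : orderOf a = 2 ^ j
  card : Nat.card P = 2 ^ (j + 1)
  out_sq : ∀ y ∈ P, y ∉ Subgroup.zpowers a → y ^ 2 = 1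
  out_inv : ∀ y ∈ P, y ∉ Subgroup.zpowers a → y * a * y⁻¹ = a⁻¹
  out_mul : ∀ y₁ ∈ P, ∀ y₂ ∈ P, y₁ ∉ Subgroup.zpowers a → y₂ ∉ Subgroup.zpowers a →
    y₁ * y₂ ∈ Subgroup.zpowers a

/-- A `2`-subgroup isomorphic to a dihedral group is a dihedral subgroup in the above sense. -/
theorem exists_isDihedralSub {G : Type*} [Group G] (P : Subgroup G) [Finite P] (hP : IsPGroup 2 P)
    (m : ℕ) (e : P ≃* DihedralGroup m) : ∃ (a : G) (j : ℕ), IsDihedralSub P a j ∧ m = 2 ^ j := by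
  have hF : Fact (Nat.Prime 2) := ⟨Nat.prime_two⟩
  have hcard : Nat.card P = 2 * m := by rw [Nat.card_congr e.toEquiv, DihedralGroup.nat_card]
  have hm0 : m ≠ 0 := by
    intro h
    rw [h, mul_zero] at hcard
    exact Nat.card_pos.ne' hcard
  have : NeZero m := ⟨hm0⟩
  obtain ⟨k, hk⟩ := IsPGroup.iff_card.1 hP
  rw [hcard] at hk
  have hk1 : 1 ≤ k := by
    rcases Nat.eq_zero_or_pos k with h0 | h0
    · rw [h0, pow_zero] at hk; omega
    · exact h0
  obtain ⟨j, rfl⟩ : ∃ j, k = j + 1 := ⟨k - 1, by omega⟩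
  have hm : m = 2 ^ j := by
    rw [pow_succ, mul_comm] at hk
    exact Nat.eq_of_mul_eq_mul_right two_pos hk
  obtain ⟨a, hao, hidx, hsq, hinv⟩ := dihedralLike_of_mulEquiv m e
  refine ⟨(a : G), j, ⟨a.2, ?_, ?_, ?_, ?_, ?_⟩, hm⟩
  · rw [Subgroup.orderOf_coe, hao, hm]
  · rw [hcard, hm, pow_succ, mul_comm]
  · intro y hy hya
    have h1 : (⟨y, hy⟩ : P) ∉ Subgroup.zpowers a := fun h => hya ((coe_mem_zpowers_iff a ⟨y, hy⟩).2 h)
    have := congrArg (fun v : P => (v : G)) (hsq _ h1)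
    simpa using this
  · intro y hy hya
    have h1 : (⟨y, hy⟩ : P) ∉ Subgroup.zpowers a := fun h => hya ((coe_mem_zpowers_iff a ⟨y, hy⟩).2 h)
    have := congrArg (fun v : P => (v : G)) (hinv _ h1)
    simpa using this
  · intro y₁ hy₁ y₂ hy₂ h₁ h₂
    have h1 : (⟨y₁, hy₁⟩ : P) ∉ Subgroup.zpowers a :=
      fun h => h₁ ((coe_mem_zpowers_iff a ⟨y₁, hy₁⟩).2 h)
    have h2 : (⟨y₂, hy₂⟩ : P) ∉ Subgroup.zpowers a :=
      fun h => h₂ ((coe_mem_zpowers_iff a ⟨y₂, hy₂⟩).2 h)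
    have h3 : (⟨y₁, hy₁⟩ * ⟨y₂, hy₂⟩ : P) ∈ Subgroup.zpowers a := by
      rw [Subgroup.mul_mem_iff_of_index_two hidx]
      exact ⟨fun h => absurd h h1, fun h => absurd h h2⟩
    exact (coe_mem_zpowers_iff a _).2 h3

namespace IsDihedralSub

variable {G : Type*} [Group G] {P : Subgroup G} {a : G} {j : ℕ}

/-- Elements of the rotation subgroup of square one. -/
theorem eq_one_or_of_sq (h : IsDihedralSub P a j) (hj : 1 ≤ j) {q : G}
    (hq : q ∈ Subgroup.zpowers a) (hq2 : q ^ 2 = 1) : q = 1 ∨ q = a ^ 2 ^ (j - 1) := by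
  obtain ⟨s, -, rfl⟩ := mem_zpowers_exists_nat (by positivity) h.hao hq
  have h5 : a ^ (2 * s) = 1 := by rw [mul_comm, pow_mul]; exact hq2
  exact pow_eq_one_or_half hj h.hao h5

/-- A subgroup of order four and exponent two is not contained in the rotation subgroup. -/
theorem exists_notMem_of_four (h : IsDihedralSub P a j) (hj : 1 ≤ j) {Q : Subgroup G}
    (hcard : Nat.card Q = 4) (hsq : ∀ q ∈ Q, q ^ 2 = 1) : ∃ q ∈ Q, q ∉ Subgroup.zpowers a := by
  by_contra hcon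
  push Not at hcon
  have hz2 : (a ^ 2 ^ (j - 1)) ^ 2 = 1 := pow_half_sq hj h.hao
  have hle : Q ≤ Subgroup.zpowers (a ^ 2 ^ (j - 1)) := by
    intro q hq
    rcases h.eq_one_or_of_sq hj (hcon q hq) (hsq q hq) with h6 | h6
    · rw [h6]; exact Subgroup.one_mem _
    · rw [h6]; exact Subgroup.mem_zpowers _
  have hfin : Finite (Subgroup.zpowers (a ^ 2 ^ (j - 1))) := by
    apply Nat.finite_of_card_ne_zero
    rw [Nat.card_zpowers]
    exact (orderOf_pos_iff.2 (isOfFinOrder_iff_pow_eq_one.2 ⟨2, two_pos, hz2⟩)).ne'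
  have h1 := Subgroup.card_le_of_le hle
  have h2 : Nat.card (Subgroup.zpowers (a ^ 2 ^ (j - 1))) ≤ 2 := by
    rw [Nat.card_zpowers]
    exact Nat.le_of_dvd two_pos (orderOf_dvd_of_pow_eq_one hz2)
  omega

/-- The central involution lies in every four-subgroup. -/
theorem z_mem_of_four (h : IsDihedralSub P a j) (hj : 1 ≤ j) {Q : Subgroup G} (hQP : Q ≤ P)
    (hcard : Nat.card Q = 4) (hsq : ∀ q ∈ Q, q ^ 2 = 1) : a ^ 2 ^ (j - 1) ∈ Q := by
  obtain ⟨q₁, hq₁, hq₁a⟩ := h.exists_notMem_of_four hj hcard hsq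
  have hfinQ : Finite Q := Nat.finite_of_card_ne_zero (by rw [hcard]; norm_num)
  have hq₁2 := hsq q₁ hq₁
  obtain ⟨q₂, hq₂, hq₂1, hq₂q⟩ : ∃ q₂ ∈ Q, q₂ ≠ 1 ∧ q₂ ≠ q₁ := by
    by_contra hcon
    push Not at hcon
    have hle : Q ≤ Subgroup.zpowers q₁ := by
      intro q hq
      by_cases h1 : q = 1
      · rw [h1]; exact Subgroup.one_mem _
      · rw [hcon q hq h1]; exact Subgroup.mem_zpowers _
    have hfin : Finite (Subgroup.zpowers q₁) := by
      apply Nat.finite_of_card_ne_zero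
      rw [Nat.card_zpowers]
      exact (orderOf_pos_iff.2 (isOfFinOrder_iff_pow_eq_one.2 ⟨2, two_pos, hq₁2⟩)).ne'
    have h1 := Subgroup.card_le_of_le hle
    have h2 : Nat.card (Subgroup.zpowers q₁) ≤ 2 := by
      rw [Nat.card_zpowers]
      exact Nat.le_of_dvd two_pos (orderOf_dvd_of_pow_eq_one hq₁2)
    omega
  by_cases hq₂a : q₂ ∈ Subgroup.zpowers a
  · rcases h.eq_one_or_of_sq hj hq₂a (hsq q₂ hq₂) with h6 | h6
    · exact absurd h6 hq₂1
    · rw [← h6]; exact hq₂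
  · have h1 := h.out_mul q₁ (hQP hq₁) q₂ (hQP hq₂) hq₁a hq₂a
    have h2 : q₁ * q₂ ∈ Q := Q.mul_mem hq₁ hq₂
    rcases h.eq_one_or_of_sq hj h1 (hsq _ h2) with h6 | h6
    · exfalso
      apply hq₂q
      have : q₁⁻¹ = q₁ := by rw [inv_eq_iff_mul_eq_one, ← pow_two]; exact hq₁2
      rw [← this]
      exact (inv_eq_of_mul_eq_one_right h6).symm
    · rw [← h6]; exact h2

/-- An involution of `P` centralizing a four-subgroup `Q ≤ P` lies in `Q`. -/
theorem mem_four_of_commute (h : IsDihedralSub P a j) (hj : 1 ≤ j) {Q : Subgroup G} (hQP : Q ≤ P)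
    (hcard : Nat.card Q = 4) (hsq : ∀ q ∈ Q, q ^ 2 = 1) {t : G} (htP : t ∈ P) (ht2 : t ^ 2 = 1)
    (hcomm : ∀ q ∈ Q, t * q = q * t) : t ∈ Q := by
  obtain ⟨q₁, hq₁, hq₁a⟩ := h.exists_notMem_of_four hj hcard hsq
  have hz := h.z_mem_of_four hj hQP hcard hsq
  have hq₁2 := hsq q₁ hq₁
  have hq₁inv : q₁⁻¹ = q₁ := by rw [inv_eq_iff_mul_eq_one, ← pow_two]; exact hq₁2
  by_cases hta : t ∈ Subgroup.zpowers a
  · rcases h.eq_one_or_of_sq hj hta ht2 with h6 | h6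
    · rw [h6]; exact Q.one_mem
    · rw [h6]; exact hz
  · have h1 := h.out_mul q₁ (hQP hq₁) t htP hq₁a hta
    have h2 : (q₁ * t) ^ 2 = 1 := by
      have hc : Commute q₁ t := (hcomm q₁ hq₁).symm
      rw [hc.mul_pow, hq₁2, ht2, one_mul]
    rcases h.eq_one_or_of_sq hj h1 h2 with h6 | h6
    · have : t = q₁⁻¹ := (inv_eq_of_mul_eq_one_right h6).symm
      rw [this]; exact Q.inv_mem hq₁
    · have : t = q₁⁻¹ * a ^ 2 ^ (j - 1) := by rw [← h6, inv_mul_cancel_left]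
      rw [this]; exact Q.mul_mem (Q.inv_mem hq₁) hz

end IsDihedralSub

end Cfsg.Agent.Helper16
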