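import Mathlib
import Cfsg.Agent.Lib.Helper16.QuatNormal

set_option autoImplicit false

namespace Cfsg.Agent.Helper16

/-- A group isomorphic to the generalized quaternion group of order `2 ^ (n + 2)` satisfies the
"quaternion-like" hypotheses of `mulAut_isPGroup_of_normal_of_quaternionLike`. -/
theorem quaternionLike_of_mulEquiv {T : Type*} [Group T] (n : ℕ)
    (e : T ≃* QuaternionGroup (2 ^ n)) :
    ∃ a : T, orderOf a = 2 ^ (n + 1) ∧ (Subgroup.zpowers a).index = 2 ∧
      (∀ y : T, y ∉ Subgroup.zpowers a → orderOf y = 4) ∧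
      (∀ y : T, y ∉ Subgroup.zpowers a → y * a * y⁻¹ = a⁻¹) := by
  have hne : NeZero (2 ^ n) := ⟨by positivity⟩
  have hfin : Finite T := Finite.of_equiv _ e.symm.toEquiv
  have hea : e (e.symm (QuaternionGroup.a 1)) = QuaternionGroup.a 1 := e.apply_symm_apply _
  have hao : orderOf (e.symm (QuaternionGroup.a 1 : QuaternionGroup (2 ^ n))) = 2 ^ (n + 1) := by
    rw [MulEquiv.orderOf_eq, QuaternionGroup.orderOf_a_one]; ring
  have hout : ∀ y : T, y ∉ Subgroup.zpowers (e.symm (QuaternionGroup.a 1)) →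
      ∃ i, e y = QuaternionGroup.xa i := by
    intro y hy
    rcases h : e y with i | i
    · exfalso
      apply hy
      rw [Subgroup.mem_zpowers_iff]
      refine ⟨(i.val : ℤ), ?_⟩
      apply e.injective
      rw [map_zpow, hea, zpow_natCast, QuaternionGroup.a_one_pow, h]
      simp
    · exact ⟨i, rfl⟩
  refine ⟨e.symm (QuaternionGroup.a 1), hao, ?_, ?_, ?_⟩
  · have h1 := Subgroup.card_mul_index (Subgroup.zpowers (e.symm (QuaternionGroup.a 1)))
    rw [Nat.card_zpowers, hao, Nat.card_congr e.toEquiv, Nat.card_eq_fintype_card,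
      QuaternionGroup.card] at h1
    have h2 : 2 ^ (n + 1) * 2 = 4 * 2 ^ n := by ring
    have h3 : 0 < 2 ^ (n + 1) := by positivity
    exact Nat.eq_of_mul_eq_mul_left h3 (h1.trans h2.symm)
  · intro y hy
    obtain ⟨i, hi⟩ := hout y hy
    rw [← MulEquiv.orderOf_eq e, hi, QuaternionGroup.orderOf_xa]
  · intro y hy
    obtain ⟨i, hi⟩ := hout y hy
    apply e.injective
    rw [map_mul, map_mul, map_inv, map_inv, hea, hi]
    rw [mul_inv_eq_iff_eq_mul, eq_comm, inv_mul_eq_iff_eq_mul, QuaternionGroup.xa_mul_a,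
      QuaternionGroup.a_mul_xa]
    simp

end Cfsg.Agent.Helper16
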