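import Mathlib
import Cfsg.Agent.Lib.Helper16.QuatLike
import Cfsg.Agent.Lib.Helper16.DihedralSub
import Cfsg.Agent.Lib.Helper16.DSQAb

/-!
# Generalized quaternion subgroups of an ambient group (helper16's library)
-/

set_option autoImplicit false

namespace Cfsg.Agent.Helper16

/-- The subgroup `P` of `G` is generalized quaternion with cyclic maximal subgroup `⟨a⟩`, `a` of
order `2 ^ j`. -/
structure IsQuatSub {G : Type*} [Group G] (P : Subgroup G) (a : G) (j : ℕ) : Prop where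
  hj : 2 ≤ j
  mem : a ∈ P
  hao : orderOf a = 2 ^ j
  card : Nat.card P = 2 ^ (j + 1)
  out_ord : ∀ y ∈ P, y ∉ Subgroup.zpowers a → orderOf y = 4
  out_inv : ∀ y ∈ P, y ∉ Subgroup.zpowers a → y * a * y⁻¹ = a⁻¹
  out_mul : ∀ y₁ ∈ P, ∀ y₂ ∈ P, y₁ ∉ Subgroup.zpowers a → y₂ ∉ Subgroup.zpowers a →
    y₁ * y₂ ∈ Subgroup.zpowers a
  derived : ⁅P, P⁆ = Subgroup.zpowers (a ^ 2)

/-- A subgroup isomorphic to a generalized quaternion group is a quaternion subgroup in the above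
sense. -/
theorem exists_isQuatSub {G : Type*} [Group G] (P : Subgroup G) (k : ℕ) (hk : 1 ≤ k)
    (e : P ≃* QuaternionGroup (2 ^ k)) : ∃ a : G, IsQuatSub P a (k + 1) := by
  have hfin : Finite P := Finite.of_equiv _ e.symm.toEquiv
  obtain ⟨a, hao, hidx, hord, hinv⟩ := quaternionLike_of_mulEquiv k e
  have hcard : Nat.card P = 2 ^ (k + 1 + 1) := by
    have h1 := Subgroup.card_mul_index (Subgroup.zpowers a)
    rw [hidx, Nat.card_zpowers, hao] at h1
    rw [← h1, ← pow_succ]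
  have hne : ∃ x : P, x ∉ Subgroup.zpowers a := by
    by_contra h
    push Not at h
    have : Subgroup.zpowers a = ⊤ := (Subgroup.eq_top_iff' _).2 h
    rw [this, Subgroup.index_top] at hidx
    norm_num at hidx
  obtain ⟨x, hx⟩ := hne
  -- the derived subgroup
  have hDSQ : IsDSQ (k + 1) a x := by
    refine ⟨by omega, hcard, hao, hx, Or.inl (hinv x hx), ?_⟩
    have h1 : x ^ 2 ∈ Subgroup.zpowers a := Subgroup.sq_mem_of_index_two hidx x
    obtain ⟨s, -, hs⟩ := mem_zpowers_exists_nat (by positivity) hao h1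
    have h2 : x ^ 4 = 1 := by rw [← hord x hx]; exact pow_orderOf_eq_one x
    have h3 : a ^ (2 * s) = 1 := by
      rw [mul_comm, pow_mul, ← hs, ← pow_mul]; exact h2
    rw [hs]
    rcases pow_eq_one_or_half (by omega) hao h3 with h4 | h4
    · left; exact h4
    · right; rw [h4]
  have hder : ⁅P, P⁆ = Subgroup.zpowers ((a : G) ^ 2) := by
    rw [← Subgroup.map_subtype_commutator, hDSQ.commutator_eq, MonoidHom.map_zpowers]
    rfl
  refine ⟨(a : G), ⟨by omega, a.2, ?_, hcard, ?_, ?_, ?_, hder⟩⟩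
  · rw [Subgroup.orderOf_coe, hao]
  · intro y hy hya
    have h1 : (⟨y, hy⟩ : P) ∉ Subgroup.zpowers a := fun h => hya ((coe_mem_zpowers_iff a ⟨y, hy⟩).2 h)
    rw [← hord _ h1]
    exact (Subgroup.orderOf_mk y hy).symm
  · intro y hy hya
    have h1 : (⟨y, hy⟩ : P) ∉ Subgroup.zpowers a := fun h => hya ((coe_mem_zpowers_iff a ⟨y, hy⟩).2 h)
    have := congrArg (fun v : P => (v : G)) (hinv _ h1)
    simpa using this
  · intro y₁ hy₁ y₂ hy₂ h₁ h₂
    have h1 : (⟨y₁, hy₁⟩ : P) ∉ Subgroup.zpowers a :=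
      fun h => h₁ ((coe_mem_zpowers_iff a ⟨y₁, hy₁⟩).2 h)
    have h2 : (⟨y₂, hy₂⟩ : P) ∉ Subgroup.zpowers a :=
      fun h => h₂ ((coe_mem_zpowers_iff a ⟨y₂, hy₂⟩).2 h)
    have h3 : (⟨y₁, hy₁⟩ * ⟨y₂, hy₂⟩ : P) ∈ Subgroup.zpowers a := by
      rw [Subgroup.mul_mem_iff_of_index_two hidx]
      exact ⟨fun h => absurd h h1, fun h => absurd h h2⟩
    exact (coe_mem_zpowers_iff a _).2 h3

namespace IsQuatSub

variable {G : Type*} [Group G] {P : Subgroup G} {a : G} {j : ℕ}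

theorem finite (h : IsQuatSub P a j) : Finite P :=
  Nat.finite_of_card_ne_zero (by rw [h.card]; positivity)

theorem zpowers_le (h : IsQuatSub P a j) : Subgroup.zpowers a ≤ P := Subgroup.zpowers_le.2 h.mem

theorem orderOf_sq (h : IsQuatSub P a j) : orderOf (a ^ 2) = 2 ^ (j - 1) := by
  have hj := h.hj
  rw [orderOf_pow' a two_ne_zero, h.hao]
  have h1 : 2 ^ j = 2 ^ (j - 1) * 2 := by rw [← pow_succ]; congr 1; omega
  rw [h1, Nat.gcd_mul_left_left]
  exact Nat.mul_div_cancel _ two_pos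

theorem sq_sq_ne_one (h : IsQuatSub P a j) (hj3 : 3 ≤ j) : (a ^ 2) ^ 2 ≠ 1 := by
  intro h1
  have h2 := orderOf_dvd_of_pow_eq_one h1
  rw [h.orderOf_sq] at h2
  have h3 : 2 ^ 2 ≤ 2 ^ (j - 1) := Nat.pow_le_pow_right (by norm_num) (by omega)
  have := Nat.le_of_dvd two_pos h2
  omega

/-- Elements of `P` outside `⟨a⟩` do not centralize `a ^ 2` (here `j ≥ 3`). -/
theorem out_not_comm (h : IsQuatSub P a j) (hj3 : 3 ≤ j) {y : G} (hy : y ∈ P)
    (hya : y ∉ Subgroup.zpowers a) : y * a ^ 2 ≠ a ^ 2 * y := by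
  intro hc
  have h1 := h.out_inv y hy hya
  have h2 : y * a ^ 2 * y⁻¹ = (a ^ 2)⁻¹ := by
    rw [← conj_pow, h1, inv_pow]
  rw [hc, mul_inv_cancel_right] at h2
  apply h.sq_sq_ne_one hj3
  rw [pow_two]
  calc a ^ 2 * a ^ 2 = (a ^ 2)⁻¹ * a ^ 2 := by rw [← h2]
    _ = 1 := inv_mul_cancel _

/-- An element of `⟨a⟩` of order dividing `2 ^ (j - 1)` lies in `⟨a ^ 2⟩`. -/
theorem mem_zpowers_sq (h : IsQuatSub P a j) {b : G} (hb : b ∈ Subgroup.zpowers a)
    (hb2 : b ^ 2 ^ (j - 1) = 1) : b ∈ Subgroup.zpowers (a ^ 2) := by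
  have hj := h.hj
  obtain ⟨s, -, rfl⟩ := mem_zpowers_exists_nat (by positivity) h.hao hb
  rw [← pow_mul] at hb2
  have h1 := orderOf_dvd_of_pow_eq_one hb2
  rw [h.hao] at h1
  have h2 : 2 ^ j = 2 ^ (j - 1) * 2 := by rw [← pow_succ]; congr 1; omega
  rw [h2, mul_comm s] at h1
  have h3 : 2 ∣ s := Nat.dvd_of_mul_dvd_mul_left (pow_pos two_pos _) h1
  obtain ⟨r, rfl⟩ := h3
  rw [pow_mul]
  exact Subgroup.pow_mem _ (Subgroup.mem_zpowers _) _

end IsQuatSub

end Cfsg.Agent.Helper16
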