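import Mathlib
import Cfsg.Agent.Lib.Helper16.QuatSub
import Cfsg.Agent.Lib.Helper16.CyclicTwo

/-!
# Elementary facts on generalized quaternion subgroups (helper16's library)

Let `P = ⟨a, b⟩` be generalized quaternion with `o(a) = 2 ^ j`, `j ≥ 3`, `c = a ^ 2 ^ (j - 2)` of
order four and `z = c ^ 2 = a ^ 2 ^ (j - 1)` the involution.
-/

set_option autoImplicit false

namespace Cfsg.Agent.Helper16

namespace IsQuatSub

variable {G : Type*} [Group G] {P : Subgroup G} {a : G} {j : ℕ}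

theorem two_pow_split (hj : 2 ≤ j) : 2 ^ j = 4 * 2 ^ (j - 2) := by
  have : j = 2 + (j - 2) := by omega
  conv_lhs => rw [this, pow_add]
  norm_num

theorem orderOf_c (h : IsQuatSub P a j) : orderOf (a ^ 2 ^ (j - 2)) = 4 := by
  have hj := h.hj
  rw [orderOf_pow' a (pow_ne_zero _ two_ne_zero), h.hao, two_pow_split hj,
    Nat.gcd_mul_left_left, Nat.mul_div_cancel _ (pow_pos two_pos _)]

theorem c_sq (h : IsQuatSub P a j) : (a ^ 2 ^ (j - 2)) ^ 2 = a ^ 2 ^ (j - 1) := by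
  have hj := h.hj
  rw [← pow_mul, ← pow_succ]
  congr 2
  omega

theorem z_sq (h : IsQuatSub P a j) : (a ^ 2 ^ (j - 1)) ^ 2 = 1 :=
  pow_half_sq (by have := h.hj; omega) h.hao

theorem z_ne_one (h : IsQuatSub P a j) : a ^ 2 ^ (j - 1) ≠ 1 :=
  pow_half_ne_one (by have := h.hj; omega) h.hao

theorem c_pow_four (h : IsQuatSub P a j) : (a ^ 2 ^ (j - 2)) ^ 4 = 1 := by
  rw [← h.orderOf_c]; exact pow_orderOf_eq_one _

theorem c_sq_ne_one (h : IsQuatSub P a j) : (a ^ 2 ^ (j - 2)) ^ 2 ≠ 1 := by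
  rw [h.c_sq]; exact h.z_ne_one

theorem a_sq_ne_one (h : IsQuatSub P a j) : a ^ 2 ≠ 1 := by
  intro h1
  have h2 := orderOf_dvd_of_pow_eq_one h1
  rw [h.hao] at h2
  have h3 : 2 ^ 2 ≤ 2 ^ j := Nat.pow_le_pow_right (by norm_num) h.hj
  have := Nat.le_of_dvd two_pos h2
  omega

/-- Elements outside `⟨a⟩` invert every element of `⟨a⟩`. -/
theorem out_inv_mem (h : IsQuatSub P a j) {y x : G} (hy : y ∈ P) (hya : y ∉ Subgroup.zpowers a)
    (hx : x ∈ Subgroup.zpowers a) : y * x * y⁻¹ = x⁻¹ := by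
  obtain ⟨i, rfl⟩ := Subgroup.mem_zpowers_iff.1 hx
  rw [← conj_zpow, h.out_inv y hy hya, inv_zpow]

theorem out_inv_mem' (h : IsQuatSub P a j) {y x : G} (hy : y ∈ P) (hya : y ∉ Subgroup.zpowers a)
    (hx : x ∈ Subgroup.zpowers a) : y⁻¹ * x * y = x⁻¹ := by
  have h1 := h.out_inv_mem hy hya hx
  have h2 : x = y⁻¹ * x⁻¹ * y := by rw [← h1]; group
  have h3 : x⁻¹ = (y⁻¹ * x⁻¹ * y)⁻¹ := congrArg (fun v => v⁻¹) h2
  rw [h3]; group

/-- An element of `P` commuting with `a` lies in `⟨a⟩`. -/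
theorem mem_zpowers_of_commute (h : IsQuatSub P a j) {s : G} (hs : s ∈ P)
    (hc : s * a = a * s) : s ∈ Subgroup.zpowers a := by
  by_contra hsa
  have h1 := h.out_inv s hs hsa
  rw [hc, mul_inv_cancel_right] at h1
  apply h.a_sq_ne_one
  rw [pow_two]
  nth_rewrite 1 [h1]
  exact inv_mul_cancel a

/-- The unique involution of `P`. -/
theorem eq_z_of_sq_eq_one (h : IsQuatSub P a j) {s : G} (hs : s ∈ P) (h2 : s ^ 2 = 1)
    (h1 : s ≠ 1) : s = a ^ 2 ^ (j - 1) := by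
  have hj := h.hj
  have hsa : s ∈ Subgroup.zpowers a := by
    by_contra hsa
    have h3 := h.out_ord s hs hsa
    have h4 := orderOf_dvd_of_pow_eq_one h2
    rw [h3] at h4
    norm_num at h4
  obtain ⟨t, -, rfl⟩ := mem_zpowers_exists_nat (by positivity) h.hao hsa
  have h5 : a ^ (2 * t) = 1 := by rw [mul_comm, pow_mul]; exact h2
  rcases pow_eq_one_or_half (by omega) h.hao h5 with h6 | h6
  · exact absurd h6 h1
  · exact h6

/-- The elements of `⟨a⟩` of order dividing four lie in `⟨c⟩`. -/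
theorem mem_zpowers_c (h : IsQuatSub P a j) {x : G} (hx : x ∈ Subgroup.zpowers a)
    (h4 : x ^ 4 = 1) : x ∈ Subgroup.zpowers (a ^ 2 ^ (j - 2)) := by
  have hj := h.hj
  obtain ⟨s, -, rfl⟩ := mem_zpowers_exists_nat (by positivity) h.hao hx
  rw [← pow_mul] at h4
  have h1 := orderOf_dvd_of_pow_eq_one h4
  rw [h.hao, two_pow_split hj, mul_comm s 4] at h1
  have h2 : 2 ^ (j - 2) ∣ s := Nat.dvd_of_mul_dvd_mul_left (by norm_num) h1
  obtain ⟨t, rfl⟩ := h2
  rw [pow_mul]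
  exact Subgroup.pow_mem _ (Subgroup.mem_zpowers _) _

end IsQuatSub

/-- The elements of order four of a cyclic group `⟨c⟩` of order four are `c` and `c⁻¹`. -/
theorem eq_or_eq_inv_of_orderOf_four {G : Type*} [Group G] {c y : G} (hc : orderOf c = 4)
    (hy : y ∈ Subgroup.zpowers c) (hyo : orderOf y = 4) : y = c ∨ y = c⁻¹ := by
  obtain ⟨i, hi, rfl⟩ := mem_zpowers_exists_nat (by norm_num) hc hy
  have hc4 : c ^ 4 = 1 := by rw [← hc]; exact pow_orderOf_eq_one c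
  interval_cases i
  · exfalso
    rw [pow_zero, orderOf_one] at hyo
    norm_num at hyo
  · left; exact pow_one c
  · exfalso
    have h1 : (c ^ 2) ^ 2 = 1 := by rw [← pow_mul]; exact hc4
    have h2 := orderOf_dvd_of_pow_eq_one h1
    rw [hyo] at h2
    norm_num at h2
  · right
    rw [eq_inv_iff_mul_eq_one, ← pow_succ]
    exact hc4

end Cfsg.Agent.Helper16
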