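import Mathlib
import Cfsg.Prelude.Def_Transfer

/-!
# Normal `p`-complements and normalizers of `p`-subgroups (helper16's library)
-/

set_option autoImplicit false

namespace Cfsg.Agent.Helper16

/-- In a finite group, `x A x⁻¹ ⊆ A` implies `x ∈ N(A)`. -/
theorem mem_normalizer_of_conj_mem_finite {G : Type*} [Group G] [Finite G] {A : Subgroup G}
    {x : G} (h : ∀ a ∈ A, x * a * x⁻¹ ∈ A) : x ∈ Subgroup.normalizer (A : Set G) := by
  rw [Subgroup.mem_normalizer_iff]
  intro a
  refine ⟨h a, fun ha => ?_⟩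
  let f : A → A := fun a => ⟨x * a * x⁻¹, h a a.2⟩
  have hinj : Function.Injective f := by
    intro a b hab
    have := congrArg Subtype.val hab
    simp only [f] at this
    apply Subtype.ext
    have h2 : x * (a : G) = x * (b : G) := mul_right_cancel this
    exact mul_left_cancel h2
  have hsurj : Function.Surjective f := Finite.surjective_of_injective hinj
  obtain ⟨b, hb⟩ := hsurj ⟨x * a * x⁻¹, ha⟩
  have := congrArg Subtype.val hb
  simp only [f] at this
  have h2 : x * (b : G) = x * a := mul_right_cancel this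
  have h3 : (b : G) = a := mul_left_cancel h2
  rw [← h3]
  exact b.2

/-- A normal `p`-complement is a complement of every Sylow `p`-subgroup. -/
theorem isComplement'_sylow_of_hasNormalPComplement {G : Type*} [Group G] [Finite G] {p : ℕ}
    [Fact p.Prime] (h : Cfsg.HasNormalPComplement p G) (S : Sylow p G) :
    ∃ K : Subgroup G, K.Normal ∧ K.IsComplement' (S : Subgroup G) := by
  obtain ⟨P, K, hKn, hKc⟩ := h
  refine ⟨K, hKn, ?_⟩
  have hcard : Nat.card (S : Subgroup G) = Nat.card (P : Subgroup G) := by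
    rw [Sylow.card_eq_multiplicity, Sylow.card_eq_multiplicity]
  apply Subgroup.isComplement'_of_coprime
  · rw [hcard]; exact hKc.card_mul_card
  · rw [hcard]
    have h1 : (P : Subgroup G).index = Nat.card K := hKc.index_eq_card
    rw [← h1, Sylow.card_eq_multiplicity]
    apply Nat.Coprime.pow_right
    rw [Nat.coprime_comm, Nat.Prime.coprime_iff_not_dvd Fact.out]
    exact P.not_dvd_index

/-- With a normal complement `K` of `S`, normalizers of subgroups `U ≤ S` factorize:
`N(U) = C(U) (S ∩ N(U))`. -/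
theorem normalizer_eq_of_normal_complement {G : Type*} [Group G] [Finite G] {K S : Subgroup G}
    (hKn : K.Normal) (hKc : K.IsComplement' S) (U : Subgroup G) (hUS : U ≤ S) :
    Subgroup.normalizer (U : Set G) =
      Subgroup.centralizer (U : Set G) ⊔ (S ⊓ Subgroup.normalizer (U : Set G)) := by
  apply le_antisymm
  swap
  · exact sup_le (Subgroup.centralizer_le_normalizer (U : Set G)) inf_le_right
  intro g hg
  obtain ⟨⟨k, s⟩, hks, -⟩ := hKc.existsUnique g
  simp only at hks
  have hdisj : ∀ c : G, c ∈ K → c ∈ S → c = 1 := by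
    intro c hcK hcS
    have := hKc.disjoint.le_bot (show c ∈ K ⊓ S from ⟨hcK, hcS⟩)
    exact (Subgroup.mem_bot).1 this
  -- `g u g⁻¹ = s u s⁻¹` for `u ∈ U`
  have key : ∀ u ∈ U, g * u * g⁻¹ = (s : G) * u * (s : G)⁻¹ := by
    intro u hu
    have h1 : g * u * g⁻¹ ∈ U := (Subgroup.mem_normalizer_iff.1 hg u).1 hu
    have h2 : (s : G) * u * (s : G)⁻¹ ∈ S := S.mul_mem (S.mul_mem s.2 (hUS hu)) (S.inv_mem s.2)
    have h3 : g * u * g⁻¹ = (k : G) * ((s : G) * u * (s : G)⁻¹) * (k : G)⁻¹ := by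
      rw [← hks]; group
    have h4 : (k : G) * ((s : G) * u * (s : G)⁻¹) * (k : G)⁻¹ * ((s : G) * u * (s : G)⁻¹)⁻¹ ∈ K := by
      have : (k : G) * ((s : G) * u * (s : G)⁻¹) * (k : G)⁻¹ * ((s : G) * u * (s : G)⁻¹)⁻¹ =
          (k : G) * (((s : G) * u * (s : G)⁻¹) * (k : G)⁻¹ * ((s : G) * u * (s : G)⁻¹)⁻¹) := by
        group
      rw [this]
      exact K.mul_mem k.2 (hKn.conj_mem _ (K.inv_mem k.2) _)
    have h5 : (k : G) * ((s : G) * u * (s : G)⁻¹) * (k : G)⁻¹ * ((s : G) * u * (s : G)⁻¹)⁻¹ ∈ S := by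
      rw [← h3]
      exact S.mul_mem (hUS h1) (S.inv_mem h2)
    have h6 := hdisj _ h4 h5
    rw [h3]
    exact mul_inv_eq_one.1 h6
  have hsN : (s : G) ∈ Subgroup.normalizer (U : Set G) := by
    apply mem_normalizer_of_conj_mem_finite
    intro u hu
    rw [← key u hu]
    exact (Subgroup.mem_normalizer_iff.1 hg u).1 hu
  have hkC : (k : G) ∈ Subgroup.centralizer (U : Set G) := by
    rw [Subgroup.mem_centralizer_iff]
    intro u hu
    have hs' : (s : G)⁻¹ ∈ Subgroup.normalizer (U : Set G) := Subgroup.inv_mem _ hsN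
    have hu₀ : (s : G)⁻¹ * u * (s : G)⁻¹⁻¹ ∈ U := (Subgroup.mem_normalizer_iff.1 hs' u).1 hu
    have h1 := key _ hu₀
    have h2 : (s : G) * ((s : G)⁻¹ * u * (s : G)⁻¹⁻¹) * (s : G)⁻¹ = u := by group
    rw [h2] at h1
    have h3 : g * ((s : G)⁻¹ * u * (s : G)⁻¹⁻¹) * g⁻¹ = (k : G) * u * (k : G)⁻¹ := by
      rw [← hks]; group
    rw [h3] at h1
    calc u * (k : G) = ((k : G) * u * (k : G)⁻¹) * (k : G) := by rw [h1]
      _ = (k : G) * u := by group
  rw [← hks]
  exact Subgroup.mul_mem_sup hkC ⟨s.2, hsN⟩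

end Cfsg.Agent.Helper16

namespace Cfsg.Agent.Helper16

/-- If `N(Q) = C(Q) R` with `R` a `2`-group, then odd-order elements of `N(Q)` centralize `Q`. -/
theorem mem_centralizer_of_normalizer_eq_sup {G : Type*} [Group G] (Q R : Subgroup G)
    (hR : IsPGroup 2 R) (hRN : R ≤ Subgroup.normalizer (Q : Set G))
    (hN : Subgroup.normalizer (Q : Set G) = Subgroup.centralizer (Q : Set G) ⊔ R) {g : G}
    (hg : g ∈ Subgroup.normalizer (Q : Set G)) (hodd : Odd (orderOf g)) :
    g ∈ Subgroup.centralizer (Q : Set G) := by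
  set N : Subgroup G := Subgroup.normalizer (Q : Set G) with hNdef
  set φ : N →* MulAut Q := Q.normalizerMonoidHom with hφ
  set M : Subgroup (MulAut Q) := (R.subgroupOf N).map φ with hM
  have hM2 : IsPGroup 2 M :=
    (hR.comap_of_injective N.subtype N.subtype_injective).map φ
  have hCN : Subgroup.centralizer (Q : Set G) ≤ N := Subgroup.centralizer_le_normalizer _
  have htop : (⊤ : Subgroup N) ≤ M.comap φ := by
    have h1 : (Subgroup.centralizer (Q : Set G) ⊔ R).subgroupOf N = ⊤ := by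
      rw [← hN]; exact Subgroup.subgroupOf_self N
    rw [← h1, Subgroup.subgroupOf_sup hCN hRN]
    apply sup_le
    · intro x hx
      rw [Subgroup.mem_comap]
      have : x ∈ φ.ker := by
        rw [hφ, Subgroup.normalizerMonoidHom_ker]; exact hx
      rw [MonoidHom.mem_ker] at this
      rw [this]
      exact M.one_mem
    · exact Subgroup.le_comap_map φ _
  have hgM : φ ⟨g, hg⟩ ∈ M := htop (Subgroup.mem_top _)
  obtain ⟨k, hk⟩ := hM2 ⟨φ ⟨g, hg⟩, hgM⟩
  have hk' : (φ ⟨g, hg⟩) ^ 2 ^ k = 1 := by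
    have := congrArg (fun v : M => (v : MulAut Q)) hk
    simpa using this
  have hα : (φ ⟨g, hg⟩) ^ orderOf g = 1 := by
    rw [← map_pow]
    have : (⟨g, hg⟩ : N) ^ orderOf g = 1 := Subtype.ext (by simp [pow_orderOf_eq_one])
    rw [this, map_one]
  have h3 : orderOf (φ ⟨g, hg⟩) ∣ Nat.gcd (orderOf g) (2 ^ k) :=
    Nat.dvd_gcd (orderOf_dvd_of_pow_eq_one hα) (orderOf_dvd_of_pow_eq_one hk')
  have h4 : Nat.gcd (orderOf g) (2 ^ k) = 1 :=
    Nat.Coprime.pow_right k (Nat.coprime_two_right.2 hodd)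
  rw [h4, Nat.dvd_one, orderOf_eq_one_iff] at h3
  have h2 : (⟨g, hg⟩ : N) ∈ φ.ker := by rw [MonoidHom.mem_ker]; exact h3
  rw [hφ, Subgroup.normalizerMonoidHom_ker, Subgroup.mem_subgroupOf] at h2
  exact h2

end Cfsg.Agent.Helper16
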