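import Mathlib
import Cfsg.Agent.S0071
import Cfsg.Agent.Lib.Helper16.QuatSub
import Cfsg.Agent.Lib.Helper16.OddAutSub
import Cfsg.Agent.Lib.Helper16.Q8Aut
import Cfsg.Agent.Lib.Helper16.NormalComplementNC
import Cfsg.Agent.Lib.Helper9.SylowLemmas
import Cfsg.Agent.Lib.Helper22.CyclicChain

/-!
# The derived subgroup of a generalized quaternion Sylow `2`-subgroup (helper16's library)

Let `S` be a generalized quaternion Sylow `2`-subgroup of order at least `16` of the finite group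
`G`, with cyclic maximal subgroup `⟨a⟩`, and `D = ⟨a ^ 2⟩ = S'`. Then `N_G(D)` has a normal
`2`-complement `K`, `K ≤ C_G(D)`, and `S ∩ C_G(D) = ⟨a⟩`.
-/

set_option autoImplicit false

namespace Cfsg.Agent.Helper16

/-- An odd-order element normalizing a cyclic `2`-subgroup centralizes it. -/
theorem mem_centralizer_zpowers_of_odd {G : Type*} [Group G] [Finite G] {d g : G} {k : ℕ}
    (hd : orderOf d = 2 ^ k) (hg : g ∈ Subgroup.normalizer (Subgroup.zpowers d : Set G))
    (hodd : Odd (orderOf g)) : g ∈ Subgroup.centralizer (Subgroup.zpowers d : Set G) := by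
  have hF : Fact (Nat.Prime 2) := ⟨Nat.prime_two⟩
  have h2 : IsPGroup 2 (Subgroup.zpowers d) :=
    IsPGroup.of_card (n := k) (by rw [Nat.card_zpowers, hd])
  exact mem_centralizer_of_noOddAut _
    (NoOddAut.of_isPGroup (mulAut_isPGroup_of_isCyclic' h2 inferInstance)) hg hodd

/-- An odd-order element normalizing a subgroup `Q` of order eight and fixing an element of order
four of `Q` centralizes `Q`. -/
theorem mem_centralizer_of_fix_order_four {G : Type*} [Group G] (Q : Subgroup G)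
    (hcard : Nat.card Q = 8) {b g : G} (hbQ : b ∈ Q) (hbo : orderOf b = 4)
    (hg : g ∈ Subgroup.normalizer (Q : Set G)) (hodd : Odd (orderOf g))
    (hgb : g * b * g⁻¹ = b) : g ∈ Subgroup.centralizer (Q : Set G) := by
  have hfin : Finite Q := Nat.finite_of_card_ne_zero (by rw [hcard]; norm_num)
  set α : MulAut Q := Q.normalizerMonoidHom ⟨g, hg⟩ with hαdef
  have hα : α ^ orderOf g = 1 := by
    rw [hαdef, ← map_pow]
    have : (⟨g, hg⟩ : Subgroup.normalizer (Q : Set G)) ^ orderOf g = 1 :=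
      Subtype.ext (by simp [pow_orderOf_eq_one])
    rw [this, map_one]
  have hd : orderOf (⟨b, hbQ⟩ : Q) = 4 := by rw [← hbo]; exact Subgroup.orderOf_mk b hbQ
  have hαd : α ⟨b, hbQ⟩ ∈ Subgroup.zpowers (⟨b, hbQ⟩ : Q) := by
    have : α ⟨b, hbQ⟩ = ⟨b, hbQ⟩ := Subtype.ext (by rw [hαdef]; simpa using hgb)
    rw [this]; exact Subgroup.mem_zpowers _
  have h1 := Q8.aut_eq_one_of_map_mem_zpowers hcard α _ hodd hα hd hαd
  have h2 : (⟨g, hg⟩ : Subgroup.normalizer (Q : Set G)) ∈ Q.normalizerMonoidHom.ker := by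
    rw [MonoidHom.mem_ker]; exact h1
  rw [Subgroup.normalizerMonoidHom_ker, Subgroup.mem_subgroupOf] at h2
  exact h2

/-- Subgroups of a cyclic subgroup are ordered by divisibility of their orders. -/
theorem le_of_card_dvd_of_le_zpowers {G : Type*} [Group G] [Finite G] {A B : Subgroup G} {w : G}
    (hA : A ≤ Subgroup.zpowers w) (hB : B ≤ Subgroup.zpowers w)
    (h : Nat.card A ∣ Nat.card B) : A ≤ B := by
  have h1 : A.subgroupOf (Subgroup.zpowers w) ≤ B.subgroupOf (Subgroup.zpowers w) := by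
    apply Cfsg.Agent.Helper22.le_of_card_dvd_of_isCyclic
    rw [Nat.card_congr (Subgroup.subgroupOfEquivOfLe hA).toEquiv,
      Nat.card_congr (Subgroup.subgroupOfEquivOfLe hB).toEquiv]
    exact h
  intro x hx
  have h2 : (⟨x, hA hx⟩ : Subgroup.zpowers w) ∈ A.subgroupOf (Subgroup.zpowers w) := by
    rw [Subgroup.mem_subgroupOf]; exact hx
  have h3 := h1 h2
  rw [Subgroup.mem_subgroupOf] at h3
  exact h3

namespace IsQuatSub

variable {G : Type*} [Group G] {P : Subgroup G} {a : G} {j : ℕ}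

/-- `P ≤ N_G(⟨a ^ 2⟩)`. -/
theorem le_normalizer (h : IsQuatSub P a j) :
    P ≤ Subgroup.normalizer (Subgroup.zpowers (a ^ 2) : Set G) := by
  rw [← h.derived]
  exact Subgroup.normalizer_commutator_ge_left P P

/-- `P ∩ C_G(⟨a ^ 2⟩) = ⟨a⟩`. -/
theorem mem_centralizer_iff (h : IsQuatSub P a j) (hj3 : 3 ≤ j) {s : G} (hs : s ∈ P) :
    s ∈ Subgroup.centralizer (Subgroup.zpowers (a ^ 2) : Set G) ↔ s ∈ Subgroup.zpowers a := by
  constructor
  · intro hc
    by_contra hsa
    apply h.out_not_comm hj3 hs hsa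
    exact ((Subgroup.mem_centralizer_iff.1 hc) (a ^ 2) (Subgroup.mem_zpowers _)).symm
  · intro hsa
    rw [Subgroup.mem_centralizer_iff]
    intro d hd
    obtain ⟨i, rfl⟩ := Subgroup.mem_zpowers_iff.1 hsa
    obtain ⟨k, rfl⟩ := Subgroup.mem_zpowers_iff.1 hd
    rw [← zpow_natCast, ← zpow_mul, ← zpow_add, ← zpow_add, add_comm]

/-- There is an element of `P` outside `⟨a⟩`. -/
theorem exists_out (h : IsQuatSub P a j) : ∃ y ∈ P, y ∉ Subgroup.zpowers a := by
  by_contra hne
  push Not at hne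
  have hfin := h.finite
  have h1 : P ≤ Subgroup.zpowers a := hne
  have hfin2 : Finite (Subgroup.zpowers a) :=
    Nat.finite_of_card_ne_zero (by rw [Nat.card_zpowers, h.hao]; positivity)
  have h2 := Subgroup.card_le_of_le h1
  rw [h.card, Nat.card_zpowers, h.hao, pow_succ] at h2
  have : 0 < 2 ^ j := by positivity
  omega

/-- **Frobenius condition** inside `N_G(⟨a ^ 2⟩)`: an odd-order element normalizing `⟨a ^ 2⟩`
and a subgroup `Q` of `P` centralizes `Q`. -/
theorem centralizes_of_odd [Finite G] (h : IsQuatSub P a j) (hj3 : 3 ≤ j) {Q : Subgroup G}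
    (hQP : Q ≤ P) {g : G} (hg : g ∈ Subgroup.normalizer (Q : Set G))
    (hgD : g ∈ Subgroup.normalizer (Subgroup.zpowers (a ^ 2) : Set G)) (hodd : Odd (orderOf g)) :
    g ∈ Subgroup.centralizer (Q : Set G) := by
  by_contra hgc
  have hfin := h.finite
  have hout : ∀ y ∈ P, y ∉ Subgroup.zpowers a → y ^ 4 = 1 := by
    intro y hy hya
    rw [← h.out_ord y hy hya]; exact pow_orderOf_eq_one y
  have hgC : g ∈ Subgroup.centralizer (Subgroup.zpowers (a ^ 2) : Set G) :=
    mem_centralizer_zpowers_of_odd h.orderOf_sq hgD hodd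
  rcases four_or_quat_of_odd_normalizer P h.mem h.hao h.card hout Q hQP hg hodd hgc with
    ⟨h4, hsq⟩ | ⟨h8, b, y, hb, hy, hbo, hy2, hyb⟩
  · -- a four-group is impossible
    have hj := h.hj
    have hz2 : (a ^ 2 ^ (j - 1)) ^ 2 = 1 := pow_half_sq (by omega) h.hao
    have hle : Q ≤ Subgroup.zpowers (a ^ 2 ^ (j - 1)) := by
      intro q hq
      have hq2 := hsq q hq
      have hqa : q ∈ Subgroup.zpowers a := by
        by_contra hqa
        have h2 := h.out_ord q (hQP hq) hqa
        have h4 := orderOf_dvd_of_pow_eq_one hq2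
        rw [h2] at h4
        norm_num at h4
      obtain ⟨s, -, rfl⟩ := mem_zpowers_exists_nat (by positivity) h.hao hqa
      have h5 : a ^ (2 * s) = 1 := by rw [mul_comm, pow_mul]; exact hq2
      rcases pow_eq_one_or_half (by omega) h.hao h5 with h6 | h6
      · rw [h6]; exact Subgroup.one_mem _
      · rw [h6]; exact Subgroup.mem_zpowers _
    have h1 := Subgroup.card_le_of_le hle
    have h2 : Nat.card (Subgroup.zpowers (a ^ 2 ^ (j - 1))) ≤ 2 := by
      rw [Nat.card_zpowers]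
      exact Nat.le_of_dvd two_pos (orderOf_dvd_of_pow_eq_one hz2)
    omega
  · -- quaternion: some element of order four of `Q` lies in `⟨a ^ 2⟩`
    have hb4 : b ^ 4 = 1 := by rw [← hbo]; exact pow_orderOf_eq_one b
    have hb2 : b ^ 2 ≠ 1 := by
      intro hb2
      have := orderOf_dvd_of_pow_eq_one hb2
      rw [hbo] at this; norm_num at this
    have key : ∀ w ∈ Q, w ^ 2 = b ^ 2 → w ∈ Subgroup.zpowers a → False := by
      intro w hwQ hw2 hwa
      have hw4 : w ^ 4 = 1 := by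
        have : w ^ 4 = (w ^ 2) ^ 2 := by rw [← pow_mul]
        rw [this, hw2, ← pow_mul]; exact hb4
      have hwo : orderOf w = 4 := by
        have := orderOf_eq_prime_pow (p := 2) (n := 1) (x := w)
          (by rw [pow_one, hw2]; exact hb2) (by simpa using hw4)
        simpa using this
      have hwD : w ∈ Subgroup.zpowers (a ^ 2) := by
        apply h.mem_zpowers_sq hwa
        have : 2 ^ (j - 1) = 4 * 2 ^ (j - 3) := by
          have : j - 1 = 2 + (j - 3) := by omega
          rw [this, pow_add]; norm_num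
        rw [this, pow_mul, hw4, one_pow]
      have hgw : g * w * g⁻¹ = w := by
        have := (Subgroup.mem_centralizer_iff.1 hgC) w hwD
        rw [← this, mul_inv_cancel_right]
      exact hgc (mem_centralizer_of_fix_order_four Q h8 hwQ hwo hg hodd hgw)
    by_cases hba : b ∈ Subgroup.zpowers a
    · exact key b hb rfl hba
    · by_cases hya : y ∈ Subgroup.zpowers a
      · exact key y hy hy2 hya
      · have hbya := h.out_mul b (hQP hb) y (hQP hy) hba hya
        apply key (b * y) (Q.mul_mem hb hy) _ hbya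
        have h1 : y * b = b⁻¹ * y := by rw [← hyb, inv_mul_cancel_right]
        calc (b * y) ^ 2 = b * (y * b) * y := by rw [pow_two]; simp only [mul_assoc]
          _ = b * (b⁻¹ * y) * y := by rw [h1]
          _ = y ^ 2 := by rw [mul_inv_cancel_left, pow_two]
          _ = b ^ 2 := hy2

end IsQuatSub

/-- **Structure of `N_G(S')`** for a generalized quaternion Sylow `2`-subgroup `S` of order at
least `16`: it has a normal `2`-complement `K`, which centralizes `S' = ⟨a ^ 2⟩`. -/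
theorem IsQuatSub.exists_normal_complement {G : Type*} [Group G] [Finite G] (S : Sylow 2 G)
    {a : G} {j : ℕ} (h : IsQuatSub (S : Subgroup G) a j) (hj3 : 3 ≤ j) :
    ∃ K : Subgroup G, Odd (Nat.card K) ∧
      K ≤ Subgroup.centralizer (Subgroup.zpowers (a ^ 2) : Set G) ∧
      (∀ g ∈ Subgroup.normalizer (Subgroup.zpowers (a ^ 2) : Set G), ∀ k ∈ K,
        g * k * g⁻¹ ∈ K) ∧
      (∀ g ∈ Subgroup.normalizer (Subgroup.zpowers (a ^ 2) : Set G),
        ∃ k ∈ K, ∃ s ∈ (S : Subgroup G), g = k * s) := by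
  have hF : Fact (Nat.Prime 2) := ⟨Nat.prime_two⟩
  set N : Subgroup G := Subgroup.normalizer (Subgroup.zpowers (a ^ 2) : Set G) with hN
  have hSN : (S : Subgroup G) ≤ N := h.le_normalizer
  set P : Sylow 2 N := S.subtype hSN with hP
  have hPcoe : (P : Subgroup N) = (S : Subgroup G).subgroupOf N := Sylow.coe_subtype ..
  have hfrob : ∀ Q : Subgroup N, Q ≤ (P : Subgroup N) →
      ∀ g ∈ Subgroup.normalizer (Q : Set N), Nat.Coprime (orderOf g) 2 →
      g ∈ Subgroup.centralizer (Q : Set N) := by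
    intro Q hQP g hg hcop
    set Q' : Subgroup G := Q.map N.subtype with hQ'
    have hQ'S : Q' ≤ (S : Subgroup G) := by
      rintro _ ⟨q, hq, rfl⟩
      have := hQP hq
      rw [hPcoe, Subgroup.mem_subgroupOf] at this
      exact this
    have hg' : (g : G) ∈ Subgroup.normalizer (Q' : Set G) := by
      apply Subgroup.le_normalizer_map N.subtype
      exact ⟨g, hg, rfl⟩
    have hodd' : Odd (orderOf (g : G)) := by
      rw [Subgroup.orderOf_coe]; exact Nat.coprime_two_right.1 hcop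
    have h1 := h.centralizes_of_odd hj3 hQ'S hg' g.2 hodd'
    rw [Subgroup.mem_centralizer_iff]
    intro q hq
    apply Subtype.ext
    have := (Subgroup.mem_centralizer_iff.1 h1) (q : G) ⟨q, hq, rfl⟩
    simpa using this
  obtain ⟨K₀, hK₀n, hK₀c⟩ := (Cfsg.Agent.S0071.result P).2 hfrob
  have hoddK₀ : Odd (Nat.card K₀) := by
    have h1 : (P : Subgroup N).index = Nat.card K₀ := hK₀c.index_eq_card
    rw [← h1]
    exact Nat.odd_iff.2 (Nat.two_dvd_ne_zero.1 P.not_dvd_index)
  refine ⟨K₀.map N.subtype, ?_, ?_, ?_, ?_⟩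
  · rw [Subgroup.card_map_of_injective N.subtype_injective]
    exact hoddK₀
  · rintro _ ⟨k₀, hk₀, rfl⟩
    have h1 : orderOf (k₀ : G) ∣ Nat.card K₀ := by
      rw [Subgroup.orderOf_coe]
      exact Subgroup.orderOf_dvd_natCard K₀ hk₀
    exact mem_centralizer_zpowers_of_odd h.orderOf_sq k₀.2 (hoddK₀.of_dvd_nat h1)
  · rintro g hg _ ⟨k₀, hk₀, rfl⟩
    exact ⟨⟨g, hg⟩ * k₀ * ⟨g, hg⟩⁻¹, hK₀n.conj_mem k₀ hk₀ ⟨g, hg⟩, rfl⟩
  · intro g hg
    obtain ⟨x, hx, -⟩ := (hK₀c : Subgroup.IsComplement (K₀ : Set N) (P : Set N)).existsUnique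
      ⟨g, hg⟩
    refine ⟨(x.1.1 : G), ⟨x.1.1, x.1.2, rfl⟩, (x.2.1 : G), ?_, ?_⟩
    · have h1 : (x.2.1 : N) ∈ (P : Subgroup N) := x.2.2
      have h2 : ∀ v : N, v ∈ (P : Subgroup N) → (v : G) ∈ (S : Subgroup G) := by
        intro v hv
        rw [hPcoe, Subgroup.mem_subgroupOf] at hv
        exact hv
      exact h2 _ h1
    · have := congrArg (fun v : N => (v : G)) hx
      simpa using this.symm

/-- An element of `C_G(S')` whose order is divisible by `|S'|` generates a cyclic group containing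
`S' = ⟨a ^ 2⟩`. -/
theorem IsQuatSub.le_zpowers_of_dvd_orderOf {G : Type*} [Group G] [Finite G] (S : Sylow 2 G)
    {a : G} {j : ℕ} (h : IsQuatSub (S : Subgroup G) a j) (hj3 : 3 ≤ j) {y : G}
    (hy : y ∈ Subgroup.centralizer (Subgroup.zpowers (a ^ 2) : Set G))
    (hdvd : 2 ^ (j - 1) ∣ orderOf y) : Subgroup.zpowers (a ^ 2) ≤ Subgroup.zpowers y := by
  have hF : Fact (Nat.Prime 2) := ⟨Nat.prime_two⟩
  set D : Subgroup G := Subgroup.zpowers (a ^ 2) with hD
  set N : Subgroup G := Subgroup.normalizer (D : Set G) with hN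
  have hSN : (S : Subgroup G) ≤ N := h.le_normalizer
  have hCN : Subgroup.centralizer (D : Set G) ≤ N := Subgroup.centralizer_le_normalizer _
  obtain ⟨e, m, hm, hym⟩ := Nat.exists_eq_two_pow_mul_odd (orderOf_pos y).ne'
  have hm0 : m ≠ 0 := by
    rintro rfl
    exact absurd hm (by decide)
  have hje : 2 ^ (j - 1) ∣ 2 ^ e := by
    rw [hym] at hdvd
    exact Nat.Coprime.dvd_of_dvd_mul_right
      (Nat.Coprime.pow_left _ (Nat.coprime_two_left.2 hm)) hdvd
  -- the `2`-part of `y`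
  have hy₂o : orderOf (y ^ m) = 2 ^ e := by
    rw [orderOf_pow' y hm0, hym, Nat.gcd_eq_right (Dvd.intro_left _ rfl),
      Nat.mul_div_cancel _ (Nat.pos_of_ne_zero hm0)]
  have hy₂C : y ^ m ∈ Subgroup.centralizer (D : Set G) := Subgroup.pow_mem _ hy m
  have hy₂N : y ^ m ∈ N := hCN hy₂C
  -- conjugate it into `S` inside `N`
  obtain ⟨c, hc⟩ := Cfsg.Agent.Helper9.exists_conj_mem_sylow (S.subtype hSN) (⟨y ^ m, hy₂N⟩ : N)
    ⟨e, by rw [Subgroup.orderOf_mk, hy₂o]⟩
  have hcS : (c : G) * y ^ m * (c : G)⁻¹ ∈ (S : Subgroup G) := by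
    have h1 : c * (⟨y ^ m, hy₂N⟩ : N) * c⁻¹ ∈ (S : Subgroup G).subgroupOf N := by
      rw [← Sylow.coe_subtype S hSN]; exact hc
    rw [Subgroup.mem_subgroupOf] at h1
    simpa using h1
  set w : G := (c : G) * y ^ m * (c : G)⁻¹ with hw
  have hcN : ∀ d : G, d ∈ D ↔ (c : G) * d * (c : G)⁻¹ ∈ D := Subgroup.mem_normalizer_iff.1 c.2
  have hwC : w ∈ Subgroup.centralizer (D : Set G) := by
    rw [Subgroup.mem_centralizer_iff]
    intro d hd
    have h1 : (c : G)⁻¹ * d * (c : G) ∈ D := by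
      rw [hcN]
      have : (c : G) * ((c : G)⁻¹ * d * (c : G)) * (c : G)⁻¹ = d := by
        simp only [mul_assoc, mul_inv_cancel, mul_one, mul_inv_cancel_left]
      rw [this]; exact hd
    have h2 := (Subgroup.mem_centralizer_iff.1 hy₂C) _ h1
    -- `h2 : c⁻¹ d c * y^m = y^m * (c⁻¹ d c)`
    calc d * w = (c : G) * ((c : G)⁻¹ * d * (c : G) * y ^ m) * (c : G)⁻¹ := by
          rw [hw]; simp only [mul_assoc, mul_inv_cancel_left]
      _ = (c : G) * (y ^ m * ((c : G)⁻¹ * d * (c : G))) * (c : G)⁻¹ := by rw [h2]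
      _ = w * d := by
          rw [hw]; simp only [mul_assoc, mul_inv_cancel, mul_one]
  have hwa : w ∈ Subgroup.zpowers a := (h.mem_centralizer_iff hj3 hcS).1 hwC
  have hwo : orderOf w = 2 ^ e := by
    have : w = MulAut.conj (c : G) (y ^ m) := by rw [MulAut.conj_apply]
    rw [this, MulEquiv.orderOf_eq, hy₂o]
  have hDw : D ≤ Subgroup.zpowers w := by
    apply le_of_card_dvd_of_le_zpowers (w := a)
    · rw [hD, Subgroup.zpowers_le]; exact Subgroup.pow_mem _ (Subgroup.mem_zpowers a) 2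
    · rw [Subgroup.zpowers_le]; exact hwa
    · rw [hD, Nat.card_zpowers, Nat.card_zpowers, h.orderOf_sq, hwo]
      exact hje
  intro d hd
  have h1 : (c : G) * d * (c : G)⁻¹ ∈ Subgroup.zpowers w := hDw ((hcN d).1 hd)
  obtain ⟨i, hi⟩ := Subgroup.mem_zpowers_iff.1 h1
  rw [hw, conj_zpow] at hi
  have h2 : (y ^ m) ^ i = d := by
    have h3 : (c : G) * (y ^ m) ^ i = (c : G) * d := mul_right_cancel hi
    exact mul_left_cancel h3
  rw [← h2]
  exact Subgroup.zpow_mem _ (Subgroup.pow_mem _ (Subgroup.mem_zpowers y) m) i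

/-- If `g` conjugates an element of `C_G(S')` of order divisible by `|S'|` into `C_G(S')`, then
`g ∈ N_G(S')`. -/
theorem IsQuatSub.mem_normalizer_of_conj_mem {G : Type*} [Group G] [Finite G] (S : Sylow 2 G)
    {a : G} {j : ℕ} (h : IsQuatSub (S : Subgroup G) a j) (hj3 : 3 ≤ j) {g y : G}
    (hy : y ∈ Subgroup.centralizer (Subgroup.zpowers (a ^ 2) : Set G))
    (hdvd : 2 ^ (j - 1) ∣ orderOf y)
    (hgy : g * y * g⁻¹ ∈ Subgroup.centralizer (Subgroup.zpowers (a ^ 2) : Set G)) :
    g ∈ Subgroup.normalizer (Subgroup.zpowers (a ^ 2) : Set G) := by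
  have h1 := h.le_zpowers_of_dvd_orderOf S hj3 hy hdvd
  have ho : orderOf (g * y * g⁻¹) = orderOf y := by
    have : g * y * g⁻¹ = MulAut.conj g y := by rw [MulAut.conj_apply]
    rw [this, MulEquiv.orderOf_eq]
  have h2 := h.le_zpowers_of_dvd_orderOf S hj3 hgy (by rw [ho]; exact hdvd)
  set D : Subgroup G := Subgroup.zpowers (a ^ 2) with hD
  set D' : Subgroup G := D.map (MulAut.conj g).toMonoidHom with hD'
  have h3 : D' ≤ Subgroup.zpowers (g * y * g⁻¹) := by
    rintro _ ⟨d, hd, rfl⟩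
    obtain ⟨i, rfl⟩ := Subgroup.mem_zpowers_iff.1 (h1 hd)
    rw [Subgroup.mem_zpowers_iff]
    refine ⟨i, ?_⟩
    simp [conj_zpow]
  have h4 : Nat.card D' = Nat.card D :=
    Subgroup.card_map_of_injective (MulAut.conj g).injective
  have h5 : D' ≤ D := le_of_card_dvd_of_le_zpowers h3 h2 (by rw [h4])
  apply mem_normalizer_of_conj_mem_finite
  intro d hd
  apply h5
  exact ⟨d, hd, by simp [MulAut.conj_apply]⟩

end Cfsg.Agent.Helper16
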