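import Mathlib
import Cfsg.Agent.Lib.Helper16.CyclicTwo

/-!
# Linear characters of groups with a cyclic Sylow `2`-subgroup (helper16's library)

A finite group `C` with a cyclic Sylow `2`-subgroup `P ≠ 1` has a normal `2`-complement (via the
transfer). We construct a linear character `ν` of `C`, trivial on all elements whose order is not
divisible by `4`, taking the value `-1` at the elements of `P` of order four.
-/

set_option autoImplicit false

namespace Cfsg.Agent.Helper16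

/-- An element whose order is odd and a power of two is trivial. -/
theorem eq_one_of_odd_orderOf_of_two_pow {G : Type*} [Group G] {x : G} (h1 : Odd (orderOf x))
    (h2 : ∃ j : ℕ, orderOf x = 2 ^ j) : x = 1 := by
  obtain ⟨j, hj⟩ := h2
  rcases Nat.eq_zero_or_pos j with h0 | h0
  · rw [h0, pow_zero] at hj
    exact orderOf_eq_one_iff.1 hj
  · exfalso
    rw [hj] at h1
    have : Even (2 ^ j) := (Nat.even_pow' h0.ne').2 even_two
    exact (Nat.not_even_iff_odd.2 h1) this

/-- If `4 ∤ o(x)` then `x ^ 2` has odd order. -/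
theorem odd_orderOf_sq_of_not_four_dvd {G : Type*} [Group G] [Finite G] {x : G}
    (h : ¬ 4 ∣ orderOf x) : Odd (orderOf (x ^ 2)) := by
  rw [orderOf_pow' x two_ne_zero]
  rcases Nat.even_or_odd (orderOf x) with he | ho
  · obtain ⟨m, hm⟩ := even_iff_two_dvd.1 he
    have hm0 : 0 < m := by
      have := orderOf_pos x
      omega
    rw [hm, Nat.gcd_eq_right (Dvd.intro _ rfl), Nat.mul_div_cancel_left _ two_pos]
    rcases Nat.even_or_odd m with he' | ho'
    · exfalso
      obtain ⟨t, ht⟩ := even_iff_two_dvd.1 he'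
      exact h ⟨t, by rw [hm, ht]; ring⟩
    · exact ho'
  · have : Nat.gcd (orderOf x) 2 = 1 := Nat.coprime_two_right.2 ho
    rw [this, Nat.div_one]
    exact ho

/-- Finite cyclic groups have enough linear characters. -/
theorem exists_hom_ne_one_of_isCyclic {T : Type*} [Group T] [Finite T] [IsCyclic T] {z : T}
    (hz : z ≠ 1) : ∃ μ : T →* ℂˣ, μ z ≠ 1 := by
  letI : CommGroup T := IsCyclic.commGroup
  exact CommGroup.exists_apply_ne_one_of_hasEnoughRootsOfUnity T ℂ hz

/-- A unit of `ℂ` of order two is `-1`. -/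
theorem units_eq_neg_one_of_sq {w : ℂˣ} (h2 : w ^ 2 = 1) (h1 : w ≠ 1) : w = -1 := by
  have h3 : ((w : ℂˣ) : ℂ) ^ 2 = 1 := by
    rw [← Units.val_pow_eq_pow_val, h2, Units.val_one]
  have h4 : (((w : ℂˣ) : ℂ) - 1) * (((w : ℂˣ) : ℂ) + 1) = 0 := by
    linear_combination h3
  rcases mul_eq_zero.1 h4 with h5 | h5
  · exfalso
    apply h1
    apply Units.ext
    rw [Units.val_one]
    linear_combination h5
  · apply Units.ext
    rw [Units.val_neg, Units.val_one]
    linear_combination h5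

section

variable {C : Type*} [Group C] [Finite C]

/-- The transfer into a cyclic Sylow `2`-subgroup and the normal `2`-complement. -/
theorem exists_transfer_of_cyclic_sylow (P : Sylow 2 C) (hP : IsCyclic P)
    (h2 : 2 ∣ Nat.card C) :
    ∃ V : C →* ↥(P : Subgroup C),
      (∀ g (hg : g ∈ (P : Subgroup C)), V g = ⟨g, hg⟩ ^ (P : Subgroup C).index) ∧
      (∀ x : C, Odd (orderOf x) → V x = 1) ∧
      (∀ x : C, ∃ k α : C, Odd (orderOf k) ∧ α ∈ (P : Subgroup C) ∧ x = k * α) := by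
  have hF : Fact (Nat.Prime 2) := ⟨Nat.prime_two⟩
  have hp : (Nat.card C).minFac = 2 := (Nat.minFac_eq_two_iff _).2 h2
  have hNC := hP.normalizer_le_centralizer hp
  refine ⟨MonoidHom.transferSylow P hNC, ?_, ?_, ?_⟩
  · intro g hg
    rw [MonoidHom.transferSylow_eq_pow P hNC g hg]
    rfl
  · intro x hx
    apply eq_one_of_odd_orderOf_of_two_pow
    · exact hx.of_dvd_nat (orderOf_map_dvd _ x)
    · exact IsPGroup.iff_orderOf.1 P.2 _
  · intro x
    have hc := hP.isComplement' hp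
    obtain ⟨y, hy, -⟩ := (hc : Subgroup.IsComplement _ _).existsUnique x
    refine ⟨y.1.1, y.2.1, ?_, y.2.2, hy.symm⟩
    have h1 : ¬ 2 ∣ Nat.card (MonoidHom.transferSylow P hNC).ker :=
      MonoidHom.not_dvd_card_ker_transferSylow P hNC
    have h3 : orderOf (y.1.1) ∣ Nat.card (MonoidHom.transferSylow P hNC).ker :=
      Subgroup.orderOf_dvd_natCard _ y.1.2
    rw [← Nat.not_even_iff_odd, even_iff_two_dvd]
    exact fun h => h1 (h.trans h3)

/-- The linear character attached to a cyclic Sylow `2`-subgroup. -/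
theorem exists_linear_char_of_cyclic_sylow (P : Sylow 2 C) (hP : IsCyclic P) (z : C)
    (hzP : z ∈ (P : Subgroup C)) (hz1 : z ≠ 1) (hz2 : z ^ 2 = 1) :
    ∃ ν : C →* ℂˣ, (∀ x : C, ¬ 4 ∣ orderOf x → ν x = 1) ∧
      (∀ x ∈ (P : Subgroup C), x ^ 2 = z → ν x = -1) ∧
      (∀ x ∈ (P : Subgroup C), ∀ m : ℕ, x ^ (4 * 2 ^ m) = z → ν x ^ 2 ≠ 1) := by
  have hF : Fact (Nat.Prime 2) := ⟨Nat.prime_two⟩
  have hzo : orderOf z = 2 := orderOf_eq_prime hz2 hz1
  have h2 : 2 ∣ Nat.card C := by rw [← hzo]; exact orderOf_dvd_natCard z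
  obtain ⟨V, hV1, hV2, -⟩ := exists_transfer_of_cyclic_sylow P hP h2
  haveI : IsCyclic ↥(P : Subgroup C) := hP
  have hz' : (⟨z, hzP⟩ : ↥(P : Subgroup C)) ≠ 1 := by
    intro h
    exact hz1 (congrArg Subtype.val h)
  obtain ⟨μ, hμ⟩ := exists_hom_ne_one_of_isCyclic hz'
  have hμ2 : μ ⟨z, hzP⟩ ^ 2 = 1 := by
    rw [← map_pow]
    have : (⟨z, hzP⟩ : ↥(P : Subgroup C)) ^ 2 = 1 := Subtype.ext hz2
    rw [this, map_one]
  have hodd : Odd (P : Subgroup C).index := by
    rw [← Nat.not_even_iff_odd, even_iff_two_dvd]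
    exact P.not_dvd_index
  have hVz : μ (V z) = μ ⟨z, hzP⟩ := by
    rw [hV1 z hzP, map_pow, sq_eq_one_pow_odd hμ2 hodd]
  refine ⟨(powMonoidHom 2).comp (μ.comp V), ?_, ?_, ?_⟩
  · intro x hx
    have h1 : V (x ^ 2) = 1 := hV2 _ (odd_orderOf_sq_of_not_four_dvd hx)
    show (μ (V x)) ^ 2 = 1
    rw [← map_pow, ← map_pow, h1, map_one]
  · intro x _ hxz
    show (μ (V x)) ^ 2 = -1
    rw [← map_pow, ← map_pow, hxz, hVz]
    exact units_eq_neg_one_of_sq hμ2 hμ
  · intro x _ m hxz hcon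
    have h1 : (μ (V x)) ^ 4 = 1 := by
      have : ((μ (V x)) ^ 2) ^ 2 = 1 := hcon
      rw [← pow_mul] at this
      exact this
    have h3 : (μ (V x)) ^ (4 * 2 ^ m) = 1 := by rw [pow_mul, h1, one_pow]
    rw [← map_pow, ← map_pow, hxz, hVz] at h3
    exact hμ h3

end

end Cfsg.Agent.Helper16
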