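import Mathlib
import Cfsg.Prelude.Def_Blocks
import Cfsg.Agent.Lib.Helper24.CharInduced
import Cfsg.Agent.Lib.Helper24.CharComplete
import Cfsg.Agent.Lib.Helper24.CharLinear

/-!
# Class functions of norm three (helper16's library)

A class function `Θ` with integral multiplicities, norm `3`, containing the principal character
once and vanishing at `1` is `1 + χ₂ - χ₁` for non-principal irreducible characters `χ₁`, `χ₂`
with `χ₁ 1 = χ₂ 1 + 1`.
-/

set_option autoImplicit false

namespace Cfsg.Agent.Helper16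

open Cfsg Cfsg.Agent.Helper24

universe u

open scoped ComplexConjugate

section NormThree

variable {G : Type u} [Group G] [Fintype G]

theorem int_sq_le_one_of_sq_le_three {m : ℤ} (h : m ^ 2 ≤ 3) : m = 0 ∨ m = 1 ∨ m = -1 := by
  have h1 : -1 ≤ m := by nlinarith
  have h2 : m ≤ 1 := by nlinarith
  omega

theorem exists_of_norm_three {Θ : G → ℂ} (hcf : IsClassFunction G Θ)
    (hint : ∀ χ : G → ℂ, IsIrrCharacter G χ → ∃ m : ℤ, classInner Θ χ = m)
    (h3 : classInner Θ Θ = 3) (h1 : classInner Θ (fun _ => (1 : ℂ)) = 1) (h0 : Θ 1 = 0) :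
    ∃ χ₁ χ₂ : G → ℂ, IsIrrCharacter G χ₁ ∧ IsIrrCharacter G χ₂ ∧ χ₁ ≠ (fun _ => 1) ∧
      χ₂ ≠ (fun _ => 1) ∧ χ₁ 1 = χ₂ 1 + 1 ∧ ∀ g, Θ g = 1 + χ₂ g - χ₁ g := by
  classical
  let _ : Fintype (IrrCharacter G) := irrFintype
  choose c hc using fun χ : IrrCharacter G => hint χ.1 χ.2
  -- the norm
  have hsum : ∑ χ : IrrCharacter G, (c χ) ^ 2 = 3 := by
    have h := classInner_eq_sum_mul hcf Θ
    rw [h3] at h
    have h' : ((3 : ℤ) : ℂ) = ((∑ χ : IrrCharacter G, (c χ) ^ 2 : ℤ) : ℂ) := by
      push_cast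
      rw [h]
      refine Finset.sum_congr rfl fun χ _ => ?_
      rw [hc χ, map_intCast, sq]
    exact_mod_cast h'.symm
  -- the principal character
  set p : IrrCharacter G := principalChar G with hp
  have hcp : c p = 1 := by
    have : ((c p : ℤ) : ℂ) = 1 := by rw [← hc p]; exact h1
    exact_mod_cast this
  -- every coefficient is `0` or `±1`
  have hle : ∀ χ : IrrCharacter G, c χ = 0 ∨ c χ = 1 ∨ c χ = -1 := by
    intro χ
    apply int_sq_le_one_of_sq_le_three
    rw [← hsum]
    exact Finset.single_le_sum (f := fun χ => (c χ) ^ 2) (fun i _ => sq_nonneg (c i))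
      (Finset.mem_univ χ)
  set s : Finset (IrrCharacter G) := Finset.univ.filter (fun χ => c χ ≠ 0) with hs
  have hsq : ∀ χ : IrrCharacter G, (c χ) ^ 2 = if c χ ≠ 0 then 1 else 0 := by
    intro χ
    rcases hle χ with h | h | h <;> simp [h]
  have hcard : s.card = 3 := by
    have h : ((s.card : ℕ) : ℤ) = 3 := by
      rw [← hsum, hs, Finset.card_filter]
      push_cast
      refine Finset.sum_congr rfl fun χ _ => ?_
      rw [hsq χ]
    exact_mod_cast h
  have hps : p ∈ s := by
    rw [hs, Finset.mem_filter]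
    exact ⟨Finset.mem_univ _, by rw [hcp]; norm_num⟩
  have hcard2 : (s.erase p).card = 2 := by
    rw [Finset.card_erase_of_mem hps, hcard]
  obtain ⟨x, y, hxy, hxy2⟩ := Finset.card_eq_two.1 hcard2
  have hxs : x ∈ s.erase p := by rw [hxy2]; simp
  have hys : y ∈ s.erase p := by rw [hxy2]; simp
  have hxp : x ≠ p := (Finset.mem_erase.1 hxs).1
  have hyp : y ≠ p := (Finset.mem_erase.1 hys).1
  have hcx : c x ≠ 0 := (Finset.mem_filter.1 (Finset.mem_erase.1 hxs).2).2
  have hcy : c y ≠ 0 := (Finset.mem_filter.1 (Finset.mem_erase.1 hys).2).2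
  have hseq : s = {p, x, y} := by
    rw [← Finset.insert_erase hps, hxy2]
  -- the expansion
  have hexp : ∀ g, Θ g = 1 + (c x : ℂ) * (x : G → ℂ) g + (c y : ℂ) * (y : G → ℂ) g := by
    intro g
    have h := congrFun (classFunction_expansion hcf) g
    rw [Finset.sum_apply] at h
    have h2 : ∑ χ : IrrCharacter G, (classInner Θ (χ : G → ℂ) • (χ : G → ℂ)) g =
        ∑ χ ∈ s, (c χ : ℂ) * (χ : G → ℂ) g := by
      rw [hs, Finset.sum_filter]
      refine Finset.sum_congr rfl fun χ _ => ?_
      rw [Pi.smul_apply, smul_eq_mul, hc χ]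
      by_cases h0 : c χ = 0
      · simp [h0]
      · simp [h0]
    rw [h2, hseq, Finset.sum_insert, Finset.sum_insert, Finset.sum_singleton, hcp] at h
    · rw [h]
      have : (p : G → ℂ) g = 1 := rfl
      rw [this]; push_cast; ring
    · simpa using hxy
    · simp only [Finset.mem_insert, Finset.mem_singleton, not_or]
      exact ⟨fun h => hxp h.symm, fun h => hyp h.symm⟩
  -- degrees
  obtain ⟨dx, hdx0, hdx⟩ := irr_one_eq x.2
  obtain ⟨dy, hdy0, hdy⟩ := irr_one_eq y.2
  have hdeg : (1 : ℤ) + c x * dx + c y * dy = 0 := by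
    have h := hexp 1
    rw [h0, hdx, hdy] at h
    have : ((1 + c x * dx + c y * dy : ℤ) : ℂ) = 0 := by push_cast; rw [← h]
    exact_mod_cast this
  have hxne : (x : G → ℂ) ≠ fun _ => 1 := fun h => hxp (Subtype.ext h)
  have hyne : (y : G → ℂ) ≠ fun _ => 1 := fun h => hyp (Subtype.ext h)
  rcases hle x with hx | hx | hx
  · exact absurd hx hcx
  · rcases hle y with hy | hy | hy
    · exact absurd hy hcy
    · exfalso
      rw [hx, hy] at hdeg
      have : (0 : ℤ) ≤ dx := Int.natCast_nonneg _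
      have : (0 : ℤ) ≤ dy := Int.natCast_nonneg _
      omega
    · -- `Θ = 1 + x - y`
      refine ⟨y, x, y.2, x.2, hyne, hxne, ?_, ?_⟩
      · rw [hx, hy] at hdeg
        rw [hdx, hdy]
        have : (dy : ℤ) = dx + 1 := by omega
        exact_mod_cast this
      · intro g
        rw [hexp g, hx, hy]; push_cast; ring
  · rcases hle y with hy | hy | hy
    · exact absurd hy hcy
    · refine ⟨x, y, x.2, y.2, hxne, hyne, ?_, ?_⟩
      · rw [hx, hy] at hdeg
        rw [hdx, hdy]
        have : (dx : ℤ) = dy + 1 := by omega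
        exact_mod_cast this
      · intro g
        rw [hexp g, hx, hy]; push_cast; ring
    · exfalso
      rw [hx, hy] at hdeg
      have : (1 : ℤ) ≤ dx := by exact_mod_cast hdx0
      have : (1 : ℤ) ≤ dy := by exact_mod_cast hdy0
      omega

end NormThree

end Cfsg.Agent.Helper16
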