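import Mathlib
import Cfsg.Prelude.Def_Blocks
import Cfsg.Agent.Lib.Helper24.CharInduced
import Cfsg.Agent.Lib.Helper24.CharComplete
import Cfsg.Agent.Lib.Helper24.CharLinear
import Cfsg.Agent.Lib.Helper16.BSNormThree

/-!
# The Brauer–Suzuki induction (helper16's library)

Let `C` be a subgroup of the finite group `G`, `b ∉ C` an element normalizing `C`, and `ν` a linear
character of `C` with `ν ≠ ν⁻¹`, inverted by `b`, such that the elements of `C` off the kernel of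
`ν` are only fused by `C ∪ bC`. Then `Ind (1 - ν) = 1 + χ₂ - χ₁` for irreducible characters.
-/

set_option autoImplicit false

namespace Cfsg.Agent.Helper16

open Cfsg Cfsg.Agent.Helper24

universe u

open scoped ComplexConjugate

/-- The sum of the values of a nontrivial linear character is zero. -/
theorem sum_units_hom_eq_zero {H : Type*} [Group H] [Fintype H] (ν : H →* ℂˣ)
    (h : ∃ x, ν x ≠ 1) : ∑ x : H, ((ν x : ℂˣ) : ℂ) = 0 := by
  have h1 : (Units.coeHom ℂ).comp ν ≠ 1 := by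
    obtain ⟨x, hx⟩ := h
    intro h2
    apply hx
    have h3 : ((ν x : ℂˣ) : ℂ) = 1 := DFunLike.congr_fun h2 x
    exact Units.ext h3
  exact sum_hom_units_eq_zero ((Units.coeHom ℂ).comp ν) h1

/-- Values of linear characters of finite groups have norm one. -/
theorem norm_units_hom {H : Type*} [Group H] [Finite H] (ν : H →* ℂˣ) (x : H) :
    ‖((ν x : ℂˣ) : ℂ)‖ = 1 := by
  have h1 : ((ν x : ℂˣ) : ℂ) ^ orderOf x = 1 := by
    rw [← Units.val_pow_eq_pow_val, ← map_pow, pow_orderOf_eq_one, map_one, Units.val_one]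
  exact Complex.norm_eq_one_of_pow_eq_one h1 (orderOf_pos x).ne'

theorem conj_units_hom {H : Type*} [Group H] [Finite H] (ν : H →* ℂˣ) (x : H) :
    conj ((ν x : ℂˣ) : ℂ) = (((ν x)⁻¹ : ℂˣ) : ℂ) := by
  rw [Units.val_inv_eq_inv_val, Complex.inv_eq_conj (norm_units_hom ν x)]

section Induce

variable {G : Type u} [Group G] [Fintype G]

/-- The function `1 - ν` on `C`. -/
noncomputable def bsPhi (C : Subgroup G) (ν : ↥C →* ℂˣ) : ↥C → ℂ :=
  fun x => 1 - ((ν x : ℂˣ) : ℂ)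

theorem bs_vanish (C : Subgroup G) (ν : ↥C →* ℂˣ) (g : G)
    (h : ∀ t : G, ∀ hx : t⁻¹ * g * t ∈ C, ν ⟨_, hx⟩ = 1) : indFun C (bsPhi C ν) g = 0 := by
  rw [indFun_apply, Finset.sum_eq_zero, mul_zero]
  intro t _
  by_cases hx : t⁻¹ * g * t ∈ C
  · rw [extendByZero_of_mem C _ hx, bsPhi, h t hx]; simp
  · exact extendByZero_of_not_mem C _ hx

theorem sum_ite_mem_subgroup (C : Subgroup G) (k : ℂ) [DecidablePred (· ∈ C)] :
    ∑ g : G, (if g ∈ C then k else 0) = (Nat.card C : ℂ) * k := by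
  have _ : Fintype C := Fintype.ofFinite C
  rw [sum_eq_sum_subgroup C (fun g => if g ∈ C then k else 0)]
  · simp only [SetLike.coe_mem, if_true, Finset.sum_const, Finset.card_univ, nsmul_eq_mul,
      Nat.card_eq_fintype_card]
  · intro x hx
    simp [hx]

theorem bs_formula (C : Subgroup G) (b : G) (ν : ↥C →* ℂˣ)
    (hb : ∀ x : G, x ∈ C → b⁻¹ * x * b ∈ C) (hbC : b ∉ C)
    (x : G) (hx : x ∈ C)
    (hfus : ∀ g : G, g⁻¹ * x * g ∈ C → g ∈ C ∨ b⁻¹ * g ∈ C) :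
    indFun C (bsPhi C ν) x = bsPhi C ν ⟨x, hx⟩ + bsPhi C ν ⟨b⁻¹ * x * b, hb x hx⟩ := by
  classical
  rw [indFun_apply]
  have hpt : ∀ g : G, extendByZero C (bsPhi C ν) (g⁻¹ * x * g) =
      (if g ∈ C then bsPhi C ν ⟨x, hx⟩ else 0) +
        (if b⁻¹ * g ∈ C then bsPhi C ν ⟨b⁻¹ * x * b, hb x hx⟩ else 0) := by
    intro g
    by_cases hg : g ∈ C
    · have hbg : b⁻¹ * g ∉ C := by
        intro h
        apply hbC
        have := C.mul_mem hg (C.inv_mem h)
        simpa using this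
      have hgx : g⁻¹ * x * g ∈ C := C.mul_mem (C.mul_mem (C.inv_mem hg) hx) hg
      rw [if_pos hg, if_neg hbg, add_zero, extendByZero_of_mem C _ hgx]
      unfold bsPhi
      have : (⟨g⁻¹ * x * g, hgx⟩ : C) = (⟨g, hg⟩ : C)⁻¹ * ⟨x, hx⟩ * ⟨g, hg⟩ := rfl
      rw [this, map_mul, map_mul, map_inv, mul_comm, mul_inv_cancel_left]
    · by_cases hbg : b⁻¹ * g ∈ C
      · have hgx : g⁻¹ * x * g ∈ C := by
          have := C.mul_mem (C.mul_mem (C.inv_mem hbg) (hb x hx)) hbg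
          have e : (b⁻¹ * g)⁻¹ * (b⁻¹ * x * b) * (b⁻¹ * g) = g⁻¹ * x * g := by group
          rwa [e] at this
        rw [if_neg hg, if_pos hbg, zero_add, extendByZero_of_mem C _ hgx]
        unfold bsPhi
        have : (⟨g⁻¹ * x * g, hgx⟩ : C) =
            (⟨b⁻¹ * g, hbg⟩ : C)⁻¹ * ⟨b⁻¹ * x * b, hb x hx⟩ * ⟨b⁻¹ * g, hbg⟩ := by
          apply Subtype.ext
          simp only [Subgroup.coe_mul, Subgroup.coe_inv]
          group
        rw [this, map_mul, map_mul, map_inv, mul_comm, mul_inv_cancel_left]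
      · rw [if_neg hg, if_neg hbg, add_zero]
        apply extendByZero_of_not_mem
        intro h
        rcases hfus g h with h1 | h1
        · exact hg h1
        · exact hbg h1
  rw [Finset.sum_congr rfl (fun g _ => hpt g), Finset.sum_add_distrib, sum_ite_mem_subgroup]
  have h2 : ∑ g : G, (if b⁻¹ * g ∈ C then bsPhi C ν ⟨b⁻¹ * x * b, hb x hx⟩ else 0) =
      ∑ g : G, (if g ∈ C then bsPhi C ν ⟨b⁻¹ * x * b, hb x hx⟩ else 0) :=
    Equiv.sum_comp (Equiv.mulLeft b⁻¹)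
      (fun g => if g ∈ C then bsPhi C ν ⟨b⁻¹ * x * b, hb x hx⟩ else 0)
  rw [h2, sum_ite_mem_subgroup]
  have hC : (Nat.card C : ℂ) ≠ 0 := by
    have : Nat.card C ≠ 0 := Nat.card_pos.ne'
    exact_mod_cast this
  field_simp

/-- **The Brauer–Suzuki induction.** -/
theorem bs_induction (C : Subgroup G) (b : G) (ν : ↥C →* ℂˣ)
    (hb : ∀ x : G, x ∈ C → b⁻¹ * x * b ∈ C) (hbC : b ∉ C)
    (hνb : ∀ (x : G) (hx : x ∈ C), ν ⟨b⁻¹ * x * b, hb x hx⟩ = (ν ⟨x, hx⟩)⁻¹)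
    (hfus : ∀ (x : G) (hx : x ∈ C), ν ⟨x, hx⟩ ≠ 1 →
      ∀ g : G, g⁻¹ * x * g ∈ C → g ∈ C ∨ b⁻¹ * g ∈ C)
    (hν2 : ∃ x, ν x ^ 2 ≠ 1) :
    ∃ χ₁ χ₂ : G → ℂ, IsIrrCharacter G χ₁ ∧ IsIrrCharacter G χ₂ ∧ χ₁ ≠ (fun _ => 1) ∧
      χ₂ ≠ (fun _ => 1) ∧ χ₁ 1 = χ₂ 1 + 1 ∧
      (∀ g : G, (∀ t : G, ∀ hx : t⁻¹ * g * t ∈ C, ν ⟨_, hx⟩ = 1) → χ₁ g - χ₂ g = 1) ∧
      (∀ x : C, ν x ≠ 1 →
        χ₁ x - χ₂ x = ((ν x : ℂˣ) : ℂ) + (((ν x)⁻¹ : ℂˣ) : ℂ) - 1) := by
  classical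
  haveI : Fintype C := Fintype.ofFinite C
  set Θ : G → ℂ := indFun C (bsPhi C ν) with hΘ
  have hcf : IsClassFunction G Θ := isClassFunction_indFun C _
  have hC : (Nat.card C : ℂ) ≠ 0 := by
    have : Nat.card C ≠ 0 := Nat.card_pos.ne'
    exact_mod_cast this
  -- the values on `C`
  have hform : ∀ x : C, ν x ≠ 1 →
      Θ x = 2 - ((ν x : ℂˣ) : ℂ) - (((ν x)⁻¹ : ℂˣ) : ℂ) := by
    intro x hx
    rw [hΘ, bs_formula C b ν hb hbC x x.2 (hfus x x.2 hx)]
    unfold bsPhi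
    rw [hνb x x.2]
    ring
  have hν1 : ∃ x, ν x ≠ 1 := by
    obtain ⟨x, hx⟩ := hν2
    exact ⟨x, fun h => hx (by rw [h, one_pow])⟩
  have hνinv : ∃ x, ν⁻¹ x ≠ 1 := by
    obtain ⟨x, hx⟩ := hν1
    exact ⟨x, by rw [MonoidHom.inv_apply]; exact inv_ne_one.2 hx⟩
  have hνsq : ∃ x, (ν * ν) x ≠ 1 := by
    obtain ⟨x, hx⟩ := hν2
    exact ⟨x, by rw [MonoidHom.mul_apply, ← sq]; exact hx⟩
  have hterm : ∀ x : C, bsPhi C ν x * conj (Θ x) =
      3 - ((ν⁻¹ x : ℂˣ) : ℂ) - 3 * ((ν x : ℂˣ) : ℂ) + (((ν * ν) x : ℂˣ) : ℂ) := by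
    intro x
    have hw0 : ((ν x : ℂˣ) : ℂ) ≠ 0 := Units.ne_zero _
    have hwc : conj ((ν x : ℂˣ) : ℂ) = ((ν x : ℂˣ) : ℂ)⁻¹ := by
      rw [conj_units_hom, Units.val_inv_eq_inv_val]
    rw [MonoidHom.inv_apply, MonoidHom.mul_apply, Units.val_inv_eq_inv_val, Units.val_mul]
    by_cases hx : ν x = 1
    · unfold bsPhi
      rw [hx]
      simp
    · rw [hform x hx]
      unfold bsPhi
      rw [Units.val_inv_eq_inv_val, map_sub, map_sub, map_inv₀, hwc, inv_inv, map_ofNat]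
      field_simp
      ring
  -- the norm
  have h3 : classInner Θ Θ = 3 := by
    rw [hΘ, frobenius_reciprocity C _ hcf]
    unfold classInner
    rw [Finset.sum_congr rfl (fun x _ => hterm x)]
    simp only [Finset.sum_add_distrib, Finset.sum_sub_distrib, ← Finset.mul_sum,
      sum_units_hom_eq_zero ν hν1, sum_units_hom_eq_zero _ hνinv, sum_units_hom_eq_zero _ hνsq,
      Finset.sum_const, Finset.card_univ, nsmul_eq_mul, ← Nat.card_eq_fintype_card]
    field_simp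
    ring
  have h1 : classInner Θ (fun _ => (1 : ℂ)) = 1 := by
    have hcf1 : IsClassFunction G (fun _ => (1 : ℂ)) := fun _ _ => rfl
    rw [hΘ, frobenius_reciprocity C _ hcf1]
    unfold classInner bsPhi
    simp only [map_one, mul_one, Finset.sum_sub_distrib, sum_units_hom_eq_zero ν hν1,
      Finset.sum_const, Finset.card_univ, nsmul_eq_mul, ← Nat.card_eq_fintype_card]
    field_simp
    ring
  have h0 : Θ 1 = 0 := by
    rw [hΘ, indFun_one]
    unfold bsPhi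
    rw [map_one, Units.val_one, sub_self, mul_zero]
  -- integrality of the multiplicities
  have hint : ∀ χ : G → ℂ, IsIrrCharacter G χ → ∃ m : ℤ, classInner Θ χ = m := by
    intro χ hχ
    have hχc : IsCharacter G χ := isCharacter_of_isIrrCharacter hχ
    rw [hΘ, frobenius_reciprocity C _ (isClassFunction_of_isCharacter hχc)]
    have hres : IsCharacter C (fun h : C => χ h) := isCharacter_restrict C hχc
    have hνc : IsCharacter C (fun x : C => ((ν x : ℂˣ) : ℂ)) :=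
      isCharacter_of_isIrrCharacter (isIrrCharacter_of_monoidHom ν)
    letI : Fintype (IrrCharacter C) := irrFintype
    obtain ⟨n₁, hn₁⟩ := classInner_char_nat (isCharacter_one (G := C)) hres
    obtain ⟨n₂, hn₂⟩ := classInner_char_nat hνc hres
    have hphi : bsPhi C ν = (fun _ => (1 : ℂ)) + (-1 : ℂ) • (fun x : C => ((ν x : ℂˣ) : ℂ)) := by
      ext x
      unfold bsPhi
      simp only [Pi.add_apply, Pi.smul_apply, smul_eq_mul]
      ring
    refine ⟨(n₁ : ℤ) - n₂, ?_⟩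
    rw [hphi, classInner_add_left, classInner_smul_left, hn₁, hn₂]
    push_cast
    ring
  obtain ⟨χ₁, χ₂, hχ₁, hχ₂, hne₁, hne₂, hdeg, hval⟩ := exists_of_norm_three hcf hint h3 h1 h0
  refine ⟨χ₁, χ₂, hχ₁, hχ₂, hne₁, hne₂, hdeg, ?_, ?_⟩
  · intro g hg
    have := hval g
    rw [hΘ, bs_vanish C ν g hg] at this
    linear_combination this
  · intro x hx
    have := hval x
    rw [hform x hx] at this
    linear_combination this

end Induce

end Cfsg.Agent.Helper16
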