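import Mathlib
import Cfsg.Prelude.Def_Blocks
import Cfsg.Agent.Lib.Helper24.CharCentral
import Cfsg.Agent.Lib.Helper24.CharComplete
import Cfsg.Agent.Lib.Helper24.CharAbelian
import Cfsg.Agent.Lib.Helper24.CharHom
import Cfsg.Agent.Lib.Helper24.CharLinear

/-!
# The kernel step of the Brauer–Suzuki argument (helper16's library)
-/

set_option autoImplicit false

namespace Cfsg.Agent.Helper16

open Cfsg Cfsg.Agent.Helper24

universe u

section Kernel

variable {G : Type u} [Group G] [Fintype G]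

/-- If `χ₁ - χ₂` takes the value `1` at `z` and at all products `z * z ^ y`, and
`χ₁ 1 = χ₂ 1 + 1`, then `z` lies in the kernels of `χ₁` and `χ₂`. -/
theorem bs_kernel {χ₁ χ₂ : G → ℂ} (h₁ : IsIrrCharacter G χ₁) (h₂ : IsIrrCharacter G χ₂)
    (hdeg : χ₁ 1 = χ₂ 1 + 1) (z : G) (hz : χ₁ z - χ₂ z = 1)
    (hzz : ∀ y : G, χ₁ (z * (y * z * y⁻¹)) - χ₂ (z * (y * z * y⁻¹)) = 1) :
    χ₁ z = χ₁ 1 ∧ χ₂ z = χ₂ 1 := by
  obtain ⟨d, hd0, hd⟩ := irr_one_eq h₂
  have hG : (Nat.card G : ℂ) ≠ 0 := by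
    have : Nat.card G ≠ 0 := Nat.card_pos.ne'
    exact_mod_cast this
  have hdne : (d : ℂ) ≠ 0 := by exact_mod_cast hd0.ne'
  have hd1ne : (d : ℂ) + 1 ≠ 0 := by
    have : ((d + 1 : ℕ) : ℂ) ≠ 0 := by exact_mod_cast (Nat.succ_ne_zero d)
    simpa using this
  have s₁ := sum_char_mul_conj h₁ z z
  have s₂ := sum_char_mul_conj h₂ z z
  have hsum : ∑ y : G, (χ₁ (z * (y * z * y⁻¹)) - χ₂ (z * (y * z * y⁻¹))) = (Nat.card G : ℂ) := by
    rw [Finset.sum_congr rfl (fun y _ => hzz y)]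
    simp [Nat.card_eq_fintype_card]
  rw [Finset.sum_sub_distrib, s₁, s₂, hdeg, hd] at hsum
  have hz' : χ₁ z = χ₂ z + 1 := by linear_combination hz
  rw [hz'] at hsum
  -- `(d - t)^2 = 0`
  have key : ((d : ℂ) - χ₂ z) ^ 2 = 0 := by
    field_simp at hsum
    linear_combination -hsum
  have ht : χ₂ z = d := by
    have := pow_eq_zero_iff (two_ne_zero) |>.1 key
    linear_combination -this
  refine ⟨?_, ?_⟩
  · rw [hz', hdeg, ht, hd]
  · rw [ht, hd]

/-- A nonlinear irreducible character does not have the commutator subgroup in its kernel. -/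
theorem not_commutator_le_of_nonlinear {χ : G → ℂ} (h : IsIrrCharacter G χ) (h1 : χ 1 ≠ 1) :
    ∃ g ∈ commutator G, χ g ≠ χ 1 := by
  classical
  by_contra hcon
  push Not at hcon
  obtain ⟨ψ, hψ, hχψ⟩ := exists_deflate (commutator G) h hcon
  let _ : Fintype (IrrCharacter (G ⧸ commutator G)) := irrFintype
  have hcomm : ∀ a b : G ⧸ commutator G, a * b = b * a := by
    intro a b
    exact mul_comm (G := Abelianization G) a b
  have h2 := charDegree_eq_one_of_comm hcomm hψ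
  have h3 := irr_one_eq_charDegree hψ
  rw [h2] at h3
  apply h1
  rw [hχψ]
  simpa using h3

end Kernel

end Cfsg.Agent.Helper16
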