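import Mathlib

set_option autoImplicit false

namespace Cfsg.Agent.Helper16

variable {G : Type*} [Group G]

/-- Membership in a conjugate subgroup (written as image under `MulAut.conj g`). -/
theorem mem_map_conj {A : Subgroup G} {g x : G} :
    x ∈ A.map (MulAut.conj g).toMonoidHom ↔ g⁻¹ * x * g ∈ A := by
  constructor
  · rintro ⟨a, ha, rfl⟩
    simpa [mul_assoc] using ha
  · intro h
    exact ⟨g⁻¹ * x * g, h, by simp [mul_assoc]⟩

theorem conj_mem_map_conj {A : Subgroup G} {g a : G} (ha : a ∈ A) :
    g * a * g⁻¹ ∈ A.map (MulAut.conj g).toMonoidHom := by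
  rw [mem_map_conj]
  simpa [mul_assoc] using ha

theorem map_conj_mul (A : Subgroup G) (g h : G) :
    A.map (MulAut.conj (g * h)).toMonoidHom
      = (A.map (MulAut.conj h).toMonoidHom).map (MulAut.conj g).toMonoidHom := by
  ext x
  simp only [mem_map_conj]
  simp [mul_assoc]

theorem map_conj_one (A : Subgroup G) : A.map (MulAut.conj (1 : G)).toMonoidHom = A := by
  ext x
  simp

theorem map_conj_inv_map_conj (A : Subgroup G) (g : G) :
    (A.map (MulAut.conj g).toMonoidHom).map (MulAut.conj g⁻¹).toMonoidHom = A := by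
  rw [← map_conj_mul, inv_mul_cancel, map_conj_one]

theorem map_conj_map_conj_inv (A : Subgroup G) (g : G) :
    (A.map (MulAut.conj g⁻¹).toMonoidHom).map (MulAut.conj g).toMonoidHom = A := by
  rw [← map_conj_mul, mul_inv_cancel, map_conj_one]

theorem card_map_conj (A : Subgroup G) (g : G) :
    Nat.card (A.map (MulAut.conj g).toMonoidHom) = Nat.card A :=
  Subgroup.card_map_of_injective (MulAut.conj g).injective

theorem map_conj_injective (g : G) {A B : Subgroup G}
    (h : A.map (MulAut.conj g).toMonoidHom = B.map (MulAut.conj g).toMonoidHom) : A = B :=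
  Subgroup.map_injective (MulAut.conj g).injective h

theorem map_conj_eq_of_mem {A : Subgroup G} {g : G} (hg : g ∈ A) :
    A.map (MulAut.conj g).toMonoidHom = A := by
  ext x
  rw [mem_map_conj]
  constructor
  · intro h
    have : x = g * (g⁻¹ * x * g) * g⁻¹ := by group
    rw [this]
    exact A.mul_mem (A.mul_mem hg h) (A.inv_mem hg)
  · intro h
    exact A.mul_mem (A.mul_mem (A.inv_mem hg) h) hg

theorem map_conj_eq_of_mem_normalizer {A : Subgroup G} {g : G}
    (hg : g ∈ Subgroup.normalizer (A : Set G)) :
    A.map (MulAut.conj g).toMonoidHom = A := by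
  ext x
  rw [mem_map_conj]
  have hg' : g⁻¹ ∈ Subgroup.normalizer (A : Set G) := inv_mem hg
  rw [Subgroup.mem_normalizer_iff] at hg'
  rw [hg' x, inv_inv]

theorem mem_normalizer_iff_map_conj_eq {A : Subgroup G} {g : G} :
    g ∈ Subgroup.normalizer (A : Set G) ↔ A.map (MulAut.conj g).toMonoidHom = A := by
  constructor
  · exact map_conj_eq_of_mem_normalizer
  · intro h
    rw [Subgroup.mem_normalizer_iff]
    intro w
    constructor
    · intro hw
      rw [← h]
      exact ⟨w, hw, by simp⟩
    · intro hw
      rw [← h] at hw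
      obtain ⟨w', hw', he⟩ := hw
      have : w' = w := by simpa using he
      exact this ▸ hw'

/-- If conjugation by `g` maps a finite subgroup into itself, it maps it onto itself. -/
theorem map_conj_eq_of_le [Finite G] {A : Subgroup G} {g : G}
    (h : A.map (MulAut.conj g).toMonoidHom ≤ A) : A.map (MulAut.conj g).toMonoidHom = A :=
  Subgroup.eq_of_le_of_card_ge h (card_map_conj A g).ge

/-- Conjugating by a power. -/
theorem map_conj_pow_eq_of_eq {A : Subgroup G} {g : G}
    (h : A.map (MulAut.conj g).toMonoidHom = A) (k : ℕ) :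
    A.map (MulAut.conj (g ^ k)).toMonoidHom = A := by
  induction k with
  | zero => simpa using map_conj_one A
  | succ k ih => rw [pow_succ, map_conj_mul, h, ih]

end Cfsg.Agent.Helper16
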