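import Mathlib
import Cfsg.Agent.Lib.Helper16.QuatSub
import Cfsg.Agent.Lib.Helper16.QuatDerived
import Cfsg.Agent.Lib.Helper16.Basic
import Cfsg.Agent.Lib.Helper16.Conj
import Cfsg.Agent.Lib.Helper16.BSQuatFacts
import Cfsg.Agent.Lib.Helper9.SylowLemmas

/-!
# The centralizer of an element of order four (helper16's library)

Let `S = ⟨a, b⟩` be a generalized quaternion Sylow `2`-subgroup of `G` of order at least `16` and
`c ∈ ⟨a⟩` of order four. Then `⟨a⟩` is a Sylow `2`-subgroup of `C = C_G(c)`, and the elements of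
`C` of order divisible by four are only fused by `C ∪ bC`.
-/

set_option autoImplicit false

namespace Cfsg.Agent.Helper16

namespace IsQuatSub

variable {G : Type*} [Group G] [Finite G] {a : G} {j : ℕ}

/-- A `2`-subgroup of `C_G(c)` containing `⟨a⟩` is `⟨a⟩`. -/
theorem le_zpowers_of_le_centralizer (S : Sylow 2 G) (h : IsQuatSub (S : Subgroup G) a j)
    (R : Subgroup G) (hR : IsPGroup 2 R) (hAR : Subgroup.zpowers a ≤ R)
    (hRC : R ≤ Subgroup.centralizer ({a ^ 2 ^ (j - 2)} : Set G)) :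
    R ≤ Subgroup.zpowers a := by
  have hF : Fact (Nat.Prime 2) := ⟨Nat.prime_two⟩
  obtain ⟨k, hk⟩ := exists_conj_le_sylow hR S
  set R' : Subgroup G := R.map (MulAut.conj k).toMonoidHom with hR'
  have hR'S : R' ≤ (S : Subgroup G) := by
    rintro _ ⟨r, hr, rfl⟩
    exact hk r hr
  have hcardR' : Nat.card R' = Nat.card R := card_map_conj R k
  have h1 : 2 ^ j ∣ Nat.card R := by
    rw [← h.hao, ← Nat.card_zpowers]; exact Subgroup.card_dvd_of_le hAR
  have h2 : Nat.card R ∣ 2 ^ (j + 1) := by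
    rw [← hcardR', ← h.card]; exact Subgroup.card_dvd_of_le hR'S
  obtain ⟨t, ht⟩ := h1
  have ht2 : t ∣ 2 := by
    rw [ht, pow_succ] at h2
    exact Nat.dvd_of_mul_dvd_mul_left (pow_pos two_pos j) h2
  rcases (Nat.dvd_prime Nat.prime_two).1 ht2 with rfl | rfl
  · have h3 : Subgroup.zpowers a = R :=
      Subgroup.eq_of_le_of_card_ge hAR (by rw [ht, Nat.card_zpowers, h.hao, mul_one])
    rw [h3]
  · exfalso
    have hR'eq : R' = (S : Subgroup G) :=
      Subgroup.eq_of_le_of_card_ge hR'S (by rw [hcardR', ht, h.card, pow_succ])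
    obtain ⟨b, hbS, hba⟩ := h.exists_out
    have haR' : a ∈ R' := by rw [hR'eq]; exact h.mem
    have hbR' : b ∈ R' := by rw [hR'eq]; exact hbS
    obtain ⟨ra, hra, hra'⟩ := haR'
    obtain ⟨rb, hrb, hrb'⟩ := hbR'
    have hra'' : k * ra * k⁻¹ = a := hra'
    have hrb'' : k * rb * k⁻¹ = b := hrb'
    set c : G := a ^ 2 ^ (j - 2) with hc
    have hcR : c ∈ R := hAR (Subgroup.pow_mem _ (Subgroup.mem_zpowers a) _)
    have hc'S : k * c * k⁻¹ ∈ (S : Subgroup G) := hk c hcR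
    have hca : ra * c = c * ra := Subgroup.mem_centralizer_singleton_iff.1 (hRC hra)
    have hcb : rb * c = c * rb := Subgroup.mem_centralizer_singleton_iff.1 (hRC hrb)
    have hcomm_a : (k * c * k⁻¹) * a = a * (k * c * k⁻¹) := by
      rw [← hra'']
      calc k * c * k⁻¹ * (k * ra * k⁻¹) = k * (c * ra) * k⁻¹ := by group
        _ = k * (ra * c) * k⁻¹ := by rw [hca]
        _ = k * ra * k⁻¹ * (k * c * k⁻¹) := by group
    have hcomm_b : b * (k * c * k⁻¹) = (k * c * k⁻¹) * b := by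
      rw [← hrb'']
      calc k * rb * k⁻¹ * (k * c * k⁻¹) = k * (rb * c) * k⁻¹ := by group
        _ = k * (c * rb) * k⁻¹ := by rw [hcb]
        _ = k * c * k⁻¹ * (k * rb * k⁻¹) := by group
    have hc'A : k * c * k⁻¹ ∈ Subgroup.zpowers a := h.mem_zpowers_of_commute hc'S hcomm_a
    have hinv := h.out_inv_mem hbS hba hc'A
    rw [hcomm_b, mul_inv_cancel_right] at hinv
    -- `(k c k⁻¹)² = 1`
    have hsq : (k * c * k⁻¹) ^ 2 = 1 := by
      rw [pow_two]
      nth_rewrite 1 [hinv]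
      exact inv_mul_cancel _
    rw [conj_pow] at hsq
    have hsq' : c ^ 2 = 1 := by
      have : c ^ 2 = k⁻¹ * (k * c ^ 2 * k⁻¹) * k := by group
      rw [this, hsq]; group
    exact h.c_sq_ne_one hsq'

/-- `⟨a⟩` is a (cyclic) Sylow `2`-subgroup of `C_G(c)`. -/
theorem exists_sylow_centralizer (S : Sylow 2 G) (h : IsQuatSub (S : Subgroup G) a j) :
    ∃ Q : Sylow 2 ↥(Subgroup.centralizer ({a ^ 2 ^ (j - 2)} : Set G)),
      (∀ x : ↥(Subgroup.centralizer ({a ^ 2 ^ (j - 2)} : Set G)),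
        x ∈ (Q : Subgroup ↥(Subgroup.centralizer ({a ^ 2 ^ (j - 2)} : Set G))) ↔
          (x : G) ∈ Subgroup.zpowers a) ∧ IsCyclic Q := by
  have hF : Fact (Nat.Prime 2) := ⟨Nat.prime_two⟩
  set C : Subgroup G := Subgroup.centralizer ({a ^ 2 ^ (j - 2)} : Set G) with hC
  have haC : a ∈ C := by
    rw [hC, Subgroup.mem_centralizer_singleton_iff, ← pow_succ', ← pow_succ]
  have hAC : Subgroup.zpowers a ≤ C := Subgroup.zpowers_le.2 haC
  have hA2 : IsPGroup 2 (Subgroup.zpowers a) :=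
    IsPGroup.of_card (n := j) (by rw [Nat.card_zpowers, h.hao])
  have hA' : IsPGroup 2 ((Subgroup.zpowers a).subgroupOf C) := hA2.comap_subtype
  obtain ⟨Q, hQ⟩ := hA'.exists_le_sylow
  set R : Subgroup G := (Q : Subgroup C).map C.subtype with hR
  have hR2 : IsPGroup 2 R := Q.2.map _
  have hAR : Subgroup.zpowers a ≤ R := by
    intro x hx
    refine ⟨⟨x, hAC hx⟩, hQ ?_, rfl⟩
    rw [Subgroup.mem_subgroupOf]
    exact hx
  have hRC : R ≤ C := by
    rintro _ ⟨y, -, rfl⟩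
    exact y.2
  have hRA := h.le_zpowers_of_le_centralizer S R hR2 hAR hRC
  have hmem : ∀ x : C, x ∈ (Q : Subgroup C) ↔ (x : G) ∈ Subgroup.zpowers a := by
    intro x
    constructor
    · intro hx
      exact hRA ⟨x, hx, rfl⟩
    · intro hx
      apply hQ
      rw [Subgroup.mem_subgroupOf]
      exact hx
  refine ⟨Q, hmem, ?_⟩
  have haQ : (⟨a, haC⟩ : C) ∈ (Q : Subgroup C) := (hmem _).2 (Subgroup.mem_zpowers a)
  refine ⟨⟨⟨⟨a, haC⟩, haQ⟩, ?_⟩⟩
  intro y
  obtain ⟨i, hi⟩ := Subgroup.mem_zpowers_iff.1 ((hmem y.1).1 y.2)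
  refine ⟨i, ?_⟩
  apply Subtype.ext
  apply Subtype.ext
  simpa using hi

/-- The elements of `C_G(c)` of order dividing four lie in `⟨c⟩`. -/
theorem mem_zpowers_c_of_mem_centralizer (S : Sylow 2 G) (h : IsQuatSub (S : Subgroup G) a j)
    {y : G} (hy : y ∈ Subgroup.centralizer ({a ^ 2 ^ (j - 2)} : Set G)) (h4 : y ^ 4 = 1) :
    y ∈ Subgroup.zpowers (a ^ 2 ^ (j - 2)) := by
  have hF : Fact (Nat.Prime 2) := ⟨Nat.prime_two⟩
  set c : G := a ^ 2 ^ (j - 2) with hc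
  set C : Subgroup G := Subgroup.centralizer ({c} : Set G) with hC
  obtain ⟨Q, hmem, -⟩ := h.exists_sylow_centralizer S
  have ho : ∃ e : ℕ, orderOf (⟨y, hy⟩ : C) = 2 ^ e := by
    have h1 : orderOf (⟨y, hy⟩ : C) ∣ 2 ^ 2 := by
      rw [Subgroup.orderOf_mk]
      exact orderOf_dvd_of_pow_eq_one (by norm_num; exact h4)
    obtain ⟨e, -, he⟩ := (Nat.dvd_prime_pow Nat.prime_two).1 h1
    exact ⟨e, he⟩
  obtain ⟨u, hu⟩ := Cfsg.Agent.Helper9.exists_conj_mem_sylow Q ⟨y, hy⟩ ho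
  have hu' : (u : G) * y * (u : G)⁻¹ ∈ Subgroup.zpowers a := by
    have := (hmem _).1 hu
    simpa using this
  have h4' : ((u : G) * y * (u : G)⁻¹) ^ 4 = 1 := by
    rw [conj_pow, h4]; group
  have h5 := h.mem_zpowers_c hu' h4'
  obtain ⟨i, hi⟩ := Subgroup.mem_zpowers_iff.1 h5
  have huc : Commute (u : G) c := Subgroup.mem_centralizer_singleton_iff.1 u.2
  have h7 : (u : G) * c ^ i = c ^ i * u := huc.zpow_right i
  have h6 : y = c ^ i := by
    have h8 : y = (u : G)⁻¹ * (c ^ i) * u := by rw [hi]; group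
    rw [h8, mul_assoc, ← h7, inv_mul_cancel_left]
  rw [h6]
  exact Subgroup.zpow_mem _ (Subgroup.mem_zpowers _) i

/-- An element of `C_G(c)` of order divisible by four has `c` or `c⁻¹` among its powers. -/
theorem pow_eq_c_or_inv (S : Sylow 2 G) (h : IsQuatSub (S : Subgroup G) a j) {x : G}
    (hx : x ∈ Subgroup.centralizer ({a ^ 2 ^ (j - 2)} : Set G)) (h4 : 4 ∣ orderOf x) :
    x ^ (orderOf x / 4) = a ^ 2 ^ (j - 2) ∨ x ^ (orderOf x / 4) = (a ^ 2 ^ (j - 2))⁻¹ := by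
  set m : ℕ := orderOf x / 4 with hm
  have hm4 : orderOf x = 4 * m := (Nat.mul_div_cancel' h4).symm
  have hm0 : m ≠ 0 := by
    intro h0
    rw [h0, mul_zero] at hm4
    exact (orderOf_pos x).ne' hm4
  have ho : orderOf (x ^ m) = 4 := by
    rw [orderOf_pow_of_dvd hm0 ⟨4, by rw [hm4, mul_comm]⟩, hm4,
      Nat.mul_div_cancel _ (Nat.pos_of_ne_zero hm0)]
  have hy4 : (x ^ m) ^ 4 = 1 := by rw [← ho]; exact pow_orderOf_eq_one _
  have h1 := h.mem_zpowers_c_of_mem_centralizer S (Subgroup.pow_mem _ hx m) hy4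
  exact eq_or_eq_inv_of_orderOf_four h.orderOf_c h1 ho

omit [Finite G] in
theorem mem_centralizer_of_conj_eq {g c : G} (h : g⁻¹ * c * g = c) :
    g ∈ Subgroup.centralizer ({c} : Set G) := by
  rw [Subgroup.mem_centralizer_singleton_iff]
  calc g * c = g * (g⁻¹ * c * g) := by rw [h]
    _ = c * g := by group

/-- **Control of fusion**: elements of `C_G(c)` of order divisible by four are only fused by
`C ∪ bC`, where `b` inverts `c`. -/
theorem fusion (S : Sylow 2 G) (h : IsQuatSub (S : Subgroup G) a j) {b : G}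
    (hb : b * a ^ 2 ^ (j - 2) * b⁻¹ = (a ^ 2 ^ (j - 2))⁻¹) {x g : G}
    (hx : x ∈ Subgroup.centralizer ({a ^ 2 ^ (j - 2)} : Set G)) (h4 : 4 ∣ orderOf x)
    (hg : g⁻¹ * x * g ∈ Subgroup.centralizer ({a ^ 2 ^ (j - 2)} : Set G)) :
    g ∈ Subgroup.centralizer ({a ^ 2 ^ (j - 2)} : Set G) ∨
      b⁻¹ * g ∈ Subgroup.centralizer ({a ^ 2 ^ (j - 2)} : Set G) := by
  set c : G := a ^ 2 ^ (j - 2) with hc
  have ho : orderOf (g⁻¹ * x * g) = orderOf x := by
    have : g⁻¹ * x * g = MulAut.conj g⁻¹ x := by rw [MulAut.conj_apply, inv_inv]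
    rw [this, MulEquiv.orderOf_eq]
  have h1 := h.pow_eq_c_or_inv S hx h4
  have h2 := h.pow_eq_c_or_inv S hg (by rw [ho]; exact h4)
  rw [ho] at h2
  set m : ℕ := orderOf x / 4 with hm
  have h3 : (g⁻¹ * x * g) ^ m = g⁻¹ * x ^ m * g := by
    have : g⁻¹ * x * g = g⁻¹ * x * (g⁻¹)⁻¹ := by rw [inv_inv]
    rw [this, conj_pow, inv_inv]
  rw [h3] at h2
  have key : g⁻¹ * c * g = c ∨ g⁻¹ * c * g = c⁻¹ := by
    rcases h1 with h1 | h1 <;> rcases h2 with h2 | h2 <;> rw [h1] at h2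
    · left; exact h2
    · right; exact h2
    · right
      have : g⁻¹ * c * g = (g⁻¹ * c⁻¹ * g)⁻¹ := by group
      rw [this, h2]
    · left
      have : g⁻¹ * c * g = (g⁻¹ * c⁻¹ * g)⁻¹ := by group
      rw [this, h2, inv_inv]
  rcases key with key | key
  · left; exact mem_centralizer_of_conj_eq key
  · right
    apply mem_centralizer_of_conj_eq
    have : (b⁻¹ * g)⁻¹ * c * (b⁻¹ * g) = g⁻¹ * (b * c * b⁻¹) * g := by group
    rw [this, hb]
    have : g⁻¹ * c⁻¹ * g = (g⁻¹ * c * g)⁻¹ := by group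
    rw [this, key, inv_inv]

end IsQuatSub

end Cfsg.Agent.Helper16
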