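import Mathlib
import Cfsg.Agent.Lib.Helper16.BSQuatCent
import Cfsg.Agent.Lib.Helper16.BSCyclicSylow
import Cfsg.Agent.Lib.Helper16.BSInduce
import Cfsg.Agent.Lib.Helper16.BSKernel

/-!
# The Brauer–Suzuki characters for generalized quaternion Sylow `2`-subgroups of order `≥ 16`
(helper16's library)
-/

set_option autoImplicit false

namespace Cfsg.Agent.Helper16

open Cfsg Cfsg.Agent.Helper24

universe u

theorem not_four_dvd_of_odd {n : ℕ} (h : Odd n) : ¬ 4 ∣ n := fun h4 =>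
  (Nat.not_even_iff_odd.2 h) (even_iff_two_dvd.2 (dvd_trans (by norm_num : 2 ∣ 4) h4))

theorem orderOf_conj_inv {G : Type*} [Group G] (g x : G) : orderOf (g⁻¹ * x * g) = orderOf x := by
  have : g⁻¹ * x * g = MulAut.conj g⁻¹ x := by rw [MulAut.conj_apply, inv_inv]
  rw [this, MulEquiv.orderOf_eq]

/-- **Brauer–Suzuki**: the exceptional characters. -/
theorem IsQuatSub.exists_bs_characters {G : Type u} [Group G] [Fintype G] (S : Sylow 2 G) {a : G}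
    {j : ℕ} (h : IsQuatSub (S : Subgroup G) a j) (hj3 : 3 ≤ j) :
    ∃ χ₁ χ₂ : G → ℂ, IsIrrCharacter G χ₁ ∧ IsIrrCharacter G χ₂ ∧ χ₁ ≠ (fun _ => 1) ∧
      χ₂ ≠ (fun _ => 1) ∧ χ₁ 1 = χ₂ 1 + 1 ∧ (∀ g : G, ¬ 4 ∣ orderOf g → χ₁ g - χ₂ g = 1) ∧
      χ₁ (a ^ 2 ^ (j - 2)) - χ₂ (a ^ 2 ^ (j - 2)) = -3 := by
  set c : G := a ^ 2 ^ (j - 2) with hc
  set C : Subgroup G := Subgroup.centralizer ({c} : Set G) with hC
  obtain ⟨Q, hmem, hQc⟩ := h.exists_sylow_centralizer S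
  obtain ⟨b, hbS, hba⟩ := h.exists_out
  have hcA : c ∈ Subgroup.zpowers a := Subgroup.pow_mem _ (Subgroup.mem_zpowers a) _
  have hbc : b * c * b⁻¹ = c⁻¹ := h.out_inv_mem hbS hba hcA
  have haC : a ∈ C := by
    rw [hC, Subgroup.mem_centralizer_singleton_iff, hc, ← pow_succ', ← pow_succ]
  have hcC : c ∈ C := by rw [hC, Subgroup.mem_centralizer_singleton_iff]
  have hzC : a ^ 2 ^ (j - 1) ∈ C := Subgroup.pow_mem _ haC _
  have hz'Q : (⟨a ^ 2 ^ (j - 1), hzC⟩ : C) ∈ (Q : Subgroup C) :=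
    (hmem _).2 (Subgroup.pow_mem _ (Subgroup.mem_zpowers a) _)
  have hz'1 : (⟨a ^ 2 ^ (j - 1), hzC⟩ : C) ≠ 1 := fun hh => h.z_ne_one (congrArg Subtype.val hh)
  have hz'2 : (⟨a ^ 2 ^ (j - 1), hzC⟩ : C) ^ 2 = 1 := Subtype.ext h.z_sq
  obtain ⟨ν, hν1, hν2, hν3⟩ :=
    exists_linear_char_of_cyclic_sylow Q hQc _ hz'Q hz'1 hz'2
  have h2C : 2 ∣ Nat.card C := by
    have h1 : orderOf (⟨a ^ 2 ^ (j - 1), hzC⟩ : C) = 2 := orderOf_eq_prime hz'2 hz'1
    rw [← h1]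
    exact orderOf_dvd_natCard _
  obtain ⟨V, -, -, hdec⟩ := exists_transfer_of_cyclic_sylow Q hQc h2C
  -- `b` normalizes `C`
  have hb : ∀ x : G, x ∈ C → b⁻¹ * x * b ∈ C := by
    intro x hx
    rw [hC, Subgroup.mem_centralizer_singleton_iff] at hx ⊢
    have hx' : x * c⁻¹ = c⁻¹ * x := by
      calc x * c⁻¹ = c⁻¹ * (c * x) * c⁻¹ := by group
        _ = c⁻¹ * (x * c) * c⁻¹ := by rw [hx]
        _ = c⁻¹ * x := by group
    have e1 : b * c = c⁻¹ * b := by rw [← hbc]; group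
    have e2 : b⁻¹ * c⁻¹ = c * b⁻¹ := by rw [← hbc]; group
    calc b⁻¹ * x * b * c = b⁻¹ * x * (b * c) := by group
      _ = b⁻¹ * x * (c⁻¹ * b) := by rw [e1]
      _ = b⁻¹ * (x * c⁻¹) * b := by group
      _ = b⁻¹ * (c⁻¹ * x) * b := by rw [hx']
      _ = (b⁻¹ * c⁻¹) * x * b := by group
      _ = c * b⁻¹ * x * b := by rw [e2]
      _ = c * (b⁻¹ * x * b) := by group
  have hbC : b ∉ C := by
    intro hbC
    rw [hC, Subgroup.mem_centralizer_singleton_iff] at hbC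
    have hbc2 := hbc
    rw [hbC, mul_inv_cancel_right] at hbc2
    apply h.c_sq_ne_one
    show c ^ 2 = 1
    rw [pow_two]
    nth_rewrite 1 [hbc2]
    exact inv_mul_cancel c
  have hord : ∀ (x : G) (hx : x ∈ C), orderOf (⟨x, hx⟩ : C) = orderOf x :=
    fun x hx => Subgroup.orderOf_mk x hx
  -- `ν` is inverted by `b`
  have hνb : ∀ (x : G) (hx : x ∈ C), ν ⟨b⁻¹ * x * b, hb x hx⟩ = (ν ⟨x, hx⟩)⁻¹ := by
    intro x hx
    obtain ⟨k, α, hk, hα, hxk⟩ := hdec ⟨x, hx⟩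
    have hαA : (α : G) ∈ Subgroup.zpowers a := (hmem α).1 hα
    have hαinv : b⁻¹ * (α : G) * b = (α : G)⁻¹ := h.out_inv_mem' hbS hba hαA
    have e : (⟨b⁻¹ * x * b, hb x hx⟩ : C) = ⟨b⁻¹ * (k : G) * b, hb k k.2⟩ * α⁻¹ := by
      apply Subtype.ext
      have hx' : x = (k : G) * (α : G) := congrArg Subtype.val hxk
      simp only [Subgroup.coe_mul, Subgroup.coe_inv]
      rw [hx', ← hαinv]
      group
    have hk1 : ν k = 1 := hν1 k (not_four_dvd_of_odd hk)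
    have hk2 : ν ⟨b⁻¹ * (k : G) * b, hb k k.2⟩ = 1 := by
      apply hν1
      rw [hord, orderOf_conj_inv, Subgroup.orderOf_coe]
      exact not_four_dvd_of_odd hk
    rw [e, map_mul, hk2, one_mul, map_inv, hxk, map_mul, hk1, one_mul]
  -- control of fusion
  have hfus : ∀ (x : G) (hx : x ∈ C), ν ⟨x, hx⟩ ≠ 1 →
      ∀ g : G, g⁻¹ * x * g ∈ C → g ∈ C ∨ b⁻¹ * g ∈ C := by
    intro x hx hνx g hg
    have h4 : 4 ∣ orderOf x := by
      by_contra h4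
      apply hνx
      apply hν1
      rw [hord]
      exact h4
    exact h.fusion S hbc hx h4 hg
  -- `ν² ≠ 1`
  have hνsq : ∃ x, ν x ^ 2 ≠ 1 := by
    refine ⟨⟨a, haC⟩, hν3 ⟨a, haC⟩ ((hmem _).2 (Subgroup.mem_zpowers a)) (j - 3) ?_⟩
    apply Subtype.ext
    show a ^ (4 * 2 ^ (j - 3)) = a ^ 2 ^ (j - 1)
    congr 1
    have : j - 1 = 2 + (j - 3) := by omega
    rw [this, pow_add]
    norm_num
  obtain ⟨χ₁, χ₂, h1, h2, hne1, hne2, hdeg, hvan, hval⟩ :=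
    bs_induction C b ν hb hbC hνb hfus hνsq
  refine ⟨χ₁, χ₂, h1, h2, hne1, hne2, hdeg, ?_, ?_⟩
  · intro g hg
    apply hvan
    intro t hx
    apply hν1
    rw [hord, orderOf_conj_inv]
    exact hg
  · have hνc : ν ⟨c, hcC⟩ = -1 := hν2 ⟨c, hcC⟩ ((hmem _).2 hcA) (Subtype.ext h.c_sq)
    have hne : ν ⟨c, hcC⟩ ≠ 1 := by
      rw [hνc]
      intro hh
      have := congrArg Units.val hh
      norm_num at this
    have := hval ⟨c, hcC⟩ hne
    rw [hνc] at this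
    simp only [inv_neg, inv_one, Units.val_neg, Units.val_one] at this
    rw [this]
    norm_num

end Cfsg.Agent.Helper16
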