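import Mathlib
import Cfsg.Agent.Lib.Helper16.BSQuatMain

/-!
# The normal subgroup in the Brauer–Suzuki theorem (helper16's library)

If a Sylow `2`-subgroup `S = ⟨a, b⟩` of `G` is generalized quaternion of order at least `16`, then
there is a normal subgroup `M` of `G` containing the involution `z` of `S`, not containing the
elements of order four of `⟨a⟩`, and with `G / M` non-abelian.
-/

set_option autoImplicit false

namespace Cfsg.Agent.Helper16

open Cfsg Cfsg.Agent.Helper24

universe u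

theorem inv_eq_self_of_sq_eq_one {G : Type*} [Group G] {z : G} (h : z ^ 2 = 1) : z⁻¹ = z := by
  rw [inv_eq_iff_mul_eq_one, ← pow_two]; exact h

/-- The product of two conjugates of the involution of a generalized quaternion Sylow
`2`-subgroup has order not divisible by four. -/
theorem IsQuatSub.not_four_dvd_orderOf_mul_conj {G : Type*} [Group G] [Finite G] (S : Sylow 2 G)
    {a : G} {j : ℕ} (h : IsQuatSub (S : Subgroup G) a j) (y : G) :
    ¬ 4 ∣ orderOf (a ^ 2 ^ (j - 1) * (y * a ^ 2 ^ (j - 1) * y⁻¹)) := by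
  intro h4
  have hF : Fact (Nat.Prime 2) := ⟨Nat.prime_two⟩
  set z : G := a ^ 2 ^ (j - 1) with hz
  have hz2 : z ^ 2 = 1 := h.z_sq
  have hz1 : z ≠ 1 := h.z_ne_one
  have hzinv : z⁻¹ = z := inv_eq_self_of_sq_eq_one hz2
  set z' : G := y * z * y⁻¹ with hz'
  have hz'2 : z' ^ 2 = 1 := by rw [hz', conj_pow, hz2]; group
  have hz'inv : z'⁻¹ = z' := inv_eq_self_of_sq_eq_one hz'2
  set u : G := z * z' with hu
  have hzu : z * u * z⁻¹ = u⁻¹ := by
    rw [hu, mul_inv_rev, hzinv, hz'inv, ← mul_assoc, ← pow_two, hz2, one_mul]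
  set m : ℕ := orderOf u / 2 with hm
  have ho2 : orderOf u = 2 * m := (Nat.mul_div_cancel' (dvd_trans (by norm_num) h4)).symm
  have hm0 : m ≠ 0 := by
    intro h0
    rw [h0, mul_zero] at ho2
    exact (orderOf_pos u).ne' ho2
  set w : G := u ^ m with hw
  have hwo : orderOf w = 2 := by
    rw [hw, orderOf_pow_of_dvd hm0 ⟨2, by rw [ho2, mul_comm]⟩, ho2,
      Nat.mul_div_cancel _ (Nat.pos_of_ne_zero hm0)]
  have hw2 : w ^ 2 = 1 := by rw [← hwo]; exact pow_orderOf_eq_one w
  have hw1 : w ≠ 1 := by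
    intro hw'
    rw [hw', orderOf_one] at hwo
    norm_num at hwo
  have hzw : z * w * z⁻¹ = w := by
    rw [hw, ← conj_pow, hzu, inv_pow]
    exact inv_eq_self_of_sq_eq_one hw2
  have hwz : w ≠ z := by
    intro hwz
    have h1 : z * u * z⁻¹ = u := by
      rw [← hwz]
      exact ((Commute.refl u).pow_left m).mul_inv_cancel
    rw [hzu] at h1
    have h2 : u ^ 2 = 1 := by
      rw [pow_two]
      nth_rewrite 1 [← h1]
      exact inv_mul_cancel u
    have h3 := orderOf_dvd_of_pow_eq_one h2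
    have h5 := Nat.le_of_dvd two_pos (dvd_trans h4 h3)
    omega
  -- the four-group `⟨z, w⟩`
  have hZ : IsPGroup 2 (Subgroup.zpowers z) :=
    IsPGroup.of_card (n := 1) (by rw [Nat.card_zpowers, orderOf_eq_prime hz2 hz1, pow_one])
  have hW : IsPGroup 2 (Subgroup.zpowers w) :=
    IsPGroup.of_card (n := 1) (by rw [Nat.card_zpowers, hwo, pow_one])
  have hnorm : Subgroup.zpowers z ≤ Subgroup.normalizer (Subgroup.zpowers w : Set G) := by
    rw [Subgroup.zpowers_le]
    apply Subgroup.centralizer_le_normalizer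
    rw [Subgroup.mem_centralizer_iff]
    intro x hx
    obtain ⟨i, rfl⟩ := Subgroup.mem_zpowers_iff.1 hx
    have hc : Commute w z := by
      have : z * w = w * z := by
        calc z * w = z * w * z⁻¹ * z := by group
          _ = w * z := by rw [hzw]
      exact this.symm
    exact (hc.zpow_left i)
  have hR : IsPGroup 2 (Subgroup.zpowers z ⊔ Subgroup.zpowers w : Subgroup G) :=
    hZ.to_sup_of_normal_right' hW hnorm
  obtain ⟨k, hk⟩ := exists_conj_le_sylow hR S
  have hkz : k * z * k⁻¹ = z := by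
    apply h.eq_z_of_sq_eq_one (hk z (Subgroup.mem_sup_left (Subgroup.mem_zpowers z)))
    · rw [conj_pow, hz2]; group
    · intro h1
      apply hz1
      have : z = k⁻¹ * (k * z * k⁻¹) * k := by group
      rw [this, h1]; group
  have hkw : k * w * k⁻¹ = z := by
    apply h.eq_z_of_sq_eq_one (hk w (Subgroup.mem_sup_right (Subgroup.mem_zpowers w)))
    · rw [conj_pow, hw2]; group
    · intro h1
      apply hw1
      have : w = k⁻¹ * (k * w * k⁻¹) * k := by group
      rw [this, h1]; group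
  apply hwz
  have e : k * w * k⁻¹ = k * z * k⁻¹ := by rw [hkw, hkz]
  exact mul_left_cancel (mul_right_cancel e)

/-- **Brauer–Suzuki**: the normal subgroup. -/
theorem IsQuatSub.exists_normal_bs {G : Type u} [Group G] [Finite G] (S : Sylow 2 G) {a : G}
    {j : ℕ} (h : IsQuatSub (S : Subgroup G) a j) (hj3 : 3 ≤ j) :
    ∃ M : Subgroup G, M.Normal ∧ a ^ 2 ^ (j - 1) ∈ M ∧ a ^ 2 ^ (j - 2) ∉ M ∧
      ¬ commutator G ≤ M := by
  classical
  haveI : Fintype G := Fintype.ofFinite G
  obtain ⟨χ₁, χ₂, h1, h2, -, -, hdeg, hval, hc⟩ := h.exists_bs_characters S hj3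
  have hzo : orderOf (a ^ 2 ^ (j - 1)) = 2 := orderOf_eq_prime h.z_sq h.z_ne_one
  have hz : χ₁ (a ^ 2 ^ (j - 1)) - χ₂ (a ^ 2 ^ (j - 1)) = 1 := by
    apply hval
    rw [hzo]
    norm_num
  obtain ⟨hk1, hk2⟩ := bs_kernel h1 h2 hdeg (a ^ 2 ^ (j - 1)) hz
    (fun y => hval _ (h.not_four_dvd_orderOf_mul_conj S y))
  have hc1 : IsCharacter G χ₁ := isCharacter_of_isIrrCharacter h1
  have hc2 : IsCharacter G χ₂ := isCharacter_of_isIrrCharacter h2
  haveI := charKer_normal hc1
  haveI := charKer_normal hc2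
  refine ⟨charKer hc1 ⊓ charKer hc2, inferInstance, ⟨hk1, hk2⟩, ?_, ?_⟩
  · intro hm
    have hm1 : χ₁ (a ^ 2 ^ (j - 2)) = χ₁ 1 := hm.1
    have hm2 : χ₂ (a ^ 2 ^ (j - 2)) = χ₂ 1 := hm.2
    rw [hm1, hm2, hdeg] at hc
    norm_num at hc
  · intro hle
    obtain ⟨d, hd0, hd⟩ := irr_one_eq h2
    have hne : χ₁ 1 ≠ 1 := by
      rw [hdeg, hd]
      intro hh
      have : (d : ℂ) = 0 := by linear_combination hh
      have : d = 0 := by exact_mod_cast this
      omega
    obtain ⟨g, hg, hgne⟩ := not_commutator_le_of_nonlinear h1 hne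
    exact hgne (hle hg).1

end Cfsg.Agent.Helper16
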