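import Mathlib
import Cfsg.Agent.Lib.Helper16.BSQuatNormal

/-!
# Consequences of the Brauer–Suzuki theorem (helper16's library)
-/

set_option autoImplicit false

namespace Cfsg.Agent.Helper16

/-- A group whose elements all map to `1` or to a fixed element under an injective homomorphism
is cyclic. -/
theorem isCyclic_of_forall_eq_or {T G : Type*} [Group T] [Group G] (f : T →* G)
    (hf : Function.Injective f) (t₀ : G) (h : ∀ x : T, f x = 1 ∨ f x = t₀) : IsCyclic T := by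
  by_cases hex : ∃ x₀ : T, f x₀ = t₀
  · obtain ⟨x₀, hx₀⟩ := hex
    refine ⟨⟨x₀, fun x => ?_⟩⟩
    rcases h x with h1 | h1
    · have : x = 1 := hf (by rw [h1, map_one])
      exact ⟨0, by rw [this]; exact zpow_zero x₀⟩
    · have : x = x₀ := hf (by rw [h1, hx₀])
      exact ⟨1, by rw [this]; exact zpow_one x₀⟩
  · push Not at hex
    refine ⟨⟨1, fun x => ?_⟩⟩
    rcases h x with h1 | h1
    · have : x = 1 := hf (by rw [h1, map_one])
      exact ⟨0, by rw [this]; exact zpow_zero 1⟩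
    · exact absurd h1 (hex x)

/-- The transfer into a cyclic Sylow `2`-subgroup of a normal subgroup `M` of `G` gives a normal
subgroup of odd order of `G` complementing the Sylow subgroup in `M`. -/
theorem exists_odd_normal_of_cyclic_sylow {G : Type*} [Group G] [Finite G] (M : Subgroup G)
    [hM : M.Normal] (P : Sylow 2 ↥M) (hP : IsCyclic P) (h2 : 2 ∣ Nat.card M) :
    ∃ K : Subgroup G, K.Normal ∧ Odd (Nat.card K) ∧
      ∀ x : ↥M, ∃ k α : ↥M, (k : G) ∈ K ∧ α ∈ (P : Subgroup ↥M) ∧ x = k * α := by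
  have hF : Fact (Nat.Prime 2) := ⟨Nat.prime_two⟩
  have hp : (Nat.card M).minFac = 2 := (Nat.minFac_eq_two_iff _).2 h2
  have hNC := hP.normalizer_le_centralizer hp
  have hodd : ¬ 2 ∣ Nat.card (MonoidHom.transferSylow P hNC).ker :=
    MonoidHom.not_dvd_card_ker_transferSylow P hNC
  have hV2 : ∀ x : ↥M, Odd (orderOf x) → MonoidHom.transferSylow P hNC x = 1 := by
    intro x hx
    apply eq_one_of_odd_orderOf_of_two_pow
    · exact hx.of_dvd_nat (orderOf_map_dvd _ x)
    · exact IsPGroup.iff_orderOf.1 P.2 _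
  have hker_odd : ∀ x : ↥M, MonoidHom.transferSylow P hNC x = 1 → Odd (orderOf x) := by
    intro x hx
    have h3 : orderOf x ∣ Nat.card (MonoidHom.transferSylow P hNC).ker :=
      Subgroup.orderOf_dvd_natCard _ (MonoidHom.mem_ker.2 hx)
    rw [← Nat.not_even_iff_odd, even_iff_two_dvd]
    exact fun h => hodd (h.trans h3)
  refine ⟨(MonoidHom.transferSylow P hNC).ker.map M.subtype, ?_, ?_, ?_⟩
  · constructor
    rintro _ ⟨k, hk, rfl⟩ g
    have hkM : g * (k : G) * g⁻¹ ∈ M := hM.conj_mem _ k.2 g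
    refine ⟨⟨g * k * g⁻¹, hkM⟩, ?_, rfl⟩
    rw [SetLike.mem_coe, MonoidHom.mem_ker]
    apply hV2
    rw [Subgroup.orderOf_mk]
    have : g * (k : G) * g⁻¹ = MulAut.conj g (k : G) := by rw [MulAut.conj_apply]
    rw [this, MulEquiv.orderOf_eq, Subgroup.orderOf_coe]
    exact hker_odd k (MonoidHom.mem_ker.1 hk)
  · rw [Subgroup.card_map_of_injective M.subtype_injective, ← Nat.not_even_iff_odd,
      even_iff_two_dvd]
    exact hodd
  · intro x
    have hc := hP.isComplement' hp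
    obtain ⟨y, hy, -⟩ := (hc : Subgroup.IsComplement _ _).existsUnique x
    exact ⟨y.1.1, y.2.1, ⟨y.1.1, y.1.2, rfl⟩, y.2.2, hy.symm⟩

namespace IsQuatSub

variable {G : Type*} [Group G] [Finite G] {a : G} {j : ℕ}

omit [Finite G] in
/-- A normal subgroup not containing `c` meets `S` in a subgroup of `⟨z⟩`. -/
theorem eq_one_or_eq_z_of_mem_normal (S : Sylow 2 G) (h : IsQuatSub (S : Subgroup G) a j)
    (hj3 : 3 ≤ j) (M : Subgroup G) [hM : M.Normal] (hcM : a ^ 2 ^ (j - 2) ∉ M) {s : G}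
    (hsS : s ∈ (S : Subgroup G)) (hsM : s ∈ M) : s = 1 ∨ s = a ^ 2 ^ (j - 1) := by
  have hsA : s ∈ Subgroup.zpowers a := by
    by_contra hsa
    apply hcM
    have h1 := h.out_inv s hsS hsa
    have h2 : a * s⁻¹ * a⁻¹ ∈ M := hM.conj_mem _ (M.inv_mem hsM) a
    have h3 : s * (a * s⁻¹ * a⁻¹) ∈ M := M.mul_mem hsM h2
    have h4 : s * (a * s⁻¹ * a⁻¹) = (a ^ 2)⁻¹ := by
      calc s * (a * s⁻¹ * a⁻¹) = (s * a * s⁻¹) * a⁻¹ := by group
        _ = a⁻¹ * a⁻¹ := by rw [h1]
        _ = (a ^ 2)⁻¹ := by group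
    rw [h4] at h3
    have h5 : a ^ 2 ∈ M := by
      have := M.inv_mem h3
      rwa [inv_inv] at this
    have h6 : a ^ 2 ^ (j - 2) = (a ^ 2) ^ 2 ^ (j - 3) := by
      rw [← pow_mul, ← pow_succ']
      congr 2
      omega
    rw [h6]
    exact M.pow_mem h5 _
  by_cases hs2 : s ^ 2 = 1
  · by_cases hs1 : s = 1
    · left; exact hs1
    · right; exact h.eq_z_of_sq_eq_one hsS hs2 hs1
  · exfalso
    have hdvd : orderOf s ∣ 2 ^ j := by
      rw [← h.hao]
      exact orderOf_dvd_of_mem_zpowers hsA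
    obtain ⟨e, -, he⟩ := (Nat.dvd_prime_pow Nat.prime_two).1 hdvd
    have he2 : 2 ≤ e := by
      by_contra hlt
      apply hs2
      have : e = 0 ∨ e = 1 := by omega
      rcases this with rfl | rfl
      · rw [pow_zero, orderOf_eq_one_iff] at he
        rw [he, one_pow]
      · rw [pow_one] at he
        rw [← he]; exact pow_orderOf_eq_one s
    set y : G := s ^ 2 ^ (e - 2) with hy
    have hsplit : 2 ^ e = 4 * 2 ^ (e - 2) := two_pow_split he2
    have hyo : orderOf y = 4 := by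
      rw [hy, orderOf_pow_of_dvd (pow_ne_zero _ two_ne_zero) ⟨4, by rw [he, hsplit, mul_comm]⟩,
        he, hsplit, Nat.mul_div_cancel _ (pow_pos two_pos _)]
    have hyA : y ∈ Subgroup.zpowers a := Subgroup.pow_mem _ hsA _
    have hy4 : y ^ 4 = 1 := by rw [← hyo]; exact pow_orderOf_eq_one y
    have hyM : y ∈ M := M.pow_mem hsM _
    rcases eq_or_eq_inv_of_orderOf_four h.orderOf_c (h.mem_zpowers_c hyA hy4) hyo with h1 | h1
    · apply hcM; rw [← h1]; exact hyM
    · apply hcM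
      have := M.inv_mem hyM
      rwa [h1, inv_inv] at this

/-- The `2`-subgroups of `M` have at most two elements. -/
theorem exists_forall_eq_or_of_le_normal (S : Sylow 2 G) (h : IsQuatSub (S : Subgroup G) a j)
    (hj3 : 3 ≤ j) (M : Subgroup G) [hM : M.Normal] (hcM : a ^ 2 ^ (j - 2) ∉ M)
    (R : Subgroup G) (hR : IsPGroup 2 R) (hRM : R ≤ M) :
    ∃ t : G, ∀ r ∈ R, r = 1 ∨ r = t := by
  have hF : Fact (Nat.Prime 2) := ⟨Nat.prime_two⟩
  obtain ⟨k, hk⟩ := exists_conj_le_sylow hR S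
  refine ⟨k⁻¹ * a ^ 2 ^ (j - 1) * k, fun r hr => ?_⟩
  have h1 : k * r * k⁻¹ ∈ M := hM.conj_mem _ (hRM hr) k
  rcases h.eq_one_or_eq_z_of_mem_normal S hj3 M hcM (hk r hr) h1 with h2 | h2
  · left
    have : r = k⁻¹ * (k * r * k⁻¹) * k := by group
    rw [this, h2]; group
  · right
    rw [← h2]; group

end IsQuatSub

end Cfsg.Agent.Helper16
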