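import Mathlib
import Cfsg.Agent.Lib.Helper16.Q8Aut

/-!
# Subgroups of order four of the quaternion group and odd-order automorphisms
(helper16's library)
-/

set_option autoImplicit false

namespace Cfsg.Agent.Helper16

namespace Q8

/-- A subgroup of order four of a quaternion group of order eight is cyclic. -/
theorem IsQ8.exists_zpowers_eq {X : Type*} [Group X] {b y : X} (h : IsQ8 b y) (A : Subgroup X)
    (hA : Nat.card A = 4) : ∃ u : X, orderOf u = 4 ∧ A = Subgroup.zpowers u := by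
  have := h.finite
  obtain ⟨e⟩ := h.nonempty_mulEquiv
  have hb2 : b ^ 2 ≠ 1 := sq_ne_one_of_orderOf_four h.hb
  have hex : ∃ u ∈ A, u ^ 2 ≠ 1 := by
    by_contra hcon
    push Not at hcon
    have hz2 : (b ^ 2) ^ 2 = 1 := by
      have h4 : b ^ 4 = 1 := by rw [← h.hb]; exact pow_orderOf_eq_one b
      rw [← pow_mul]; exact h4
    have hle : A ≤ Subgroup.zpowers (b ^ 2) := by
      intro u hu
      rcases G6 e hb2 (hcon u hu) with h1 | h1
      · rw [h1]; exact Subgroup.one_mem _
      · rw [h1]; exact Subgroup.mem_zpowers _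
    have h1 := Subgroup.card_le_of_le hle
    have h2 : Nat.card (Subgroup.zpowers (b ^ 2)) ≤ 2 := by
      rw [Nat.card_zpowers]
      exact Nat.le_of_dvd two_pos (orderOf_dvd_of_pow_eq_one hz2)
    omega
  obtain ⟨u, huA, hu2⟩ := hex
  have huo := orderOf_four_of_sq_ne_one e hu2
  refine ⟨u, huo, ?_⟩
  symm
  apply Subgroup.eq_of_le_of_card_ge (Subgroup.zpowers_le.2 huA)
  rw [Nat.card_zpowers, huo, hA]

theorem zpowers_eq_of_mem {X : Type*} [Group X] [Finite X] {u v : X} (hu : orderOf u = 4)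
    (hv : orderOf v = 4) (h : u ∈ Subgroup.zpowers v) : Subgroup.zpowers u = Subgroup.zpowers v := by
  apply Subgroup.eq_of_le_of_card_ge (Subgroup.zpowers_le.2 h)
  rw [Nat.card_zpowers, Nat.card_zpowers, hu, hv]

/-- A nontrivial odd-order automorphism of the quaternion group permutes its three subgroups of
order four transitively. -/
theorem IsQ8.exists_pow_map_eq {X : Type*} [Group X] {b y : X} (h : IsQ8 b y)
    (α : MulAut X) (r : ℕ) (hr : Odd r) (hα : α ^ r = 1) (hα1 : α ≠ 1) (A B : Subgroup X)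
    (hA : Nat.card A = 4) (hB : Nat.card B = 4) :
    ∃ i : ℕ, B = A.map (α ^ i).toMonoidHom := by
  have := h.finite
  obtain ⟨e⟩ := h.nonempty_mulEquiv
  obtain ⟨u, huo, rfl⟩ := h.exists_zpowers_eq A hA
  obtain ⟨v, hvo, rfl⟩ := h.exists_zpowers_eq B hB
  have hu2 : u ^ 2 ≠ 1 := sq_ne_one_of_orderOf_four huo
  have hmap : ∀ i : ℕ, (Subgroup.zpowers u).map (α ^ i).toMonoidHom =
      Subgroup.zpowers ((α ^ i) u) := by
    intro i
    rw [MonoidHom.map_zpowers]
    rfl
  -- `α ^ 2` is also of odd order and nontrivial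
  have hα2 : (α ^ 2) ^ r = 1 := by rw [← pow_mul, mul_comm, pow_mul, hα, one_pow]
  have hα21 : α ^ 2 ≠ 1 := by
    intro h2
    apply hα1
    obtain ⟨k, hk⟩ := hr
    have h1 : α = (α ^ 2) ^ (k + 1) := by
      rw [← pow_mul]
      have : 2 * (k + 1) = r + 1 := by omega
      rw [this, pow_succ, hα, one_mul]
    rw [h1, h2, one_pow]
  by_cases hvu : v ∈ Subgroup.zpowers u
  · refine ⟨0, ?_⟩
    rw [hmap 0, pow_zero, MulAut.one_apply]
    exact zpowers_eq_of_mem hvo huo hvu
  have h1 : out u v := (out_iff_notMem huo).2 hvu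
  have hwo : orderOf (α u) = 4 := by rw [MulEquiv.orderOf_eq, huo]
  have h2 : out u (α u) := by
    rw [out_iff_notMem huo]
    intro hm
    exact hα1 (aut_eq_one_of_map_mem_zpowers h.card α r hr hα huo hm)
  by_cases hwv : α u ∈ Subgroup.zpowers v
  · refine ⟨1, ?_⟩
    rw [hmap 1, pow_one]
    exact (zpowers_eq_of_mem hwo hvo hwv).symm
  have h3 : out v (α u) := (out_iff_notMem hvo).2 hwv
  have h4 : out u (α (α u)) := by
    rw [out_iff_notMem huo]
    intro hm
    have : (α ^ 2) u ∈ Subgroup.zpowers u := by rw [pow_two, MulAut.mul_apply]; exact hm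
    exact hα21 (aut_eq_one_of_map_mem_zpowers h.card (α ^ 2) r hr hα2 huo this)
  have h5 : out (α u) (α (α u)) := by
    rw [out_iff_notMem hwo]
    intro hm
    exact hα1 (aut_eq_one_of_map_mem_zpowers h.card α r hr hα hwo hm)
  have hto : orderOf (α (α u)) = 4 := by rw [MulEquiv.orderOf_eq, hwo]
  refine ⟨2, ?_⟩
  rw [hmap 2, pow_two, MulAut.mul_apply]
  symm
  apply zpowers_eq_of_mem hto hvo
  rcases G5 e hu2 h1 h2 h3 h4 h5 with h6 | h6
  · rw [h6]; exact Subgroup.mem_zpowers v
  · rw [h6]; exact Subgroup.pow_mem _ (Subgroup.mem_zpowers v) _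

end Q8

end Cfsg.Agent.Helper16
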