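import Mathlib
import Cfsg.Agent.S0071
import Cfsg.Agent.Lib.Helper16.OddAutSub
import Cfsg.Agent.Lib.Helper16.Q8Aut
import Cfsg.Agent.Lib.Helper16.QuatLike

/-!
# Generalized quaternion Sylow `2`-subgroups and the Frobenius criterion (helper16's library)
-/

set_option autoImplicit false

namespace Cfsg.Agent.Helper16

/-- An odd-order element normalizing, but not centralizing, a quaternion subgroup `Q` of order
eight acts on suitable generators by `x ↦ y ↦ x y`. -/
theorem exists_rel_of_odd_normalizer_quat {G : Type*} [Group G] (Q : Subgroup G)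
    (hcard : Nat.card Q = 8) {b y₀ : G} (hbQ : b ∈ Q) (hyQ : y₀ ∈ Q) (hbo : orderOf b = 4)
    (hy2 : y₀ ^ 2 = b ^ 2) (hyb : y₀ * b * y₀⁻¹ = b⁻¹) {g : G}
    (hg : g ∈ Subgroup.normalizer (Q : Set G)) (hodd : Odd (orderOf g))
    (hgc : g ∉ Subgroup.centralizer (Q : Set G)) :
    ∃ x y : G, x ∈ Q ∧ y ∈ Q ∧ orderOf x = 4 ∧ y ^ 2 = x ^ 2 ∧ y * x * y⁻¹ = x⁻¹ ∧
      g * x * g⁻¹ = y ∧ g * y * g⁻¹ = x * y := by
  have hQ8 : Q8.IsQ8 (⟨b, hbQ⟩ : Q) ⟨y₀, hyQ⟩ := by
    refine ⟨hcard, ?_, ?_, ?_⟩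
    · rw [← hbo]; exact Subgroup.orderOf_mk b hbQ
    · exact Subtype.ext (by simpa using hy2)
    · exact Subtype.ext (by simpa using hyb)
  set α : MulAut Q := Q.normalizerMonoidHom ⟨g, hg⟩ with hαdef
  have hα : α ^ orderOf g = 1 := by
    rw [hαdef, ← map_pow]
    have : (⟨g, hg⟩ : Subgroup.normalizer (Q : Set G)) ^ orderOf g = 1 :=
      Subtype.ext (by simp [pow_orderOf_eq_one])
    rw [this, map_one]
  have hα1 : α ≠ 1 := by
    intro h1
    apply hgc
    have h2 : (⟨g, hg⟩ : Subgroup.normalizer (Q : Set G)) ∈ Q.normalizerMonoidHom.ker := by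
      rw [MonoidHom.mem_ker]; exact h1
    rw [Subgroup.normalizerMonoidHom_ker, Subgroup.mem_subgroupOf] at h2
    exact h2
  obtain ⟨x, y, hxo, hy, hyx, hαx, hαy⟩ := hQ8.exists_rel_of_odd_aut α _ hodd hα hα1
  refine ⟨(x : G), (y : G), x.2, y.2, ?_, ?_, ?_, ?_, ?_⟩
  · rw [← hxo]; exact Subgroup.orderOf_coe x
  · have := congrArg (fun v : Q => (v : G)) hy
    simpa using this
  · have := congrArg (fun v : Q => (v : G)) hyx
    simpa using this
  · have := congrArg (fun v : Q => (v : G)) hαx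
    rw [hαdef] at this
    simpa using this
  · have := congrArg (fun v : Q => (v : G)) hαy
    rw [hαdef] at this
    simpa using this

/-- **Frobenius criterion for quaternion Sylow `2`-subgroups**: without a normal `2`-complement,
some quaternion subgroup of order eight admits an odd-order element of its normalizer acting
nontrivially. -/
theorem exists_quat_of_no_complement {G : Type*} [Group G] [Finite G] (T : Sylow 2 G) (n : ℕ)
    (e : (T : Subgroup G) ≃* QuaternionGroup (2 ^ n))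
    (hnc : ¬ ∃ N : Subgroup G, N.Normal ∧ N.IsComplement' (T : Subgroup G)) :
    ∃ (Q : Subgroup G) (g : G), Q ≤ (T : Subgroup G) ∧ g ∈ Subgroup.normalizer (Q : Set G) ∧
      Odd (orderOf g) ∧ g ∉ Subgroup.centralizer (Q : Set G) ∧ Nat.card Q = 8 ∧
      ∃ b y : G, b ∈ Q ∧ y ∈ Q ∧ orderOf b = 4 ∧ y ^ 2 = b ^ 2 ∧ y * b * y⁻¹ = b⁻¹ := by
  have hF : Fact (Nat.Prime 2) := ⟨Nat.prime_two⟩
  rw [Cfsg.Agent.S0071.result T] at hnc
  push Not at hnc
  obtain ⟨Q, hQT, g, hg, hcop, hgc⟩ := hnc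
  have hodd : Odd (orderOf g) := Nat.coprime_two_right.1 hcop
  obtain ⟨a, hao, hidx, hout4, -⟩ := quaternionLike_of_mulEquiv n e
  have haT : (a : G) ∈ (T : Subgroup G) := a.2
  have hao' : orderOf (a : G) = 2 ^ (n + 1) := by rw [← hao]; exact Subgroup.orderOf_coe a
  have hcard : Nat.card (T : Subgroup G) = 2 ^ (n + 1 + 1) := by
    have h1 := Subgroup.card_mul_index (Subgroup.zpowers a)
    rw [hidx, Nat.card_zpowers, hao] at h1
    rw [← h1, ← pow_succ]
  have hmem : ∀ y : (T : Subgroup G), (y : G) ∈ Subgroup.zpowers (a : G) →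
      y ∈ Subgroup.zpowers a := by
    intro y h
    obtain ⟨k, hk⟩ := Subgroup.mem_zpowers_iff.1 h
    rw [Subgroup.mem_zpowers_iff]
    exact ⟨k, Subtype.ext (by simpa using hk)⟩
  have hout : ∀ y ∈ (T : Subgroup G), y ∉ Subgroup.zpowers (a : G) → y ^ 4 = 1 := by
    intro y hyT hy
    have h1 : (⟨y, hyT⟩ : (T : Subgroup G)) ∉ Subgroup.zpowers a := fun h => hy (by
      obtain ⟨k, hk⟩ := Subgroup.mem_zpowers_iff.1 h
      rw [Subgroup.mem_zpowers_iff]
      refine ⟨k, ?_⟩
      have := congrArg (fun v : (T : Subgroup G) => (v : G)) hk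
      simpa using this)
    have h2 := hout4 _ h1
    have h3 : (⟨y, hyT⟩ : (T : Subgroup G)) ^ 4 = 1 := by rw [← h2]; exact pow_orderOf_eq_one _
    have := congrArg (fun v : (T : Subgroup G) => (v : G)) h3
    simpa using this
  rcases four_or_quat_of_odd_normalizer (T : Subgroup G) haT hao' hcard hout Q hQT hg hodd hgc with
    ⟨h4, hsq⟩ | ⟨h8, b, y, hb, hy, hbo, hy2, hyb⟩
  · -- a four-group is impossible
    exfalso
    have hz2 : ((a : G) ^ 2 ^ (n + 1 - 1)) ^ 2 = 1 := pow_half_sq (by omega) hao'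
    have hle : Q ≤ Subgroup.zpowers ((a : G) ^ 2 ^ (n + 1 - 1)) := by
      intro q hq
      have hq2 := hsq q hq
      have hqa : q ∈ Subgroup.zpowers (a : G) := by
        by_contra hqa
        have h1 : (⟨q, hQT hq⟩ : (T : Subgroup G)) ∉ Subgroup.zpowers a :=
          fun h => hqa (by
            obtain ⟨k, hk⟩ := Subgroup.mem_zpowers_iff.1 h
            rw [Subgroup.mem_zpowers_iff]
            refine ⟨k, ?_⟩
            have := congrArg (fun v : (T : Subgroup G) => (v : G)) hk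
            simpa using this)
        have h2 := hout4 _ h1
        have h3 : (⟨q, hQT hq⟩ : (T : Subgroup G)) ^ 2 = 1 := Subtype.ext (by simpa using hq2)
        have h4 := orderOf_dvd_of_pow_eq_one h3
        rw [h2] at h4
        norm_num at h4
      obtain ⟨s, -, rfl⟩ := mem_zpowers_exists_nat (by positivity) hao' hqa
      have h5 : (a : G) ^ (2 * s) = 1 := by rw [mul_comm, pow_mul]; exact hq2
      rcases pow_eq_one_or_half (by omega) hao' h5 with h6 | h6
      · rw [h6]; exact Subgroup.one_mem _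
      · rw [h6]; exact Subgroup.mem_zpowers _
    have h1 := Subgroup.card_le_of_le hle
    have h2 : Nat.card (Subgroup.zpowers ((a : G) ^ 2 ^ (n + 1 - 1))) ≤ 2 := by
      rw [Nat.card_zpowers]
      exact Nat.le_of_dvd two_pos (orderOf_dvd_of_pow_eq_one hz2)
    omega
  · exact ⟨Q, g, hQT, hg, hodd, hgc, h8, b, y, hb, hy, hbo, hy2, hyb⟩

end Cfsg.Agent.Helper16
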