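import Mathlib

/-!
# Divisibility of an invariant sum from its orbits (helper16's library)
-/

set_option autoImplicit false

namespace Cfsg.Agent.Helper16

/-- If `F` is invariant under the action of `Γ` and `m` divides `|orbit x| * F x` for every `x`,
then `m` divides `∑ x, F x`. -/
theorem dvd_sum_of_orbit {Γ X : Type*} [Group Γ] [MulAction Γ X] [Fintype X] (F : X → ℤ)
    (hF : ∀ (γ : Γ) (x : X), F (γ • x) = F x) (m : ℤ)
    (h : ∀ x : X, m ∣ (Nat.card (MulAction.orbit Γ x) : ℤ) * F x) : m ∣ ∑ x, F x := by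
  classical
  let _ : Fintype (MulAction.orbitRel.Quotient Γ X) := Fintype.ofFinite _
  rw [← Finset.sum_fiberwise (s := Finset.univ)
    (g := fun x : X => (Quotient.mk'' x : MulAction.orbitRel.Quotient Γ X)) (f := F)]
  apply Finset.dvd_sum
  intro ω _
  obtain ⟨x₀, rfl⟩ := Quotient.exists_rep ω
  have hmem : ∀ x : X, (Quotient.mk'' x : MulAction.orbitRel.Quotient Γ X) = Quotient.mk'' x₀ ↔
      x ∈ MulAction.orbit Γ x₀ := by
    intro x
    rw [Quotient.eq'']
    exact MulAction.orbitRel_apply
  have hconst : ∀ x ∈ Finset.univ.filter (fun x : X =>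
      (Quotient.mk'' x : MulAction.orbitRel.Quotient Γ X) = Quotient.mk'' x₀), F x = F x₀ := by
    intro x hx
    rw [Finset.mem_filter] at hx
    obtain ⟨γ, rfl⟩ := (hmem x).mp hx.2
    exact hF γ x₀
  have hcard : (Finset.univ.filter (fun x : X =>
      (Quotient.mk'' x : MulAction.orbitRel.Quotient Γ X) = Quotient.mk'' x₀)).card =
      Nat.card (MulAction.orbit Γ x₀) := by
    rw [Nat.card_eq_fintype_card, Fintype.card_subtype]
    congr 1
    ext x
    simp only [Finset.mem_filter, Finset.mem_univ, true_and]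
    exact hmem x
  show m ∣ ∑ x ∈ Finset.univ.filter (fun x : X =>
      (Quotient.mk'' x : MulAction.orbitRel.Quotient Γ X) = Quotient.mk'' x₀), F x
  rw [Finset.sum_congr rfl hconst, Finset.sum_const, nsmul_eq_mul, hcard]
  exact h x₀

end Cfsg.Agent.Helper16
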