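import Mathlib
import Cfsg.Agent.Lib.Helper16.OrbitDvd
import Cfsg.Agent.Lib.Helper16.Basic

/-!
# Normal subgroups with two class sizes: general lemmas (helper16)
-/

set_option autoImplicit false
set_option linter.unusedSectionVars false
set_option linter.style.haveILetI false

namespace Cfsg.Agent.Helper16.TwoIdx

variable {G : Type*} [Group G]

/-- Centralizer of an element. -/
abbrev K (g : G) : Subgroup G := Subgroup.centralizer ({g} : Set G)

theorem mem_K {g k : G} : k ∈ K g ↔ g * k = k * g := by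
  rw [Subgroup.mem_centralizer_singleton_iff]
  exact eq_comm

theorem mem_K_comm {g k : G} : k ∈ K g ↔ g ∈ K k := by
  rw [mem_K, mem_K]; exact eq_comm

theorem self_mem_K (g : G) : g ∈ K g := mem_K.2 rfl

theorem center_le_K (g : G) : Subgroup.center G ≤ K g := by
  intro z hz
  rw [mem_K]
  exact ((Subgroup.mem_center_iff.1 hz) g)

theorem K_eq_top_iff {g : G} : K g = ⊤ ↔ g ∈ Subgroup.center G := by
  constructor
  · intro h
    rw [Subgroup.mem_center_iff]
    intro k
    have : k ∈ K g := h ▸ Subgroup.mem_top k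
    exact (mem_K.1 this).symm
  · intro h
    rw [eq_top_iff]
    intro k _
    rw [mem_K]
    exact ((Subgroup.mem_center_iff.1 h) k).symm

theorem conj_mem_K_conj {g k : G} (a : G) (hk : k ∈ K g) : a * k * a⁻¹ ∈ K (a * g * a⁻¹) := by
  rw [mem_K] at hk ⊢
  calc a * g * a⁻¹ * (a * k * a⁻¹) = a * (g * k) * a⁻¹ := by group
    _ = a * (k * g) * a⁻¹ := by rw [hk]
    _ = a * k * a⁻¹ * (a * g * a⁻¹) := by group

theorem conj_mem_K_conj_iff {g k : G} (a : G) : a * k * a⁻¹ ∈ K (a * g * a⁻¹) ↔ k ∈ K g := by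
  constructor
  · intro h
    have := conj_mem_K_conj a⁻¹ h
    have e1 : a⁻¹ * (a * k * a⁻¹) * a⁻¹⁻¹ = k := by group
    have e2 : a⁻¹ * (a * g * a⁻¹) * a⁻¹⁻¹ = g := by group
    rwa [e1, e2] at this
  · exact conj_mem_K_conj a

theorem K_conj_eq_map (g a : G) :
    K (a * g * a⁻¹) = (K g).map (MulAut.conj a).toMonoidHom := by
  ext k
  constructor
  · intro hk
    refine ⟨a⁻¹ * k * a, ?_, ?_⟩
    · have := conj_mem_K_conj a⁻¹ hk
      have e2 : a⁻¹ * (a * g * a⁻¹) * a⁻¹⁻¹ = g := by group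
      rw [e2] at this
      simpa using this
    · simp [mul_assoc]
  · rintro ⟨k', hk', rfl⟩
    simpa using conj_mem_K_conj a hk'

theorem card_K_conj (g a : G) : Nat.card (K (a * g * a⁻¹)) = Nat.card (K g) := by
  rw [K_conj_eq_map]
  exact Subgroup.card_map_of_injective (MulAut.conj a).injective

theorem K_mul_central {g z : G} (hz : z ∈ Subgroup.center G) : K (g * z) = K g := by
  ext k
  rw [mem_K, mem_K]
  have hzk : z * k = k * z := (Subgroup.mem_center_iff.1 hz k).symm
  constructor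
  · intro h
    have : g * k * z = k * g * z := by
      calc g * k * z = g * (k * z) := by group
        _ = g * (z * k) := by rw [hzk]
        _ = g * z * k := by group
        _ = k * (g * z) := h
        _ = k * g * z := by group
    exact mul_right_cancel this
  · intro h
    calc g * z * k = g * (z * k) := by group
      _ = g * (k * z) := by rw [hzk]
      _ = g * k * z := by group
      _ = k * g * z := by rw [h]
      _ = k * (g * z) := by group

theorem K_le_of_mem_zpowers {c a : G} (ha : a ∈ Subgroup.zpowers c) : K c ≤ K a := by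
  intro k hk
  rw [Subgroup.mem_zpowers_iff] at ha
  obtain ⟨n, rfl⟩ := ha
  rw [mem_K] at hk ⊢
  exact ((Commute.zpow_left (show Commute c k from hk) n)).eq

theorem K_inf_le_K_mul (a b : G) : K a ⊓ K b ≤ K (a * b) := by
  intro k hk
  rw [Subgroup.mem_inf, mem_K, mem_K] at hk
  rw [mem_K]
  calc a * b * k = a * (b * k) := by group
    _ = a * (k * b) := by rw [hk.2]
    _ = a * k * b := by group
    _ = k * a * b := by rw [hk.1]
    _ = k * (a * b) := by group

/-- `r`-part and `r'`-part of an element, both powers of it. -/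
theorem exists_parts [Finite G] (p : ℕ) [hp : Fact p.Prime] (c : G) :
    ∃ u y : G, u ∈ Subgroup.zpowers c ∧ y ∈ Subgroup.zpowers c ∧ c = u * y ∧
      (∃ k, u ^ p ^ k = 1) ∧ (orderOf y).Coprime p := by
  have hm : 0 < orderOf c := orderOf_pos c
  obtain ⟨a, m', hm', hmeq⟩ := Nat.exists_eq_pow_mul_and_not_dvd hm.ne' p hp.out.ne_one
  have hcop : Nat.Coprime (p ^ a) m' :=
    ((Nat.Prime.coprime_iff_not_dvd hp.out).2 hm').pow_left a
  obtain ⟨k₁, h11, h12⟩ := Nat.chineseRemainder hcop 1 0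
  obtain ⟨k₂, h21, h22⟩ := Nat.chineseRemainder hcop 0 1
  refine ⟨c ^ k₁, c ^ k₂, ⟨k₁, by simp⟩, ⟨k₂, by simp⟩, ?_, ?_, ?_⟩
  · rw [← pow_add]
    have h1 : k₁ + k₂ ≡ 1 [MOD orderOf c] := by
      rw [hmeq]
      apply (Nat.modEq_and_modEq_iff_modEq_mul hcop).1
      constructor
      · simpa using h11.add h21
      · simpa using h12.add h22
    have := (pow_eq_pow_iff_modEq (x := c) (n := k₁ + k₂) (m := 1)).2 h1
    rw [this, pow_one]
  · refine ⟨a, ?_⟩
    rw [← pow_mul]
    apply orderOf_dvd_iff_pow_eq_one.1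
    rw [hmeq, mul_comm k₁]
    exact mul_dvd_mul_left _ ((Nat.modEq_zero_iff_dvd).1 h12)
  · have h1 : (c ^ k₂) ^ m' = 1 := by
      rw [← pow_mul]
      apply orderOf_dvd_iff_pow_eq_one.1
      rw [hmeq]
      exact mul_dvd_mul_right ((Nat.modEq_zero_iff_dvd).1 h21) _
    have hd : orderOf (c ^ k₂) ∣ m' := orderOf_dvd_of_pow_eq_one h1
    exact Nat.Coprime.coprime_dvd_left hd
      ((Nat.Prime.coprime_iff_not_dvd hp.out).2 hm').symm

/-- commuting elements of coprime orders are powers of their product -/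
theorem mem_zpowers_mul_of_coprime {z y : G} (h : Commute z y)
    (hc : (orderOf z).Coprime (orderOf y)) :
    z ∈ Subgroup.zpowers (z * y) ∧ y ∈ Subgroup.zpowers (z * y) := by
  obtain ⟨k₁, h11, h12⟩ := Nat.chineseRemainder hc 1 0
  obtain ⟨k₂, h21, h22⟩ := Nat.chineseRemainder hc 0 1
  constructor
  · refine ⟨k₁, ?_⟩
    show (z * y) ^ (k₁ : ℤ) = z
    rw [zpow_natCast, h.mul_pow, (pow_eq_pow_iff_modEq (x := z) (n := k₁) (m := 1)).2 h11,
      (pow_eq_pow_iff_modEq (x := y) (n := k₁) (m := 0)).2 h12, pow_one, pow_zero, mul_one]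
  · refine ⟨k₂, ?_⟩
    show (z * y) ^ (k₂ : ℤ) = y
    rw [zpow_natCast, h.mul_pow, (pow_eq_pow_iff_modEq (x := z) (n := k₂) (m := 0)).2 h21,
      (pow_eq_pow_iff_modEq (x := y) (n := k₂) (m := 1)).2 h22, pow_one, pow_zero, one_mul]

/-- An element that is both an `r`-element and of order prime to `r` is trivial. -/
theorem eq_one_of_pow_of_coprime {p : ℕ} {g : G} {k : ℕ} (h1 : g ^ p ^ k = 1)
    (h2 : (orderOf g).Coprime p) : g = 1 := by
  have hd : orderOf g ∣ p ^ k := orderOf_dvd_of_pow_eq_one h1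
  have hc : (orderOf g).Coprime (p ^ k) := h2.pow_right k
  have : orderOf g = 1 := Nat.eq_one_of_dvd_coprimes hc dvd_rfl hd
  exact orderOf_eq_one_iff.1 this

end Cfsg.Agent.Helper16.TwoIdx
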