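import Mathlib
import Cfsg.Agent.Lib.Helper16.TwoIdxA

/-!
# Normal subgroups with two class sizes: conjugation actions and counting (helper16)
-/

set_option autoImplicit false
set_option linter.unusedSectionVars false
set_option linter.style.haveILetI false

namespace Cfsg.Agent.Helper16.TwoIdx

variable {G : Type*} [Group G]

set_option warn.classDefReducibility false in
/-- The conjugation action of a subgroup on an invariant subset. -/
def conjSubAction (H : Subgroup G) (Ω : Set G)
    (hinv : ∀ k ∈ H, ∀ ω ∈ Ω, k * ω * k⁻¹ ∈ Ω) : MulAction H Ω where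
  smul k ω := ⟨(k : G) * ω * (k : G)⁻¹, hinv k k.2 ω ω.2⟩
  one_smul ω := by
    apply Subtype.ext
    show ((1 : H) : G) * ω * ((1 : H) : G)⁻¹ = ω
    simp
  mul_smul a b ω := by
    apply Subtype.ext
    show ((a * b : H) : G) * ω * ((a * b : H) : G)⁻¹ = (a : G) * ((b : G) * ω * (b : G)⁻¹) * (a : G)⁻¹
    simp [mul_assoc]

theorem conjSubAction_smul_coe (H : Subgroup G) (Ω : Set G)
    (hinv : ∀ k ∈ H, ∀ ω ∈ Ω, k * ω * k⁻¹ ∈ Ω) (k : H) (ω : Ω) :
    ((letI := conjSubAction H Ω hinv; k • ω : Ω) : G) = (k : G) * ω * (k : G)⁻¹ := rfl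

/-- A `q`-subgroup acting by conjugation on an invariant set of size prime to `q` has a fixed
point. -/
theorem exists_fixed_of_isPGroup_conj [Finite G] {q : ℕ} [Fact q.Prime] (Q : Subgroup G)
    (hQ : IsPGroup q Q) (Ω : Set G) (hinv : ∀ k ∈ Q, ∀ ω ∈ Ω, k * ω * k⁻¹ ∈ Ω)
    (hq : ¬ q ∣ Nat.card Ω) : ∃ ω ∈ Ω, ∀ k ∈ Q, k * ω * k⁻¹ = ω := by
  letI := conjSubAction Q Ω hinv
  obtain ⟨ω, hω⟩ := hQ.nonempty_fixed_point_of_prime_not_dvd_card Ω hq
  refine ⟨ω, ω.2, fun k hk => ?_⟩
  have := hω ⟨k, hk⟩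
  exact congrArg Subtype.val this

/-- The fixed point congruence for a `p`-subgroup acting by conjugation. -/
theorem card_modEq_card_fixed_conj [Finite G] {p : ℕ} [Fact p.Prime] (Q : Subgroup G)
    (hQ : IsPGroup p Q) (Ω : Set G) (hinv : ∀ k ∈ Q, ∀ ω ∈ Ω, k * ω * k⁻¹ ∈ Ω) :
    Nat.card Ω ≡ Nat.card {ω : G // ω ∈ Ω ∧ ∀ k ∈ Q, k * ω * k⁻¹ = ω} [MOD p] := by
  letI := conjSubAction Q Ω hinv
  have h := hQ.card_modEq_card_fixedPoints Ω
  have e : Nat.card (MulAction.fixedPoints Q Ω) =
      Nat.card {ω : G // ω ∈ Ω ∧ ∀ k ∈ Q, k * ω * k⁻¹ = ω} := by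
    apply Nat.card_congr
    refine ⟨fun w => ⟨w.1.1, w.1.2, fun k hk => congrArg Subtype.val (w.2 ⟨k, hk⟩)⟩,
      fun w => ⟨⟨w.1, w.2.1⟩, fun k => Subtype.ext (w.2.2 k k.2)⟩, ?_, ?_⟩
    · intro w; rfl
    · intro w; rfl
  rw [← e]
  exact h

/-- If `H` acts by conjugation on an invariant set `Ω` with all stabilizers equal to `D`,
then `|H|` divides `|D| * |Ω|`. -/
theorem card_dvd_of_free_conj [Finite G] (H D : Subgroup G) (hDH : D ≤ H) (Ω : Set G)
    (hinv : ∀ k ∈ H, ∀ ω ∈ Ω, k * ω * k⁻¹ ∈ Ω)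
    (hstab : ∀ k ∈ H, ∀ ω ∈ Ω, (k * ω * k⁻¹ = ω ↔ k ∈ D)) :
    Nat.card H ∣ Nat.card D * Nat.card Ω := by
  classical
  letI := conjSubAction H Ω hinv
  haveI : Fintype Ω := Fintype.ofFinite _
  have key := dvd_sum_of_orbit (Γ := H) (X := Ω) (fun _ => (Nat.card D : ℤ)) (fun _ _ => rfl)
    (Nat.card H : ℤ) (by
      intro ω
      have e := MulAction.orbitProdStabilizerEquivGroup H ω
      have h1 : Nat.card (MulAction.orbit H ω) * Nat.card (MulAction.stabilizer H ω) =
          Nat.card H := by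
        rw [← Nat.card_prod]; exact Nat.card_congr e
      have h2 : Nat.card (MulAction.stabilizer H ω) = Nat.card D := by
        apply Nat.card_congr
        refine ⟨fun k => ⟨k.1.1, (hstab k.1.1 k.1.2 ω.1 ω.2).1 (congrArg Subtype.val k.2)⟩,
          fun d => ⟨⟨d.1, hDH d.2⟩, Subtype.ext ((hstab d.1 (hDH d.2) ω.1 ω.2).2 d.2)⟩, ?_, ?_⟩
        · intro k; rfl
        · intro d; rfl
      rw [h2] at h1
      rw [← h1]
      push_cast
      exact dvd_rfl)
  rw [Finset.sum_const, Finset.card_univ, nsmul_eq_mul] at key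
  have : ((Nat.card H : ℕ) : ℤ) ∣ ((Nat.card D * Nat.card Ω : ℕ) : ℤ) := by
    rw [Nat.card_eq_fintype_card (α := Ω)]
    push_cast
    rw [mul_comm]
    exact key
  exact Int.natCast_dvd_natCast.1 this

/-- A finite group is not the union of the conjugates of a proper subgroup. -/
theorem eq_top_of_conj_cover {N : Type*} [Group N] [Finite N] (H : Subgroup N)
    (hcov : ∀ x : N, ∃ n : N, n * x * n⁻¹ ∈ H) : H = ⊤ := by
  classical
  haveI : Fintype N := Fintype.ofFinite _
  haveI : Fintype (N ⧸ H) := Fintype.ofFinite _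
  haveI : Fintype H := Fintype.ofFinite _
  -- the cover
  let S : N ⧸ H → Finset N := fun q =>
    (Finset.univ.filter (fun x : N => x ≠ 1 ∧ (Quotient.out q)⁻¹ * x * (Quotient.out q) ∈ H))
  have hS : ∀ q, (S q).card ≤ Fintype.card H - 1 := by
    intro q
    have hinj : (S q).card ≤ (Finset.univ.filter (fun h : H => h ≠ 1)).card := by
      apply Finset.card_le_card_of_injOn
        (fun x => if hx : (Quotient.out q)⁻¹ * x * (Quotient.out q) ∈ H then
          (⟨(Quotient.out q)⁻¹ * x * (Quotient.out q), hx⟩ : H) else 1)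
      · intro x hx
        have hx' := (Finset.mem_filter.1 hx).2
        simp only [Finset.coe_filter, Finset.mem_univ, true_and, Set.mem_ofPred_eq]
        rw [dif_pos hx'.2]
        intro h1
        have := congrArg Subtype.val h1
        simp only [Subgroup.coe_one] at this
        apply hx'.1
        have : x = Quotient.out q * ((Quotient.out q)⁻¹ * x * Quotient.out q) *
            (Quotient.out q)⁻¹ := by group
        rw [this, ‹(Quotient.out q)⁻¹ * x * Quotient.out q = 1›]
        group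
      · intro x hx y hy hxy
        have hx' := (Finset.mem_filter.1 (Finset.mem_coe.1 hx)).2
        have hy' := (Finset.mem_filter.1 (Finset.mem_coe.1 hy)).2
        simp only at hxy
        rw [dif_pos hx'.2, dif_pos hy'.2] at hxy
        have := congrArg Subtype.val hxy
        simp only at this
        have h2 := mul_right_cancel this
        exact mul_left_cancel h2
    have : (Finset.univ.filter (fun h : H => h ≠ 1)).card = Fintype.card H - 1 := by
      rw [Finset.filter_ne' Finset.univ (1 : H), Finset.card_erase_of_mem (Finset.mem_univ _),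
        Finset.card_univ]
    rwa [this] at hinj
  have hcover : (Finset.univ : Finset N) ⊆ insert 1 (Finset.univ.biUnion S) := by
    intro x _
    by_cases hx : x = 1
    · rw [hx]; exact Finset.mem_insert_self _ _
    · apply Finset.mem_insert_of_mem
      obtain ⟨n, hn⟩ := hcov x
      rw [Finset.mem_biUnion]
      refine ⟨QuotientGroup.mk n⁻¹, Finset.mem_univ _, ?_⟩
      rw [Finset.mem_filter]
      refine ⟨Finset.mem_univ _, hx, ?_⟩
      have hq : (n⁻¹)⁻¹ * Quotient.out (QuotientGroup.mk n⁻¹ : N ⧸ H) ∈ H := by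
        have := QuotientGroup.out_eq' (QuotientGroup.mk n⁻¹ : N ⧸ H)
        rw [QuotientGroup.eq] at this
        have h2 := H.inv_mem this
        simpa using h2
      set o := Quotient.out (QuotientGroup.mk n⁻¹ : N ⧸ H) with ho
      -- o = n⁻¹ * h
      have : o⁻¹ * x * o = ((n⁻¹)⁻¹ * o)⁻¹ * (n * x * n⁻¹) * ((n⁻¹)⁻¹ * o) := by group
      rw [this]
      exact H.mul_mem (H.mul_mem (H.inv_mem hq) hn) hq
  have hcard : Fintype.card N ≤ 1 + Fintype.card (N ⧸ H) * (Fintype.card H - 1) := by
    calc Fintype.card N = (Finset.univ : Finset N).card := Finset.card_univ.symm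
      _ ≤ (insert 1 (Finset.univ.biUnion S)).card := Finset.card_le_card hcover
      _ ≤ (Finset.univ.biUnion S).card + 1 := Finset.card_insert_le _ _
      _ ≤ (∑ q : N ⧸ H, (S q).card) + 1 := by
          gcongr; exact Finset.card_biUnion_le
      _ ≤ (∑ _q : N ⧸ H, (Fintype.card H - 1)) + 1 := by
          gcongr with q _; exact hS q
      _ = 1 + Fintype.card (N ⧸ H) * (Fintype.card H - 1) := by
          rw [Finset.sum_const, Finset.card_univ, smul_eq_mul]; ring
  have hlag : Fintype.card N = Fintype.card (N ⧸ H) * Fintype.card H := by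
    have := Subgroup.card_eq_card_quotient_mul_card_subgroup H
    simpa [Nat.card_eq_fintype_card] using this
  have hHpos : 0 < Fintype.card H := Fintype.card_pos
  have hidx : Fintype.card (N ⧸ H) ≤ 1 := by
    have h1 : Fintype.card (N ⧸ H) * Fintype.card H =
        Fintype.card (N ⧸ H) * (Fintype.card H - 1) + Fintype.card (N ⧸ H) := by
      obtain ⟨c, hc⟩ : ∃ c, Fintype.card H = c + 1 := ⟨Fintype.card H - 1, by omega⟩
      rw [hc]; simp; ring
    rw [hlag, h1] at hcard
    omega
  have : H.index = 1 := by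
    have hpos : 0 < Fintype.card (N ⧸ H) := Fintype.card_pos
    rw [Subgroup.index, Nat.card_eq_fintype_card]
    omega
  exact Subgroup.index_eq_one.1 this

/-- Product inequality for two subgroups inside a third. -/
theorem card_mul_card_le_of_le [Finite G] (A B R : Subgroup G) (hA : A ≤ R) (hB : B ≤ R) :
    Nat.card A * Nat.card B ≤ Nat.card (A ⊓ B : Subgroup G) * Nat.card R := by
  have h1 : Nat.card (A ⊓ B : Subgroup G) * A.relIndex B = Nat.card B := by
    have := Subgroup.relIndex_inf_mul_relIndex (⊥ : Subgroup G) A B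
    rwa [Subgroup.relIndex_bot_left, bot_inf_eq, Subgroup.relIndex_bot_left] at this
  have h2 : A.relIndex B ≤ A.relIndex R :=
    Subgroup.relIndex_le_of_le_right hB (by
      show (A.subgroupOf R).index ≠ 0
      exact Subgroup.index_ne_zero_of_finite)
  have h3 : Nat.card A * A.relIndex R = Nat.card R := by
    have := Subgroup.relIndex_mul_relIndex (⊥ : Subgroup G) A R bot_le hA
    rwa [Subgroup.relIndex_bot_left, Subgroup.relIndex_bot_left] at this
  calc Nat.card A * Nat.card B = Nat.card A * (Nat.card (A ⊓ B : Subgroup G) * A.relIndex B) := by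
        rw [h1]
    _ ≤ Nat.card A * (Nat.card (A ⊓ B : Subgroup G) * A.relIndex R) := by gcongr
    _ = Nat.card (A ⊓ B : Subgroup G) * (Nat.card A * A.relIndex R) := by ring
    _ = Nat.card (A ⊓ B : Subgroup G) * Nat.card R := by rw [h3]

/-- If `R ⊆ B * A` (as sets) then `|R| * |A ⊓ B| ≤ |A| * |B|`. -/
theorem card_mul_inf_le_of_cover [Finite G] (A B R : Subgroup G)
    (h : ∀ g ∈ R, ∃ a ∈ A, g * a ∈ B) :
    Nat.card R * Nat.card (A ⊓ B : Subgroup G) ≤ Nat.card A * Nat.card B := by
  classical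
  -- the map `A × B → G`, `(a, b) ↦ b * a⁻¹` covers `R` with fibres of size `|A ⊓ B|`
  let f : (R × (A ⊓ B : Subgroup G)) → (A × B) := fun p =>
    let a := Classical.choose (h p.1.1 p.1.2)
    let ha := (Classical.choose_spec (h p.1.1 p.1.2))
    (⟨a * p.2.1, A.mul_mem ha.1 (p.2.2.1)⟩, ⟨p.1.1 * a * p.2.1, B.mul_mem ha.2 (p.2.2.2)⟩)
  have hf : Function.Injective f := by
    rintro ⟨g, c⟩ ⟨g', c'⟩ hgg
    simp only [f, Prod.mk.injEq, Subtype.mk.injEq] at hgg
    obtain ⟨h1, h2⟩ := hgg
    have hg : (g : G) = g' := by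
      have e1 : (g : G) * Classical.choose (h g.1 g.2) * c.1 =
          g * (Classical.choose (h g.1 g.2) * c.1) := by group
      have e2 : (g' : G) * Classical.choose (h g'.1 g'.2) * c'.1 =
          g' * (Classical.choose (h g'.1 g'.2) * c'.1) := by group
      rw [e1, e2, h1] at h2
      exact mul_right_cancel h2
    have hg' : g = g' := Subtype.ext hg
    subst hg'
    have hc : (c : G) = c' := mul_left_cancel h1
    have : c = c' := Subtype.ext hc
    rw [this]
  have := Nat.card_le_card_of_injective f hf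
  rwa [Nat.card_prod, Nat.card_prod] at this

end Cfsg.Agent.Helper16.TwoIdx
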