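import Mathlib
import Cfsg.Agent.Lib.Helper16.Conj

set_option autoImplicit false

namespace Cfsg.Agent.Helper16

open scoped commutatorElement

/-- If `B` normalizes `A` then `A ⊔ B` is the product set `A B`. -/
theorem mem_sup_iff_of_le_normalizer {G : Type*} [Group G] {A B : Subgroup G}
    (h : B ≤ Subgroup.normalizer (A : Set G)) {x : G} :
    x ∈ A ⊔ B ↔ ∃ a ∈ A, ∃ b ∈ B, a * b = x := by
  constructor
  · intro hx
    rw [Subgroup.sup_eq_closure] at hx
    induction hx using Subgroup.closure_induction with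
    | mem x hx =>
      rcases hx with hx | hx
      · exact ⟨x, hx, 1, B.one_mem, mul_one x⟩
      · exact ⟨1, A.one_mem, x, hx, one_mul x⟩
    | one => exact ⟨1, A.one_mem, 1, B.one_mem, mul_one 1⟩
    | mul x y _ _ ihx ihy =>
      obtain ⟨a₁, ha₁, b₁, hb₁, rfl⟩ := ihx
      obtain ⟨a₂, ha₂, b₂, hb₂, rfl⟩ := ihy
      have hb := h hb₁
      rw [Subgroup.mem_normalizer_iff] at hb
      refine ⟨a₁ * (b₁ * a₂ * b₁⁻¹), A.mul_mem ha₁ ((hb a₂).1 ha₂), b₁ * b₂, B.mul_mem hb₁ hb₂, ?_⟩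
      group
    | inv x _ ih =>
      obtain ⟨a, ha, b, hb, rfl⟩ := ih
      have hb' := h (B.inv_mem hb)
      rw [Subgroup.mem_normalizer_iff] at hb'
      refine ⟨b⁻¹ * a⁻¹ * b⁻¹⁻¹, (hb' a⁻¹).1 (A.inv_mem ha), b⁻¹, B.inv_mem hb, ?_⟩
      group
  · rintro ⟨a, ha, b, hb, rfl⟩
    exact Subgroup.mul_mem _ (Subgroup.mem_sup_left ha) (Subgroup.mem_sup_right hb)

/-- `[V, X]` is normalized by `V` (finite group). -/
theorem le_normalizer_commutator_left {G : Type*} [Group G] [Finite G] (V X : Subgroup G) :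
    V ≤ Subgroup.normalizer ((⁅V, X⁆ : Subgroup G) : Set G) := by
  intro u hu
  rw [mem_normalizer_iff_map_conj_eq]
  apply map_conj_eq_of_le
  rw [Subgroup.map_le_iff_le_comap, Subgroup.commutator_le]
  intro v hv x hx
  rw [Subgroup.mem_comap]
  have h1 : (MulAut.conj u).toMonoidHom ⁅v, x⁆ = ⁅u * v, x⁆ * ⁅u, x⁆⁻¹ := by
    simp only [MulEquiv.coe_toMonoidHom, MulAut.conj_apply, commutatorElement_def]
    group
  rw [h1]
  exact Subgroup.mul_mem _ (Subgroup.commutator_mem_commutator (V.mul_mem hu hv) hx)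
    (Subgroup.inv_mem _ (Subgroup.commutator_mem_commutator hu hx))

/-- An element commuting with `X` and `Y` commutes with `X ⊔ Y`. -/
theorem commute_sup {G : Type*} [Group G] {X Y : Subgroup G} {w : G}
    (hX : ∀ x ∈ X, x * w = w * x) (hY : ∀ y ∈ Y, y * w = w * y) :
    ∀ l ∈ X ⊔ Y, l * w = w * l := by
  have h1 : X ≤ Subgroup.centralizer ({w} : Set G) := by
    intro x hx
    rw [Subgroup.mem_centralizer_iff]
    intro h hh
    rw [Set.mem_singleton_iff] at hh
    rw [hh]; exact (hX x hx).symm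
  have h2 : Y ≤ Subgroup.centralizer ({w} : Set G) := by
    intro y hy
    rw [Subgroup.mem_centralizer_iff]
    intro h hh
    rw [Set.mem_singleton_iff] at hh
    rw [hh]; exact (hY y hy).symm
  intro l hl
  have := (sup_le h1 h2) hl
  rw [Subgroup.mem_centralizer_iff] at this
  exact (this w rfl).symm

end Cfsg.Agent.Helper16
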