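import Mathlib

/-!
# S3702 (helper16): the GROUP → CHAR interface.  See plans/S3702_proof.md, plans/S3702_CharSkel.lean.txt.

`H = J : S4 ≤ G` of order 648, `J = ⟨t1, t2, t3⟩ ≅ 3³`.  Elements of `G` (all in `H`):
* `r` of order 4:  `r t1 r⁻¹ = t1`, `r t2 r⁻¹ = t3`, `r t3 r⁻¹ = t2⁻¹`   (`C_H(t1) = J⟨r⟩`, order 108);
* `s` of order 2:  `s t1 s⁻¹ = t2`, `s t2 s⁻¹ = t1`, `s t3 s⁻¹ = t3⁻¹`   (`C_H(t1 t2) = J⟨s⟩`, order 54);
* `c` of order 3:  `c t1 c⁻¹ = t2`, `c t2 c⁻¹ = t3`, `c t3 c⁻¹ = t1`     (`C_H(t1 t2 t3) = J⟨c⟩`, order 81).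
The nine classes of `A = {x ∈ H : ⟨x⟩ ∩ J ≠ 1}` have representatives
`z = ![t1, t1 t2, t1 t2 t3, t1 r², t1 t2 s, t1 r, t1⁻¹ r, t1 c, t1⁻¹ c]` with `|C_G(z a)| = 108, 54, 81, 12, 6, 12, 12, 9, 9`.
The structure `Cfg` is what the group-theoretic part of the proof delivers and ALL that the character-theoretic part uses.
-/

set_option autoImplicit false

namespace Cfsg.Agent.Helper16.TC648

universe u

/-- the relations used by the character-theoretic part -/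
structure Rel {G : Type u} [Group G] (t1 t2 t3 r s c : G) : Prop where
  o1 : t1 ^ 3 = 1
  o2 : t2 ^ 3 = 1
  o3 : t3 ^ 3 = 1
  c12 : t1 * t2 = t2 * t1
  c13 : t1 * t3 = t3 * t1
  c23 : t2 * t3 = t3 * t2
  r4 : r ^ 4 = 1
  r1 : r * t1 * r⁻¹ = t1
  r2 : r * t2 * r⁻¹ = t3
  r3 : r * t3 * r⁻¹ = t2⁻¹
  s2 : s ^ 2 = 1
  s1 : s * t1 * s⁻¹ = t2
  s12 : s * t2 * s⁻¹ = t1
  s3 : s * t3 * s⁻¹ = t3⁻¹
  c3 : c ^ 3 = 1
  c1 : c * t1 * c⁻¹ = t2
  c2 : c * t2 * c⁻¹ = t3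
  c31 : c * t3 * c⁻¹ = t1

/-- orders of the centralizers of the nine class representatives -/
def cz : Fin 9 → ℕ := ![108, 54, 81, 12, 6, 12, 12, 9, 9]

/-- index (in `z`) of the class of `t1^i t2^j t3^k ≠ 1`: `0, 1, 2` for weight `1, 2, 3` -/
def clsJ (i j k : Fin 3) : Fin 9 :=
  if (if i = 0 then 0 else 1) + (if j = 0 then 0 else 1) + (if k = 0 then 0 else 1) = 1 then 0
  else if (if i = 0 then 0 else 1) + (if j = 0 then 0 else 1) + (if k = 0 then 0 else 1) = 2 then 1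
  else 2

/-- index of the class of `t1^i t2^j t3^k r^l` (`i ≠ 0`) -/
def clsF (i j k : Fin 3) (l : Fin 4) : Fin 9 :=
  if l = 0 then clsJ i j k
  else if l = 2 then 3
  else if (l = 1 ∧ i = 1) ∨ (l = 3 ∧ i = 2) then 5
  else 6

/-- index of the class of `t1^i t2^j t3^k s^l` (`i + j ≠ 0`) -/
def clsE (i j k : Fin 3) (l : Fin 2) : Fin 9 :=
  if l = 0 then clsJ i j k else 4

/-- index of the class of `t1^i t2^j t3^k c^l` (`i + j + k ≠ 0`) -/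
def clsV (i j k : Fin 3) (l : Fin 3) : Fin 9 :=
  if l = 0 then clsJ i j k
  else if i + j + k = l then 7
  else 8

/-- What the group-theoretic part delivers (everything in terms of `G` only). -/
structure Cfg (G : Type u) [Group G] where
  t1 : G
  t2 : G
  t3 : G
  r : G
  s : G
  c : G
  m : ℕ
  rel : Rel t1 t2 t3 r s c
  /-- `|G| = 648 m` -/
  card : Nat.card G = 648 * m
  /-- `[G : H] ≡ 1 mod 27` -/
  hm : m % 27 = 1

namespace Cfg

variable {G : Type u} [Group G] (C : Cfg G)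

/-- the nine class representatives `f, e, v, f r², e s, f r, f⁻¹ r, f c, f⁻¹ c` -/
def z : Fin 9 → G :=
  ![C.t1, C.t1 * C.t2, C.t1 * C.t2 * C.t3, C.t1 * C.r ^ 2, C.t1 * C.t2 * C.s, C.t1 * C.r,
    C.t1⁻¹ * C.r, C.t1 * C.c, C.t1⁻¹ * C.c]

/-- the word `t1^i t2^j t3^k` -/
def wJ (i j k : Fin 3) : G := C.t1 ^ (i : ℕ) * C.t2 ^ (j : ℕ) * C.t3 ^ (k : ℕ)

end Cfg

/-- The facts about classes, centralizers and class constants (all about `G`-conjugacy). -/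
structure Facts {G : Type u} [Group G] (C : Cfg G) : Prop where
  /-- the nine representatives are pairwise non-conjugate in `G` -/
  nconj : ∀ a b : Fin 9, IsConj (C.z a) (C.z b) → a = b
  /-- orders of their centralizers in `G` -/
  cent : ∀ a : Fin 9, Nat.card (Subgroup.centralizer ({C.z a} : Set G)) = cz a
  /-- classes of the elements of `J#` -/
  conjJ : ∀ i j k : Fin 3, ¬ (i = 0 ∧ j = 0 ∧ k = 0) → IsConj (C.wJ i j k) (C.z (clsJ i j k))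
  /-- classes of the elements `j r^l` of `C_H(t1)` outside the kernel of `λ̃` -/
  conjF : ∀ (i j k : Fin 3) (l : Fin 4), i ≠ 0 →
    IsConj (C.wJ i j k * C.r ^ (l : ℕ)) (C.z (clsF i j k l))
  /-- classes of the elements `j s^l` of `C_H(t1 t2)` outside the kernel of `μ̃` -/
  conjE : ∀ (i j k : Fin 3) (l : Fin 2), i + j ≠ 0 →
    IsConj (C.wJ i j k * C.s ^ (l : ℕ)) (C.z (clsE i j k l))
  /-- classes of the elements `j c^l` of `C_H(t1 t2 t3)` outside the kernel of `ν̃` -/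
  conjV : ∀ (i j k : Fin 3) (l : Fin 3), i + j + k ≠ 0 →
    IsConj (C.wJ i j k * C.c ^ (l : ℕ)) (C.z (clsV i j k l))
  /-- the seven mixed class constants (`# = n(a,b;c) |C(z a)| |C(z b)|`) -/
  cnt_ffe : Nat.card {p : G × G // (p.1 * C.z 0 * p.1⁻¹) * (p.2 * C.z 1 * p.2⁻¹) = C.z 0} = 23328
  cnt_fee : Nat.card {p : G × G // (p.1 * C.z 0 * p.1⁻¹) * (p.2 * C.z 1 * p.2⁻¹) = C.z 1} = 11664
  cnt_fev : Nat.card {p : G × G // (p.1 * C.z 0 * p.1⁻¹) * (p.2 * C.z 1 * p.2⁻¹) = C.z 2} = 17496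
  cnt_fvf : Nat.card {p : G × G // (p.1 * C.z 0 * p.1⁻¹) * (p.2 * C.z 2 * p.2⁻¹) = C.z 0} = 0
  cnt_fvv : Nat.card {p : G × G // (p.1 * C.z 0 * p.1⁻¹) * (p.2 * C.z 2 * p.2⁻¹) = C.z 2} = 26244
  cnt_eve : Nat.card {p : G × G // (p.1 * C.z 1 * p.1⁻¹) * (p.2 * C.z 2 * p.2⁻¹) = C.z 1} = 17496
  cnt_evv : Nat.card {p : G × G // (p.1 * C.z 1 * p.1⁻¹) * (p.2 * C.z 2 * p.2⁻¹) = C.z 2} = 13122

end Cfsg.Agent.Helper16.TC648
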