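import Mathlib
import Cfsg.Agent.Lib.Helper1.NMDefs
import Cfsg.Agent.Lib.Helper21.ClassSize
import Cfsg.Agent.Lib.Helper19.MaxCentA
import Cfsg.Agent.Lib.Helper20.SylowCentralizer
import Cfsg.Agent.Lib.Helper16.TwoIdxB

set_option linter.unusedSectionVars false

namespace Cfsg.Agent.Helper1.NM

open Subgroup

variable {G : Type*} [Group G] [Finite G] {n m : ℕ}

/-- BAS2. a `p`-element is conjugate into `C(y)` when `p ∤ i(y)`. -/
theorem exists_conj_commute {p : ℕ} (hp : p.Prime) {x y : G} (hx : IsPrimary p x)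
    (hy : ¬ p ∣ ix y) : ∃ g : G, (g * x * g⁻¹) * y = y * (g * x * g⁻¹) := by
  have : Fact p.Prime := ⟨hp⟩
  obtain ⟨k, hk⟩ := hx
  have hP : IsPGroup p (zpowers x) := IsPGroup.of_card (n := k) (by rw [Nat.card_zpowers, hk])
  obtain ⟨g, hg⟩ :=
    Cfsg.Agent.Helper21.ClassSize.exists_conj_mem_of_not_dvd_index (zpowers x) hP (Cz y) hy
  refine ⟨g⁻¹, ?_⟩
  have h1 := hg x (mem_zpowers x)
  rw [inv_inv]
  exact (mem_Cz.1 h1).symm

/-- BAS2. Sylow `r`-subgroup of a subgroup `H`, as a subgroup of `G`, containing a given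
`r`-subgroup. -/
theorem exists_sylow_in {r : ℕ} (hr : r.Prime) (H S : Subgroup G) (hS : IsPGroup r S)
    (hSH : S ≤ H) :
    ∃ R : Subgroup G, S ≤ R ∧ R ≤ H ∧ IsPGroup r R ∧
      Nat.card R = r ^ (Nat.card H).factorization r := by
  have : Fact r.Prime := ⟨hr⟩
  have hS' : IsPGroup r (S.subgroupOf H) := hS.comap_subtype
  obtain ⟨R', hR'⟩ := hS'.exists_le_sylow
  refine ⟨(R' : Subgroup H).map H.subtype, ?_, Subgroup.map_subtype_le _, R'.2.map _, ?_⟩
  · intro x hx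
    exact ⟨⟨x, hSH hx⟩, hR' (Subgroup.mem_subgroupOf.2 hx), rfl⟩
  · rw [Subgroup.card_map_of_injective (Subgroup.subtype_injective _)]
    exact R'.card_eq_multiplicity

/-- BAS2. an `r`-subgroup `N ≤ H` normalized by `H` lies in every Sylow `r`-subgroup of `H`. -/
theorem le_of_normal_pgroup {r : ℕ} (hr : r.Prime) (H R N : Subgroup G) (hRH : R ≤ H)
    (hR : IsPGroup r R) (hcard : Nat.card R = r ^ (Nat.card H).factorization r)
    (hN : IsPGroup r N) (hNH : N ≤ H) (hnorm : ∀ h ∈ H, ∀ x ∈ N, h * x * h⁻¹ ∈ N) : N ≤ R := by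
  have : Fact r.Prime := ⟨hr⟩
  have hcard' : Nat.card (R.subgroupOf H) = r ^ (Nat.card H).factorization r := by
    rw [← hcard]
    exact Nat.card_congr (Subgroup.subgroupOfEquivOfLe hRH).toEquiv
  have hN' : IsPGroup r (N.subgroupOf H) := hN.comap_subtype
  obtain ⟨P, hP⟩ := hN'.exists_le_sylow
  obtain ⟨g, hg⟩ := MulAction.exists_smul_eq H P (Sylow.ofCard (R.subgroupOf H) hcard')
  intro x hx
  have hxH : x ∈ H := hNH hx
  have h1 : (g : G)⁻¹ * x * ((g : G)⁻¹)⁻¹ ∈ N := hnorm _ (H.inv_mem g.2) x hx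
  rw [inv_inv] at h1
  have h2 : (⟨(g : G)⁻¹ * x * g, H.mul_mem (H.mul_mem (H.inv_mem g.2) hxH) g.2⟩ : H) ∈ P :=
    hP (Subgroup.mem_subgroupOf.2 h1)
  have h3 : g * (⟨(g : G)⁻¹ * x * g, H.mul_mem (H.mul_mem (H.inv_mem g.2) hxH) g.2⟩ : H) * g⁻¹ ∈
      ((g • P : Sylow r H) : Subgroup H) := by
    rw [Sylow.coe_subgroup_smul]
    have e : g * (⟨(g : G)⁻¹ * x * g, H.mul_mem (H.mul_mem (H.inv_mem g.2) hxH) g.2⟩ : H) * g⁻¹ =
        MulAut.conj g • (⟨(g : G)⁻¹ * x * g,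
          H.mul_mem (H.mul_mem (H.inv_mem g.2) hxH) g.2⟩ : H) := by
      rw [MulAut.smul_def, MulAut.conj_apply]
    rw [e, Subgroup.smul_mem_pointwise_smul_iff]
    exact h2
  rw [hg] at h3
  have h4 : g * (⟨(g : G)⁻¹ * x * g, H.mul_mem (H.mul_mem (H.inv_mem g.2) hxH) g.2⟩ : H) * g⁻¹ =
      ⟨x, hxH⟩ := by
    apply Subtype.ext
    simp only [Subgroup.coe_mul, Subgroup.coe_inv]
    group
  rw [h4] at h3
  exact Subgroup.mem_subgroupOf.1 h3

/-- for a prime `s ∤ nm` every Sylow `s`-subgroup is central -/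
theorem Cfg.sylow_le_center (c : Cfg G n m) {s : ℕ} (hs : s.Prime) (hsnm : ¬ s ∣ n * m)
    (S : Sylow s G) : (S : Subgroup G) ≤ center G := by
  have : Fact s.Prime := ⟨hs⟩
  have hix : ∀ x : G, ¬ s ∣ ix x := by
    intro x hd
    rcases c.cases x with h | h | h | h
    · rw [h] at hd; exact hs.one_lt.ne' (Nat.dvd_one.1 hd)
    · rw [h] at hd; exact hsnm (dvd_mul_of_dvd_left hd m)
    · rw [h] at hd; exact hsnm (dvd_mul_of_dvd_right hd n)
    · rw [h] at hd; exact hsnm hd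
  have hcov : ∀ x : G, ∃ g : G, g * x * g⁻¹ ∈ centralizer ((S : Subgroup G) : Set G) := by
    intro x
    obtain ⟨g, hg⟩ := Cfsg.Agent.Helper20.exists_conj_sylow_commute S x (hix x)
    refine ⟨g, ?_⟩
    rw [Subgroup.mem_centralizer_iff]
    intro u hu
    have h1 := hg u hu
    calc u * (g * x * g⁻¹) = g * ((g⁻¹ * u * g) * x) * g⁻¹ := by group
      _ = g * (x * (g⁻¹ * u * g)) * g⁻¹ := by rw [h1]
      _ = g * x * g⁻¹ * u := by group
  have htop := Cfsg.Agent.Helper16.TwoIdx.eq_top_of_conj_cover _ hcov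
  intro u hu
  rw [Subgroup.mem_center_iff]
  intro x
  have hx : x ∈ centralizer ((S : Subgroup G) : Set G) := by rw [htop]; trivial
  exact (Subgroup.mem_centralizer_iff.1 hx u hu).symm

/-- BAS2. elements of order prime to `nm` are central. -/
theorem Cfg.central_of_coprime (c : Cfg G n m) {g : G} (hg : (orderOf g).Coprime (n * m)) :
    g ∈ center G := by
  apply Cfsg.Agent.Helper19.MaxCent.mem_of_primary_parts
  intro s hs a ⟨i, hi⟩
  have : Fact s.Prime := ⟨hs⟩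
  rcases Nat.eq_zero_or_pos i with hi0 | hi0
  · rw [hi0, pow_zero, orderOf_eq_one_iff] at hi
    rw [hi]; exact Subgroup.one_mem _
  · have hsd : s ∣ orderOf g := by
      have h1 : s ∣ orderOf (g ^ a) := by rw [hi]; exact dvd_pow_self s hi0.ne'
      exact h1.trans (orderOf_pow_dvd a)
    have hsnm : ¬ s ∣ n * m := by
      intro hd
      have := Nat.eq_one_of_dvd_coprimes hg hsd hd
      exact hs.one_lt.ne' this
    have hP : IsPGroup s (zpowers (g ^ a)) :=
      IsPGroup.of_card (n := i) (by rw [Nat.card_zpowers, hi])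
    obtain ⟨S, hS⟩ := hP.exists_le_sylow
    exact c.sylow_le_center hs hsnm S (hS (mem_zpowers _))

end Cfsg.Agent.Helper1.NM
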