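import Mathlib
import Cfsg.Agent.Lib.Helper1.NMDefs

set_option linter.unusedSectionVars false

namespace Cfsg.Agent.Helper1.NM

open Subgroup

variable {G : Type*} [Group G] [Finite G] {n m : ℕ}

/-- FIN2. -/
theorem nilpotent_of_compl {p q : ℕ} (hp : p.Prime) (hq : q.Prime)
    (N₁ N₂ : Subgroup G) [N₁.Normal] [N₂.Normal]
    (h1 : ∃ k : ℕ, N₁.index = p ^ k) (h2 : ∃ k : ℕ, N₂.index = q ^ k)
    (hcent : N₁ ⊓ N₂ ≤ center G) : Group.IsNilpotent G := by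
  have : Fact p.Prime := ⟨hp⟩
  have : Fact q.Prime := ⟨hq⟩
  obtain ⟨k1, hk1⟩ := h1
  obtain ⟨k2, hk2⟩ := h2
  have hP1 : IsPGroup p (G ⧸ N₁) := IsPGroup.of_card (n := k1) (by rw [← hk1, Subgroup.index])
  have hP2 : IsPGroup q (G ⧸ N₂) := IsPGroup.of_card (n := k2) (by rw [← hk2, Subgroup.index])
  have hn1 : Group.IsNilpotent (G ⧸ N₁) := hP1.isNilpotent
  have hn2 : Group.IsNilpotent (G ⧸ N₂) := hP2.isNilpotent
  apply Subgroup.isNilpotent_of_ker_le_center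
    ((QuotientGroup.mk' N₁).prod (QuotientGroup.mk' N₂))
  rw [MonoidHom.ker_prod, QuotientGroup.ker_mk', QuotientGroup.ker_mk']
  exact hcent

end Cfsg.Agent.Helper1.NM
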