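import Mathlib
import Cfsg.Agent.Lib.Helper1.NMDefs
import Cfsg.Agent.Lib.Helper1.NMBAS1
import Cfsg.Agent.Lib.Helper16.NMBAS2

set_option linter.unusedSectionVars false

namespace Cfsg.Agent.Helper1.NM

open Subgroup

variable {G : Type*} [Group G] [Finite G] {n m : ℕ}

/-- GOOD1a. -/
theorem Cfg.mem_Cz_of_good (c : Cfg G n m) {q : ℕ} (hq : q.Prime) (hqn : ¬ q ∣ n) {b : G}
    (hb : ix b = m) (hbq : IsPrimary q b) {a : G} (ha : ix a = n) : a ∈ Cz b := by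
  have hy : ¬ q ∣ ix a := by rw [ha]; exact hqn
  obtain ⟨g, hg⟩ := exists_conj_commute hq hbq hy
  have hcop : (ix a).Coprime (ix (g * b * g⁻¹)) := by
    rw [ix_conj, ha, hb]; exact c.cop
  have h := commute_conj hcop hg.symm 1 g⁻¹
  have e1 : (1 : G) * a * (1 : G)⁻¹ = a := by group
  have e2 : g⁻¹ * (g * b * g⁻¹) * g⁻¹⁻¹ = b := by group
  rw [e1, e2] at h
  exact mem_Cz.2 h.symm

end Cfsg.Agent.Helper1.NM
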