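import Mathlib
import Cfsg.Agent.Lib.Helper1.NMDefs
import Cfsg.Agent.Lib.Helper1.NMBAS1
import Cfsg.Agent.Lib.Helper21.ClassSize
import Cfsg.Agent.Lib.Helper20.Basic
import Cfsg.Agent.S4035

set_option linter.unusedSectionVars false

namespace Cfsg.Agent.Helper1.NM

open Subgroup

variable {G : Type*} [Group G] [Finite G] {n m : ℕ}

/-- for `y ∈ C(b)` of order prime to `q`: `|C(b) : C(b) ∩ C(y)| ∈ {1, n}` -/
theorem Cfg.good_relIndex (c : Cfg G n m) {q : ℕ} (hq : q.Prime) {b : G}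
    (hb : ix b = m) (hbq : IsPrimary q b) {y : G} (hy : y ∈ Cz b)
    (hyq : (orderOf y).Coprime q) :
    (Cz y).relIndex (Cz b) = 1 ∨ (Cz y).relIndex (Cz b) = n := by
  obtain ⟨k, hk⟩ := hbq
  have hcomm : b * y = y * b := mem_Cz.1 hy
  have hcop : (orderOf b).Coprime (orderOf y) := by
    rw [hk]; exact Nat.Coprime.pow_left k hyq.symm
  have hCz := Cz_mul_of_coprime hcomm hcop
  have h1 : (Cz y ⊓ Cz b).relIndex (Cz b) * (Cz b).index = (Cz y ⊓ Cz b).index :=
    Subgroup.relIndex_mul_index inf_le_right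
  rw [Subgroup.inf_relIndex_right] at h1
  have h2 : ix (b * y) = (Cz y).relIndex (Cz b) * m := by
    show (Cz (b * y)).index = _
    rw [hCz, inf_comm, ← h1]
    congr 1
  have hm1 := c.one_lt_m
  have hn1 := c.one_lt_n
  rcases c.cases (b * y) with h | h | h | h
  · rw [h2] at h
    have : m = 1 := Nat.eq_one_of_mul_eq_one_left h
    omega
  · exfalso
    have hmn : m ∣ n := by rw [← h, h2]; exact dvd_mul_left _ _
    have := Nat.eq_one_of_dvd_coprimes c.cop hmn (dvd_refl m)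
    omega
  · left
    rw [h2] at h
    have : (Cz y).relIndex (Cz b) * m = 1 * m := by rw [h, one_mul]
    exact Nat.eq_of_mul_eq_mul_right (by omega) this
  · right
    rw [h2] at h
    exact Nat.eq_of_mul_eq_mul_right (by omega) h

omit [Finite G] in
/-- cardinality of an internal product with trivial intersection -/
theorem good_card_prod (Q K Z : Subgroup G) (h1 : ∀ x ∈ Q, ∀ k ∈ K, x * k ∈ Z)
    (h2 : ∀ g ∈ Z, ∃ x ∈ Q, ∃ k ∈ K, g = x * k) (h3 : ∀ x, x ∈ Q → x ∈ K → x = 1) :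
    Nat.card Z = Nat.card Q * Nat.card K := by
  rw [← Nat.card_prod]
  symm
  apply Nat.card_congr
  refine Equiv.ofBijective (fun p : Q × K => (⟨p.1.1 * p.2.1, h1 _ p.1.2 _ p.2.2⟩ : Z)) ⟨?_, ?_⟩
  · rintro ⟨⟨x, hx⟩, ⟨k, hk⟩⟩ ⟨⟨x', hx'⟩, ⟨k', hk'⟩⟩ h
    have h' : x * k = x' * k' := congrArg Subtype.val h
    have e : x'⁻¹ * x = k' * k⁻¹ := by
      calc x'⁻¹ * x = x'⁻¹ * (x * k) * k⁻¹ := by group
        _ = x'⁻¹ * (x' * k') * k⁻¹ := by rw [h']
        _ = k' * k⁻¹ := by group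
    have hone : x'⁻¹ * x = 1 :=
      h3 _ (Q.mul_mem (Q.inv_mem hx') hx) (e ▸ K.mul_mem hk' (K.inv_mem hk))
    have hx_eq : x = x' := by
      calc x = x' * (x'⁻¹ * x) := by group
        _ = x' := by rw [hone, mul_one]
    have hk_eq : k = k' := by
      rw [hone] at e
      calc k = (k' * k⁻¹)⁻¹ * k' := by group
        _ = k' := by rw [← e]; group
    subst hx_eq; subst hk_eq; rfl
  · rintro ⟨g, hg⟩
    obtain ⟨x, hx, k, hk, rfl⟩ := h2 g hg
    exact ⟨(⟨x, hx⟩, ⟨k, hk⟩), rfl⟩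

omit [Finite G] in
/-- the centralizer of an element inside a subgroup -/
theorem good_centralizer_subtype (H : Subgroup G) (y : H) :
    centralizer ({y} : Set H) = (Cz (y : G)).subgroupOf H := by
  ext z
  rw [Subgroup.mem_centralizer_singleton_iff, Subgroup.mem_subgroupOf, mem_Cz]
  constructor
  · intro h
    have := congrArg Subtype.val h
    simpa using this.symm
  · intro h
    apply Subtype.ext
    simpa using h.symm

/-- if `Y = Q K` with `Q ∩ K = 1` and `Q ≤ A`, then `|Y : A ∩ Y| = |K : A ∩ K|` -/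
theorem good_relIndex_eq (A Q K Y : Subgroup G) (hQY : Q ≤ Y) (hKY : K ≤ Y) (hQA : Q ≤ A)
    (hprod : ∀ g ∈ Y, ∃ x ∈ Q, ∃ k ∈ K, g = x * k) (hdisj : ∀ x, x ∈ Q → x ∈ K → x = 1) :
    A.relIndex Y = A.relIndex K := by
  have hY : Nat.card Y = Nat.card Q * Nat.card K :=
    good_card_prod Q K Y (fun x hx k hk => Y.mul_mem (hQY hx) (hKY hk)) hprod hdisj
  have hAY : Nat.card (A ⊓ Y : Subgroup G) = Nat.card Q * Nat.card (A ⊓ K : Subgroup G) := by
    apply good_card_prod Q (A ⊓ K) (A ⊓ Y)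
    · intro x hx k hk
      exact ⟨A.mul_mem (hQA hx) hk.1, Y.mul_mem (hQY hx) (hKY hk.2)⟩
    · intro g hg
      obtain ⟨x, hx, k, hk, rfl⟩ := hprod g hg.2
      refine ⟨x, hx, k, ⟨?_, hk⟩, rfl⟩
      have : k = x⁻¹ * (x * k) := by group
      rw [this]
      exact A.mul_mem (A.inv_mem (hQA hx)) hg.1
    · intro x hx hxk
      exact hdisj x hx hxk.2
  have e1 := Cfsg.Agent.Helper21.ClassSize.relIndex_mul_card_inf A Y
  have e2 := Cfsg.Agent.Helper21.ClassSize.relIndex_mul_card_inf A K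
  have hpos : 0 < Nat.card Q * Nat.card (A ⊓ K : Subgroup G) :=
    Nat.mul_pos Nat.card_pos Nat.card_pos
  apply Nat.eq_of_mul_eq_mul_right hpos
  calc A.relIndex Y * (Nat.card Q * Nat.card (A ⊓ K : Subgroup G))
      = A.relIndex Y * Nat.card (A ⊓ Y : Subgroup G) := by rw [hAY]
    _ = Nat.card Y := e1
    _ = Nat.card Q * Nat.card K := hY
    _ = Nat.card Q * (A.relIndex K * Nat.card (A ⊓ K : Subgroup G)) := by rw [e2]
    _ = A.relIndex K * (Nat.card Q * Nat.card (A ⊓ K : Subgroup G)) := by ring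

/-- GOOD1b. `Y = C(b) = Q × K` (S4035 applied to `↥(Cz b)` and the prime `q`). -/
theorem Cfg.good_split (c : Cfg G n m) {q : ℕ} (hq : q.Prime) (hqn : ¬ q ∣ n) {b : G}
    (hb : ix b = m) (hbq : IsPrimary q b) :
    ∃ Q K : Subgroup G, Q ≤ Cz b ∧ K ≤ Cz b ∧ IsPGroup q Q ∧ ¬ q ∣ Nat.card K ∧
      (∀ x ∈ Q, ∀ y ∈ K, x * y = y * x) ∧ (∀ g ∈ Cz b, ∃ x ∈ Q, ∃ y ∈ K, g = x * y) ∧
      (∀ y : K, (centralizer ({y} : Set K)).index = 1 ∨ (centralizer ({y} : Set K)).index = n) := by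
  have : Fact q.Prime := ⟨hq⟩
  -- hypothesis of S4035 for the group ↥(Cz b)
  have hS : ∀ y : Cz b, (orderOf y).Coprime q →
      ¬ q ∣ (ConjClasses.mk y).carrier.ncard := by
    intro y hy
    rw [Cfsg.Agent.Helper20.ncard_carrier_eq_index, good_centralizer_subtype]
    have hy' : (orderOf (y : G)).Coprime q := by rwa [Subgroup.orderOf_coe]
    show ¬ q ∣ (Cz (y : G)).relIndex (Cz b)
    rcases c.good_relIndex hq hb hbq y.2 hy' with h | h
    · rw [h]; exact fun hd => hq.one_lt.ne' (Nat.dvd_one.1 hd)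
    · rw [h]; exact hqn
  obtain ⟨P'⟩ : Nonempty (Sylow q (Cz b)) := inferInstance
  obtain ⟨hPn, H', hHn, hHq, hinf, hsup⟩ := Cfsg.Agent.S4035.result hS P'
  have hdis : Disjoint (P' : Subgroup (Cz b)) H' := disjoint_iff.2 hinf
  have hQK : ∀ x ∈ (P' : Subgroup (Cz b)).map (Cz b).subtype,
      ∀ y ∈ H'.map (Cz b).subtype, x * y = y * x := by
    rintro _ ⟨x, hx, rfl⟩ _ ⟨y, hy, rfl⟩
    have := Subgroup.commute_of_normal_of_disjoint _ _ hPn hHn hdis x y hx hy
    have := congrArg Subtype.val this.eq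
    simpa using this
  have hprod : ∀ g ∈ Cz b, ∃ x ∈ (P' : Subgroup (Cz b)).map (Cz b).subtype,
      ∃ y ∈ H'.map (Cz b).subtype, g = x * y := by
    intro g hg
    have hmem : (⟨g, hg⟩ : Cz b) ∈ (((P' : Subgroup (Cz b)) ⊔ H' : Subgroup (Cz b)) :
        Set (Cz b)) := by rw [hsup]; trivial
    rw [Subgroup.mul_normal] at hmem
    obtain ⟨x, hx, y, hy, hxy⟩ := Set.mem_mul.1 hmem
    refine ⟨x, ⟨x, hx, rfl⟩, y, ⟨y, hy, rfl⟩, ?_⟩
    have := congrArg Subtype.val hxy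
    simpa using this.symm
  have hdisj : ∀ x, x ∈ (P' : Subgroup (Cz b)).map (Cz b).subtype →
      x ∈ H'.map (Cz b).subtype → x = 1 := by
    rintro _ ⟨x, hx, rfl⟩ ⟨y, hy, hyx⟩
    have hxy : y = x := Subtype.ext hyx
    rw [hxy] at hy
    have : x ∈ (P' : Subgroup (Cz b)) ⊓ H' := ⟨hx, hy⟩
    rw [hinf, Subgroup.mem_bot] at this
    rw [this]; rfl
  refine ⟨(P' : Subgroup (Cz b)).map (Cz b).subtype, H'.map (Cz b).subtype,
    Subgroup.map_subtype_le _, Subgroup.map_subtype_le _, P'.2.map _, ?_, hQK, hprod, ?_⟩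
  · rw [Subgroup.card_map_of_injective (Subgroup.subtype_injective _)]
    exact hHq
  · intro y
    rw [good_centralizer_subtype]
    show (Cz (y : G)).relIndex (H'.map (Cz b).subtype) = 1 ∨
      (Cz (y : G)).relIndex (H'.map (Cz b).subtype) = n
    have hyY : (y : G) ∈ Cz b := Subgroup.map_subtype_le _ y.2
    have hQA : (P' : Subgroup (Cz b)).map (Cz b).subtype ≤ Cz (y : G) := by
      intro x hx
      exact mem_Cz.2 (hQK x hx y y.2).symm
    rw [← good_relIndex_eq (Cz (y : G)) _ _ (Cz b) (Subgroup.map_subtype_le _)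
      (Subgroup.map_subtype_le _) hQA hprod hdisj]
    apply c.good_relIndex hq hb hbq hyY
    -- order of y is prime to q
    have hd : orderOf (y : G) ∣ Nat.card (H'.map (Cz b).subtype) :=
      Subgroup.orderOf_dvd_natCard _ y.2
    rw [Subgroup.card_map_of_injective (Subgroup.subtype_injective _)] at hd
    have hcop : (Nat.card H').Coprime q := ((Nat.Prime.coprime_iff_not_dvd hq).2 hHq).symm
    exact Nat.Coprime.coprime_dvd_left hd hcop

end Cfsg.Agent.Helper1.NM
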