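import Mathlib
import Cfsg.Agent.Lib.Helper1.NMDefs
import Cfsg.Agent.Lib.Helper1.NMBAS1
import Cfsg.Agent.Lib.Helper16.NMGOOD1b
import Cfsg.Agent.S4134

set_option linter.unusedSectionVars false

namespace Cfsg.Agent.Helper1.NM

open Subgroup

variable {G : Type*} [Group G] [Finite G] {n m : ℕ}

/-- GOOD2, step (i): an element of index `n` cannot centralize `K`. -/
theorem Cfg.good_not_central (c : Cfg G n m) {q : ℕ} (hq : q.Prime) (hqn : ¬ q ∣ n) {b : G}
    (hb : ix b = m) (Q K : Subgroup G) (hQb : Q ≤ Cz b) (hKb : K ≤ Cz b) (hQ : IsPGroup q Q)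
    (hK : ¬ q ∣ Nat.card K)
    (hprod : ∀ g ∈ Cz b, ∃ x ∈ Q, ∃ y ∈ K, g = x * y) {a : G} (ha : ix a = n)
    (hcomm : ∀ k ∈ K, a * k = k * a) : False := by
  have : Fact q.Prime := ⟨hq⟩
  obtain ⟨r, hr, hrn⟩ := Nat.exists_prime_and_dvd (show n ≠ 1 from (c.one_lt_n).ne')
  have hrq : r ≠ q := by rintro rfl; exact hqn hrn
  have hrm : ¬ r ∣ m := by
    intro hrm
    have := Nat.eq_one_of_dvd_coprimes c.cop hrn hrm
    exact hr.one_lt.ne' this
  -- Q ∩ K = 1
  have hdisj : ∀ x, x ∈ Q → x ∈ K → x = 1 := by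
    intro x hxQ hxK
    obtain ⟨i, hi⟩ := hQ ⟨x, hxQ⟩
    have hxi : x ^ q ^ i = 1 := by
      have := congrArg Subtype.val hi
      simpa using this
    have h1 : orderOf x ∣ q ^ i := orderOf_dvd_of_pow_eq_one hxi
    have h2 : orderOf x ∣ Nat.card K := Subgroup.orderOf_dvd_natCard K hxK
    have hcop : (q ^ i).Coprime (Nat.card K) :=
      Nat.Coprime.pow_left i ((Nat.Prime.coprime_iff_not_dvd hq).2 hK)
    have := Nat.eq_one_of_dvd_coprimes hcop h1 h2
    exact orderOf_eq_one_iff.1 this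
  have hY : Nat.card (Cz b) = Nat.card Q * Nat.card K :=
    good_card_prod Q K (Cz b) (fun x hx k hk => (Cz b).mul_mem (hQb hx) (hKb hk)) hprod hdisj
  obtain ⟨j, hj⟩ := hQ.exists_card_eq
  -- v_r |G| = v_r |K|
  have hG : Nat.card (Cz b) * (Cz b).index = Nat.card G := Subgroup.card_mul_index (Cz b)
  have hbm : (Cz b).index = m := hb
  have hKpos : Nat.card K ≠ 0 := Nat.card_pos.ne'
  have hm0 : m ≠ 0 := by have := c.one_lt_m; omega
  have hvG : (Nat.card G).factorization r = (Nat.card K).factorization r := by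
    rw [← hG, hbm, hY, hj]
    rw [Nat.factorization_mul (Nat.mul_ne_zero (pow_ne_zero _ hq.ne_zero) hKpos) hm0,
      Nat.factorization_mul (pow_ne_zero _ hq.ne_zero) hKpos]
    simp only [Finsupp.coe_add, Pi.add_apply]
    rw [Nat.factorization_pow, (Nat.factorization_eq_zero_iff m r).2 (Or.inr (Or.inl hrm))]
    simp only [Finsupp.coe_smul, Pi.smul_apply, smul_eq_mul]
    rw [Nat.Prime.factorization hq, Finsupp.single_apply, if_neg (Ne.symm hrq)]
    ring
  have hKle : K ≤ Cz a := fun k hk => mem_Cz.2 (hcomm k hk)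
  have hdvd : Nat.card K ∣ Nat.card (Cz a) := Subgroup.card_dvd_of_le hKle
  have hle : (Nat.card K).factorization r ≤ (Nat.card (Cz a)).factorization r :=
    (Nat.factorization_le_iff_dvd hKpos Nat.card_pos.ne').2 hdvd r
  have hfac := factorization_card_Cz a r
  rw [ha] at hfac
  have hn0 : n ≠ 0 := by have := c.one_lt_n; omega
  have hvn : 1 ≤ n.factorization r :=
    (hr.dvd_iff_one_le_factorization hn0).1 hrn
  omega

/-- GOOD2. (S4134 applied to `↥K`.) -/
theorem Cfg.good_finish (c : Cfg G n m) {q : ℕ} (hq : q.Prime) (hqn : ¬ q ∣ n) {b : G}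
    (hb : ix b = m) (hbq : IsPrimary q b) (hall : ∀ a : G, ix a = n → a ∈ Cz b)
    (Q K : Subgroup G) (hQb : Q ≤ Cz b) (hKb : K ≤ Cz b) (hQ : IsPGroup q Q)
    (hK : ¬ q ∣ Nat.card K) (hQK : ∀ x ∈ Q, ∀ y ∈ K, x * y = y * x)
    (hprod : ∀ g ∈ Cz b, ∃ x ∈ Q, ∃ y ∈ K, g = x * y)
    (hcs : ∀ y : K, (centralizer ({y} : Set K)).index = 1 ∨
      (centralizer ({y} : Set K)).index = n) :
    ∃ (p : ℕ) (a : G), p.Prime ∧ (∃ e : ℕ, n = p ^ e) ∧ ix a = n ∧ IsPrimary p a := by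
  have : Fact q.Prime := ⟨hq⟩
  obtain ⟨a0, ha0⟩ := c.exn
  obtain ⟨s, a, hs, has, -, hCz⟩ := c.exists_primary ha0
  have ha : ix a = n := by
    show (Cz a).index = n
    rw [hCz]; exact ha0
  have hnc := c.good_not_central hq hqn hb Q K hQb hKb hQ hK hprod ha
  obtain ⟨x, hx, y, hy, haxy⟩ := hprod a (hall a ha)
  have hxy : Commute x y := hQK x hx y hy
  -- orders
  obtain ⟨i', hi'⟩ := hQ ⟨x, hx⟩
  have hxi' : x ^ q ^ i' = 1 := by
    have := congrArg Subtype.val hi'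
    simpa using this
  obtain ⟨i, -, hi⟩ := (Nat.dvd_prime_pow hq).1 (orderOf_dvd_of_pow_eq_one hxi')
  have hyK : orderOf y ∣ Nat.card K := Subgroup.orderOf_dvd_natCard K hy
  have hycop : (orderOf y).Coprime q :=
    Nat.Coprime.coprime_dvd_left hyK ((Nat.Prime.coprime_iff_not_dvd hq).2 hK).symm
  have hcop : (orderOf x).Coprime (orderOf y) := by
    rw [hi]; exact Nat.Coprime.pow_left i hycop.symm
  have hord : orderOf a = orderOf x * orderOf y := by
    rw [haxy]; exact hxy.orderOf_mul_eq_mul_orderOf_of_coprime hcop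
  obtain ⟨j, hj⟩ := has
  -- a ∈ K
  have haK : a ∈ K := by
    rcases Nat.eq_zero_or_pos i with hi0 | hi0
    · rw [hi0, pow_zero, orderOf_eq_one_iff] at hi
      rw [haxy, hi, one_mul]; exact hy
    · exfalso
      have hqs : q ∣ s ^ j := by
        rw [← hj, hord, hi]
        exact dvd_mul_of_dvd_left (dvd_pow_self q hi0.ne') _
      have hqs' : q = s := (Nat.prime_dvd_prime_iff_eq hq hs).1 (hq.dvd_of_dvd_pow hqs)
      have hy1 : orderOf y = 1 := by
        have h1 : orderOf y ∣ q ^ j := by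
          rw [hqs', ← hj, hord]; exact dvd_mul_left _ _
        exact Nat.eq_one_of_dvd_coprimes (Nat.Coprime.pow_right j hycop) (dvd_refl _) h1
      rw [orderOf_eq_one_iff] at hy1
      apply hnc
      intro k hk
      rw [haxy, hy1, mul_one]
      exact hQK x hx k hk
  -- the class of a in K has size n
  have hidx : (centralizer ({(⟨a, haK⟩ : K)} : Set K)).index = n := by
    rcases hcs ⟨a, haK⟩ with h | h
    · exfalso
      apply hnc
      intro k hk
      have htop := Subgroup.index_eq_one.1 h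
      have hmem : (⟨k, hk⟩ : K) ∈ centralizer ({(⟨a, haK⟩ : K)} : Set K) := by
        rw [htop]; trivial
      have := Subgroup.mem_centralizer_singleton_iff.1 hmem
      have := congrArg Subtype.val this
      simpa using this.symm
    · exact h
  obtain ⟨p, hpF, e, hne, hP⟩ := Cfsg.Agent.S4134.result n c.one_lt_n hcs ⟨⟨a, haK⟩, hidx⟩
  have hp : p.Prime := hpF.out
  by_cases hsp : s = p
  · exact ⟨p, a, hp, ⟨e, hne⟩, ha, ⟨j, by rw [← hsp]; exact hj⟩⟩
  · exfalso
    obtain ⟨P⟩ : Nonempty (Sylow p K) := inferInstance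
    obtain ⟨-, ⟨N, -, hcompl, hNab, hNP⟩, -⟩ := hP P
    -- decompose a
    obtain ⟨⟨ν, π⟩, hνπ⟩ := hcompl.2 (⟨a, haK⟩ : K)
    simp only at hνπ
    obtain ⟨l, hl⟩ := P.2 π
    have hπl : (π : K) ^ p ^ l = 1 := by
      have := congrArg Subtype.val hl
      simpa using this
    have hcνπ : Commute (ν : K) (π : K) := hNP ν ν.2 π π.2
    have hpow : (⟨a, haK⟩ : K) ^ p ^ l ∈ N := by
      rw [← hνπ, hcνπ.mul_pow, hπl, mul_one]
      exact N.pow_mem ν.2 _
    have hordK : orderOf (⟨a, haK⟩ : K) = s ^ j := by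
      rw [← Subgroup.orderOf_coe]; exact hj
    have hcop2 : (p ^ l).Coprime (orderOf (⟨a, haK⟩ : K)) := by
      rw [hordK]
      exact Nat.Coprime.pow _ _ ((Nat.coprime_primes hp hs).2 (Ne.symm hsp))
    obtain ⟨t, ht⟩ := exists_pow_eq_self_of_coprime hcop2
    have haN : (⟨a, haK⟩ : K) ∈ N := by
      rw [← ht]; exact N.pow_mem hpow t
    apply hnc
    intro k hk
    obtain ⟨⟨ν', π'⟩, hνπ'⟩ := hcompl.2 (⟨k, hk⟩ : K)
    simp only at hνπ'
    have h1 : (⟨a, haK⟩ : K) * ν' = ν' * ⟨a, haK⟩ := by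
      have := isMulCommutative_iff.mp hNab ⟨_, haN⟩ ν'
      exact congrArg Subtype.val this
    have h2 : (⟨a, haK⟩ : K) * π' = π' * ⟨a, haK⟩ := hNP _ haN π' π'.2
    have h3 : (⟨a, haK⟩ : K) * ⟨k, hk⟩ = ⟨k, hk⟩ * ⟨a, haK⟩ := by
      rw [← hνπ']
      calc (⟨a, haK⟩ : K) * ((ν' : K) * π') = ((⟨a, haK⟩ : K) * ν') * π' := by group
        _ = (ν' * ⟨a, haK⟩) * π' := by rw [h1]
        _ = ν' * ((⟨a, haK⟩ : K) * π') := by group
        _ = ν' * (π' * ⟨a, haK⟩) := by rw [h2]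
        _ = (ν' : K) * π' * ⟨a, haK⟩ := by group
    have := congrArg Subtype.val h3
    simpa using this

end Cfsg.Agent.Helper1.NM
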