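import Mathlib
import Cfsg.Agent.Lib.Helper1.NMDefs
import Cfsg.Agent.Lib.Helper1.NMBAS1
import Cfsg.Agent.Lib.Helper21.ClassSize
import Cfsg.Agent.Lib.Helper16.NMBAS2

set_option linter.unusedSectionVars false

namespace Cfsg.Agent.Helper1.NM

open Subgroup

variable {G : Type*} [Group G] [Finite G] {n m : ℕ}

/-- MAB. -/
theorem Cfg.M_comm (c : Cfg G n m)
    (hAB2 : ∀ (q : ℕ) (b : G), q.Prime → ix b = m → IsPrimary q b → q ∣ n)
    (M : Subgroup G) [M.Normal] (hM : ∀ g : G, g ∈ M ↔ (ix g = 1 ∨ ix g = m)) :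
    ∀ x ∈ M, ∀ y ∈ M, x * y = y * x := by
  intro b hb
  -- show M ≤ Cz b
  suffices hle : M ≤ Cz b by
    intro y hy
    exact mem_Cz.1 (hle hy)
  have hdvd : (Cz b).relIndex M ∣ (Cz b).index :=
    Cfsg.Agent.Helper21.ClassSize.relIndex_dvd_index_of_normal_right (Cz b) M
  have hdm : (Cz b).relIndex M ∣ m := by
    rcases (hM b).1 hb with h | h
    · have h' : (Cz b).index = 1 := h
      rw [h'] at hdvd
      exact hdvd.trans (one_dvd m)
    · have h' : (Cz b).index = m := h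
      rwa [h'] at hdvd
  by_contra hnle
  have hne1 : (Cz b).relIndex M ≠ 1 := by
    intro h1
    exact hnle (Subgroup.relIndex_eq_one.1 h1)
  obtain ⟨s, hs, hsd⟩ := Nat.exists_prime_and_dvd hne1
  have hsm : s ∣ m := hsd.trans hdm
  have hsn : ¬ s ∣ n := by
    intro hsn
    have := Nat.eq_one_of_dvd_coprimes c.cop hsn hsm
    exact hs.one_lt.ne' this
  -- a Sylow s-subgroup of M
  obtain ⟨R, -, hRM, hRs, hRcard⟩ := exists_sylow_in hs M ⊥ (IsPGroup.of_bot) bot_le
  have hRD : R ≤ Cz b ⊓ M := by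
    intro y hy
    refine ⟨?_, hRM hy⟩
    have hyM : y ∈ M := hRM hy
    have hys : IsPrimary s y := by
      have h1 : orderOf y ∣ Nat.card R := Subgroup.orderOf_dvd_natCard R hy
      rw [hRcard] at h1
      obtain ⟨i, -, hi⟩ := (Nat.dvd_prime_pow hs).1 h1
      exact ⟨i, hi⟩
    have hyc : y ∈ center G := by
      rcases (hM y).1 hyM with h | h
      · exact ix_eq_one_iff.1 h
      · exact absurd (hAB2 s y hs h hys) hsn
    exact mem_Cz.2 (Subgroup.mem_center_iff.1 hyc b)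
  have h1 : Nat.card R ∣ Nat.card (Cz b ⊓ M : Subgroup G) := Subgroup.card_dvd_of_le hRD
  have h2 : (Cz b).relIndex M * Nat.card (Cz b ⊓ M : Subgroup G) = Nat.card M :=
    Cfsg.Agent.Helper21.ClassSize.relIndex_mul_card_inf (Cz b) M
  have h3 : s ^ ((Nat.card M).factorization s + 1) ∣ Nat.card M := by
    rw [hRcard] at h1
    have h4 : s ^ ((Nat.card M).factorization s + 1) ∣
        (Cz b).relIndex M * Nat.card (Cz b ⊓ M : Subgroup G) := by
      rw [pow_succ, mul_comm]
      exact Nat.mul_dvd_mul hsd h1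
    rwa [h2] at h4
  exact Nat.pow_succ_factorization_not_dvd Nat.card_pos.ne' hs h3

end Cfsg.Agent.Helper1.NM
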