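import Mathlib
import Cfsg.Agent.Lib.Helper1.NMDefs
import Cfsg.Agent.Lib.Helper1.NMBAS1
import Cfsg.Agent.Lib.Helper16.TwoIdxA

set_option linter.unusedSectionVars false

namespace Cfsg.Agent.Helper1.NM

open Subgroup

variable {G : Type*} [Group G] [Finite G] {n m : ℕ}

omit [Finite G] in
theorem msub_Cz_inv (g : G) : Cz g⁻¹ = Cz g := by
  ext k
  rw [mem_Cz, mem_Cz]
  constructor
  · intro h
    calc g * k = g * (k * g⁻¹) * g := by group
      _ = g * (g⁻¹ * k) * g := by rw [h]
      _ = k * g := by group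
  · intro h
    calc g⁻¹ * k = g⁻¹ * (k * g) * g⁻¹ := by group
      _ = g⁻¹ * (g * k) * g⁻¹ := by rw [h]
      _ = k * g⁻¹ := by group

omit [Finite G] in
theorem msub_ix_mul_central_left {z g : G} (hz : z ∈ center G) : ix (z * g) = ix g := by
  have h1 : z * g = g * z := (Subgroup.mem_center_iff.1 hz g).symm
  show (Cz (z * g)).index = (Cz g).index
  rw [h1]
  have := Helper16.TwoIdx.K_mul_central (g := g) hz
  show (Helper16.TwoIdx.K (g * z)).index = (Helper16.TwoIdx.K g).index
  rw [this]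

omit [Finite G] in
theorem msub_ix_mul_central_right {z g : G} (hz : z ∈ center G) : ix (g * z) = ix g := by
  have := Helper16.TwoIdx.K_mul_central (g := g) hz
  show (Helper16.TwoIdx.K (g * z)).index = (Helper16.TwoIdx.K g).index
  rw [this]

/-- MSUB. -/
theorem Cfg.exists_M (c : Cfg G n m) (hlt : m < n) :
    ∃ M : Subgroup G, M.Normal ∧ ∀ g : G, g ∈ M ↔ (ix g = 1 ∨ ix g = m) := by
  have hmul : ∀ a b : G, (ix a = 1 ∨ ix a = m) → (ix b = 1 ∨ ix b = m) →
      (ix (a * b) = 1 ∨ ix (a * b) = m) := by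
    intro a b ha hb
    rcases ha with ha | ha
    · rw [msub_ix_mul_central_left (ix_eq_one_iff.1 ha)]; exact hb
    rcases hb with hb | hb
    · rw [msub_ix_mul_central_right (ix_eq_one_iff.1 hb)]; exact Or.inr ha
    -- both of index m
    have hD : Cz a ⊓ Cz b ≤ Cz (a * b) := Helper16.TwoIdx.K_inf_le_K_mul a b
    have hDle : (Cz a ⊓ Cz b).index ≤ m * m := by
      have := Subgroup.index_inf_le (H := Cz a) (K := Cz b)
      have ha' : (Cz a).index = m := ha
      have hb' : (Cz b).index = m := hb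
      rwa [ha', hb'] at this
    have hD0 : (Cz a ⊓ Cz b).index ≠ 0 := Subgroup.index_ne_zero_of_finite
    have hmD : m ∣ (Cz a ⊓ Cz b).index := by
      have : (Cz a).index ∣ (Cz a ⊓ Cz b).index := Subgroup.index_dvd_of_le inf_le_left
      have ha' : (Cz a).index = m := ha
      rwa [ha'] at this
    have habD : ix (a * b) ∣ (Cz a ⊓ Cz b).index := Subgroup.index_dvd_of_le hD
    have hbad : ¬ n ∣ ix (a * b) := by
      intro hn
      have hnD : n ∣ (Cz a ⊓ Cz b).index := hn.trans habD
      have hnm : n * m ∣ (Cz a ⊓ Cz b).index := c.cop.mul_dvd_of_dvd_of_dvd hnD hmD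
      have h1 : n * m ≤ m * m := (Nat.le_of_dvd (Nat.pos_of_ne_zero hD0) hnm).trans hDle
      have hm0 : 0 < m := by have := c.one_lt_m; omega
      have : n ≤ m := Nat.le_of_mul_le_mul_right h1 hm0
      omega
    rcases c.cases (a * b) with h | h | h | h
    · exact Or.inl h
    · exact absurd (h ▸ dvd_refl _) hbad
    · exact Or.inr h
    · exact absurd (h ▸ dvd_mul_right n m) hbad
  have hone : ix (1 : G) = 1 := ix_eq_one_iff.2 (Subgroup.one_mem _)
  have hinv : ∀ a : G, ix a⁻¹ = ix a := by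
    intro a
    show (Cz a⁻¹).index = (Cz a).index
    rw [msub_Cz_inv]
  refine ⟨{ carrier := {g | ix g = 1 ∨ ix g = m}
            mul_mem' := fun {a b} ha hb => hmul a b ha hb
            one_mem' := Or.inl hone
            inv_mem' := fun {a} ha => by
              show ix a⁻¹ = 1 ∨ ix a⁻¹ = m
              rw [hinv]; exact ha }, ?_, fun g => Iff.rfl⟩
  constructor
  intro g hg a
  show ix (a * g * a⁻¹) = 1 ∨ ix (a * g * a⁻¹) = m
  rw [ix_conj]
  exact hg

end Cfsg.Agent.Helper1.NM
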