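import Mathlib
import Cfsg.Agent.Lib.Helper17.GLkDefs

/-!
# S2478, piece GLK-NOTX (helper16): the primes of an injective endomorphism are not `X`
-/

open Polynomial

namespace Cfsg.Agent.Helper17.GLk

universe u

section pieces
variable {F : Type u} [Field F]
variable {V : Type u} [AddCommGroup V] [Module F V]

theorem glk_notx_pow_injective (a : Module.End F V) (ha : Function.Injective a) (n : ℕ) :
    Function.Injective (a ^ n) := by
  induction n with
  | zero => intro x y h; simpa using h
  | succ k ih =>
    rw [pow_succ]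
    intro x y h
    exact ha (ih h)

theorem glk_notx_smul_eq_zero (a : Module.End F V) (ha : Function.Injective a) (n : ℕ)
    (m : Module.AEval' a) (h : (X ^ n : F[X]) • m = 0) : m = 0 := by
  obtain ⟨v, rfl⟩ := (Module.AEval'.of a).surjective m
  rw [Module.AEval'.X_pow_smul_of] at h
  have h1 : (a ^ n) v = 0 := by
    have := (Module.AEval'.of a).injective (h.trans (map_zero _).symm)
    exact this
  have h2 : v = 0 := glk_notx_pow_injective a ha n (h1.trans (map_zero _).symm)
  rw [h2, map_zero]

/-- PIECE GLK-NOTX -/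
theorem decomp_coeff_zero (a : Module.End F V) (ha : Function.Injective a) {ι : Type u} [Fintype ι]
    {p : ι → F[X]} {e : ι → ℕ} (h : IsDecomp a ι p e) (i : ι) :
    (p i).coeff 0 ≠ 0 := by
  classical
  obtain ⟨hirr, he, ⟨φ⟩⟩ := h
  intro h0
  have hX : (X : F[X]) ∣ p i := Polynomial.X_dvd_iff.2 h0
  have hpX : p i ∣ X := (irreducible_X).dvd_symm (hirr i) hX
  have hpow : p i ^ e i ∣ (X : F[X]) ^ e i := pow_dvd_pow_of_dvd hpX _
  -- the element
  set y : (j : ι) → F[X] ⧸ Ideal.span {p j ^ e j} :=
    Pi.single i (Ideal.Quotient.mk _ (1 : F[X])) with hy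
  have hne : Ideal.Quotient.mk (Ideal.span {p i ^ e i}) (1 : F[X]) ≠ 0 := by
    intro h1
    rw [Ideal.Quotient.eq_zero_iff_mem, Ideal.mem_span_singleton] at h1
    have h2 : IsUnit (p i ^ e i) := isUnit_of_dvd_one h1
    have h3 : IsUnit (p i) := (isUnit_pow_iff (by have := he i; omega)).1 h2
    exact (hirr i).not_isUnit h3
  have hy0 : y ≠ 0 := by
    intro h1
    apply hne
    have := congrFun h1 i
    rw [hy, Pi.single_eq_same] at this
    exact this
  have hkill : (X ^ e i : F[X]) • y = 0 := by
    funext j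
    rw [Pi.smul_apply, Pi.zero_apply]
    by_cases hj : j = i
    · subst hj
      rw [hy, Pi.single_eq_same]
      rw [← Ideal.Quotient.mk_eq_mk, ← Submodule.Quotient.mk_smul]
      rw [Ideal.Quotient.mk_eq_mk, Ideal.Quotient.eq_zero_iff_mem, Ideal.mem_span_singleton,
        smul_eq_mul, mul_one]
      exact hpow
    · rw [hy, Pi.single_eq_of_ne hj, smul_zero]
  have hx : (X ^ e i : F[X]) • φ.symm y = 0 := by
    rw [← map_smul, hkill, map_zero]
  have := glk_notx_smul_eq_zero a ha (e i) (φ.symm y) hx
  apply hy0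
  have h4 := congrArg φ this
  rwa [LinearEquiv.apply_symm_apply, map_zero] at h4

end pieces

end Cfsg.Agent.Helper17.GLk
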