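import Mathlib
import Cfsg.Agent.Lib.Helper17.TSLDefs

/-! # S3366 piece NF (helper16 for helper17): normal form x^a y^b z^c in R -/

set_option autoImplicit false
set_option linter.unusedVariables false

namespace Cfsg.Agent.Helper17.TSL

open Cfsg.Agent.Helper2.Symp
open scoped Cfsg.Agent.Helper2.Symp

/-- aux: if `z` commutes with `x`, `y` and `x * y = z * y * x`, then `x ^ a * y = z ^ a * y * x ^ a`. -/
theorem nf_pow_left {X : Type*} [Group X] (x y z : X) (hzx : z * x = x * z) (hzy : z * y = y * z)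
    (hxy : x * y = z * y * x) (a : ℕ) : x ^ a * y = z ^ a * y * x ^ a := by
  induction a with
  | zero => simp
  | succ n ih =>
    have hzxn : ∀ k : ℕ, z ^ k * x = x * z ^ k := fun k =>
      ((Commute.pow_left (show Commute z x from hzx) k)).eq
    calc x ^ (n + 1) * y = x * (x ^ n * y) := by rw [pow_succ', mul_assoc]
      _ = x * (z ^ n * y * x ^ n) := by rw [ih]
      _ = z ^ n * (x * y) * x ^ n := by
        rw [← mul_assoc, ← mul_assoc, ← hzxn n, mul_assoc (z ^ n) x y]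
      _ = z ^ n * (z * y * x) * x ^ n := by rw [hxy]
      _ = z ^ (n + 1) * y * x ^ (n + 1) := by
        rw [pow_succ, pow_succ' x n]; simp only [mul_assoc]

/-- aux: `x * y ^ b = z ^ b * y ^ b * x`. -/
theorem nf_pow_right {X : Type*} [Group X] (x y z : X) (hzx : z * x = x * z) (hzy : z * y = y * z)
    (hxy : x * y = z * y * x) (b : ℕ) : x * y ^ b = z ^ b * y ^ b * x := by
  induction b with
  | zero => simp
  | succ n ih =>
    have hzyn : ∀ k : ℕ, z ^ k * y = y * z ^ k := fun k =>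
      ((Commute.pow_left (show Commute z y from hzy) k)).eq
    calc x * y ^ (n + 1) = (x * y) * y ^ n := by rw [pow_succ', mul_assoc]
      _ = z * y * (x * y ^ n) := by rw [hxy]; simp only [mul_assoc]
      _ = z * y * (z ^ n * y ^ n * x) := by rw [ih]
      _ = z * (y * z ^ n) * y ^ n * x := by simp only [mul_assoc]
      _ = z * (z ^ n * y) * y ^ n * x := by rw [hzyn n]
      _ = z ^ (n + 1) * y ^ (n + 1) * x := by
        rw [pow_succ' z n, pow_succ' y n]; simp only [mul_assoc]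

/-- aux: injectivity of the exponent in `z ^ a` for `z ≠ 1`, `z ^ 3 = 1`. -/
theorem nf_pow_inj {X : Type*} [Group X] (z : X) (hz1 : z ≠ 1) (hz3 : z ^ 3 = 1) (a a' : Fin 3)
    (h : z ^ (a : ℕ) = z ^ (a' : ℕ)) : a = a' := by
  have : Fact (Nat.Prime 3) := ⟨Nat.prime_three⟩
  have ho : orderOf z = 3 := orderOf_eq_prime hz3 hz1
  rw [pow_eq_pow_iff_modEq, ho] at h
  have ha := a.2
  have ha' := a'.2
  apply Fin.ext
  unfold Nat.ModEq at h
  rw [Nat.mod_eq_of_lt ha, Nat.mod_eq_of_lt ha'] at h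
  exact h

section abstract

variable {X : Type*} [Group X] [Finite X] (S : Setup X)

theorem normal_form (x y : X) (hx : x ∈ S.R) (hy : y ∈ S.R) (hxy : x * y * x⁻¹ * y⁻¹ ≠ 1)
    (r : X) (hr : r ∈ S.R) :
    ∃! abc : Fin 3 × Fin 3 × Fin 3,
      r = x ^ (abc.1 : ℕ) * y ^ (abc.2.1 : ℕ) * (x * y * x⁻¹ * y⁻¹) ^ (abc.2.2 : ℕ) := by
  set z := x * y * x⁻¹ * y⁻¹ with hz
  have hzZ : z ∈ S.Z := S.comm_mem x hx y hy
  have hzR : z ∈ S.R := ((S.mem_Z z).1 hzZ).1
  have hzc : ∀ r ∈ S.R, r * z = z * r := ((S.mem_Z z).1 hzZ).2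
  have hzx : z * x = x * z := (hzc x hx).symm
  have hzy : z * y = y * z := (hzc y hy).symm
  have hz3 : z ^ 3 = 1 := S.exp_R z hzR
  have hxyz : x * y = z * y * x := by rw [hz]; group
  -- the map
  let f : Fin 3 × Fin 3 × Fin 3 → S.R := fun abc =>
    ⟨x ^ (abc.1 : ℕ) * y ^ (abc.2.1 : ℕ) * z ^ (abc.2.2 : ℕ),
      S.R.mul_mem (S.R.mul_mem (S.R.pow_mem hx _) (S.R.pow_mem hy _)) (S.R.pow_mem hzR _)⟩
  have hzpx : ∀ k : ℕ, z ^ k * x = x * z ^ k := fun k =>
    ((Commute.pow_left (show Commute z x from hzx) k)).eq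
  have hzpy : ∀ k : ℕ, z ^ k * y = y * z ^ k := fun k =>
    ((Commute.pow_left (show Commute z y from hzy) k)).eq
  have hzpxp : ∀ k l : ℕ, z ^ k * x ^ l = x ^ l * z ^ k := fun k l =>
    ((Commute.pow_pow (show Commute z x from hzx) k l)).eq
  have hzpyp : ∀ k l : ℕ, z ^ k * y ^ l = y ^ l * z ^ k := fun k l =>
    ((Commute.pow_pow (show Commute z y from hzy) k l)).eq
  -- g * y = z ^ a * (y * g)
  have key1 : ∀ a b c : ℕ, (x ^ a * y ^ b * z ^ c) * y = z ^ a * (y * (x ^ a * y ^ b * z ^ c)) := by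
    intro a b c
    calc (x ^ a * y ^ b * z ^ c) * y = x ^ a * y ^ b * (z ^ c * y) := by simp only [mul_assoc]
      _ = x ^ a * y ^ b * (y * z ^ c) := by rw [hzpy c]
      _ = x ^ a * (y ^ b * y) * z ^ c := by simp only [mul_assoc]
      _ = x ^ a * (y * y ^ b) * z ^ c := by rw [← pow_succ, pow_succ']
      _ = (x ^ a * y) * y ^ b * z ^ c := by simp only [mul_assoc]
      _ = (z ^ a * y * x ^ a) * y ^ b * z ^ c := by rw [nf_pow_left x y z hzx hzy hxyz a]
      _ = z ^ a * (y * (x ^ a * y ^ b * z ^ c)) := by simp only [mul_assoc]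
  -- x * g = z ^ b * (g * x)
  have key2 : ∀ a b c : ℕ, x * (x ^ a * y ^ b * z ^ c) = z ^ b * ((x ^ a * y ^ b * z ^ c) * x) := by
    intro a b c
    calc x * (x ^ a * y ^ b * z ^ c) = (x * x ^ a) * y ^ b * z ^ c := by simp only [mul_assoc]
      _ = (x ^ a * x) * y ^ b * z ^ c := by rw [← pow_succ', pow_succ]
      _ = x ^ a * (x * y ^ b) * z ^ c := by simp only [mul_assoc]
      _ = x ^ a * (z ^ b * y ^ b * x) * z ^ c := by rw [nf_pow_right x y z hzx hzy hxyz b]
      _ = (x ^ a * z ^ b) * y ^ b * (x * z ^ c) := by simp only [mul_assoc]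
      _ = (z ^ b * x ^ a) * y ^ b * (z ^ c * x) := by rw [hzpxp b a, hzpx c]
      _ = z ^ b * ((x ^ a * y ^ b * z ^ c) * x) := by simp only [mul_assoc]
  have hinj : Function.Injective f := by
    rintro ⟨a, b, c⟩ ⟨a', b', c'⟩ h
    have h' : x ^ (a : ℕ) * y ^ (b : ℕ) * z ^ (c : ℕ) = x ^ (a' : ℕ) * y ^ (b' : ℕ) * z ^ (c' : ℕ) :=
      congrArg Subtype.val h
    have e1 : z ^ (a : ℕ) = z ^ (a' : ℕ) := by
      have h1 := key1 a b c
      have h2 := key1 a' b' c'
      rw [h'] at h1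
      rw [h1] at h2
      exact mul_right_cancel h2
    have e2 : z ^ (b : ℕ) = z ^ (b' : ℕ) := by
      have h1 := key2 a b c
      have h2 := key2 a' b' c'
      rw [h'] at h1
      rw [h1] at h2
      exact mul_right_cancel h2
    have haa : a = a' := nf_pow_inj z hxy hz3 a a' e1
    have hbb : b = b' := nf_pow_inj z hxy hz3 b b' e2
    subst haa
    subst hbb
    have e3 : z ^ (c : ℕ) = z ^ (c' : ℕ) := mul_left_cancel h'
    have hcc : c = c' := nf_pow_inj z hxy hz3 c c' e3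
    subst hcc
    rfl
  have hcard : Nat.card S.R ≤ Nat.card (Fin 3 × Fin 3 × Fin 3) := by
    rw [S.card_R]
    simp
  have hbij : Function.Bijective f := hinj.bijective_of_nat_card_le hcard
  obtain ⟨abc, habc⟩ := hbij.2 ⟨r, hr⟩
  refine ⟨abc, ?_, ?_⟩
  · exact (congrArg Subtype.val habc).symm
  · intro abc' h'
    apply hinj
    apply Subtype.ext
    rw [habc]
    exact h'.symm

end abstract

end Cfsg.Agent.Helper17.TSL
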