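import Mathlib
import Cfsg.Prelude.Def_OddOrder
import Cfsg.Prelude.Def_OddOrderLocal
import Cfsg.Agent.Lib.Helper1.Hall
import Cfsg.Agent.Lib.Helper10.PiCore
import Cfsg.Agent.Lib.Helper14.BGTransA

/-!
General group-theoretic lemmas used for BG Theorem 14.7 (S1434).
-/

set_option autoImplicit false

namespace Cfsg.Agent.Helper16.BG147

open Cfsg Subgroup
open Cfsg.Agent.Helper10 (IsPiNum)

/-- numbers supported on disjoint prime sets are coprime -/
theorem coprime_of_isPiNum {π π' : Set ℕ} (h : ∀ p, p ∈ π → p ∉ π') {a b : ℕ}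
    (ha : IsPiNum π a) (hb : IsPiNum π' b) : a.Coprime b := by
  apply Nat.coprime_of_dvd
  intro k hk hka hkb
  exact h k (ha k hk hka) (hb k hk hkb)

/-- splitting a positive number into its `π`-part and `π'`-part -/
theorem exists_pi_split (π : Set ℕ) : ∀ n : ℕ, 0 < n →
    ∃ m k : ℕ, n = m * k ∧ IsPiNum π m ∧ IsPiNum πᶜ k := by
  intro n
  induction n using Nat.strong_induction_on with
  | _ n ih =>
    intro hn
    by_cases h1 : n = 1
    · subst h1
      exact ⟨1, 1, rfl, Cfsg.Agent.Helper10.isPiNum_one π, Cfsg.Agent.Helper10.isPiNum_one _⟩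
    · obtain ⟨p, hp, hpn⟩ := Nat.exists_prime_and_dvd h1
      obtain ⟨n', rfl⟩ := hpn
      have hn' : 0 < n' := Nat.pos_of_mul_pos_left hn |> fun _ => by
        rcases Nat.eq_zero_or_pos n' with h | h
        · subst h; simp at hn
        · exact h
      have hlt : n' < p * n' := by
        have := hp.two_le
        nlinarith
      obtain ⟨m, k, hmk, hm, hk⟩ := ih n' hlt hn'
      have hpnum : ∀ (τ : Set ℕ), p ∈ τ → IsPiNum τ p := by
        intro τ hτ q hq hqp
        rw [(Nat.prime_dvd_prime_iff_eq hq hp).mp hqp]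
        exact hτ
      by_cases hpπ : p ∈ π
      · exact ⟨p * m, k, by rw [hmk]; ring, (hpnum π hpπ).mul hm, hk⟩
      · exact ⟨m, p * k, by rw [hmk]; ring, hm, (hpnum πᶜ hpπ).mul hk⟩

/-- Hall containment in `π`-language for finite solvable groups -/
theorem exists_piHall_ge {L : Type*} [Group L] [Finite L] [Group.IsSolvable L] (π : Set ℕ)
    (K : Subgroup L) (hK : IsPiNum π (Nat.card K)) :
    ∃ H : Subgroup L, K ≤ H ∧ IsPiNum π (Nat.card H) ∧
      ∀ p : ℕ, p.Prime → p ∈ π → ¬ p ∣ H.index := by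
  obtain ⟨m, k, hmk, hm, hk⟩ := exists_pi_split π (Nat.card L) Nat.card_pos
  have hcop : m.Coprime k :=
    coprime_of_isPiNum (π := π) (π' := πᶜ) (fun p hp hp' => hp' hp) hm hk
  have hKk : (Nat.card K).Coprime k :=
    coprime_of_isPiNum (π := π) (π' := πᶜ) (fun p hp hp' => hp' hp) hK hk
  obtain ⟨H, hH, hKH⟩ := Cfsg.Agent.Helper1.hall_contain m k hmk hcop K hKk
  refine ⟨H, hKH, by rw [hH]; exact hm, ?_⟩
  intro p hp hpπ hpd
  have h1 : Nat.card H * H.index = Nat.card L := H.card_mul_index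
  rw [hH, hmk] at h1
  have hmpos : 0 < m := by
    rcases Nat.eq_zero_or_pos m with h | h
    · subst h
      have : Nat.card L = 0 := by rw [hmk]; simp
      have := Nat.card_pos (α := L)
      omega
    · exact h
  have h2 : H.index = k := Nat.eq_of_mul_eq_mul_left hmpos h1
  rw [h2] at hpd
  exact hk p hp hpd hpπ

end Cfsg.Agent.Helper16.BG147
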