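import Mathlib

set_option autoImplicit false

namespace Cfsg.Agent.Helper16

open scoped commutatorElement

/-- Normalizers grow in `p`-groups (ambient form): a proper subgroup `K` of a finite
`p`-subgroup `R` is normalized by some element of `R` outside `K`. -/
theorem exists_normalizing_not_mem {G : Type*} [Group G] [Finite G] {p : ℕ} [Fact p.Prime]
    (R K : Subgroup G) (hR : IsPGroup p R) (hKR : K ≤ R) (hne : K ≠ R) :
    ∃ x ∈ R, x ∉ K ∧ (∀ k ∈ K, x * k * x⁻¹ ∈ K) ∧ (∀ k ∈ K, x⁻¹ * k * x ∈ K) := by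
  have hlt : K.subgroupOf R < ⊤ := by
    rw [lt_top_iff_ne_top]
    intro h
    apply hne
    apply le_antisymm hKR
    intro x hx
    have : (⟨x, hx⟩ : R) ∈ K.subgroupOf R := by rw [h]; trivial
    exact this
  have hnil : Group.IsNilpotent R := hR.isNilpotent
  have hnc := Group.normalizerCondition_of_isNilpotent (G := R) _ hlt
  obtain ⟨x, hxN, hxK⟩ := SetLike.exists_of_lt hnc
  rw [Subgroup.mem_subgroupOf] at hxK
  have hxinvN : x⁻¹ ∈ Subgroup.normalizer ((K.subgroupOf R : Subgroup R) : Set R) := inv_mem hxN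
  rw [Subgroup.mem_normalizer_iff] at hxN hxinvN
  refine ⟨x, x.2, hxK, ?_, ?_⟩
  · intro k hk
    have := (hxN ⟨k, hKR hk⟩).1 (by rw [Subgroup.mem_subgroupOf]; exact hk)
    rw [Subgroup.mem_subgroupOf] at this
    simpa using this
  · intro k hk
    have := (hxinvN ⟨k, hKR hk⟩).1 (by rw [Subgroup.mem_subgroupOf]; exact hk)
    rw [Subgroup.mem_subgroupOf] at this
    simpa using this

/-- `[Q, P] ≤ Q` when `P` normalizes `Q`. -/
theorem commutator_le_left_of_le_normalizer {G : Type*} [Group G] {Q P : Subgroup G}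
    (h : P ≤ Subgroup.normalizer (Q : Set G)) : ⁅Q, P⁆ ≤ Q := by
  rw [Subgroup.commutator_le]
  intro q hq x hx
  have hx' := h hx
  rw [Subgroup.mem_normalizer_iff] at hx'
  rw [commutatorElement_def]
  have h1 : x * q⁻¹ * x⁻¹ ∈ Q := (hx' q⁻¹).1 (Q.inv_mem hq)
  have : q * x * q⁻¹ * x⁻¹ = q * (x * q⁻¹ * x⁻¹) := by group
  rw [this]
  exact Q.mul_mem hq h1

/-- `[Q, P] ≤ P` when `Q` normalizes `P`. -/
theorem commutator_le_right_of_le_normalizer {G : Type*} [Group G] {Q P : Subgroup G}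
    (h : Q ≤ Subgroup.normalizer (P : Set G)) : ⁅Q, P⁆ ≤ P := by
  rw [Subgroup.commutator_le]
  intro q hq x hx
  have hq' := h hq
  rw [Subgroup.mem_normalizer_iff] at hq'
  rw [commutatorElement_def]
  have h1 : q * x * q⁻¹ ∈ P := (hq' x).1 hx
  exact P.mul_mem h1 (P.inv_mem hx)

/-- If `[Q, P] ≤ P` then `Q` normalizes `P` (finite group). -/
theorem le_normalizer_of_commutator_le_right {G : Type*} [Group G] [Finite G] {Q P : Subgroup G}
    (h : ⁅Q, P⁆ ≤ P) : Q ≤ Subgroup.normalizer (P : Set G) := by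
  intro q hq
  have key : ∀ q ∈ Q, ∀ x ∈ P, q * x * q⁻¹ ∈ P := by
    intro q hq x hx
    have h1 : ⁅q, x⁆ ∈ P := h (Subgroup.commutator_mem_commutator hq hx)
    rw [commutatorElement_def] at h1
    have : q * x * q⁻¹ = (q * x * q⁻¹ * x⁻¹) * x := by group
    rw [this]
    exact P.mul_mem h1 hx
  rw [Subgroup.mem_normalizer_iff]
  intro x
  constructor
  · exact key q hq x
  · intro hx
    have := key q⁻¹ (Q.inv_mem hq) _ hx
    have h2 : q⁻¹ * (q * x * q⁻¹) * q⁻¹⁻¹ = x := by group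
    rwa [h2] at this

end Cfsg.Agent.Helper16
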