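import Mathlib
import Cfsg.Agent.Lib.Helper16.BG147A

/-!
General group-theoretic lemmas II for BG Theorem 14.7 (S1434).
-/

set_option autoImplicit false

namespace Cfsg.Agent.Helper16.BG147

open Cfsg Subgroup
open scoped commutatorElement

section commuting

variable {G : Type*} [Group G]

/-- elements of the join of two elementwise commuting subgroups -/
theorem mem_sup_iff_of_commute (A B : Subgroup G) (hc : ∀ a ∈ A, ∀ b ∈ B, a * b = b * a) {x : G} :
    x ∈ A ⊔ B ↔ ∃ a ∈ A, ∃ b ∈ B, x = a * b := by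
  have h := MonoidHom.noncommCoprod_range A.subtype B.subtype (fun a b => hc a a.2 b b.2)
  rw [Subgroup.range_subtype, Subgroup.range_subtype] at h
  rw [← h, MonoidHom.mem_range]
  constructor
  · rintro ⟨⟨a, b⟩, rfl⟩
    exact ⟨a, a.2, b, b.2, rfl⟩
  · rintro ⟨a, ha, b, hb, rfl⟩
    exact ⟨(⟨a, ha⟩, ⟨b, hb⟩), rfl⟩

theorem card_sup_of_commute [Finite G] (A B : Subgroup G)
    (hc : ∀ a ∈ A, ∀ b ∈ B, a * b = b * a) (hd : A ⊓ B = ⊥) :
    Nat.card ↥(A ⊔ B) = Nat.card A * Nat.card B := by
  have hcomm : ∀ (a : A) (b : B), Commute (A.subtype a) (B.subtype b) := fun a b => hc a a.2 b b.2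
  have h := MonoidHom.noncommCoprod_range A.subtype B.subtype hcomm
  rw [Subgroup.range_subtype, Subgroup.range_subtype] at h
  have hinj : Function.Injective (MonoidHom.noncommCoprod A.subtype B.subtype hcomm) := by
    rw [MonoidHom.noncommCoprod_injective]
    refine ⟨A.subtype_injective, B.subtype_injective, ?_⟩
    rw [Subgroup.range_subtype, Subgroup.range_subtype, disjoint_iff, hd]
  rw [← h, ← Nat.card_prod]
  exact (Nat.card_congr (MonoidHom.ofInjective hinj).toEquiv).symm

/-- `y` is a power of `x * y` when `x`, `y` commute and have coprime orders -/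
theorem exists_pow_eq_right [Finite G] {x y : G} (hc : x * y = y * x)
    (hcop : (orderOf x).Coprime (orderOf y)) : ∃ m : ℕ, (x * y) ^ m = y := by
  let k := Nat.chineseRemainder hcop 0 1
  refine ⟨k, ?_⟩
  have h1 : (k : ℕ) ≡ 0 [MOD orderOf x] := k.2.1
  have h2 : (k : ℕ) ≡ 1 [MOD orderOf y] := k.2.2
  have hcm : Commute x y := hc
  rw [hcm.mul_pow]
  have hx : x ^ (k : ℕ) = 1 := by
    rw [← orderOf_dvd_iff_pow_eq_one]
    exact (Nat.modEq_zero_iff_dvd).1 h1
  have hy : y ^ (k : ℕ) = y := by
    rw [← pow_mod_orderOf, h2, pow_mod_orderOf, pow_one]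
  rw [hx, hy, one_mul]

theorem exists_pow_eq_left [Finite G] {x y : G} (hc : x * y = y * x)
    (hcop : (orderOf x).Coprime (orderOf y)) : ∃ m : ℕ, (x * y) ^ m = x := by
  obtain ⟨m, hm⟩ := exists_pow_eq_right (x := y) (y := x) hc.symm hcop.symm
  exact ⟨m, by rw [hc]; exact hm⟩

end commuting

section sylow

variable {L : Type*} [Group L] [Finite L]

/-- a subgroup of index prime to `p` contains a Sylow `p`-subgroup -/
theorem exists_sylow_le_of_not_dvd_index (H : Subgroup L) (p : ℕ) [Fact p.Prime]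
    (hp : ¬ p ∣ H.index) : ∃ P : Sylow p L, (P : Subgroup L) ≤ H := by
  obtain ⟨P₀⟩ : Nonempty (Sylow p H) := inferInstance
  have hcard : Nat.card ((P₀ : Subgroup H).map H.subtype) = p ^ (Nat.card L).factorization p := by
    rw [Subgroup.card_map_of_injective H.subtype_injective, Sylow.card_eq_multiplicity]
    congr 1
    have h1 : Nat.card H * H.index = Nat.card L := H.card_mul_index
    rw [← h1, Nat.factorization_mul Nat.card_pos.ne' (Subgroup.index_ne_zero_of_finite),
      Finsupp.add_apply, Nat.factorization_eq_zero_of_not_dvd hp, add_zero]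
  refine ⟨Sylow.ofCard _ hcard, ?_⟩
  rw [Sylow.coe_ofCard]
  exact Subgroup.map_subtype_le _

/-- in a cyclic group, an element killed by `p` lies in the subgroup generated by any element
of order `p` -/
theorem mem_zpowers_of_pow_eq_one {C : Type*} [Group C] [Finite C] [IsCyclic C] {p : ℕ}
    (hp : 0 < p) (x b : C) (hx : orderOf x = p) (hb : b ^ p = 1) : b ∈ zpowers x := by
  classical
  have := Fintype.ofFinite C
  have h1 : (Finset.univ.filter (fun a : C => a ^ p = 1)).card ≤ p :=
    IsCyclic.card_pow_eq_one_le hp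
  have hsub : (Finset.univ.filter (fun a : C => a ∈ zpowers x)) ⊆
      (Finset.univ.filter (fun a : C => a ^ p = 1)) := by
    intro a ha
    rw [Finset.mem_filter] at ha ⊢
    refine ⟨Finset.mem_univ _, ?_⟩
    obtain ⟨n, rfl⟩ := ha.2
    rw [← zpow_natCast, ← zpow_mul, mul_comm, zpow_mul, zpow_natCast, ← hx, pow_orderOf_eq_one,
      one_zpow]
  have h2 : (Finset.univ.filter (fun a : C => a ∈ zpowers x)).card = p := by
    rw [← hx, ← Nat.card_zpowers, Nat.card_eq_fintype_card, Fintype.card_subtype]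
  have h3 := Finset.eq_of_subset_of_card_le hsub (by rw [h2]; exact h1)
  have hb' : b ∈ Finset.univ.filter (fun a : C => a ^ p = 1) := by
    rw [Finset.mem_filter]; exact ⟨Finset.mem_univ _, hb⟩
  rw [← h3, Finset.mem_filter] at hb'
  exact hb'.2

/-- cyclic Sylow `p`-subgroups force `p`-rank at most one -/
theorem pRankLE_one_of_cyclic_sylow (p : ℕ) [Fact p.Prime] (h : ∀ P : Sylow p L, IsCyclic P) :
    PRankLE p 1 L := by
  intro A _ hA
  have hAp : IsPGroup p A := by
    intro a
    refine ⟨1, ?_⟩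
    rw [pow_one]
    exact Subtype.ext (by simpa using hA a a.2)
  obtain ⟨P, hAP⟩ := hAp.exists_le_sylow
  have := h P
  have hcyc : IsCyclic (A.subgroupOf P) := Subgroup.isCyclic _
  have hexp : Monoid.exponent (A.subgroupOf P) ∣ p := by
    apply Monoid.exponent_dvd_of_forall_pow_eq_one
    intro a
    have ha : ((a : P) : L) ∈ A := a.2
    exact Subtype.ext (Subtype.ext (by simpa using hA _ ha))
  rw [IsCyclic.exponent_eq_card] at hexp
  have hcard : Nat.card (A.subgroupOf P) = Nat.card A :=
    Nat.card_congr (Subgroup.subgroupOfEquivOfLe hAP).toEquiv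
  rw [hcard] at hexp
  rw [pow_one]
  exact Nat.le_of_dvd (Fact.out : p.Prime).pos hexp

/-- Burnside: a Sylow subgroup central in its normalizer gives a `p'`-derived subgroup -/
theorem not_dvd_card_commutator {p : ℕ} [Fact p.Prime] (P : Sylow p L)
    (hP : normalizer ((P : Subgroup L) : Set L) ≤ centralizer ((P : Subgroup L) : Set L)) :
    ¬ p ∣ Nat.card (_root_.commutator L) := by
  have hle : _root_.commutator L ≤ (MonoidHom.transferSylow P hP).ker := by
    rw [_root_.commutator_def, Subgroup.commutator_le]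
    intro a _ b _
    rw [MonoidHom.mem_ker, map_commutatorElement, commutatorElement_eq_one_iff_commute]
    have key : ∀ u v : (P : Subgroup L), u * v = v * u := by
      intro u v
      apply Subtype.ext
      have := hP (Subgroup.le_normalizer v.2) u u.2
      simpa using this
    exact key _ _
  intro hd
  exact MonoidHom.not_dvd_card_ker_transferSylow P hP (hd.trans (Subgroup.card_dvd_of_le hle))

end sylow

section misc

variable {G : Type*} [Group G]

/-- an abelian subgroup on which `k` acts without fixed points lies in the derived subgroup -/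
theorem le_commutator_of_fpf (U : Subgroup G) [Finite U]
    (hU : ∀ a ∈ U, ∀ b ∈ U, a * b = b * a) (k : G) (hk : ∀ u ∈ U, k * u * k⁻¹ ∈ U)
    (hfpf : ∀ u ∈ U, k * u = u * k → u = 1) (M : Subgroup G) (hUM : U ≤ M) (hkM : k ∈ M) :
    U ≤ ⁅M, M⁆ := by
  let φ : U →* U := MonoidHom.mk' (fun u => ⟨(u : G)⁻¹ * (k * u * k⁻¹), mul_mem (inv_mem u.2) (hk u u.2)⟩)
    (by
      intro u v
      apply Subtype.ext
      have h1 := hU ((v : G)⁻¹) (inv_mem v.2) ((u : G)⁻¹ * (k * u * k⁻¹))
        (mul_mem (inv_mem u.2) (hk u u.2))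
      show ((u : G) * v)⁻¹ * (k * (u * v) * k⁻¹) = (u : G)⁻¹ * (k * u * k⁻¹) * ((v : G)⁻¹ * (k * v * k⁻¹))
      calc ((u : G) * v)⁻¹ * (k * (u * v) * k⁻¹)
          = (v : G)⁻¹ * ((u : G)⁻¹ * (k * u * k⁻¹)) * (k * v * k⁻¹) := by group
        _ = (u : G)⁻¹ * (k * u * k⁻¹) * (v : G)⁻¹ * (k * v * k⁻¹) := by rw [h1]
        _ = (u : G)⁻¹ * (k * u * k⁻¹) * ((v : G)⁻¹ * (k * v * k⁻¹)) := by group)
  have hinj : Function.Injective φ := by
    rw [injective_iff_map_eq_one]
    intro u hu
    have h1 : (u : G)⁻¹ * (k * u * k⁻¹) = 1 := congrArg Subtype.val hu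
    have h2 : k * u = u * k := by
      have : k * u * k⁻¹ = u := by
        have := congrArg (fun t => (u : G) * t) h1
        simpa [mul_assoc] using this
      calc k * u = k * u * k⁻¹ * k := by group
        _ = u * k := by rw [this]
    exact Subtype.ext (hfpf u u.2 h2)
  have hsurj : Function.Surjective φ := Finite.injective_iff_surjective.mp hinj
  intro u hu
  obtain ⟨w, hw⟩ := hsurj ⟨u, hu⟩
  have h1 : (w : G)⁻¹ * (k * w * k⁻¹) = u := congrArg Subtype.val hw
  have h2 : ⁅(w : G)⁻¹, k⁆ = u := by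
    rw [commutatorElement_def, ← h1]
    group
  rw [← h2]
  exact Subgroup.commutator_mem_commutator (inv_mem (hUM w.2)) hkM

end misc

end Cfsg.Agent.Helper16.BG147
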