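import Mathlib
import Cfsg.Agent.Lib.Helper16.BG147B

/-!
Counting lemmas for BG Theorem 14.7 (S1434): conjugates of a TI-subset.
-/

set_option autoImplicit false

namespace Cfsg.Agent.Helper16.BG147

open Cfsg Subgroup

variable {G : Type*} [Group G]

/-- the union of the conjugates of `T` -/
def conjUnion (T : Set G) : Set G := {a : G | ∃ g : G, ∃ z ∈ T, a = g * z * g⁻¹}

section count

variable (Z : Subgroup G) (hZ : ∀ a ∈ Z, ∀ b ∈ Z, a * b = b * a) (T : Set G)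
  (hTZ : T ⊆ (Z : Set G)) (hTI : ∀ g : G, ∀ z ∈ T, g * z * g⁻¹ ∈ T → g ∈ Z)

include hZ hTZ hTI in
theorem conj_key {c g₀ g : G} {z₀ z : G} (hz₀ : z₀ ∈ T) (hz : z ∈ T)
    (h0 : c = g₀ * z₀ * g₀⁻¹) (h1 : c = g * z * g⁻¹) : g₀⁻¹ * g ∈ Z ∧ z₀ = z := by
  have h2 : (g₀⁻¹ * g) * z * (g₀⁻¹ * g)⁻¹ = z₀ := by
    have : g₀ * z₀ * g₀⁻¹ = g * z * g⁻¹ := h0.symm.trans h1
    calc (g₀⁻¹ * g) * z * (g₀⁻¹ * g)⁻¹ = g₀⁻¹ * (g * z * g⁻¹) * g₀ := by group
      _ = g₀⁻¹ * (g₀ * z₀ * g₀⁻¹) * g₀ := by rw [this]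
      _ = z₀ := by group
  have h3 : g₀⁻¹ * g ∈ Z := hTI _ z hz (by rw [h2]; exact hz₀)
  refine ⟨h3, ?_⟩
  rw [← h2, hZ _ h3 z (hTZ hz)]
  group

include hZ hTZ hTI in
theorem card_conjUnion [Finite G] :
    Nat.card Z * Set.ncard (conjUnion T) = Nat.card G * Set.ncard T := by
  classical
  have hC : ∀ c : conjUnion T, ∃ g : G, ∃ z ∈ T, (c : G) = g * z * g⁻¹ := fun c => c.2
  choose g₀ z₀ hz₀ hc using hC
  let e : (conjUnion T × Z) ≃ (G × T) :=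
    { toFun := fun q => (g₀ q.1 * q.2, ⟨z₀ q.1, hz₀ q.1⟩)
      invFun := fun q =>
        (⟨q.1 * q.2 * q.1⁻¹, ⟨q.1, q.2, q.2.2, rfl⟩⟩,
          ⟨(g₀ ⟨q.1 * q.2 * q.1⁻¹, ⟨q.1, q.2, q.2.2, rfl⟩⟩)⁻¹ * q.1,
            (conj_key Z hZ T hTZ hTI (hz₀ _) q.2.2 (hc _) rfl).1⟩)
      left_inv := by
        rintro ⟨c, t⟩
        have hcc : (⟨g₀ c * t * z₀ c * (g₀ c * t)⁻¹, ⟨g₀ c * t, z₀ c, hz₀ c, rfl⟩⟩ :
            conjUnion T) = c := by
          apply Subtype.ext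
          show g₀ c * t * z₀ c * (g₀ c * t)⁻¹ = c
          rw [hc c]
          have := hZ t t.2 (z₀ c) (hTZ (hz₀ c))
          calc g₀ c * t * z₀ c * (g₀ c * t)⁻¹ = g₀ c * (t * z₀ c) * (t : G)⁻¹ * (g₀ c)⁻¹ := by group
            _ = g₀ c * (z₀ c * t) * (t : G)⁻¹ * (g₀ c)⁻¹ := by rw [this]
            _ = g₀ c * z₀ c * (g₀ c)⁻¹ := by group
        apply Prod.ext
        · exact hcc
        · apply Subtype.ext
          show (g₀ ⟨g₀ c * t * z₀ c * (g₀ c * t)⁻¹, _⟩)⁻¹ * (g₀ c * t) = t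
          rw [congrArg g₀ hcc]
          group
      right_inv := by
        rintro ⟨g, z⟩
        have hk := conj_key Z hZ T hTZ hTI (hz₀ ⟨g * z * g⁻¹, ⟨g, z, z.2, rfl⟩⟩) z.2
          (hc ⟨g * z * g⁻¹, ⟨g, z, z.2, rfl⟩⟩) rfl
        apply Prod.ext
        · show g₀ ⟨g * z * g⁻¹, _⟩ * ((g₀ ⟨g * z * g⁻¹, _⟩)⁻¹ * g) = g
          group
        · apply Subtype.ext
          exact hk.2 }
  have h := Nat.card_congr e
  rw [Nat.card_prod, Nat.card_prod] at h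
  rw [← Nat.card_coe_set_eq (conjUnion T), ← Nat.card_coe_set_eq T, mul_comm (Nat.card Z)]
  exact h

end count

/-- size of the complement of two trivially meeting subgroups inside a subgroup -/
theorem ncard_diff_union [Finite G] (Z A B : Subgroup G) (hA : A ≤ Z) (hB : B ≤ Z)
    (hAB : A ⊓ B = ⊥) :
    Set.ncard ((Z : Set G) \ ((A : Set G) ∪ (B : Set G))) + Nat.card A + Nat.card B =
      Nat.card Z + 1 := by
  have h1 : Set.ncard (((A : Set G) ∪ (B : Set G))) + Set.ncard ((A : Set G) ∩ (B : Set G)) =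
      Set.ncard (A : Set G) + Set.ncard (B : Set G) := Set.ncard_union_add_ncard_inter _ _
  have h2 : (A : Set G) ∩ (B : Set G) = {1} := by
    rw [← Subgroup.coe_inf, hAB]; rfl
  rw [h2, Set.ncard_singleton] at h1
  have hsub : ((A : Set G) ∪ (B : Set G)) ⊆ (Z : Set G) := Set.union_subset hA hB
  have h3 := Set.ncard_sdiff_add_ncard_of_subset hsub
  have hA' : Set.ncard (A : Set G) = Nat.card A := (Nat.card_coe_set_eq _).symm
  have hB' : Set.ncard (B : Set G) = Nat.card B := (Nat.card_coe_set_eq _).symm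
  have hZ' : Set.ncard (Z : Set G) = Nat.card Z := (Nat.card_coe_set_eq _).symm
  rw [hA', hB'] at h1
  rw [hZ'] at h3
  omega

end Cfsg.Agent.Helper16.BG147
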