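import Mathlib
import Cfsg.Agent.Lib.Helper16.BG147C

/-!
BG Theorem 14.7 (S1434), part I: hypotheses (frozen statements used), context, basic facts,
`K* ≠ 1`, and `κ(M) = τ₁(M)`.
-/

set_option autoImplicit false

namespace Cfsg.Agent.Helper16.BG147

open Cfsg Subgroup
open Cfsg.Agent.Helper10 (IsPiNum)
open scoped commutatorElement

/-- frozen statement S1430 (BG 14.2 a,b) -/
def St1430 (G : Type*) [Group G] [Finite G] : Prop :=
  ∀ (M : Subgroup G) (hM : IsCoatom M) (K : Subgroup G) (hK : Cfsg.IsPiHallOf (Cfsg.kappa M) K M) (hK1 : K ≠ ⊥),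
    (∀ k ∈ K, k ≠ 1 → Cfsg.sigmaCore M ⊓ Subgroup.centralizer ({k} : Set G) = (Cfsg.sigmaCore M ⊓ Subgroup.centralizer (K : Set G))) ∧
      (∃ U : Subgroup G, IsMulCommutative U ∧ Cfsg.IsPiHallOf {q | q.Prime ∧ q ∉ Cfsg.kappa M ∧ q ∉ Cfsg.sigma M} U M ∧
        K ≤ Subgroup.normalizer (U : Set G) ∧ ∀ k ∈ K, k ≠ 1 → U ⊓ Subgroup.centralizer ({k} : Set G) = ⊥) ∧
      ∀ X : Subgroup G, X ≤ K → (Nat.card X).Prime →
        M ⊓ Subgroup.normalizer (X : Set G) = K ⊔ (Cfsg.sigmaCore M ⊓ Subgroup.centralizer (K : Set G)) ∧ M ⊓ Subgroup.normalizer (K : Set G) = K ⊔ (Cfsg.sigmaCore M ⊓ Subgroup.centralizer (K : Set G)) ∧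
        ∀ Mstar : Subgroup G, IsCoatom Mstar → Subgroup.normalizer (X : Set G) ≤ Mstar → X ≤ Cfsg.sigmaCore Mstar

/-- frozen statement S1431 (BG 14.2 c-f) -/
def St1431 (G : Type*) [Group G] [Finite G] : Prop :=
  ∀ (M : Subgroup G) (hM : IsCoatom M) (K : Subgroup G) (hK : Cfsg.IsPiHallOf (Cfsg.kappa M) K M) (hK1 : K ≠ ⊥),
    (∀ g : G, g ∉ M → (Cfsg.sigmaCore M ⊓ Subgroup.centralizer (K : Set G)) ⊓ M.map (MulAut.conj g).toMonoidHom = ⊥) ∧
      (∀ g ∈ M, g ∉ K ⊔ (Cfsg.sigmaCore M ⊓ Subgroup.centralizer (K : Set G)) → K ⊓ K.map (MulAut.conj g).toMonoidHom = ⊥) ∧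
      (∀ (p : ℕ), p.Prime → p ∣ Nat.card ↥(Cfsg.sigmaCore M ⊓ Subgroup.centralizer (K : Set G)) → ∀ S : Sylow p ↥(Cfsg.sigmaCore M),
        Cfsg.InUniqueMaximal ((S : Subgroup ↥(Cfsg.sigmaCore M)).map (Cfsg.sigmaCore M).subtype) ∧
        (S : Subgroup ↥(Cfsg.sigmaCore M)).map (Cfsg.sigmaCore M).subtype ≤ M ∧
        ¬ (S : Subgroup ↥(Cfsg.sigmaCore M)).map (Cfsg.sigmaCore M).subtype ≤ (Cfsg.sigmaCore M ⊓ Subgroup.centralizer (K : Set G))) ∧
      ∀ Y : Subgroup G, (∀ p : ℕ, p.Prime → p ∣ Nat.card Y → p ∈ Cfsg.sigma M) → Y ⊓ (Cfsg.sigmaCore M ⊓ Subgroup.centralizer (K : Set G)) ≠ ⊥ → Y ≤ Cfsg.sigmaCore M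

/-- frozen statement S1432 (BG 14.3) -/
def St1432 (G : Type*) [Group G] [Finite G] : Prop :=
  ∀ (M : Subgroup G) (hM : IsCoatom M) (x : G) (hx : x ∈ Cfsg.sigmaCore M) (hx1 : x ≠ 1) (x' : G) (hx' : x' ∈ M ⊓ Subgroup.centralizer ({x} : Set G)) (hx'1 : x' ≠ 1)
    (hσ : ∀ p : ℕ, p.Prime → p ∣ orderOf x' → p ∉ Cfsg.sigma M),
    ((∀ p : ℕ, p.Prime → p ∣ orderOf x' → p ∈ Cfsg.kappa M) ∧ Subgroup.centralizer ({x} : Set G) ≤ M) ∨
      ((∀ p : ℕ, p.Prime → p ∣ orderOf x' → p ∈ Cfsg.tau2 M) ∧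
        (∃ L : Subgroup G, IsCoatom L ∧ ∀ p : ℕ, p.Prime → p ∣ orderOf x' → p ∈ Cfsg.sigma L) ∧
        (Subgroup.centralizer ({x'} : Set G) ≤ M ∧ ∀ L : Subgroup G, IsCoatom L → Subgroup.centralizer ({x'} : Set G) ≤ L → L = M))

/-- second half of frozen statement S1351: Hall `κ(M)`-subgroups are cyclic -/
def St1351b (G : Type*) [Group G] [Finite G] : Prop :=
  ∀ (M : Subgroup G) (_hM : IsCoatom M),
    ∀ K : Subgroup G, Cfsg.IsPiHallOf (Cfsg.kappa M) K M → IsCyclic K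

/-- second half of frozen statement S1378: `σ`-sets of non-conjugate maximal subgroups are disjoint -/
def St1378b (G : Type*) [Group G] [Finite G] : Prop :=
  ∀ M N : Subgroup G, IsCoatom M → IsCoatom N → (Cfsg.sigma M ∩ Cfsg.sigma N).Nonempty → ∃ g : G, N = M.map (MulAut.conj g).toMonoidHom

variable {G : Type*} [Group G] [Finite G]

/-- `K* = C_{M_σ}(K)` -/
abbrev Kst (M K : Subgroup G) : Subgroup G := sigmaCore M ⊓ centralizer (K : Set G)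

/-- the standing situation of BG 14.7 -/
structure Ctx (M K Ms : Subgroup G) : Prop where
  hG : IsMinSimpleOddOrder G
  hM : IsCoatom M
  hMs : IsCoatom Ms
  cyc : IsCyclic K
  hall : IsPiHallOf (kappa M) K M
  hK1 : K ≠ ⊥
  hKst : K = sigmaCore Ms ⊓ centralizer ((Kst M K : Subgroup G) : Set G)
  hKstH : IsPiHallOf (kappa Ms) (Kst M K) Ms
  h30 : St1430 G
  h31 : St1431 G
  h32 : St1432 G
  h51 : St1351b G
  h78 : St1378b G

theorem sigmaCore_le (M : Subgroup G) : sigmaCore M ≤ M :=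
  Cfsg.Agent.Helper14.BGTrans.piCoreOf_le (sigma M) M

theorem card_sigmaCore (M : Subgroup G) : IsPiNum (sigma M) (Nat.card ↥(sigmaCore M)) :=
  Cfsg.Agent.Helper14.BGTrans.card_piCoreOf (sigma M) M

theorem le_normalizer_sigmaCore (M : Subgroup G) : M ≤ normalizer (sigmaCore M : Set G) :=
  Cfsg.Agent.Helper14.BGTrans.le_normalizer_piCoreOf (sigma M) M

theorem kappa_not_sigma (M : Subgroup G) : ∀ p, p ∈ kappa M → p ∉ sigma M :=
  fun _ hp => hp.2.2.1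

theorem conj_mem_sigmaCore {M : Subgroup G} {m x : G} (hm : m ∈ M) (hx : x ∈ sigmaCore M) :
    m * x * m⁻¹ ∈ sigmaCore M :=
  (mem_normalizer_iff.mp (le_normalizer_sigmaCore M hm) x).mp hx

namespace Ctx

variable {M K Ms : Subgroup G} (c : Ctx M K Ms)
include c

theorem K_le : K ≤ M := c.hall.1

theorem Kst_le_sigmaCore : Kst M K ≤ sigmaCore M := inf_le_left

theorem Kst_le : Kst M K ≤ M := inf_le_left.trans (sigmaCore_le M)

theorem Kst_le_Ms : Kst M K ≤ Ms := c.hKstH.1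

theorem K_le_sigmaCore_Ms : K ≤ sigmaCore Ms := by
  have h := c.hKst
  exact h ▸ inf_le_left

theorem K_le_Ms : K ≤ Ms := c.K_le_sigmaCore_Ms.trans (sigmaCore_le Ms)

theorem coprime_K_sigmaCore : (Nat.card K).Coprime (Nat.card ↥(sigmaCore M)) :=
  coprime_of_isPiNum (kappa_not_sigma M) c.hall.2.1 (card_sigmaCore M)

theorem coprime_K_Kst : (Nat.card K).Coprime (Nat.card ↥(Kst M K)) :=
  c.coprime_K_sigmaCore.coprime_dvd_right (Subgroup.card_dvd_of_le inf_le_left)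

theorem K_inf_sigmaCore : K ⊓ sigmaCore M = ⊥ :=
  Subgroup.inf_eq_bot_of_coprime c.coprime_K_sigmaCore

theorem K_inf_Kst : K ⊓ Kst M K = ⊥ :=
  Subgroup.inf_eq_bot_of_coprime c.coprime_K_Kst

theorem comm_K_Kst : ∀ a ∈ K, ∀ b ∈ Kst M K, a * b = b * a := by
  intro a ha b hb
  exact (mem_centralizer_iff.mp hb.2) a ha

theorem K_comm : ∀ a ∈ K, ∀ b ∈ K, a * b = b * a := by
  intro a ha b hb
  haveI := c.cyc
  have := mul_comm' (⟨a, ha⟩ : K) ⟨b, hb⟩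
  exact congrArg Subtype.val this

/-- a Sylow `p`-subgroup of `M` inside `K`, for `p` dividing `#K` -/
theorem exists_sylow_le_K (p : ℕ) [Fact p.Prime] (hp : p ∣ Nat.card K) :
    ∃ P : Sylow p M, (P : Subgroup M).map M.subtype ≤ K := by
  have hpk : p ∈ kappa M := c.hall.2.1 p Fact.out hp
  have hidx : ¬ p ∣ (K.subgroupOf M).index := c.hall.2.2 p Fact.out hpk
  obtain ⟨P, hP⟩ := exists_sylow_le_of_not_dvd_index (K.subgroupOf M) p hidx
  refine ⟨P, ?_⟩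
  rintro _ ⟨x, hx, rfl⟩
  exact mem_subgroupOf.mp (hP hx)

/-- `K* ≠ 1` -/
theorem Kst_ne_bot : Kst M K ≠ ⊥ := by
  obtain ⟨p, hp, hpK⟩ := Nat.exists_prime_and_dvd (n := Nat.card K) (by
    intro h
    exact c.hK1 (Subgroup.card_eq_one.mp h))
  haveI := Fact.mk hp
  obtain ⟨P, hPK⟩ := c.exists_sylow_le_K p hpK
  have hpk : p ∈ kappa M := c.hall.2.1 p hp hpK
  obtain ⟨-, x, hxP, hx1, y, hy, hy1, hxy⟩ := hpk.2.2.2 P
  have hxK : (x : G) ∈ K := hPK (mem_map_of_mem _ hxP)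
  have hxne : (x : G) ≠ 1 := fun h => hx1 (Subtype.ext h)
  have h1 := (c.h30 M c.hM K c.hall c.hK1).1 x hxK hxne
  have hyk : y ∈ sigmaCore M ⊓ centralizer ({(x : G)} : Set G) := by
    refine Subgroup.mem_inf.mpr ⟨hy, ?_⟩
    rw [mem_centralizer_iff]
    intro h hh
    rw [Set.mem_singleton_iff] at hh
    rw [hh]; exact hxy
  rw [h1] at hyk
  intro hbot
  have hyk' : y ∈ Kst M K := hyk
  rw [hbot, mem_bot] at hyk'
  exact hy1 hyk'

end Ctx

end Cfsg.Agent.Helper16.BG147
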