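import Mathlib
import Cfsg.Agent.Lib.Helper16.BG147D

/-!
BG Theorem 14.7 (S1434), part II: `κ(M) = τ₁(M)`, centralizers of elements of `K`, `K*`.
-/

set_option autoImplicit false

namespace Cfsg.Agent.Helper16.BG147

open Cfsg Subgroup
open Cfsg.Agent.Helper10 (IsPiNum)
open scoped commutatorElement

variable {G : Type*} [Group G] [Finite G]

omit [Finite G] in
theorem mem_centralizer_singleton {g x : G} :
    g ∈ centralizer ({x} : Set G) ↔ x * g = g * x := by
  rw [mem_centralizer_iff]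
  constructor
  · intro h; exact h x rfl
  · intro h t ht
    rw [Set.mem_singleton_iff] at ht
    rw [ht]; exact h

namespace Ctx

variable {M K Ms : Subgroup G} (c : Ctx M K Ms)
include c

/-- `Z = K K*` is contained in `M` -/
theorem Z_le : K ⊔ Kst M K ≤ M := sup_le c.K_le c.Kst_le

/-- primes dividing `#K` are exactly handled by `κ(M)` -/
theorem dvd_card_K_of_kappa {p : ℕ} (hp : p ∈ kappa M) : p ∣ Nat.card K := by
  have h1 : ¬ p ∣ K.relIndex M := c.hall.2.2 p hp.1 hp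
  have h2 : Nat.card K * K.relIndex M = Nat.card M := by
    have := Subgroup.relIndex_mul_relIndex (⊥ : Subgroup G) K M bot_le c.K_le
    rwa [Subgroup.relIndex_bot_left, Subgroup.relIndex_bot_left] at this
  have h3 : p ∣ Nat.card K * K.relIndex M := by rw [h2]; exact hp.2.1
  rcases (Nat.Prime.dvd_mul hp.1).mp h3 with h | h
  · exact h
  · exact absurd h h1

/-- every element of `Z = K K*` centralizes `K` -/
theorem Z_le_centralizer_K : K ⊔ Kst M K ≤ centralizer (K : Set G) := by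
  refine sup_le ?_ inf_le_right
  intro a ha
  rw [mem_centralizer_iff]
  intro b hb
  exact c.K_comm b hb a ha

/-- the normalizer in `M` of a prime order subgroup of `K` -/
theorem normalizer_prime (X : Subgroup G) (hXK : X ≤ K) (hX : (Nat.card X).Prime) :
    M ⊓ normalizer (X : Set G) = K ⊔ Kst M K :=
  ((c.h30 M c.hM K c.hall c.hK1).2.2 X hXK hX).1

/-- `p ∈ κ(M)` has `p ∤ |M'|` -/
theorem kappa_not_dvd_commutator {p : ℕ} (hp : p ∈ kappa M) : ¬ p ∣ Nat.card ↥⁅M, M⁆ := by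
  haveI := Fact.mk hp.1
  obtain ⟨P, hPK⟩ := c.exists_sylow_le_K p (c.dvd_card_K_of_kappa hp)
  haveI hPc : IsCyclic (P : Subgroup M) := (hp.2.2.2 P).1
  -- an element of order p in P
  have hpP : p ∣ Nat.card (P : Subgroup M) := by
    rw [Sylow.card_eq_multiplicity]
    have : (Nat.card M).factorization p ≠ 0 := by
      rw [← Nat.pos_iff_ne_zero]
      exact (hp.1.factorization_pos_of_dvd Nat.card_pos.ne' hp.2.1)
    exact dvd_pow_self p this
  obtain ⟨x₀, hx₀⟩ := exists_prime_orderOf_dvd_card' p hpP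
  have hx₀K : ((x₀ : M) : G) ∈ K := hPK (mem_map_of_mem _ x₀.2)
  have hx₀G : orderOf ((x₀ : M) : G) = p := by
    rw [Subgroup.orderOf_coe, Subgroup.orderOf_coe]; exact hx₀
  set X : Subgroup G := zpowers ((x₀ : M) : G) with hX
  have hXK : X ≤ K := by rw [hX, zpowers_le]; exact hx₀K
  have hXcard : (Nat.card X).Prime := by rw [hX, Nat.card_zpowers, hx₀G]; exact hp.1
  have hN := c.normalizer_prime X hXK hXcard
  have hkey : normalizer (((P : Subgroup M)) : Set M) ≤ centralizer (((P : Subgroup M)) : Set M) := by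
    intro n hn
    -- n normalizes X
    have hnX : (n : G) ∈ normalizer (X : Set G) := by
      apply mem_normalizer_fintype
      intro t ht
      have ht' : t ∈ X := ht
      rw [hX, mem_zpowers_iff] at ht'
      obtain ⟨j, rfl⟩ := ht'
      -- n * x₀ * n⁻¹ ∈ P
      have h1 : n * (x₀ : M) * n⁻¹ ∈ (P : Subgroup M) := ((hn (x₀ : M)).mp x₀.2)
      have h2 : (⟨n * (x₀ : M) * n⁻¹, h1⟩ : (P : Subgroup M)) ^ p = 1 := by
        apply Subtype.ext
        show (n * (x₀ : M) * n⁻¹) ^ p = 1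
        rw [conj_pow]
        have h0 : x₀ ^ p = 1 := by
          have := pow_orderOf_eq_one x₀
          rwa [hx₀] at this
        have : ((x₀ : M)) ^ p = 1 := congrArg Subtype.val h0
        rw [this]; group
      have h3 := mem_zpowers_of_pow_eq_one hp.1.pos x₀ ⟨n * (x₀ : M) * n⁻¹, h1⟩ hx₀ h2
      rw [mem_zpowers_iff] at h3
      obtain ⟨i, hi⟩ := h3
      have h4 : (n : G) * ((x₀ : M) : G) * (n : G)⁻¹ = ((x₀ : M) : G) ^ i := by
        have := congrArg (fun t : (P : Subgroup M) => ((t : M) : G)) hi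
        simp only [Subgroup.coe_zpow] at this
        rw [this]
        rfl
      show (n : G) * ((x₀ : M) : G) ^ j * (n : G)⁻¹ ∈ X
      rw [← conj_zpow, h4]
      exact zpow_mem (zpow_mem (mem_zpowers _) i) j
    have hnZ : (n : G) ∈ K ⊔ Kst M K := by
      rw [← hN]; exact ⟨n.2, hnX⟩
    have hnC := c.Z_le_centralizer_K hnZ
    rw [mem_centralizer_iff]
    intro t ht
    apply Subtype.ext
    have htK : (t : G) ∈ K := hPK (mem_map_of_mem _ ht)
    exact (mem_centralizer_iff.mp hnC) t htK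
  have h := not_dvd_card_commutator (L := M) P hkey
  have hcard : Nat.card ↥⁅M, M⁆ = Nat.card (_root_.commutator M) := by
    rw [← Subgroup.map_subtype_commutator]
    exact Subgroup.card_map_of_injective M.subtype_injective
  rw [hcard]
  exact h

/-- a non-identity element of `K` -/
theorem exists_K_ne_one : ∃ k ∈ K, k ≠ 1 := by
  by_contra h
  push Not at h
  apply c.hK1
  rw [eq_bot_iff]
  intro k hk
  rw [mem_bot]
  exact h k hk

/-- `κ(M) ⊆ τ₁(M)` -/
theorem kappa_sub_tau1 {p : ℕ} (hp : p ∈ kappa M) : p ∈ tau1 M := by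
  haveI := Fact.mk hp.1
  refine ⟨hp.1, hp.2.2.1, hp.2.1, c.kappa_not_dvd_commutator hp, ?_⟩
  exact pRankLE_one_of_cyclic_sylow p (fun P => (hp.2.2.2 P).1)

/-- `τ₁(M) ⊆ κ(M)` -/
theorem tau1_sub_kappa {r : ℕ} (hr : r ∈ tau1 M) : r ∈ kappa M := by
  by_contra hrk
  obtain ⟨U₀, hU₀c, hU₀H, hKU₀, hfpf⟩ := (c.h30 M c.hM K c.hall c.hK1).2.1
  have h1 : ¬ r ∣ U₀.relIndex M := hU₀H.2.2 r hr.1 ⟨hr.1, hrk, hr.2.1⟩
  have h2 : Nat.card U₀ * U₀.relIndex M = Nat.card M := by
    have := Subgroup.relIndex_mul_relIndex (⊥ : Subgroup G) U₀ M bot_le hU₀H.1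
    rwa [Subgroup.relIndex_bot_left, Subgroup.relIndex_bot_left] at this
  have h3 : r ∣ Nat.card U₀ * U₀.relIndex M := by rw [h2]; exact hr.2.2.1
  have h4 : r ∣ Nat.card U₀ := by
    rcases (Nat.Prime.dvd_mul hr.1).mp h3 with h | h
    · exact h
    · exact absurd h h1
  obtain ⟨k, hkK, hk1⟩ := c.exists_K_ne_one
  have hle : U₀ ≤ ⁅M, M⁆ := by
    apply le_commutator_of_fpf U₀ _ k _ _ M hU₀H.1 (c.K_le hkK)
    · intro a ha b hb
      have := mul_comm' (⟨a, ha⟩ : U₀) ⟨b, hb⟩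
      exact congrArg Subtype.val this
    · intro u hu
      exact (mem_normalizer_iff.mp (hKU₀ hkK) u).mp hu
    · intro u hu hcomm
      have hmem : u ∈ U₀ ⊓ centralizer ({k} : Set G) := by
        refine Subgroup.mem_inf.mpr ⟨hu, ?_⟩
        rw [mem_centralizer_iff]
        intro h hh
        rw [Set.mem_singleton_iff] at hh
        rw [hh]; exact hcomm
      rw [hfpf k hkK hk1, mem_bot] at hmem
      exact hmem
  exact hr.2.2.2.1 (h4.trans (Subgroup.card_dvd_of_le hle))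

theorem kappa_eq_tau1 : kappa M = tau1 M :=
  Set.ext fun _ => ⟨c.kappa_sub_tau1, c.tau1_sub_kappa⟩

/-- primes of `κ(M)` are not in `τ₂(M)` -/
theorem kappa_not_tau2 {p : ℕ} (hp : p ∈ kappa M) : p ∉ tau2 M := fun h =>
  h.2.2.2 (c.kappa_sub_tau1 hp).2.2.2.2

/-- `C_G(y) ≤ M` for `y ∈ K*#` -/
theorem centralizer_Kst_le {y : G} (hy : y ∈ Kst M K) (hy1 : y ≠ 1) :
    centralizer ({y} : Set G) ≤ M := by
  obtain ⟨k, hkK, hk1⟩ := c.exists_K_ne_one
  have hk : k ∈ M ⊓ centralizer ({y} : Set G) := by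
    refine Subgroup.mem_inf.mpr ⟨c.K_le hkK, ?_⟩
    rw [mem_centralizer_iff]
    intro h hh
    rw [Set.mem_singleton_iff] at hh
    rw [hh]
    exact (c.comm_K_Kst k hkK y hy).symm
  have hord : ∀ p : ℕ, p.Prime → p ∣ orderOf k → p ∈ kappa M := by
    intro p hp hpd
    apply c.hall.2.1 p hp
    have : orderOf k ∣ Nat.card K := by
      have := orderOf_dvd_natCard (⟨k, hkK⟩ : K)
      rwa [Subgroup.orderOf_mk] at this
    exact hpd.trans this
  rcases c.h32 M c.hM y hy.1 hy1 k hk hk1 (fun p hp hpd => kappa_not_sigma M p (hord p hp hpd))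
    with h | h
  · exact h.2
  · exfalso
    have hne : orderOf k ≠ 1 := by
      rw [Ne, orderOf_eq_one_iff]; exact hk1
    obtain ⟨p, hp, hpd⟩ := Nat.exists_prime_and_dvd hne
    exact c.kappa_not_tau2 (hord p hp hpd) (h.1 p hp hpd)

/-- `K** = K` -/
theorem Kst_Kst : Kst Ms (Kst M K) = K := c.hKst.symm

/-- the symmetric situation, with the roles of `(M, K)` and `(M*, K*)` exchanged -/
theorem symm : Ctx Ms (Kst M K) M where
  hG := c.hG
  hM := c.hMs
  hMs := c.hM
  cyc := c.h51 Ms c.hMs _ c.hKstH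
  hall := c.hKstH
  hK1 := c.Kst_ne_bot
  hKst := by rw [c.Kst_Kst]
  hKstH := by rw [c.Kst_Kst]; exact c.hall
  h30 := c.h30
  h31 := c.h31
  h32 := c.h32
  h51 := c.h51
  h78 := c.h78

theorem Kst_comm : ∀ a ∈ Kst M K, ∀ b ∈ Kst M K, a * b = b * a := c.symm.K_comm

/-- `C_G(x) ≤ M*` for `x ∈ K#` -/
theorem centralizer_K_le {x : G} (hx : x ∈ K) (hx1 : x ≠ 1) :
    centralizer ({x} : Set G) ≤ Ms := by
  apply c.symm.centralizer_Kst_le _ hx1
  rw [c.Kst_Kst]; exact hx

/-- `Z = K K*` is abelian -/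
theorem Z_comm : ∀ a ∈ K ⊔ Kst M K, ∀ b ∈ K ⊔ Kst M K, a * b = b * a := by
  intro a ha b hb
  rw [mem_sup_iff_of_commute K (Kst M K) c.comm_K_Kst] at ha hb
  obtain ⟨a₁, ha₁, a₂, ha₂, rfl⟩ := ha
  obtain ⟨b₁, hb₁, b₂, hb₂, rfl⟩ := hb
  have e1 := c.K_comm a₁ ha₁ b₁ hb₁
  have e2 := c.Kst_comm a₂ ha₂ b₂ hb₂
  have e3 := c.comm_K_Kst a₁ ha₁ b₂ hb₂
  have e4 := c.comm_K_Kst b₁ hb₁ a₂ ha₂
  calc a₁ * a₂ * (b₁ * b₂) = a₁ * (a₂ * b₁) * b₂ := by group
    _ = a₁ * (b₁ * a₂) * b₂ := by rw [e4]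
    _ = (a₁ * b₁) * (a₂ * b₂) := by group
    _ = (b₁ * a₁) * (b₂ * a₂) := by rw [e1, e2]
    _ = b₁ * (a₁ * b₂) * a₂ := by group
    _ = b₁ * (b₂ * a₁) * a₂ := by rw [e3]
    _ = b₁ * b₂ * (a₁ * a₂) := by group

/-- `C_M(x) = K K*` for `x ∈ K#` -/
theorem centralizer_inf_K {x : G} (hx : x ∈ K) (hx1 : x ≠ 1) :
    M ⊓ centralizer ({x} : Set G) = K ⊔ Kst M K := by
  apply le_antisymm
  · -- a subgroup of prime order in ⟨x⟩
    have hne : orderOf x ≠ 1 := by
      rw [Ne, orderOf_eq_one_iff]; exact hx1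
    obtain ⟨p, hp, hpd⟩ := Nat.exists_prime_and_dvd hne
    haveI := Fact.mk hp
    have hord : orderOf (x ^ (orderOf x / p)) = p :=
      orderOf_pow_orderOf_div (orderOf_pos x).ne' hpd
    set X : Subgroup G := zpowers (x ^ (orderOf x / p)) with hX
    have hXK : X ≤ K := by rw [hX, zpowers_le]; exact pow_mem hx _
    have hXcard : (Nat.card X).Prime := by rw [hX, Nat.card_zpowers, hord]; exact hp
    rw [← c.normalizer_prime X hXK hXcard]
    refine inf_le_inf_left M ?_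
    intro g hg
    rw [mem_centralizer_singleton] at hg
    apply mem_normalizer_fintype
    intro t ht
    have ht' : t ∈ X := ht
    rw [hX, mem_zpowers_iff] at ht'
    obtain ⟨j, rfl⟩ := ht'
    have hc : Commute g x := hg.symm
    have hc2 : Commute g ((x ^ (orderOf x / p)) ^ j) := (hc.pow_right _).zpow_right _
    have : g * (x ^ (orderOf x / p)) ^ j * g⁻¹ = (x ^ (orderOf x / p)) ^ j := by
      rw [hc2.eq]; group
    rw [this]
    exact ht
  · refine le_inf c.Z_le ?_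
    intro g hg
    rw [mem_centralizer_singleton]
    exact c.Z_comm x (mem_sup_left hx) g hg

/-- `C_{M*}(y) = K K*` for `y ∈ K*#` -/
theorem centralizer_inf_Kst {y : G} (hy : y ∈ Kst M K) (hy1 : y ≠ 1) :
    Ms ⊓ centralizer ({y} : Set G) = K ⊔ Kst M K := by
  have := c.symm.centralizer_inf_K hy hy1
  rw [c.Kst_Kst, sup_comm] at this
  exact this

/-- projection of `Z = K × K*` to its factors by a power map -/
theorem exists_proj : ∃ m n : ℕ, ∀ a ∈ K, ∀ b ∈ Kst M K, (a * b) ^ m = a ∧ (a * b) ^ n = b := by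
  have hcop := c.coprime_K_Kst
  let m := Nat.chineseRemainder hcop 1 0
  let n := Nat.chineseRemainder hcop 0 1
  refine ⟨m, n, ?_⟩
  intro a ha b hb
  have hcm : Commute a b := c.comm_K_Kst a ha b hb
  have hoa : orderOf a ∣ Nat.card K := by
    have := orderOf_dvd_natCard (⟨a, ha⟩ : K)
    rwa [Subgroup.orderOf_mk] at this
  have hob : orderOf b ∣ Nat.card ↥(Kst M K) := by
    have := orderOf_dvd_natCard (⟨b, hb⟩ : ↥(Kst M K))
    rwa [Subgroup.orderOf_mk] at this
  constructor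
  · rw [hcm.mul_pow]
    have h1 : a ^ (m : ℕ) = a ^ 1 := by
      rw [pow_eq_pow_iff_modEq]
      exact (m.2.1).of_dvd hoa
    have h2 : b ^ (m : ℕ) = b ^ 0 := by
      rw [pow_eq_pow_iff_modEq]
      exact (m.2.2).of_dvd hob
    rw [h1, h2, pow_one, pow_zero, mul_one]
  · rw [hcm.mul_pow]
    have h1 : a ^ (n : ℕ) = a ^ 0 := by
      rw [pow_eq_pow_iff_modEq]
      exact (n.2.1).of_dvd hoa
    have h2 : b ^ (n : ℕ) = b ^ 1 := by
      rw [pow_eq_pow_iff_modEq]
      exact (n.2.2).of_dvd hob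
    rw [h1, h2, pow_one, pow_zero, one_mul]

/-- `C_G(x y) = K K*` for `x ∈ K#`, `y ∈ K*#` -/
theorem centralizer_mul {x y : G} (hx : x ∈ K) (hx1 : x ≠ 1) (hy : y ∈ Kst M K) (hy1 : y ≠ 1) :
    centralizer ({x * y} : Set G) = K ⊔ Kst M K := by
  apply le_antisymm
  · intro g hg
    rw [mem_centralizer_singleton] at hg
    obtain ⟨m, n, hmn⟩ := c.exists_proj
    obtain ⟨hm, hn⟩ := hmn x hx y hy
    have hc : Commute g (x * y) := hg.symm
    have hgx : g ∈ centralizer ({x} : Set G) := by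
      rw [mem_centralizer_singleton, ← hm]
      exact (hc.pow_right m).eq.symm
    have hgy : g ∈ centralizer ({y} : Set G) := by
      rw [mem_centralizer_singleton, ← hn]
      exact (hc.pow_right n).eq.symm
    rw [← c.centralizer_inf_K hx hx1]
    exact Subgroup.mem_inf.mpr ⟨c.centralizer_Kst_le hy hy1 hgy, hgx⟩
  · intro g hg
    rw [mem_centralizer_singleton]
    exact c.Z_comm (x * y) (mul_mem (mem_sup_left hx) (mem_sup_right hy)) g hg

/-- elements `a b` with `b ≠ 1` lie in no conjugate `M^g`, `g ∉ M` -/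
theorem not_mem_conj {g : G} (hg : g ∉ M) {a b : G} (ha : a ∈ K) (hb : b ∈ Kst M K) (hb1 : b ≠ 1) :
    a * b ∉ M.map (MulAut.conj g).toMonoidHom := by
  intro hmem
  obtain ⟨m, n, hmn⟩ := c.exists_proj
  have hn := (hmn a ha b hb).2
  have hb' : b ∈ M.map (MulAut.conj g).toMonoidHom := by
    rw [← hn]; exact pow_mem hmem n
  have h1 := (c.h31 M c.hM K c.hall c.hK1).1 g hg
  have h2 : b ∈ Kst M K ⊓ M.map (MulAut.conj g).toMonoidHom := Subgroup.mem_inf.mpr ⟨hb, hb'⟩
  rw [h1, mem_bot] at h2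
  exact hb1 h2

end Ctx

end Cfsg.Agent.Helper16.BG147
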