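import Mathlib
import Cfsg.Agent.Lib.Helper16.BG147E

/-!
BG Theorem 14.7 (S1434), part III: the set `Ẑ`, its conjugates, the counting formula.
-/

set_option autoImplicit false

namespace Cfsg.Agent.Helper16.BG147

open Cfsg Subgroup
open Cfsg.Agent.Helper10 (IsPiNum)
open scoped commutatorElement

variable {G : Type*} [Group G] [Finite G]

/-- `Ẑ = K K* ∖ (K ∪ K*)` -/
def Zh (M K : Subgroup G) : Set G :=
  (↑(K ⊔ Kst M K) : Set G) \ ((K : Set G) ∪ ↑(Kst M K))

namespace Ctx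

variable {M K Ms : Subgroup G} (c : Ctx M K Ms)
include c

theorem mem_Zh_iff {z : G} :
    z ∈ Zh M K ↔ ∃ a ∈ K, a ≠ 1 ∧ ∃ b ∈ Kst M K, b ≠ 1 ∧ z = a * b := by
  constructor
  · rintro ⟨hz, hz'⟩
    have hz2 : z ∈ K ⊔ Kst M K := hz
    rw [mem_sup_iff_of_commute K (Kst M K) c.comm_K_Kst] at hz2
    obtain ⟨a, ha, b, hb, rfl⟩ := hz2
    refine ⟨a, ha, ?_, b, hb, ?_, rfl⟩
    · rintro rfl
      apply hz'
      right
      rw [one_mul]; exact hb
    · rintro rfl
      apply hz'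
      left
      rw [mul_one]; exact ha
  · rintro ⟨a, ha, ha1, b, hb, hb1, rfl⟩
    refine ⟨mul_mem (mem_sup_left ha) (mem_sup_right hb), ?_⟩
    rintro (h | h)
    · have hbK : b ∈ K := by
        have := mul_mem (inv_mem ha) h
        rwa [inv_mul_cancel_left] at this
      have : b ∈ K ⊓ Kst M K := Subgroup.mem_inf.mpr ⟨hbK, hb⟩
      rw [c.K_inf_Kst, mem_bot] at this
      exact hb1 this
    · have haK : a ∈ Kst M K := by
        have := mul_mem h (inv_mem hb)
        rwa [mul_inv_cancel_right] at this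
      have : a ∈ K ⊓ Kst M K := Subgroup.mem_inf.mpr ⟨ha, haK⟩
      rw [c.K_inf_Kst, mem_bot] at this
      exact ha1 this

omit [Finite G] c in
theorem Zh_sub : Zh M K ⊆ (↑(K ⊔ Kst M K) : Set G) := Set.diff_subset

/-- (e1): `Ẑ` misses every `M^g`, `g ∉ M` -/
theorem Zh_not_mem_conj {g : G} (hg : g ∉ M) {z : G} (hz : z ∈ Zh M K) :
    z ∉ M.map (MulAut.conj g).toMonoidHom := by
  obtain ⟨a, ha, -, b, hb, hb1, rfl⟩ := c.mem_Zh_iff.mp hz
  exact c.not_mem_conj hg ha hb hb1

/-- `Ẑ` is a TI-subset with normalizer contained in `Z` -/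
theorem Zh_TI (g : G) (z : G) (hz : z ∈ Zh M K) (hz' : g * z * g⁻¹ ∈ Zh M K) :
    g ∈ K ⊔ Kst M K := by
  have hgM : g ∈ M := by
    by_contra hg
    apply c.Zh_not_mem_conj hg hz'
    exact ⟨z, c.Z_le (Zh_sub hz), rfl⟩
  obtain ⟨a, ha, ha1, b, hb, hb1, rfl⟩ := c.mem_Zh_iff.mp hz
  obtain ⟨a', ha', ha'1, b', hb', hb'1, hab⟩ := c.mem_Zh_iff.mp hz'
  obtain ⟨m, n, hmn⟩ := c.exists_proj
  have h1 := (hmn a ha b hb).1
  have h2 := (hmn a' ha' b' hb').1
  have h3 : a' = g * a * g⁻¹ := by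
    rw [← h2, ← hab, conj_pow, h1]
  by_contra hgZ
  have h4 := (c.h31 M c.hM K c.hall c.hK1).2.1 g hgM hgZ
  have h5 : a' ∈ K ⊓ K.map (MulAut.conj g).toMonoidHom :=
    Subgroup.mem_inf.mpr ⟨ha', ⟨a, ha, h3.symm⟩⟩
  rw [h4, mem_bot] at h5
  exact ha'1 h5

theorem card_Z : Nat.card ↥(K ⊔ Kst M K) = Nat.card K * Nat.card ↥(Kst M K) :=
  card_sup_of_commute K (Kst M K) c.comm_K_Kst c.K_inf_Kst

theorem ncard_Zh : Set.ncard (Zh M K) + Nat.card K + Nat.card ↥(Kst M K) =
    Nat.card K * Nat.card ↥(Kst M K) + 1 := by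
  have := ncard_diff_union (K ⊔ Kst M K) K (Kst M K) le_sup_left le_sup_right c.K_inf_Kst
  rw [c.card_Z] at this
  exact this

theorem card_conj_Zh :
    Nat.card K * Nat.card ↥(Kst M K) * Set.ncard (conjUnion (Zh M K)) =
      Nat.card G * Set.ncard (Zh M K) := by
  have := card_conjUnion (K ⊔ Kst M K) c.Z_comm (Zh M K) Zh_sub c.Zh_TI
  rw [c.card_Z] at this
  exact this

theorem three_le_card_K : 3 ≤ Nat.card K ∧ Odd (Nat.card K) := by
  have h1 : 1 < Nat.card K := K.one_lt_card_iff_ne_bot.mpr c.hK1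
  have h2 : Odd (Nat.card K) := by
    have hodd : Odd (Nat.card G) := c.hG.1
    exact Odd.of_dvd_nat hodd (Subgroup.card_subgroup_dvd_card K)
  refine ⟨?_, h2⟩
  obtain ⟨t, ht⟩ := h2
  omega

theorem three_le_card_Kst : 3 ≤ Nat.card ↥(Kst M K) ∧ Odd (Nat.card ↥(Kst M K)) :=
  c.symm.three_le_card_K

/-- the counting formula -/
theorem count :
    Nat.card K * Nat.card ↥(Kst M K) * Set.ncard (conjUnion (Zh M K)) =
      (Nat.card K * Nat.card ↥(Kst M K) - Nat.card K - Nat.card ↥(Kst M K) + 1) * Nat.card G ∧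
    Nat.card G < 2 * Set.ncard (conjUnion (Zh M K)) := by
  have h1 := c.ncard_Zh
  have h2 := c.card_conj_Zh
  obtain ⟨hk3, hkodd⟩ := c.three_le_card_K
  obtain ⟨hs3, hsodd⟩ := c.three_le_card_Kst
  have hcop := c.coprime_K_Kst
  set k := Nat.card K with hk
  set s := Nat.card ↥(Kst M K) with hs
  set T := Set.ncard (Zh M K) with hT
  set N := Set.ncard (conjUnion (Zh M K)) with hN
  have hks : k + s ≤ k * s := by nlinarith
  have hTeq : k * s - k - s + 1 = T := by
    have : k * s = T + k + s - 1 := by omega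
    omega
  constructor
  · rw [hTeq, h2, mul_comm]
  · -- one of k, s is at least 5
    have h5 : 5 ≤ k ∨ 5 ≤ s := by
      by_contra hcon
      push Not at hcon
      obtain ⟨a, ha⟩ := hkodd
      obtain ⟨b, hb⟩ := hsodd
      have hk3' : k = 3 := by omega
      have hs3' : s = 3 := by omega
      rw [hk3', hs3'] at hcop
      exact absurd hcop (by decide)
    have hgpos : 0 < Nat.card G := Nat.card_pos
    have hT2 : k * s < 2 * T := by
      have hTe : T = k * s + 1 - k - s := by omega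
      rcases h5 with h | h
      · have : k * s + 2 > 2 * k + 2 * s := by nlinarith
        omega
      · have : k * s + 2 > 2 * k + 2 * s := by nlinarith
        omega
    by_contra hcon
    push Not at hcon
    have h3 : k * s * (2 * N) ≤ k * s * Nat.card G := Nat.mul_le_mul_left _ hcon
    have h4 : k * s * (2 * N) = 2 * (Nat.card G * T) := by rw [← h2]; ring
    have h5' : Nat.card G * (k * s) < Nat.card G * (2 * T) := Nat.mul_lt_mul_of_pos_left hT2 hgpos
    nlinarith

end Ctx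

end Cfsg.Agent.Helper16.BG147
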