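import Mathlib
import Cfsg.Agent.Lib.Helper16.BG147F

/-!
BG Theorem 14.7 (S1434), part IV: `K*` is a Hall `σ(M)`-subgroup of `M*`; assembly.
-/

set_option autoImplicit false

namespace Cfsg.Agent.Helper16.BG147

open Cfsg Subgroup
open Cfsg.Agent.Helper10 (IsPiNum)
open scoped commutatorElement

variable {G : Type*} [Group G] [Finite G]

namespace Ctx

variable {M K Ms : Subgroup G} (c : Ctx M K Ms)
include c

/-- `σ(M)` and `σ(M*)` are disjoint -/
theorem sigma_disjoint : ∀ p, p ∈ sigma M → p ∉ sigma Ms := by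
  intro p hp hp'
  obtain ⟨g, hg⟩ := c.h78 M Ms c.hM c.hMs ⟨p, hp, hp'⟩
  have hconj : ∀ m ∈ M, g * m * g⁻¹ ∈ Ms := by
    intro m hm
    rw [hg]
    exact ⟨m, hm, rfl⟩
  by_cases hgMs : g⁻¹ ∈ Ms
  · -- then `M = M*`
    have hle : M ≤ Ms := by
      intro m hm
      have h1 := hconj m hm
      have h2 := mul_mem (mul_mem hgMs h1) (inv_mem hgMs)
      have : g⁻¹ * (g * m * g⁻¹) * g⁻¹⁻¹ = m := by group
      rwa [this] at h2
    have hMsM : Ms = M := (c.hM.le_iff_eq c.hMs.1).mp hle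
    have h1 : K ≤ sigmaCore M := by
      have := c.K_le_sigmaCore_Ms
      rwa [hMsM] at this
    have h2 : K ≤ K ⊓ sigmaCore M := le_inf le_rfl h1
    rw [c.K_inf_sigmaCore] at h2
    exact c.hK1 (eq_bot_iff.mpr h2)
  · have h1 : Kst Ms (Kst M K) ⊓ Ms.map (MulAut.conj g⁻¹).toMonoidHom = ⊥ :=
      (c.h31 Ms c.hMs (Kst M K) c.hKstH c.Kst_ne_bot).1 g⁻¹ hgMs
    rw [c.Kst_Kst] at h1
    apply c.hK1
    rw [eq_bot_iff, ← h1]
    intro k hk
    refine Subgroup.mem_inf.mpr ⟨hk, ?_⟩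
    refine ⟨g * k * g⁻¹, hconj k (c.K_le hk), ?_⟩
    show g⁻¹ * (g * k * g⁻¹) * g⁻¹⁻¹ = k
    group

theorem sigmaCore_inf : sigmaCore M ⊓ sigmaCore Ms = ⊥ :=
  Subgroup.inf_eq_bot_of_coprime
    (coprime_of_isPiNum c.sigma_disjoint (card_sigmaCore M) (card_sigmaCore Ms))

/-- `K*` is a Hall `σ(M)`-subgroup of `M*` -/
theorem Kst_hall : IsPiHallOf (sigma M) (Kst M K) Ms := by
  refine ⟨c.Kst_le_Ms, ?_, ?_⟩
  · intro p hp hpd
    exact card_sigmaCore M p hp (hpd.trans (Subgroup.card_dvd_of_le inf_le_left))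
  · intro p hp hpσ
    haveI : Group.IsSolvable ↥Ms := Cfsg.Agent.Helper14.BGTrans.isSolvable_of_ne_top c.hG c.hMs.1
    have hcard : Nat.card ((Kst M K).subgroupOf Ms) = Nat.card ↥(Kst M K) :=
      Nat.card_congr (Subgroup.subgroupOfEquivOfLe c.Kst_le_Ms).toEquiv
    obtain ⟨H, hKH, hHpi, hHidx⟩ := exists_piHall_ge (L := ↥Ms) (sigma M)
      ((Kst M K).subgroupOf Ms) (by
        rw [hcard]
        intro q hq hqd
        exact card_sigmaCore M q hq (hqd.trans (Subgroup.card_dvd_of_le inf_le_left)))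
    have hYcard : Nat.card (H.map Ms.subtype) = Nat.card H :=
      Subgroup.card_map_of_injective Ms.subtype_injective
    have hKY : Kst M K ≤ H.map Ms.subtype := by
      intro y hy
      exact ⟨⟨y, c.Kst_le_Ms hy⟩, hKH (mem_subgroupOf.mpr hy), rfl⟩
    have hY : H.map Ms.subtype ≤ sigmaCore M := by
      apply (c.h31 M c.hM K c.hall c.hK1).2.2.2 (H.map Ms.subtype)
      · intro q hq hqd
        rw [hYcard] at hqd
        exact hHpi q hq hqd
      · rw [inf_eq_right.mpr hKY]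
        exact c.Kst_ne_bot
    have hYMs : H.map Ms.subtype ≤ Ms := Subgroup.map_subtype_le _
    have hYK : H.map Ms.subtype ≤ Kst M K := by
      intro u hu
      refine Subgroup.mem_inf.mpr ⟨hY hu, ?_⟩
      rw [mem_centralizer_iff]
      intro k hk
      -- the commutator lies in `M_σ ∩ M*_σ = 1`
      have h1 : k * u * k⁻¹ * u⁻¹ ∈ sigmaCore M :=
        mul_mem (conj_mem_sigmaCore (c.K_le hk) (hY hu)) (inv_mem (hY hu))
      have h2 : k * u * k⁻¹ * u⁻¹ ∈ sigmaCore Ms := by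
        have h3 : u * k⁻¹ * u⁻¹ ∈ sigmaCore Ms :=
          conj_mem_sigmaCore (hYMs hu) (inv_mem (c.K_le_sigmaCore_Ms hk))
        have := mul_mem (c.K_le_sigmaCore_Ms hk) h3
        have e : k * (u * k⁻¹ * u⁻¹) = k * u * k⁻¹ * u⁻¹ := by group
        rwa [e] at this
      have h4 : k * u * k⁻¹ * u⁻¹ ∈ sigmaCore M ⊓ sigmaCore Ms := Subgroup.mem_inf.mpr ⟨h1, h2⟩
      rw [c.sigmaCore_inf, mem_bot] at h4
      calc k * u = (k * u * k⁻¹ * u⁻¹) * (u * k) := by group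
        _ = u * k := by rw [h4, one_mul]
    have hHeq : H = (Kst M K).subgroupOf Ms :=
      le_antisymm (fun h hh => mem_subgroupOf.mpr (hYK (mem_map_of_mem _ hh))) hKH
    have := hHidx p hp hpσ
    rw [hHeq] at this
    exact this

end Ctx

/-- BG Theorem 14.7 (b)-(e), from the frozen statements S1430, S1431, S1432, S1351 (second half),
S1378 (second half) -/
theorem main (hG : IsMinSimpleOddOrder G) (h30 : St1430 G) (h31 : St1431 G) (h32 : St1432 G)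
    (h51 : St1351b G) (h78 : St1378b G)
    (M : Subgroup G) (hM : IsCoatom M) (K U : Subgroup G) (hKU : Cfsg.IsSigmaDecomposition M K U) (hK1 : K ≠ ⊥) (Mstar : Subgroup G) (hMstar : IsCoatom Mstar)
    (hKst : K = Cfsg.sigmaCore Mstar ⊓ Subgroup.centralizer ((Cfsg.sigmaCore M ⊓ Subgroup.centralizer (K : Set G)) : Set G))
    (hKstH : Cfsg.IsPiHallOf (Cfsg.kappa Mstar) (Cfsg.sigmaCore M ⊓ Subgroup.centralizer (K : Set G)) Mstar) :
    Cfsg.kappa M = Cfsg.tau1 M ∧ Cfsg.IsPiHallOf (Cfsg.sigma M) (Cfsg.sigmaCore M ⊓ Subgroup.centralizer (K : Set G)) Mstar ∧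
      (∀ x ∈ K, x ≠ 1 → ∀ y ∈ (Cfsg.sigmaCore M ⊓ Subgroup.centralizer (K : Set G)), y ≠ 1 →
        M ⊓ Subgroup.centralizer ({x} : Set G) = K ⊔ (Cfsg.sigmaCore M ⊓ Subgroup.centralizer (K : Set G)) ∧ Mstar ⊓ Subgroup.centralizer ({y} : Set G) = K ⊔ (Cfsg.sigmaCore M ⊓ Subgroup.centralizer (K : Set G)) ∧
        Subgroup.centralizer ({x * y} : Set G) = K ⊔ (Cfsg.sigmaCore M ⊓ Subgroup.centralizer (K : Set G))) ∧
      (∀ g : G, g ∉ M → ∀ z ∈ ((↑(K ⊔ (Cfsg.sigmaCore M ⊓ Subgroup.centralizer (K : Set G))) : Set G) \ ((K : Set G) ∪ ↑(Cfsg.sigmaCore M ⊓ Subgroup.centralizer (K : Set G)))), z ∉ M.map (MulAut.conj g).toMonoidHom) ∧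
      Nat.card K * Nat.card ↥(Cfsg.sigmaCore M ⊓ Subgroup.centralizer (K : Set G)) * Set.ncard {a : G | ∃ g : G, ∃ z ∈ ((↑(K ⊔ (Cfsg.sigmaCore M ⊓ Subgroup.centralizer (K : Set G))) : Set G) \ ((K : Set G) ∪ ↑(Cfsg.sigmaCore M ⊓ Subgroup.centralizer (K : Set G)))), a = g * z * g⁻¹} =
        (Nat.card K * Nat.card ↥(Cfsg.sigmaCore M ⊓ Subgroup.centralizer (K : Set G)) - Nat.card K - Nat.card ↥(Cfsg.sigmaCore M ⊓ Subgroup.centralizer (K : Set G)) + 1) * Nat.card G ∧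
      Nat.card G < 2 * Set.ncard {a : G | ∃ g : G, ∃ z ∈ ((↑(K ⊔ (Cfsg.sigmaCore M ⊓ Subgroup.centralizer (K : Set G))) : Set G) \ ((K : Set G) ∪ ↑(Cfsg.sigmaCore M ⊓ Subgroup.centralizer (K : Set G)))), a = g * z * g⁻¹} := by
  have c : Ctx M K Mstar :=
    { hG := hG, hM := hM, hMs := hMstar, cyc := hKU.cyclic, hall := hKU.hall, hK1 := hK1,
      hKst := hKst, hKstH := hKstH, h30 := h30, h31 := h31, h32 := h32, h51 := h51, h78 := h78 }
  refine ⟨c.kappa_eq_tau1, c.Kst_hall, ?_, ?_, ?_⟩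
  · intro x hx hx1 y hy hy1
    exact ⟨c.centralizer_inf_K hx hx1, c.centralizer_inf_Kst hy hy1, c.centralizer_mul hx hx1 hy hy1⟩
  · intro g hg z hz
    exact c.Zh_not_mem_conj hg hz
  · exact c.count

end Cfsg.Agent.Helper16.BG147
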