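import Mathlib
import Cfsg.Agent.Lib.Helper16.BG147G
import Cfsg.Agent.Lib.Helper15.SylowIn
import Cfsg.Agent.Lib.Helper24.BG101C
import Cfsg.Agent.Lib.Helper7.BG121a

/-!
BG Lemma 14.5(a) (S1433): the cosets `x R(x)` are pairwise disjoint.  Part I: conjugation
invariance of `σ(M)`, uniqueness of `π`-decompositions.
-/

set_option autoImplicit false

namespace Cfsg.Agent.Helper16.BG145

open Cfsg Subgroup
open Cfsg.Agent.Helper10 (IsPiNum)
open Cfsg.Agent.Helper15 (mem_map_conj_iff conj_mem_map_conj map_conj_map_conj map_conj_one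
  map_conj_inv_map_conj map_conj_map_conj_inv map_conj_mono card_map_conj)

variable {G : Type*} [Group G] [Finite G]

/-- a Sylow subgroup of `G` inside `M` with normalizer inside `M` puts `p` in `σ(M)` -/
theorem mem_sigma_of_sylow {p : ℕ} [Fact p.Prime] {M : Subgroup G} (hpM : p ∣ Nat.card M)
    (S : Sylow p G) (hSM : (S : Subgroup G) ≤ M)
    (hN : normalizer ((S : Subgroup G) : Set G) ≤ M) : p ∈ sigma M := by
  refine ⟨Fact.out, hpM, S.subtype hSM, ?_⟩
  have : ((S.subtype hSM : Sylow p M) : Subgroup M).map M.subtype = S := by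
    rw [Sylow.coe_subtype]; exact Subgroup.map_subgroupOf_eq_of_le hSM
  rw [this]; exact hN

theorem sigma_map_conj_subset (M : Subgroup G) (g : G) {p : ℕ} (hp : p ∈ sigma M) :
    p ∈ sigma (M.map (MulAut.conj g).toMonoidHom) := by
  haveI := Fact.mk hp.1
  obtain ⟨S, hSM, hSN⟩ := Cfsg.Agent.Helper24.BG101.exists_sylow_of_mem_sigma hp
  have hcoe : ((g • S : Sylow p G) : Subgroup G) = (S : Subgroup G).map (MulAut.conj g).toMonoidHom :=
    rfl
  apply mem_sigma_of_sylow (S := g • S)
  · rw [card_map_conj]; exact hp.2.1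
  · rw [hcoe]; exact map_conj_mono hSM g
  · rw [hcoe]
    intro n hn
    rw [mem_map_conj_iff]
    apply hSN
    rw [mem_normalizer_iff] at hn ⊢
    intro h
    have := hn (g * h * g⁻¹)
    rw [mem_map_conj_iff, mem_map_conj_iff] at this
    have e1 : g⁻¹ * (g * h * g⁻¹) * g = h := by group
    have e2 : g⁻¹ * (n * (g * h * g⁻¹) * n⁻¹) * g = g⁻¹ * n * g * h * (g⁻¹ * n * g)⁻¹ := by group
    rw [e1, e2] at this
    exact this

/-- `σ` is invariant under conjugation -/
theorem sigma_map_conj (M : Subgroup G) (g : G) :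
    sigma (M.map (MulAut.conj g).toMonoidHom) = sigma M := by
  ext p
  constructor
  · intro hp
    have := sigma_map_conj_subset (M.map (MulAut.conj g).toMonoidHom) g⁻¹ hp
    rwa [map_conj_inv_map_conj] at this
  · exact sigma_map_conj_subset M g

section decomposition

variable {H : Type*} [Group H] [Finite H]

/-- uniqueness of the decomposition of an element into commuting `π`- and `π'`-parts -/
theorem pi_decomp_unique (π : Set ℕ) {a b a' b' : H} (hab : a * b = b * a) (hab' : a' * b' = b' * a')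
    (h : a * b = a' * b') (ha : IsPiNum π (orderOf a)) (ha' : IsPiNum π (orderOf a'))
    (hb : IsPiNum πᶜ (orderOf b)) (hb' : IsPiNum πᶜ (orderOf b')) : a = a' ∧ b = b' := by
  have hcop : (orderOf a).Coprime (orderOf b) :=
    BG147.coprime_of_isPiNum (π := π) (π' := πᶜ) (fun p hp hp' => hp' hp) ha hb
  have hcop' : (orderOf a').Coprime (orderOf b') :=
    BG147.coprime_of_isPiNum (π := π) (π' := πᶜ) (fun p hp hp' => hp' hp) ha' hb'
  obtain ⟨m, hm⟩ := BG147.exists_pow_eq_left hab hcop
  obtain ⟨n, hn⟩ := BG147.exists_pow_eq_right hab hcop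
  obtain ⟨m', hm'⟩ := BG147.exists_pow_eq_left hab' hcop'
  obtain ⟨n', hn'⟩ := BG147.exists_pow_eq_right hab' hcop'
  set g := a * b with hg
  rw [← h] at hm' hn'
  -- all four elements are powers of g, hence commute
  have caa' : Commute a a' := by rw [← hm, ← hm']; exact (Commute.refl g).pow_pow m m'
  have cbb' : Commute b b' := by rw [← hn, ← hn']; exact (Commute.refl g).pow_pow n n'
  -- a'⁻¹ a = b' b⁻¹
  have key : a'⁻¹ * a = b' * b⁻¹ := by
    have : a' * b' = a * b := h.symm
    calc a'⁻¹ * a = a'⁻¹ * (a * b) * b⁻¹ := by group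
      _ = a'⁻¹ * (a' * b') * b⁻¹ := by rw [this]
      _ = b' * b⁻¹ := by group
  have h1 : orderOf (a'⁻¹ * a) ∣ orderOf a' * orderOf a := by
    have c : Commute a'⁻¹ a := caa'.symm.inv_left
    have := c.orderOf_mul_dvd_mul_orderOf
    rwa [orderOf_inv] at this
  have h2 : orderOf (b' * b⁻¹) ∣ orderOf b' * orderOf b := by
    have c : Commute b' b⁻¹ := cbb'.symm.inv_right
    have := c.orderOf_mul_dvd_mul_orderOf
    rwa [orderOf_inv] at this
  have hc : (orderOf a' * orderOf a).Coprime (orderOf b' * orderOf b) :=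
    BG147.coprime_of_isPiNum (π := π) (π' := πᶜ) (fun p hp hp' => hp' hp) (ha'.mul ha) (hb'.mul hb)
  rw [← key] at h2
  have h3 : orderOf (a'⁻¹ * a) = 1 := Nat.eq_one_of_dvd_coprimes hc h1 h2
  rw [orderOf_eq_one_iff] at h3
  have e1 : a = a' := by
    have := congrArg (fun t => a' * t) h3
    simpa using this
  refine ⟨e1, ?_⟩
  have : b' * b⁻¹ = 1 := by rw [← key]; exact h3
  have := congrArg (fun t => t * b) this
  simpa using this.symm

end decomposition

end Cfsg.Agent.Helper16.BG145
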