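import Mathlib
import Cfsg.Agent.Lib.Helper11.FHDefs

/-!
# Feit–Higman (S1142), piece REP1 (helper16): the explicit two-dimensional representations
-/

set_option autoImplicit false
set_option linter.unusedSimpArgs false

namespace Cfsg.Agent.Helper11.FH

open Matrix Real

/-! ### computations with abstract entries -/

theorem rep1_B_sq (t κ ν : ℝ) (hν : ν * ν = κ * (t + 1 - κ)) :
    (!![κ - 1, ν; ν, t - κ] : Matrix (Fin 2) (Fin 2) ℝ) * !![κ - 1, ν; ν, t - κ] =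
      t • (1 : Matrix (Fin 2) (Fin 2) ℝ) + (t - 1) • !![κ - 1, ν; ν, t - κ] := by
  ext i j
  fin_cases i <;> fin_cases j
  · simp [Matrix.mul_apply, Fin.sum_univ_two]
    linear_combination hν
  · simp [Matrix.mul_apply, Fin.sum_univ_two]
    ring
  · simp [Matrix.mul_apply, Fin.sum_univ_two]
    ring
  · simp [Matrix.mul_apply, Fin.sum_univ_two]
    linear_combination hν

theorem rep1_AB_sq (s t κ ν : ℝ) (hν : ν * ν = κ * (t + 1 - κ)) :
    ((!![s, 0; 0, -1] : Matrix (Fin 2) (Fin 2) ℝ) * !![κ - 1, ν; ν, t - κ]) *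
      ((!![s, 0; 0, -1] : Matrix (Fin 2) (Fin 2) ℝ) * !![κ - 1, ν; ν, t - κ]) =
      (κ * (s + 1) - s - t) • ((!![s, 0; 0, -1] : Matrix (Fin 2) (Fin 2) ℝ) *
        !![κ - 1, ν; ν, t - κ]) - (s * t) • (1 : Matrix (Fin 2) (Fin 2) ℝ) := by
  ext i j
  fin_cases i <;> fin_cases j
  · simp [Matrix.mul_apply, Fin.sum_univ_two]
    linear_combination (-s) * hν
  · simp [Matrix.mul_apply, Fin.sum_univ_two]
    ring
  · simp [Matrix.mul_apply, Fin.sum_univ_two]
    ring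
  · simp [Matrix.mul_apply, Fin.sum_univ_two]
    linear_combination (-s) * hν

theorem rep1_BA_sq (s t κ ν : ℝ) (hν : ν * ν = κ * (t + 1 - κ)) :
    ((!![κ - 1, ν; ν, t - κ] : Matrix (Fin 2) (Fin 2) ℝ) * !![s, 0; 0, -1]) *
      ((!![κ - 1, ν; ν, t - κ] : Matrix (Fin 2) (Fin 2) ℝ) * !![s, 0; 0, -1]) =
      (κ * (s + 1) - s - t) • ((!![κ - 1, ν; ν, t - κ] : Matrix (Fin 2) (Fin 2) ℝ) *
        !![s, 0; 0, -1]) - (s * t) • (1 : Matrix (Fin 2) (Fin 2) ℝ) := by
  ext i j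
  fin_cases i <;> fin_cases j
  · simp [Matrix.mul_apply, Fin.sum_univ_two]
    linear_combination (-s) * hν
  · simp [Matrix.mul_apply, Fin.sum_univ_two]
    ring
  · simp [Matrix.mul_apply, Fin.sum_univ_two]
    ring
  · simp [Matrix.mul_apply, Fin.sum_univ_two]
    linear_combination (-s) * hν

theorem rep1_odd (s κ ν : ℝ) (hν : ν * ν = κ * (s + 1 - κ)) :
    (!![s, 0; 0, -1] : Matrix (Fin 2) (Fin 2) ℝ) * !![κ - 1, ν; ν, s - κ] * !![s, 0; 0, -1] -
      (!![κ - 1, ν; ν, s - κ] : Matrix (Fin 2) (Fin 2) ℝ) * !![s, 0; 0, -1] *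
        !![κ - 1, ν; ν, s - κ] =
      ((κ * (s + 1) - s - s) + s) • ((!![s, 0; 0, -1] : Matrix (Fin 2) (Fin 2) ℝ) -
        !![κ - 1, ν; ν, s - κ]) := by
  ext i j
  fin_cases i <;> fin_cases j
  · simp [Matrix.mul_apply, Fin.sum_univ_two]
    linear_combination hν
  · simp [Matrix.mul_apply, Fin.sum_univ_two]
    ring
  · simp [Matrix.mul_apply, Fin.sum_univ_two]
    ring
  · simp [Matrix.mul_apply, Fin.sum_univ_two]
    linear_combination (-s) * hν

/-- the normal form of `T2` -/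
theorem rep1_T2_eq (s t y : ℝ) (hs : 0 < s) (hy1 : -(s + t) < y) (hy2 : y < s * t + 1) :
    ∃ κ ν : ℝ, T2 s t y = !![κ - 1, ν; ν, t - κ] ∧ y = κ * (s + 1) - s - t ∧
      ν * ν = κ * (t + 1 - κ) ∧ ν ≠ 0 := by
  have hs1 : s + 1 ≠ 0 := by linarith
  have hs1' : 0 < s + 1 := by linarith
  have hκ0 : 0 < (s + t + y) / (s + 1) := div_pos (by linarith) hs1'
  have hκ1 : (s + t + y) / (s + 1) < t + 1 := by
    rw [div_lt_iff₀ hs1']
    nlinarith
  have hpos : 0 < (s + t + y) / (s + 1) * (t + 1 - (s + t + y) / (s + 1)) :=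
    mul_pos hκ0 (by linarith)
  refine ⟨(s + t + y) / (s + 1),
    Real.sqrt ((s + t + y) / (s + 1) * (t + 1 - (s + t + y) / (s + 1))), rfl, ?_, ?_, ?_⟩
  · field_simp
    ring
  · exact Real.mul_self_sqrt hpos.le
  · exact (Real.sqrt_pos.2 hpos).ne'

/-! ### the statements of the skeleton -/

theorem T1_transpose (s : ℝ) : (T1 s)ᵀ = T1 s := by
  unfold T1
  ext i j
  fin_cases i <;> fin_cases j <;> rfl

theorem T2_transpose (s t y : ℝ) : (T2 s t y)ᵀ = T2 s t y := by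
  unfold T2
  ext i j
  fin_cases i <;> fin_cases j <;> rfl

theorem T1_sq (s : ℝ) : T1 s * T1 s = s • (1 : Matrix (Fin 2) (Fin 2) ℝ) + (s - 1) • T1 s := by
  unfold T1
  ext i j
  fin_cases i <;> fin_cases j
  · simp [Matrix.mul_apply, Fin.sum_univ_two]
    ring
  · simp [Matrix.mul_apply, Fin.sum_univ_two]
  · simp [Matrix.mul_apply, Fin.sum_univ_two]
  · simp [Matrix.mul_apply, Fin.sum_univ_two]

theorem T2_sq (s t y : ℝ) (hs : 0 < s) (hy1 : -(s + t) < y) (hy2 : y < s * t + 1) :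
    T2 s t y * T2 s t y = t • (1 : Matrix (Fin 2) (Fin 2) ℝ) + (t - 1) • T2 s t y := by
  obtain ⟨κ, ν, hT, -, hν, -⟩ := rep1_T2_eq s t y hs hy1 hy2
  rw [hT]
  exact rep1_B_sq t κ ν hν

theorem T1_trace (s : ℝ) : (T1 s).trace = s - 1 := by
  unfold T1
  rw [Matrix.trace_fin_two]
  simp
  ring

theorem T2_trace (s t y : ℝ) : (T2 s t y).trace = t - 1 := by
  unfold T2
  rw [Matrix.trace_fin_two]
  simp

theorem T1T2_trace (s t y : ℝ) (hs : 0 < s) : (T1 s * T2 s t y).trace = y := by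
  have hs1 : s + 1 ≠ 0 := by linarith
  unfold T1 T2
  rw [Matrix.trace_fin_two]
  simp [Matrix.mul_apply, Fin.sum_univ_two]
  field_simp
  ring

theorem T1T2_sq (s t y : ℝ) (hs : 0 < s) (hy1 : -(s + t) < y) (hy2 : y < s * t + 1) :
    (T1 s * T2 s t y) * (T1 s * T2 s t y) =
      y • (T1 s * T2 s t y) - (s * t) • (1 : Matrix (Fin 2) (Fin 2) ℝ) := by
  obtain ⟨κ, ν, hT, hy, hν, -⟩ := rep1_T2_eq s t y hs hy1 hy2
  rw [hT]
  unfold T1
  have := rep1_AB_sq s t κ ν hν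
  rw [← hy] at this
  exact this

theorem T2T1_sq (s t y : ℝ) (hs : 0 < s) (hy1 : -(s + t) < y) (hy2 : y < s * t + 1) :
    (T2 s t y * T1 s) * (T2 s t y * T1 s) =
      y • (T2 s t y * T1 s) - (s * t) • (1 : Matrix (Fin 2) (Fin 2) ℝ) := by
  obtain ⟨κ, ν, hT, hy, hν, -⟩ := rep1_T2_eq s t y hs hy1 hy2
  rw [hT]
  unfold T1
  have := rep1_BA_sq s t κ ν hν
  rw [← hy] at this
  exact this

theorem T_schur (s t y : ℝ) (hs : 0 < s) (hy1 : -(s + t) < y) (hy2 : y < s * t + 1)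
    (M : Matrix (Fin 2) (Fin 2) ℝ) (h1 : M * T1 s = T1 s * M)
    (h2 : M * T2 s t y = T2 s t y * M) : ∃ c : ℝ, M = c • (1 : Matrix (Fin 2) (Fin 2) ℝ) := by
  obtain ⟨κ, ν, hT, -, -, hν0⟩ := rep1_T2_eq s t y hs hy1 hy2
  rw [hT] at h2
  unfold T1 at h1
  have hs1 : s + 1 ≠ 0 := by linarith
  -- the off-diagonal entries vanish
  have e01 := congrFun (congrFun h1 0) 1
  have e10 := congrFun (congrFun h1 1) 0
  simp [Matrix.mul_apply, Fin.sum_univ_two] at e01 e10
  have m01 : M 0 1 = 0 := by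
    have : (s + 1) * M 0 1 = 0 := by linear_combination -e01
    rcases mul_eq_zero.1 this with h | h
    · exact absurd h hs1
    · exact h
  have m10 : M 1 0 = 0 := by
    have : (s + 1) * M 1 0 = 0 := by linear_combination e10
    rcases mul_eq_zero.1 this with h | h
    · exact absurd h hs1
    · exact h
  have f01 := congrFun (congrFun h2 0) 1
  simp [Matrix.mul_apply, Fin.sum_univ_two, m01, m10] at f01
  have m00 : M 0 0 = M 1 1 := by
    have : ν * (M 0 0 - M 1 1) = 0 := by linear_combination f01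
    rcases mul_eq_zero.1 this with h | h
    · exact absurd h hν0
    · linarith
  refine ⟨M 0 0, ?_⟩
  ext i j
  fin_cases i <;> fin_cases j
  · simp
  · simp [m01]
  · simp [m10]
  · simp [m00]

/-- the identity behind the braid relation for odd `n` (where `s = t`) -/
theorem T_odd_identity (s y : ℝ) (hs : 0 < s) (hy1 : -(s + s) < y) (hy2 : y < s * s + 1) :
    T1 s * T2 s s y * T1 s - T2 s s y * T1 s * T2 s s y = (y + s) • (T1 s - T2 s s y) := by
  obtain ⟨κ, ν, hT, hy, hν, -⟩ := rep1_T2_eq s s y hs hy1 hy2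
  rw [hT]
  unfold T1
  have := rep1_odd s κ ν hν
  rw [← hy] at this
  exact this

end Cfsg.Agent.Helper11.FH
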