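import Mathlib
import Cfsg.Agent.Lib.Helper3.SmallOrd
import Cfsg.Agent.Lib.Lead.PermTools
import Cfsg.Agent.Lib.Helper21.KleinSylow
import Cfsg.Agent.S0992

/-!
# No simple group of order 420 (piece O420 of S0496, helper16)
-/

set_option autoImplicit false

namespace Cfsg.Agent.Helper3.SmallOrd

variable {G : Type*} [Group G] [Finite G]

/-- an element of square one normalizing a subgroup of prime order centralizes it or inverts it -/
theorem o420_centralizes_or_inverts {p : ℕ} [Fact p.Prime] (P : Subgroup G)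
    (hP : Nat.card P = p) {a : G} (ha : a * a = 1)
    (haN : a ∈ Subgroup.normalizer (P : Set G)) :
    a ∈ Subgroup.centralizer (P : Set G) ∨ ∀ y ∈ P, a * y * a⁻¹ = y⁻¹ := by
  by_cases h : ∃ v ∈ P, v ≠ 1 ∧ Commute a v
  · obtain ⟨v, hv, hv1, hc⟩ := h
    exact Or.inl (Cfsg.Agent.Lead.mem_centralizer_of_commute_of_prime_card P hP hv hv1 hc)
  · right
    push Not at h
    intro y hy
    have hay : a * y * a⁻¹ ∈ P := (Subgroup.mem_normalizer_iff.1 haN y).1 hy
    have : IsCyclic P := isCyclic_of_prime_card hP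
    have hcomm : y * (a * y * a⁻¹) = (a * y * a⁻¹) * y := by
      have hMC : IsMulCommutative P := IsCyclic.isMulCommutative
      have := isMulCommutative_iff.mp hMC ⟨y, hy⟩ ⟨a * y * a⁻¹, hay⟩
      exact congrArg Subtype.val this
    have hz : y * (a * y * a⁻¹) ∈ P := P.mul_mem hy hay
    have h1 : a * (a * y * a⁻¹) * a⁻¹ = y := by
      calc a * (a * y * a⁻¹) * a⁻¹ = (a * a) * y * (a * a)⁻¹ := by group
        _ = y := by rw [ha]; simp
    have h2 : a * (y * (a * y * a⁻¹)) * a⁻¹ = y * (a * y * a⁻¹) := by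
      calc a * (y * (a * y * a⁻¹)) * a⁻¹ = (a * y * a⁻¹) * (a * (a * y * a⁻¹) * a⁻¹) := by group
        _ = (a * y * a⁻¹) * y := by rw [h1]
        _ = y * (a * y * a⁻¹) := hcomm.symm
    have hzc : Commute a (y * (a * y * a⁻¹)) := mul_inv_eq_iff_eq_mul.1 h2
    have hz1 : y * (a * y * a⁻¹) = 1 := by
      by_contra hne
      exact h _ hz hne hzc
    exact eq_inv_of_mul_eq_one_right hz1

/-- the product of two inverting elements centralizes -/
theorem o420_mul_mem_centralizer (P : Subgroup G) {a b : G}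
    (ha : ∀ y ∈ P, a * y * a⁻¹ = y⁻¹) (hb : ∀ y ∈ P, b * y * b⁻¹ = y⁻¹) :
    a * b ∈ Subgroup.centralizer (P : Set G) := by
  rw [Subgroup.mem_centralizer_iff]
  intro y hy
  have h1 : a * b * y * (a * b)⁻¹ = y := by
    calc a * b * y * (a * b)⁻¹ = a * (b * y * b⁻¹) * a⁻¹ := by group
      _ = a * y⁻¹ * a⁻¹ := by rw [hb y hy]
      _ = (y⁻¹)⁻¹ := ha _ (P.inv_mem hy)
      _ = y := inv_inv y
  calc y * (a * b) = (a * b * y * (a * b)⁻¹) * (a * b) := by rw [h1]
    _ = a * b * y := by group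

/-- a Klein four Sylow 2-subgroup normalizing a subgroup of prime order contains a nontrivial
element centralizing it -/
theorem o420_exists_centralizing {p : ℕ} [Fact p.Prime] (P : Subgroup G) (hP : Nat.card P = p)
    (T : Sylow 2 G) (hT : IsKleinFour (T : Subgroup G))
    (hTN : (T : Subgroup G) ≤ Subgroup.normalizer (P : Set G)) :
    ∃ t ∈ (T : Subgroup G), t ≠ 1 ∧ t ∈ Subgroup.centralizer (P : Set G) := by
  obtain ⟨a, b, ha, hb, ha1, hb1, hab, -, hsq, -⟩ := Cfsg.Agent.Helper21.klein_sylow_setup T hT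
  rcases o420_centralizes_or_inverts P hP (hsq a ha) (hTN ha) with h | h
  · exact ⟨a, ha, ha1, h⟩
  rcases o420_centralizes_or_inverts P hP (hsq b hb) (hTN hb) with h' | h'
  · exact ⟨b, hb, hb1, h'⟩
  refine ⟨a * b, (T : Subgroup G).mul_mem ha hb, ?_, o420_mul_mem_centralizer P h h'⟩
  intro e
  apply hab
  have h2 : a * a = 1 := hsq a ha
  calc a = a * (a * b) := by rw [e, mul_one]
    _ = (a * a) * b := by group
    _ = b := by rw [h2, one_mul]

/-- a subgroup whose order is divisible by 4 contains a Sylow 2-subgroup, when these have order 4 -/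
theorem o420_sylow_two_le (H : Subgroup G) (h4 : 4 ∣ Nat.card H)
    (hT : ∀ T : Sylow 2 G, Nat.card (T : Subgroup G) = 4) :
    ∃ T : Sylow 2 G, (T : Subgroup G) ≤ H := by
  have : Fact (Nat.Prime 2) := ⟨Nat.prime_two⟩
  obtain ⟨K, hK⟩ := Sylow.exists_subgroup_card_pow_prime 2 (show 2 ^ 2 ∣ Nat.card H from h4)
  have hK' : Nat.card (K.map H.subtype) = 2 ^ 2 := by
    rw [Subgroup.card_map_of_injective H.subtype_injective]; exact hK
  have hp : IsPGroup 2 (K.map H.subtype) := IsPGroup.of_card hK'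
  obtain ⟨T, hKT⟩ := hp.exists_le_sylow
  refine ⟨T, ?_⟩
  have he : K.map H.subtype = (T : Subgroup G) :=
    Subgroup.eq_of_le_of_card_ge hKT (by rw [hK', hT T]; norm_num)
  rw [← he]
  exact Subgroup.map_subtype_le K

/-- an involution centralizing a subgroup of prime order whose normalizer has order divisible
by 4 -/
theorem o420_exists_invol_centralizing [IsSimpleGroup G] (hG : ¬ IsMulCommutative G)
    (h2 : Even (Nat.card G)) (h8 : ¬ 8 ∣ Nat.card G)
    (hT : ∀ T : Sylow 2 G, Nat.card (T : Subgroup G) = 4)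
    {p : ℕ} [Fact p.Prime] (P : Subgroup G) (hP : Nat.card P = p)
    (h4 : 4 ∣ Nat.card (Subgroup.normalizer (P : Set G))) :
    ∃ t : G, orderOf t = 2 ∧ t ∈ Subgroup.centralizer (P : Set G) := by
  have : Fact (Nat.Prime 2) := ⟨Nat.prime_two⟩
  obtain ⟨T, hTN⟩ := o420_sylow_two_le _ h4 hT
  have hK := (Cfsg.Agent.S0992.result hG h2 h8 T).1
  obtain ⟨t, htT, ht1, htC⟩ := o420_exists_centralizing P hP T hK hTN
  obtain ⟨a, b, -, -, -, -, -, -, hsq, -⟩ := Cfsg.Agent.Helper21.klein_sylow_setup T hK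
  exact ⟨t, orderOf_eq_prime (by rw [pow_two]; exact hsq t htT) ht1, htC⟩

/-- all involutions are conjugate when `N(T)/C(T)` is nontrivial for a Klein four Sylow `T` -/
theorem o420_invol_conj (T : Sylow 2 G) (hK : IsKleinFour (T : Subgroup G))
    (h3 : (Subgroup.centralizer ((T : Subgroup G) : Set G)).relIndex
      (Subgroup.normalizer ((T : Subgroup G) : Set G)) = 3) :
    ∃ x ∈ (T : Subgroup G), x ≠ 1 ∧ ∀ t : G, orderOf t = 2 → IsConj x t := by
  have hnot : ¬ (Subgroup.normalizer ((T : Subgroup G) : Set G) ≤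
      Subgroup.centralizer ((T : Subgroup G) : Set G)) := by
    intro hle
    rw [Subgroup.relIndex_eq_one.2 hle] at h3
    omega
  obtain ⟨n, hnN, hnC⟩ := SetLike.not_le_iff_exists.1 hnot
  rw [Subgroup.mem_centralizer_iff] at hnC
  push Not at hnC
  obtain ⟨x, hx, hxn⟩ := hnC
  have hx : x ∈ (T : Subgroup G) := hx
  have hy : n * x * n⁻¹ ∈ (T : Subgroup G) := (Subgroup.mem_normalizer_iff.1 hnN x).1 hx
  have hx1 : x ≠ 1 := by
    rintro rfl
    exact hxn (by simp)
  have hy1 : n * x * n⁻¹ ≠ 1 := by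
    intro e
    apply hx1
    have : x = n⁻¹ * (n * x * n⁻¹) * n := by group
    rw [this, e]; simp
  have hxy : x ≠ n * x * n⁻¹ := by
    intro e
    apply hxn
    calc x * n = (n * x * n⁻¹) * n := by rw [← e]
      _ = n * x := by group
  have hconj : IsConj x (n * x * n⁻¹) := isConj_iff.2 ⟨n, rfl⟩
  have hconj2 := Cfsg.Agent.Helper21.klein_fusion T hK x (n * x * n⁻¹) hx hy hx1 hy1 hxy hconj
  refine ⟨x, hx, hx1, ?_⟩
  intro t ht
  obtain ⟨g, hg⟩ := Cfsg.Agent.Helper21.involution_conj_into_sylow T t ht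
  have hzt : IsConj (g⁻¹ * t * g) t := isConj_iff.2 ⟨g, by group⟩
  have hz1 : g⁻¹ * t * g ≠ 1 := by
    intro e
    have ht1 : t = 1 := by
      have : t = g * (g⁻¹ * t * g) * g⁻¹ := by group
      rw [this, e]; simp
    rw [ht1, orderOf_one] at ht
    omega
  by_cases e1 : g⁻¹ * t * g = x
  · rw [← e1]; exact hzt
  by_cases e2 : g⁻¹ * t * g = n * x * n⁻¹
  · rw [e2] at hzt; exact hconj.trans hzt
  have := hK
  have key := IsKleinFour.eq_mul_of_ne_all (G := (T : Subgroup G))
    (x := ⟨x, hx⟩) (y := ⟨n * x * n⁻¹, hy⟩) (z := ⟨g⁻¹ * t * g, hg⟩)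
    (fun e => hx1 (congrArg Subtype.val e)) (fun e => hy1 (congrArg Subtype.val e))
    (fun e => hxy (congrArg Subtype.val e)) (fun e => hz1 (congrArg Subtype.val e))
    (fun e => e1 (congrArg Subtype.val e)) (fun e => e2 (congrArg Subtype.val e))
  have key' : g⁻¹ * t * g = x * (n * x * n⁻¹) := congrArg Subtype.val key
  rw [key'] at hzt
  exact (hconj.trans hconj2).trans hzt

/-- transport of a centralized subgroup along a conjugation -/
theorem o420_card_dvd_centralizer_of_conj {x t : G} (hc : IsConj x t) (P : Subgroup G)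
    (ht : t ∈ Subgroup.centralizer (P : Set G)) :
    Nat.card P ∣ Nat.card (Subgroup.centralizer ({x} : Set G)) := by
  obtain ⟨c, hc⟩ := isConj_iff.1 hc
  have hle : P.map (MulAut.conj c⁻¹).toMonoidHom ≤ Subgroup.centralizer ({x} : Set G) := by
    rintro _ ⟨u, hu, rfl⟩
    rw [Subgroup.mem_centralizer_iff]
    intro z hz
    rw [Set.mem_singleton_iff] at hz
    subst hz
    have h1 : u * t = t * u := (Subgroup.mem_centralizer_iff.1 ht) u hu
    simp only [MulEquiv.coe_toMonoidHom, MulAut.conj_apply, inv_inv]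
    subst hc
    calc z * (c⁻¹ * u * c) = c⁻¹ * ((c * z * c⁻¹) * u) * c := by group
      _ = c⁻¹ * (u * (c * z * c⁻¹)) * c := by rw [h1]
      _ = c⁻¹ * u * c * z := by group
  have h2 := Subgroup.card_dvd_of_le hle
  rwa [Subgroup.card_map_of_injective (f := (MulAut.conj c⁻¹).toMonoidHom)
    (MulAut.conj c⁻¹).injective] at h2

theorem no_simple_420 [IsSimpleGroup G] (h : Nat.card G = 420) : False := by
  have hG : ∃ x y : G, x * y ≠ y * x :=
    Cfsg.Agent.Lead.nonabelian_of_not_prime (by rw [h]; norm_num)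
  have hG' := not_comm_of_nonab hG
  have : Fact (Nat.Prime 2) := ⟨Nat.prime_two⟩
  have : Fact (Nat.Prime 5) := ⟨by norm_num⟩
  have : Fact (Nat.Prime 7) := ⟨by norm_num⟩
  obtain ⟨h7d, h7m, h7n, -, h7P⟩ :=
    basic hG (p := 7) (a := 1) (m := 60) Nat.one_pos (by rw [h]; norm_num) (by norm_num)
  obtain ⟨h5d, h5m, h5n, h5f, h5P⟩ :=
    basic hG (p := 5) (a := 1) (m := 84) Nat.one_pos (by rw [h]; norm_num) (by norm_num)
  obtain ⟨-, -, -, -, h2P⟩ :=
    basic hG (p := 2) (a := 2) (m := 105) (by norm_num) (by rw [h]; norm_num) (by norm_num)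
  have hn7 : Nat.card (Sylow 7 G) = 15 := by
    have key : ∀ n : ℕ, n ∣ 60 → n % 7 = 1 → n ≠ 1 → n = 15 := by
      intro n hd hm h1
      have hle : n ≤ 60 := Nat.le_of_dvd (by norm_num) hd
      interval_cases n <;> omega
    exact key _ h7d h7m h7n
  have hn5 : Nat.card (Sylow 5 G) = 21 := by
    have key : ∀ n : ℕ, n ∣ 84 → n % 5 = 1 → n ≠ 1 → 2 * 420 ∣ n.factorial → n = 21 := by
      intro n hd hm h1 hf
      have hle : n ≤ 84 := Nat.le_of_dvd (by norm_num) hd
      interval_cases n <;> first | omega | (exfalso; revert hf; decide)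
    rw [h] at h5f
    exact key _ h5d h5m h5n h5f
  have hT : ∀ T : Sylow 2 G, Nat.card (T : Subgroup G) = 4 := by
    intro T
    have := (h2P T).1
    norm_num at this
    exact this
  have h2 : Even (Nat.card G) := by rw [h]; decide
  have h8 : ¬ 8 ∣ Nat.card G := by rw [h]; norm_num
  obtain ⟨P7⟩ : Nonempty (Sylow 7 G) := inferInstance
  obtain ⟨P5⟩ : Nonempty (Sylow 5 G) := inferInstance
  obtain ⟨hP7, hN7⟩ := h7P P7
  obtain ⟨hP5, hN5⟩ := h5P P5
  rw [pow_one] at hP7 hP5
  rw [hn7, h] at hN7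
  rw [hn5, h] at hN5
  have hN7' : Nat.card (Subgroup.normalizer ((P7 : Subgroup G) : Set G)) = 28 := by omega
  have hN5' : Nat.card (Subgroup.normalizer ((P5 : Subgroup G) : Set G)) = 20 := by omega
  obtain ⟨t7, ht7, ht7C⟩ := o420_exists_invol_centralizing hG' h2 h8 hT (P7 : Subgroup G) hP7
    (by rw [hN7']; norm_num)
  obtain ⟨t5, ht5, ht5C⟩ := o420_exists_invol_centralizing hG' h2 h8 hT (P5 : Subgroup G) hP5
    (by rw [hN5']; norm_num)
  obtain ⟨T⟩ : Nonempty (Sylow 2 G) := inferInstance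
  obtain ⟨hK, h3⟩ := Cfsg.Agent.S0992.result hG' h2 h8 T
  obtain ⟨x, hxT, hx1, hall⟩ := o420_invol_conj T hK h3
  have hd7 := o420_card_dvd_centralizer_of_conj (hall t7 ht7) (P7 : Subgroup G) ht7C
  have hd5 := o420_card_dvd_centralizer_of_conj (hall t5 ht5) (P5 : Subgroup G) ht5C
  rw [hP7] at hd7
  rw [hP5] at hd5
  have hd4 : 4 ∣ Nat.card (Subgroup.centralizer ({x} : Set G)) := by
    obtain ⟨a, b, -, -, -, -, -, -, -, hcomm⟩ := Cfsg.Agent.Helper21.klein_sylow_setup T hK
    have hle : (T : Subgroup G) ≤ Subgroup.centralizer ({x} : Set G) := by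
      intro u hu
      rw [Subgroup.mem_centralizer_iff]
      intro z hz
      rw [Set.mem_singleton_iff] at hz
      subst hz
      exact hcomm z hxT u hu
    have := Subgroup.card_dvd_of_le hle
    rwa [hT T] at this
  have hne : Subgroup.centralizer ({x} : Set G) ≠ ⊤ := by
    intro htop
    have hxc : x ∈ Subgroup.center G :=
      (Subgroup.centralizer_eq_top_iff_subset.1 htop) (Set.mem_singleton x)
    rcases (inferInstance : (Subgroup.center G).Normal).eq_bot_or_eq_top with hb | htp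
    · rw [hb, Subgroup.mem_bot] at hxc
      exact hx1 hxc
    · obtain ⟨u, v, huv⟩ := hG
      have hu : u ∈ Subgroup.center G := by rw [htp]; trivial
      exact huv ((Subgroup.mem_center_iff.1 hu v).symm)
  have hfac := two_mul_card_dvd_factorial_index hG _ hne
  have hci := Subgroup.card_mul_index (Subgroup.centralizer ({x} : Set G))
  rw [h] at hfac hci
  have h140 : 140 ∣ Nat.card (Subgroup.centralizer ({x} : Set G)) := by omega
  obtain ⟨k, hk⟩ := h140
  rw [hk] at hci
  have hki : k * (Subgroup.centralizer ({x} : Set G)).index = 3 := by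
    have : 140 * (k * (Subgroup.centralizer ({x} : Set G)).index) = 140 * 3 := by
      rw [← mul_assoc, hci]
    exact Nat.eq_of_mul_eq_mul_left (by norm_num) this
  have hidx : (Subgroup.centralizer ({x} : Set G)).index ∣ 3 := Dvd.intro_left k hki
  rcases (Nat.dvd_prime Nat.prime_three).1 hidx with e | e
  · rw [e] at hfac; revert hfac; decide
  · rw [e] at hfac; revert hfac; decide

end Cfsg.Agent.Helper3.SmallOrd
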