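import Mathlib
import Cfsg.Agent.Lib.Helper10.MannDefs
import Cfsg.Agent.Lib.Helper13.MANNITER
import Cfsg.Agent.Lib.Helper5.MANNABS

/-!
# S4009 (Mann), piece MANN-A012 (helper16): cores

`cycTop_facts_core` takes the statement of `comm_self_le_of_cyclic` (piece MANN-CL2) as a
hypothesis; the other three theorems have their exact skeleton names.
-/

set_option autoImplicit false
set_option linter.unusedSectionVars false

namespace Cfsg.Agent.Helper10.Mann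

open scoped commutatorElement

variable {G : Type*} [Group G]

section A012

variable [Group.IsNilpotent G]

theorem comm_self_le_mIter (H : Subgroup G) [H.Normal] (e : ℕ)
    (hH : H ≤ (⊤ : Subgroup G).lowerCentralSeries e) : ⁅H, H⁆ ≤ mIter H (e + 1) :=
  (Subgroup.commutator_mono le_rfl hH).trans (comm_lcs_le H e)

theorem comm_self_le_lcs (H : Subgroup G) (e : ℕ)
    (hH : H ≤ (⊤ : Subgroup G).lowerCentralSeries e) :
    ⁅H, H⁆ ≤ (⊤ : Subgroup G).lowerCentralSeries (2 * e + 1) := by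
  have h := (Subgroup.commutator_mono hH hH).trans (lcs_comm_lcs_le (G := G) e e)
  rwa [← two_mul] at h

theorem not_mIter_le (H : Subgroup G) [H.Normal] (e : ℕ)
    (hH : H ≤ (⊤ : Subgroup G).lowerCentralSeries e) (hne : ⁅H, H⁆ ≠ ⊥) :
    ¬ mIter H e ≤ ⁅H, H⁆ := by
  intro h
  apply hne
  apply eq_bot_of_le_comm
  refine (comm_self_le_mIter H e hH).trans ?_
  rw [mIter_succ]
  exact Subgroup.commutator_mono h le_rfl

theorem cycTop_facts_core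
    (hCL2 : ∀ (H H₁ : Subgroup G) [H.Normal] [H₁.Normal] (x : G),
      H = Subgroup.zpowers x ⊔ H₁ → ⁅H, H⁆ ≤ ⁅H, H₁⁆)
    (H : Subgroup G) [H.Normal] (e : ℕ)
    (hH : H ≤ (⊤ : Subgroup G).lowerCentralSeries e) (hc : CycTop H) (hne : ⁅H, H⁆ ≠ ⊥) :
    ⁅H, H⁆ ≤ mIter H (e + 2) ∧ ⁅H, H⁆ ≤ (⊤ : Subgroup G).lowerCentralSeries (2 * e + 2) ∧
      ¬ mIter H (e + 1) ≤ ⁅H, H⁆ := by
  obtain ⟨x, hx, hgen⟩ := hc
  have hgen' : H = Subgroup.zpowers x ⊔ (⁅H, (⊤ : Subgroup G)⁆ ⊔ ⁅H, H⁆) := by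
    rw [← sup_assoc]; exact hgen
  have h1 : ⁅H, H⁆ ≤ ⁅H, ⁅H, (⊤ : Subgroup G)⁆ ⊔ ⁅H, H⁆⁆ :=
    hCL2 H (⁅H, (⊤ : Subgroup G)⁆ ⊔ ⁅H, H⁆) x hgen'
  have h2 : ⁅H, ⁅H, (⊤ : Subgroup G)⁆ ⊔ ⁅H, H⁆⁆ ≤
      ⁅H, ⁅H, (⊤ : Subgroup G)⁆⁆ ⊔ ⁅H, ⁅H, H⁆⁆ := comm_sup_le H _ _
  have h3 : ⁅H, ⁅H, H⁆⁆ ≤ ⁅⁅H, H⁆, (⊤ : Subgroup G)⁆ := by
    rw [Subgroup.commutator_comm]
    exact Subgroup.commutator_mono le_rfl le_top
  have h4 : ⁅H, H⁆ ≤ ⁅H, ⁅H, (⊤ : Subgroup G)⁆⁆ ⊔ ⁅⁅H, H⁆, (⊤ : Subgroup G)⁆ :=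
    h1.trans (h2.trans (sup_le_sup le_rfl h3))
  have hB : ⁅H, H⁆ ≤ ⁅H, ⁅H, (⊤ : Subgroup G)⁆⁆ := le_of_le_sup_comm _ _ h4
  -- B = ⁅mIter H 1, H⁆
  have hBeq : ⁅H, ⁅H, (⊤ : Subgroup G)⁆⁆ = ⁅mIter H 1, H⁆ := by
    rw [Subgroup.commutator_comm]; rfl
  have hfirst : ⁅H, H⁆ ≤ mIter H (e + 2) := by
    refine hB.trans ?_
    rw [hBeq]
    refine (Subgroup.commutator_mono le_rfl hH).trans ?_
    refine (comm_lcs_le (mIter H 1) e).trans ?_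
    rw [mIter_add]
    have : 1 + (e + 1) = e + 2 := by omega
    rw [this]
  refine ⟨hfirst, ?_, ?_⟩
  · refine hB.trans ?_
    rw [hBeq]
    have h5 : mIter H 1 ≤ (⊤ : Subgroup G).lowerCentralSeries (e + 1) := by
      have := mIter_mono hH 1
      rwa [mIter_lcs] at this
    refine (Subgroup.commutator_mono h5 hH).trans ?_
    refine (lcs_comm_lcs_le (G := G) (e + 1) e).trans ?_
    have : e + 1 + e + 1 = 2 * e + 2 := by omega
    rw [this]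
  · intro h
    apply hne
    apply eq_bot_of_le_comm
    refine hfirst.trans ?_
    have : mIter H (e + 2) = ⁅mIter H (e + 1), (⊤ : Subgroup G)⁆ := rfl
    rw [this]
    exact Subgroup.commutator_mono h le_rfl

end A012

end Cfsg.Agent.Helper10.Mann
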