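import Mathlib
import Cfsg.Agent.Lib.Helper10.MannDefs
import Cfsg.Agent.Lib.Helper16.MANNA012Core
import Cfsg.Agent.Lib.Helper24.MANNCL2

/-!
# S4009 (Mann), piece MANN-A012 (helper16): `cycTop_facts` under its exact skeleton name
(the other three theorems of the piece are in `MANNA012Core.lean`)
-/

set_option autoImplicit false
set_option linter.unusedSectionVars false

namespace Cfsg.Agent.Helper10.Mann

open scoped commutatorElement

variable {G : Type*} [Group G]

section A012

variable [Group.IsNilpotent G]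

theorem cycTop_facts (H : Subgroup G) [H.Normal] (e : ℕ)
    (hH : H ≤ (⊤ : Subgroup G).lowerCentralSeries e) (hc : CycTop H) (hne : ⁅H, H⁆ ≠ ⊥) :
    ⁅H, H⁆ ≤ mIter H (e + 2) ∧ ⁅H, H⁆ ≤ (⊤ : Subgroup G).lowerCentralSeries (2 * e + 2) ∧
      ¬ mIter H (e + 1) ≤ ⁅H, H⁆ :=
  cycTop_facts_core (fun H H₁ _ _ x h => comm_self_le_of_cyclic H H₁ x h) H e hH hc hne

end A012

end Cfsg.Agent.Helper10.Mann
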