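import Mathlib
import Cfsg.Agent.Lib.Helper10.MixDefs
import Cfsg.Agent.Lib.Helper10.MixUtil

set_option autoImplicit false

namespace Cfsg.Agent.Helper10.Mix

variable {G : Type*} [Group G] [Finite G] {p a : ℕ}

omit [Finite G] in
/-- exponent 2 implies commuting -/
theorem v12_comm_of_exp2 {Q : Subgroup G} (hexp : ∀ s ∈ Q, s * s = 1) {s t : G} (hs : s ∈ Q)
    (ht : t ∈ Q) : Commute s t := by
  have h1 := hexp s hs
  have h2 := hexp t ht
  have h3 := hexp (s * t) (Q.mul_mem hs ht)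
  have hs' : s⁻¹ = s := inv_eq_of_mul_eq_one_right h1
  have ht' : t⁻¹ = t := inv_eq_of_mul_eq_one_right h2
  have h4 : (s * t)⁻¹ = s * t := inv_eq_of_mul_eq_one_right h3
  show s * t = t * s
  rw [← h4, mul_inv_rev, hs', ht']

omit [Finite G] in
/-- an element with `s * s = 1`, `s ≠ 1` has order 2 -/
theorem v12_orderOf_two {s : G} (h : s * s = 1) (h1 : s ≠ 1) : orderOf s = 2 := by
  have : s ^ 2 = 1 := by rw [pow_two]; exact h
  exact orderOf_eq_prime this h1

omit [Finite G] in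
theorem v12_sq_of_orderOf_two {s : G} (h : orderOf s = 2) : s * s = 1 := by
  rw [← pow_two, ← h]; exact pow_orderOf_eq_one s

omit [Finite G] in
theorem v12_ne_one_of_orderOf_two {s : G} (h : orderOf s = 2) : s ≠ 1 := by
  intro h1
  rw [h1, orderOf_one] at h
  omega

omit [Finite G] in
theorem v12_inv_of_orderOf_two {s : G} (h : orderOf s = 2) : s⁻¹ = s :=
  inv_eq_of_mul_eq_one_right (v12_sq_of_orderOf_two h)

/-- (G1) a 2-element commuting with an involution of `Q` lies in `Q`. -/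
theorem v12_g1 (c : Cfg G p a) (hG : Good G p) {Q : Sylow 2 G} (B : Base G p a Q) {t : G}
    (ht : t ∈ Q) (ht1 : t ≠ 1) {g : G} {k : ℕ} (hg : orderOf g = 2 ^ k) (hgt : Commute g t) :
    g ∈ Q := by
  obtain ⟨y, s, hy, hyt, hs, rfl⟩ := B.split t ht ht1 g hgt
  have hyC := hG Q t ht ht1 y hy hyt
  have hys : Commute y s := (Subgroup.mem_centralizer_iff.1 hyC s hs).symm
  have hpow : (y * s) ^ (2 ^ (k + 1)) = 1 := by
    rw [pow_succ, pow_mul, ← hg, pow_orderOf_eq_one, one_pow]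
  rw [hys.mul_pow] at hpow
  have hs2 : s ^ (2 ^ (k + 1)) = 1 := by
    rw [pow_succ', pow_mul, pow_two, B.exp2 s hs, one_pow]
  rw [hs2, mul_one] at hpow
  obtain ⟨m, hm⟩ := hy
  have hd : p ^ m ∣ 2 ^ (k + 1) := hm ▸ orderOf_dvd_of_pow_eq_one hpow
  have hcop : Nat.Coprime (p ^ m) (2 ^ (k + 1)) := by
    apply Nat.Coprime.pow
    exact (Nat.coprime_primes c.hp Nat.prime_two).2 c.p_ne_two
  have h1 : p ^ m = 1 := Nat.Coprime.eq_one_of_dvd hcop hd
  have hy1 : y = 1 := by rw [← orderOf_eq_one_iff, hm, h1]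
  rw [hy1, one_mul]
  exact hs

omit [Finite G] in
/-- if `x` inverts `z` then `x` commutes with every involution among the powers of `z` -/
theorem v12_commute_pow_of_inverts {x z : G} (hinv : x * z * x⁻¹ = z⁻¹) {n : ℕ}
    (hu : orderOf (z ^ n) = 2) : Commute x (z ^ n) := by
  have h1 : x * z ^ n * x⁻¹ = (z ^ n)⁻¹ := by
    have : x * z ^ n * x⁻¹ = (x * z * x⁻¹) ^ n := by
      rw [conj_pow]
    rw [this, hinv, inv_pow]
  rw [v12_inv_of_orderOf_two hu] at h1
  show x * z ^ n = z ^ n * x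
  calc x * z ^ n = x * z ^ n * x⁻¹ * x := by group
    _ = z ^ n * x := by rw [h1]

omit [Finite G] in
/-- if `x` inverts `z` and `g` commutes with `z` then `x g x⁻¹` commutes with `z`. -/
theorem v12_conj_commute_of_inverts {x z g : G} (hinv : x * z * x⁻¹ = z⁻¹) (hg : Commute g z) :
    Commute (x * g * x⁻¹) z := by
  have h1 : x⁻¹ * z * x = z⁻¹ := by
    have : z = x⁻¹ * z⁻¹ * x := by rw [← hinv]; group
    calc x⁻¹ * z * x = (x⁻¹ * z⁻¹ * x)⁻¹ := by group
      _ = z⁻¹ := by rw [← this]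
  have hg' : g * z⁻¹ * g⁻¹ = z⁻¹ := by
    have : Commute g z⁻¹ := hg.inv_right
    calc g * z⁻¹ * g⁻¹ = z⁻¹ * g * g⁻¹ := by rw [this.eq]
      _ = z⁻¹ := by group
  show x * g * x⁻¹ * z = z * (x * g * x⁻¹)
  have : x * g * x⁻¹ * z * (x * g * x⁻¹)⁻¹ = z := by
    calc x * g * x⁻¹ * z * (x * g * x⁻¹)⁻¹ = x * (g * (x⁻¹ * z * x) * g⁻¹) * x⁻¹ := by group
      _ = x * z⁻¹ * x⁻¹ := by rw [h1, hg']
      _ = (x * z * x⁻¹)⁻¹ := by group
      _ = z := by rw [hinv, inv_inv]
  calc x * g * x⁻¹ * z = x * g * x⁻¹ * z * (x * g * x⁻¹)⁻¹ * (x * g * x⁻¹) := by group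
    _ = z * (x * g * x⁻¹) := by rw [this]

omit [Finite G] in
/-- an inverting element normalizes the centralizer -/
theorem v12_mem_normalizer_centralizer {t z : G} (hinv : t * z * t⁻¹ = z⁻¹) :
    t ∈ Subgroup.normalizer ((Subgroup.centralizer ({z} : Set G) : Subgroup G) : Set G) := by
  have hinv' : t⁻¹ * z * t⁻¹⁻¹ = z⁻¹ := by
    have : z = t⁻¹ * z⁻¹ * t := by rw [← hinv]; group
    calc t⁻¹ * z * t⁻¹⁻¹ = (t⁻¹ * z⁻¹ * t)⁻¹ := by group
      _ = z⁻¹ := by rw [← this]
  rw [Subgroup.mem_normalizer_iff]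
  intro g
  rw [Subgroup.mem_centralizer_singleton_iff, Subgroup.mem_centralizer_singleton_iff]
  constructor
  · intro hg
    exact (v12_conj_commute_of_inverts hinv hg).eq
  · intro hg
    have := v12_conj_commute_of_inverts hinv' hg
    have h2 : t⁻¹ * (t * g * t⁻¹) * t⁻¹⁻¹ = g := by group
    rw [h2] at this
    exact this.eq

/-- two different Sylow 2-subgroups -/
theorem v12_exists_two_sylow (c : Cfg G p a) (B : ∀ Q : Sylow 2 G, Base G p a Q) :
    ∃ (Q Q' : Sylow 2 G) (t t' : G), t ∈ Q ∧ t ≠ 1 ∧ t' ∈ Q' ∧ t' ∉ Q := by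
  have : Fact (Nat.Prime 2) := ⟨Nat.prime_two⟩
  obtain ⟨Q⟩ : Nonempty (Sylow 2 G) := inferInstance
  have hcard : Nat.card Q = 2 ^ a := c.card_sylow2 Q
  have h4 : 4 ≤ 2 ^ a := by
    calc 4 = 2 ^ 2 := by norm_num
      _ ≤ 2 ^ a := Nat.pow_le_pow_right (by norm_num) c.ha
  have hbot : (Q : Subgroup G) ≠ ⊥ := by
    intro h
    have : Nat.card (Q : Subgroup G) = 1 := by rw [h]; exact Subgroup.card_bot
    have h' : Nat.card Q = 1 := this
    omega
  have htop : (Q : Subgroup G) ≠ ⊤ := by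
    intro h
    apply c.not_comm
    intro x y
    have hx : x ∈ (Q : Subgroup G) := by rw [h]; trivial
    have hy : y ∈ (Q : Subgroup G) := by rw [h]; trivial
    exact (v12_comm_of_exp2 (B Q).exp2 hx hy).eq
  have hN := c.normalizer_ne_top hbot htop
  obtain ⟨g, hg⟩ : ∃ g : G, g ∉ Subgroup.normalizer ((Q : Subgroup G) : Set G) := by
    by_contra hcon
    push Not at hcon
    exact hN (Subgroup.eq_top_iff' _ |>.2 hcon)
  have hne : g • Q ≠ Q := by
    intro h
    exact hg (Sylow.smul_eq_iff_mem_normalizer.1 h)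
  obtain ⟨t, ht, ht1⟩ := (Subgroup.ne_bot_iff_exists_ne_one).1 hbot |> fun ⟨x, hx⟩ =>
    (⟨x.1, x.2, fun h => hx (Subtype.ext h)⟩ : ∃ t : G, t ∈ (Q : Subgroup G) ∧ t ≠ 1)
  have hex : ∃ t' : G, t' ∈ g • Q ∧ t' ∉ Q := by
    by_contra hcon
    push Not at hcon
    apply hne
    apply Sylow.ext
    apply Subgroup.eq_of_le_of_card_ge
    · intro x hx
      exact hcon x hx
    · have h1 : Nat.card ((g • Q : Sylow 2 G) : Subgroup G) = 2 ^ a := c.card_sylow2 (g • Q)
      have h2 : Nat.card (Q : Subgroup G) = 2 ^ a := hcard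
      rw [h1, h2]
  obtain ⟨t', ht', ht'Q⟩ := hex
  exact ⟨Q, g • Q, t, t', ht, ht1, ht', ht'Q⟩

/-! ### PIECE V12 : Good => an inverted p-element; its centralizer is a Sylow p-subgroup -/
theorem exists_inverted (c : Cfg G p a) (B : ∀ Q : Sylow 2 G, Base G p a Q) (hG : Good G p) :
    ∃ t z : G, orderOf t = 2 ∧ z ≠ 1 ∧ IsPElt p z ∧ t * z * t⁻¹ = z⁻¹ := by
  obtain ⟨Q, Q', t, t', ht, ht1, ht', ht'Q⟩ := v12_exists_two_sylow c B
  have ht'1 : t' ≠ 1 := by
    intro h; apply ht'Q; rw [h]; exact Subgroup.one_mem _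
  have hto : orderOf t = 2 := v12_orderOf_two ((B Q).exp2 t ht) ht1
  have ht'o : orderOf t' = 2 := v12_orderOf_two ((B Q').exp2 t' ht') ht'1
  have hti : t⁻¹ = t := v12_inv_of_orderOf_two hto
  have ht'i : t'⁻¹ = t' := v12_inv_of_orderOf_two ht'o
  have htt : t * t = 1 := v12_sq_of_orderOf_two hto
  have ht't' : t' * t' = 1 := v12_sq_of_orderOf_two ht'o
  -- the element z
  have hz1 : t * t' ≠ 1 := by
    intro h
    apply ht'Q
    have : t' = t⁻¹ := (inv_eq_of_mul_eq_one_right h).symm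
    rw [this, hti]; exact ht
  have hinv : t * (t * t') * t⁻¹ = (t * t')⁻¹ := by
    rw [mul_inv_rev, hti, ht'i, ← mul_assoc, htt, one_mul]
  have hinv' : t' * (t * t') * t'⁻¹ = (t * t')⁻¹ := by
    rw [mul_inv_rev, hti, ht'i]
    calc t' * (t * t') * t' = t' * t * (t' * t') := by group
      _ = t' * t := by rw [ht't', mul_one]
  refine ⟨t, t * t', hto, hz1, ?_, hinv⟩
  set z := t * t' with hz
  -- the normalizer of ⟨z⟩ is a proper subgroup of even order
  have hzb : Subgroup.zpowers z ≠ ⊥ := by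
    intro h; apply hz1
    exact Subgroup.zpowers_eq_bot.1 h
  have hzt : Subgroup.zpowers z ≠ ⊤ := by
    intro h
    apply c.not_comm
    intro x y
    have hx : x ∈ Subgroup.zpowers z := by rw [h]; trivial
    have hy : y ∈ Subgroup.zpowers z := by rw [h]; trivial
    obtain ⟨m, rfl⟩ := hx
    obtain ⟨n, rfl⟩ := hy
    exact (Commute.zpow_zpow_self z m n).eq
  have hN := c.normalizer_ne_top hzb hzt
  have htN : t ∈ Subgroup.normalizer ((Subgroup.zpowers z : Subgroup G) : Set G) := by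
    have key : ∀ x : G, x * z * x⁻¹ = z⁻¹ → ∀ h ∈ Subgroup.zpowers z,
        x * h * x⁻¹ ∈ Subgroup.zpowers z := by
      intro x hx h hh
      obtain ⟨m, rfl⟩ := hh
      have : x * z ^ m * x⁻¹ = (x * z * x⁻¹) ^ m := by rw [conj_zpow]
      rw [this, hx]
      exact Subgroup.zpow_mem _ (Subgroup.inv_mem _ (Subgroup.mem_zpowers z)) m
    rw [Subgroup.mem_normalizer_iff]
    intro h
    constructor
    · exact key t hinv h
    · intro hh
      have := key t hinv _ hh
      have h2 : t * (t * h * t⁻¹) * t⁻¹ = h := by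
        rw [hti]
        calc t * (t * h * t) * t = (t * t) * h * (t * t) := by group
          _ = h := by rw [htt, one_mul, mul_one]
      rwa [h2] at this
  have h2N : 2 ∣ Nat.card (Subgroup.normalizer ((Subgroup.zpowers z : Subgroup G) : Set G)) := by
    rw [← hto]
    exact Subgroup.orderOf_dvd_natCard _ htN
  have hzN : z ∈ Subgroup.normalizer ((Subgroup.zpowers z : Subgroup G) : Set G) :=
    Subgroup.le_normalizer (Subgroup.mem_zpowers z)
  obtain ⟨i, j, hij⟩ := c.orderOf_of_mem hN h2N hzN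
  rcases Nat.eq_zero_or_pos i with hi | hi
  · exact ⟨j, by rw [hij, hi, pow_zero, one_mul]⟩
  · exfalso
    have h2o : 2 ∣ orderOf z := by
      rw [hij]; exact dvd_mul_of_dvd_left (dvd_pow_self 2 hi.ne') _
    have ho0 : orderOf z ≠ 0 := (orderOf_pos z).ne'
    have hu : orderOf (z ^ (orderOf z / 2)) = 2 := orderOf_pow_orderOf_div ho0 h2o
    have hut : Commute t (z ^ (orderOf z / 2)) := v12_commute_pow_of_inverts hinv hu
    have hut' : Commute t' (z ^ (orderOf z / 2)) := v12_commute_pow_of_inverts hinv' hu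
    have huQ : z ^ (orderOf z / 2) ∈ Q :=
      v12_g1 c hG (B Q) ht ht1 (k := 1) (by rw [hu, pow_one]) hut.symm
    have hu1 : z ^ (orderOf z / 2) ≠ 1 := v12_ne_one_of_orderOf_two hu
    exact ht'Q (v12_g1 c hG (B Q) huQ hu1 (k := 1) (by rw [ht'o, pow_one]) hut')

/-- the centralizer of an inverted nontrivial `p`-element has odd order -/
theorem v12_cent_odd (c : Cfg G p a) (hG : Good G p)
    {t z : G} (ht : orderOf t = 2) (hz1 : z ≠ 1) (hz : IsPElt p z) (hinv : t * z * t⁻¹ = z⁻¹) :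
    ¬ 2 ∣ Nat.card (Subgroup.centralizer ({z} : Set G)) := by
  have : Fact (Nat.Prime 2) := ⟨Nat.prime_two⟩
  intro h2
  obtain ⟨s, hs⟩ := exists_prime_orderOf_dvd_card' (G := Subgroup.centralizer ({z} : Set G)) 2 h2
  have hso : orderOf (s : G) = 2 := by rw [Subgroup.orderOf_coe]; exact hs
  have hsz : (s : G) * z = z * (s : G) := Subgroup.mem_centralizer_singleton_iff.1 s.2
  have hs1 : (s : G) ≠ 1 := v12_ne_one_of_orderOf_two hso
  -- a Sylow 2-subgroup containing s
  have hsP : IsPGroup 2 (Subgroup.zpowers (s : G)) := by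
    apply IsPGroup.of_card (n := 1)
    rw [Nat.card_zpowers, hso, pow_one]
  obtain ⟨Qs, hQs⟩ := hsP.exists_le_sylow
  have hsQ : (s : G) ∈ Qs := hQs (Subgroup.mem_zpowers _)
  have hzC := hG Qs (s : G) hsQ hs1 z hz hsz.symm
  have hQC : (Qs : Subgroup G) ≤ Subgroup.centralizer ({z} : Set G) := by
    intro x hx
    rw [Subgroup.mem_centralizer_singleton_iff]
    exact Subgroup.mem_centralizer_iff.1 hzC x hx
  -- the normalizer of C
  have htN := v12_mem_normalizer_centralizer hinv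
  have hCK : Subgroup.centralizer ({z} : Set G) ≤
      Subgroup.normalizer ((Subgroup.centralizer ({z} : Set G) : Subgroup G) : Set G) :=
    Subgroup.le_normalizer
  have hodd : ¬ 2 ∣ (Subgroup.centralizer ({z} : Set G)).relIndex
      (Subgroup.normalizer ((Subgroup.centralizer ({z} : Set G) : Subgroup G) : Set G)) := by
    intro hd
    apply Qs.not_dvd_index
    rw [← Subgroup.relIndex_mul_index (hQC.trans hCK),
      ← Subgroup.relIndex_mul_relIndex _ _ _ hQC hCK]
    exact dvd_mul_of_dvd_left (dvd_mul_of_dvd_right hd _) _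
  have hmem := Subgroup.pow_index_mem ((Subgroup.centralizer ({z} : Set G)).subgroupOf
      (Subgroup.normalizer ((Subgroup.centralizer ({z} : Set G) : Subgroup G) : Set G)))
      ⟨t, htN⟩
  rw [Subgroup.mem_subgroupOf] at hmem
  have hmem' : t ^ (Subgroup.centralizer ({z} : Set G)).relIndex
      (Subgroup.normalizer ((Subgroup.centralizer ({z} : Set G) : Subgroup G) : Set G)) ∈
      Subgroup.centralizer ({z} : Set G) := hmem
  obtain ⟨m, hm⟩ := Nat.odd_iff.2 (Nat.two_dvd_ne_zero.1 hodd)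
  have htpow : t ^ (2 * m + 1) = t := by
    rw [pow_succ, pow_mul, pow_two, v12_sq_of_orderOf_two ht, one_pow, one_mul]
  rw [hm, htpow, Subgroup.mem_centralizer_singleton_iff] at hmem'
  apply IsPElt.ne_inv c.hp c.p_ne_two hz hz1
  rw [← hinv, hmem', mul_assoc, mul_inv_cancel, mul_one]

theorem cent_inverted (c : Cfg G p a) (B : ∀ Q : Sylow 2 G, Base G p a Q) (hG : Good G p)
    {t z : G} (ht : orderOf t = 2) (hz1 : z ≠ 1) (hz : IsPElt p z) (hinv : t * z * t⁻¹ = z⁻¹) :
    ∃ P : Sylow p G, (∀ g : G, Commute g z ↔ g ∈ P) ∧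
      t ∈ Subgroup.normalizer ((P : Subgroup G) : Set G) := by
  have : Fact p.Prime := ⟨c.hp⟩
  have hodd := v12_cent_odd c hG ht hz1 hz hinv
  have htN := v12_mem_normalizer_centralizer hinv
  have hzC : z ∈ Subgroup.centralizer ({z} : Set G) :=
    Subgroup.mem_centralizer_singleton_iff.2 rfl
  have hCtop := c.centralizer_ne_top hz1
  have hCbot : Subgroup.centralizer ({z} : Set G) ≠ ⊥ := by
    intro h
    rw [h] at hzC
    exact hz1 (Subgroup.mem_bot.1 hzC)
  have hK := c.normalizer_ne_top hCbot hCtop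
  have h2K : 2 ∣ Nat.card
      (Subgroup.normalizer ((Subgroup.centralizer ({z} : Set G) : Subgroup G) : Set G)) := by
    rw [← ht]
    exact Subgroup.orderOf_dvd_natCard _ htN
  have hCp : IsPGroup p (Subgroup.centralizer ({z} : Set G)) := by
    intro g
    obtain ⟨i, j, hij⟩ := c.orderOf_of_mem hK h2K (Subgroup.le_normalizer g.2)
    have hd : orderOf (g : G) ∣ Nat.card (Subgroup.centralizer ({z} : Set G)) :=
      Subgroup.orderOf_dvd_natCard _ g.2
    rcases Nat.eq_zero_or_pos i with hi | hi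
    · refine ⟨j, ?_⟩
      apply Subtype.ext
      rw [Subgroup.coe_pow, Subgroup.coe_one]
      have : orderOf (g : G) = p ^ j := by rw [hij, hi, pow_zero, one_mul]
      rw [← this]; exact pow_orderOf_eq_one _
    · exfalso
      apply hodd
      refine dvd_trans ?_ hd
      rw [hij]; exact dvd_mul_of_dvd_left (dvd_pow_self 2 hi.ne') _
  obtain ⟨P, hCP⟩ := hCp.exists_le_sylow
  have hPC : (P : Subgroup G) ≤ Subgroup.centralizer ({z} : Set G) := by
    intro y hy
    rw [Subgroup.mem_centralizer_singleton_iff]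
    exact c.abel P P.2 y hy z (hCP hzC)
  have heq : (P : Subgroup G) = Subgroup.centralizer ({z} : Set G) := le_antisymm hPC hCP
  refine ⟨P, fun g => ?_, ?_⟩
  · constructor
    · intro hg
      exact hCP (Subgroup.mem_centralizer_singleton_iff.2 hg.eq)
    · intro hg
      exact Subgroup.mem_centralizer_singleton_iff.1 (hPC hg)
  · rw [heq]; exact htN

end Cfsg.Agent.Helper10.Mix
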