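import Mathlib
import Cfsg.Agent.Lib.Helper10.MixDefs
import Cfsg.Agent.Lib.Helper10.MixUtil
import Cfsg.Agent.Lib.Helper16.MixV12

set_option autoImplicit false

namespace Cfsg.Agent.Helper10.Mix

variable {G : Type*} [Group G] [Finite G] {p a : ℕ}

/-- PIECE V4 with V3 (`inverts_sylow`) taken as a hypothesis. -/
theorem no_pelt_commute_core (c : Cfg G p a) (B : ∀ Q : Sylow 2 G, Base G p a Q) (hG : Good G p)
    (hV3 : ∀ {t z : G}, orderOf t = 2 → z ≠ 1 → IsPElt p z → t * z * t⁻¹ = z⁻¹ →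
      ∀ (P : Sylow p G), (∀ g : G, Commute g z ↔ g ∈ P) →
      t ∈ Subgroup.normalizer ((P : Subgroup G) : Set G) → ∀ y ∈ P, t * y * t⁻¹ = y⁻¹) :
    ∀ t y : G, orderOf t = 2 → IsPElt p y → Commute y t → y = 1 := by
  have : Fact p.Prime := ⟨c.hp⟩
  obtain ⟨t0, z, ht0, hz1, hz, hinv⟩ := exists_inverted c B hG
  obtain ⟨P, hP, ht0N⟩ := cent_inverted c B hG ht0 hz1 hz hinv
  have hinvP := hV3 ht0 hz1 hz hinv P hP ht0N
  intro t1 y ht1 hy hyt
  by_contra hy1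
  obtain ⟨P', hyP'⟩ := hy.exists_sylow c.hp
  obtain ⟨g, hg⟩ := MulAction.exists_smul_eq G P' P
  have hy'P : g * y * g⁻¹ ∈ P := by
    rw [← hg]
    show g * y * g⁻¹ ∈ ((g • P' : Sylow p G) : Subgroup G)
    rw [Sylow.coe_subgroup_smul]
    have : g * y * g⁻¹ = MulAut.conj g • y := by simp [MulAut.smul_def]
    rw [this, Subgroup.smul_mem_pointwise_smul_iff]
    exact hyP'
  have hy'1 : g * y * g⁻¹ ≠ 1 := by
    intro h
    apply hy1
    have : y = g⁻¹ * (g * y * g⁻¹) * g := by group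
    rw [this, h]; group
  have hy' : IsPElt p (g * y * g⁻¹) := hy.conj g
  obtain ⟨P2, hP2, -⟩ := cent_inverted c B hG ht0 hy'1 hy' (hinvP _ hy'P)
  have hcomm : Commute (g * t1 * g⁻¹) (g * y * g⁻¹) := by
    show g * t1 * g⁻¹ * (g * y * g⁻¹) = g * y * g⁻¹ * (g * t1 * g⁻¹)
    calc g * t1 * g⁻¹ * (g * y * g⁻¹) = g * (t1 * y) * g⁻¹ := by group
      _ = g * (y * t1) * g⁻¹ := by rw [hyt.eq]
      _ = g * y * g⁻¹ * (g * t1 * g⁻¹) := by group
  have ht1P2 : g * t1 * g⁻¹ ∈ P2 := (hP2 _).1 hcomm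
  obtain ⟨m, hm⟩ := isPElt_of_mem c.hp P2.2 ht1P2
  have ht1' : orderOf (g * t1 * g⁻¹) = 2 := by
    apply v12_orderOf_two
    · calc g * t1 * g⁻¹ * (g * t1 * g⁻¹) = g * (t1 * t1) * g⁻¹ := by group
        _ = 1 := by rw [v12_sq_of_orderOf_two ht1]; group
    · intro h
      apply v12_ne_one_of_orderOf_two ht1
      have : t1 = g⁻¹ * (g * t1 * g⁻¹) * g := by group
      rw [this, h]; group
  rw [ht1'] at hm
  rcases Nat.eq_zero_or_pos m with hm0 | hm0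
  · rw [hm0, pow_zero] at hm; omega
  · have hp2 : p ∣ 2 := hm ▸ dvd_pow_self p hm0.ne'
    exact c.p_ne_two ((Nat.prime_dvd_prime_iff_eq c.hp Nat.prime_two).1 hp2)

end Cfsg.Agent.Helper10.Mix
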