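import Mathlib
import Cfsg.Agent.Lib.Helper10.MixDefs
import Cfsg.Agent.Lib.Helper16.MixV12
import Cfsg.Agent.Lib.Helper16.MixV4Core
import Cfsg.Agent.Lib.Helper21.MixV3

set_option autoImplicit false

namespace Cfsg.Agent.Helper10.Mix

variable {G : Type*} [Group G] [Finite G] {p a : ℕ}

/-! ### PIECE V4 : no p-element commutes with an involution -/
theorem no_pelt_commute (c : Cfg G p a) (B : ∀ Q : Sylow 2 G, Base G p a Q) (hG : Good G p) :
    ∀ t y : G, orderOf t = 2 → IsPElt p y → Commute y t → y = 1 :=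
  no_pelt_commute_core c B hG
    (fun ht hz1 hz hinv P hP htP => inverts_sylow c B hG ht hz1 hz hinv P hP htP)

end Cfsg.Agent.Helper10.Mix
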