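import Mathlib
import Cfsg.Agent.Lib.Helper10.PCDefs

/-! # S2276 piece EXT (helper16): extend an indexed partial injection to an even permutation -/

set_option autoImplicit false
set_option linter.unusedSectionVars false

namespace Cfsg.Agent.Helper10.PC

open Equiv Equiv.Perm

universe u

section general
variable {Ω : Type u} [Fintype Ω] [DecidableEq Ω]

theorem pcext_two_outside {ι : Type*} [Fintype ι] (tgt : ι → Ω)
    (hfree : Fintype.card ι + 2 ≤ Fintype.card Ω) :
    ∃ a b : Ω, a ≠ b ∧ (∀ i, tgt i ≠ a) ∧ (∀ i, tgt i ≠ b) := by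
  classical
  have hcard : (Finset.univ.image tgt).card ≤ Fintype.card ι := by
    simpa using (Finset.card_image_le (s := (Finset.univ : Finset ι)) (f := tgt))
  have h2 : 2 ≤ ((Finset.univ.image tgt)ᶜ).card := by
    rw [Finset.card_compl]
    omega
  obtain ⟨a, ha, b, hb, hab⟩ := Finset.one_lt_card.1 (by omega : 1 < ((Finset.univ.image tgt)ᶜ).card)
  refine ⟨a, b, hab, ?_, ?_⟩
  · intro i h
    apply (Finset.mem_compl.1 ha)
    exact Finset.mem_image.2 ⟨i, Finset.mem_univ _, h⟩
  · intro i h
    apply (Finset.mem_compl.1 hb)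
    exact Finset.mem_image.2 ⟨i, Finset.mem_univ _, h⟩

theorem exists_even_extend {ι : Type*} [Fintype ι] (src tgt : ι → Ω)
    (hsrc : Function.Injective src) (htgt : Function.Injective tgt)
    (hfree : Fintype.card ι + 2 ≤ Fintype.card Ω) :
    ∃ g : Perm Ω, Perm.sign g = 1 ∧ ∀ i, g (src i) = tgt i := by
  classical
  let e : {x // x ∈ Set.range src} ≃ {x // x ∈ Set.range tgt} :=
    (Equiv.ofInjective src hsrc).symm.trans (Equiv.ofInjective tgt htgt)
  let g₀ : Perm Ω := e.extendSubtype
  have hg₀ : ∀ i, g₀ (src i) = tgt i := by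
    intro i
    have hm : src i ∈ Set.range src := ⟨i, rfl⟩
    have := Equiv.extendSubtype_apply_of_mem e (src i) hm
    rw [show g₀ (src i) = e.extendSubtype (src i) from rfl, this]
    have h1 : (Equiv.ofInjective src hsrc).symm ⟨src i, hm⟩ = i := by
      apply (Equiv.ofInjective src hsrc).injective
      rw [Equiv.apply_symm_apply]
      rfl
    simp only [e, Equiv.trans_apply, h1]
    rfl
  rcases Int.units_eq_one_or (Perm.sign g₀) with h | h
  · exact ⟨g₀, h, hg₀⟩
  · obtain ⟨a, b, hab, ha, hb⟩ := pcext_two_outside tgt hfree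
    refine ⟨Equiv.swap a b * g₀, ?_, ?_⟩
    · rw [Perm.sign_mul, Perm.sign_swap hab, h]; rfl
    · intro i
      rw [Perm.mul_apply, hg₀ i, Equiv.swap_apply_of_ne_of_ne (ha i) (hb i)]

end general

end Cfsg.Agent.Helper10.PC
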