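import Mathlib
import Cfsg.Agent.Lib.Helper10.PCDefs

/-! # S2276 piece COORD (helper16): a transitive permutation is the rotation of `ZMod n` -/

set_option autoImplicit false
set_option linter.unusedSectionVars false

namespace Cfsg.Agent.Helper10.PC

open Equiv Equiv.Perm

universe u

section general
variable {Ω : Type u} [Fintype Ω] [DecidableEq Ω]

theorem pccoord_isCycleOn (u : Perm Ω) (x₀ : Ω) (hx : ∀ y, ∃ k : ℕ, (u ^ k) x₀ = y) :
    u.IsCycleOn ((Finset.univ : Finset Ω) : Set Ω) := by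
  refine ⟨?_, ?_⟩
  · rw [Finset.coe_univ]
    exact ⟨fun _ _ => Set.mem_univ _, u.injective.injOn, fun y _ => ⟨u.symm y, Set.mem_univ _, by simp⟩⟩
  · intro x _ y _
    obtain ⟨a, ha⟩ := hx x
    obtain ⟨b, hb⟩ := hx y
    refine ⟨(b : ℤ) - (a : ℤ), ?_⟩
    rw [← ha, ← hb, ← Perm.mul_apply, ← zpow_natCast, ← zpow_add]
    simp

theorem pccoord_pow_mod (n : ℕ) (u : Perm Ω) (x₀ : Ω) (hper : (u ^ n) x₀ = x₀) (m : ℕ) :
    (u ^ m) x₀ = (u ^ (m % n)) x₀ := by
  have h1 : ∀ j : ℕ, ((u ^ n) ^ j) x₀ = x₀ := by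
    intro j
    induction j with
    | zero => simp
    | succ j ih => rw [pow_succ, Perm.mul_apply, hper, ih]
  conv_lhs => rw [← Nat.mod_add_div m n]
  rw [pow_add, Perm.mul_apply, pow_mul, h1]

theorem exists_equiv_zmod (n : ℕ) [NeZero n] (hn : Fintype.card Ω = n) (u : Perm Ω) (x₀ : Ω)
    (hx : ∀ y, ∃ k : ℕ, (u ^ k) x₀ = y) : ∃ e : Ω ≃ ZMod n, ∀ x, e (u x) = e x + 1 := by
  have hcyc := pccoord_isCycleOn u x₀ hx
  have hcard : (Finset.univ : Finset Ω).card = n := by rw [Finset.card_univ, hn]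
  have hper : (u ^ n) x₀ = x₀ := by
    have := hcyc.pow_card_apply (Finset.mem_univ x₀)
    rwa [hcard] at this
  let g : ZMod n → Ω := fun k => (u ^ k.val) x₀
  have hg_nat : ∀ m : ℕ, g (m : ZMod n) = (u ^ m) x₀ := by
    intro m
    show (u ^ ((m : ZMod n)).val) x₀ = (u ^ m) x₀
    rw [ZMod.val_natCast, ← pccoord_pow_mod n u x₀ hper m]
  have hsurj : Function.Surjective g := by
    intro y
    obtain ⟨k, hk⟩ := hx y
    exact ⟨(k : ZMod n), by rw [hg_nat, hk]⟩
  have hbij : Function.Bijective g := by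
    rw [Fintype.bijective_iff_surjective_and_card]
    exact ⟨hsurj, by rw [ZMod.card, hn]⟩
  let e' : ZMod n ≃ Ω := Equiv.ofBijective g hbij
  refine ⟨e'.symm, ?_⟩
  intro x
  obtain ⟨k, rfl⟩ := e'.surjective x
  rw [Equiv.symm_apply_apply]
  apply e'.injective
  rw [Equiv.apply_symm_apply]
  show u (g k) = g (k + 1)
  have h1 : (k + 1 : ZMod n) = ((k.val + 1 : ℕ) : ZMod n) := by
    rw [Nat.cast_add, ZMod.natCast_zmod_val, Nat.cast_one]
  rw [h1, hg_nat, pow_succ', Perm.mul_apply]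

end general

end Cfsg.Agent.Helper10.PC
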