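import Mathlib

/-!
# S2263 PART E (existence of elements of the largest order in `PGU_d(q)`): shared definitions (helper16)

See `plans/PUE_plan.md`, `plans/PUE_Skel.lean.txt`.
-/

set_option autoImplicit false

namespace Cfsg.Agent.Helper10.PU

open Matrix

universe u

section defs

variable {F : Type u} [Field F] (φ : F →+* F)

/-- `B : V → V → F` is a nondegenerate `φ`-Hermitian form (linear in the first variable;
`φ`-semilinearity in the second variable follows from `herm`). -/
structure HForm (V : Type u) [AddCommGroup V] [Module F V] (B : V → V → F) : Prop where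
  add_left : ∀ u u' v, B (u + u') v = B u v + B u' v
  smul_left : ∀ (a : F) u v, B (a • u) v = a * B u v
  herm : ∀ u v, φ (B u v) = B v u
  nondeg : ∀ u, (∀ v, B u v = 0) → u = 0

variable (F)

/-- the hyperbolic Gram matrix `[[0, 1], [1, 0]]` on `κ ⊕ κ`. -/
def Jhyp (κ : Type) [DecidableEq κ] : Matrix (κ ⊕ κ) (κ ⊕ κ) F :=
  fromBlocks (0 : Matrix κ κ F) (1 : Matrix κ κ F) (1 : Matrix κ κ F) (0 : Matrix κ κ F)

variable {F}

/-- the hyperbolic embedding `diag(S, ((S^φ)ᵀ)⁻¹)` of `GL_κ(F)` into the isometry group of `Jhyp`. -/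
noncomputable def hypEmb {κ : Type} [Fintype κ] [DecidableEq κ] (S : Matrix κ κ F) :
    Matrix (κ ⊕ κ) (κ ⊕ κ) F :=
  fromBlocks S (0 : Matrix κ κ F) (0 : Matrix κ κ F) ((S.map φ)ᵀ)⁻¹

end defs

end Cfsg.Agent.Helper10.PU
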