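import Mathlib
import Cfsg.Agent.Lib.Helper16.Simple168a
import Cfsg.Agent.Lib.Helper16.PSL2Recog

/-!
# Simple groups of order 168, part b: the generators act as Möbius transformations
-/

set_option autoImplicit false
set_option linter.unusedSectionVars false

namespace Cfsg.Agent.Helper16

namespace O168

instance fact_prime_seven : Fact (Nat.Prime 7) := ⟨by norm_num⟩

/-- The combinatorial lemma pinning down the action of the involution. -/
theorem inversion_form (κ κ' : ZMod 7) (hκ : (κ = 2 ∧ κ' = 4) ∨ (κ = 4 ∧ κ' = 2))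
    (f : ZMod 7 → ZMod 7)
    (h0 : ∀ i, i ≠ 0 → f i ≠ 0) (hinv : ∀ i, i ≠ 0 → f (f i) = i) (hfix : ∀ i, i ≠ 0 → f i ≠ i)
    (hκf : ∀ i, i ≠ 0 → f (κ * i) = κ' * f i) :
    (f 1 = 3 ∨ f 1 = 5 ∨ f 1 = 6) ∧ ∀ i, i ≠ 0 → i * f i = f 1 := by
  have hall : ∀ i : ZMod 7, i = 0 ∨ i = 1 ∨ i = 2 ∨ i = 3 ∨ i = 4 ∨ i = 5 ∨ i = 6 := by decide
  have hc0 := h0 1 (by decide)
  have hc1 := hfix 1 (by decide)
  have b0 := hinv 1 (by decide)
  rcases hκ with ⟨rfl, rfl⟩ | ⟨rfl, rfl⟩
  · have a1 := hκf 1 (by decide)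
    have a2 := hκf 2 (by decide)
    rw [mul_one] at a1
    rw [a1] at a2
    have b1 := hκf (f 1) hc0
    have b2 := hκf (2 * f 1) (mul_ne_zero (by decide) hc0)
    rw [b0] at b1
    rw [b1] at b2
    have hf2 := hfix 2 (by decide)
    have hf4 := hfix 4 (by decide)
    rcases hall (f 1) with hc | hc | hc | hc | hc | hc | hc
    · exact absurd hc hc0
    · exact absurd hc hc1
    · exfalso; rw [hc] at a2; exact hf4 (by rw [show (4 : ZMod 7) = 2 * 2 by decide, a2]; decide)
    · refine ⟨Or.inl hc, ?_⟩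
      rw [hc] at a1 a2 b0 b1 b2 ⊢
      intro i hi
      rcases hall i with rfl | rfl | rfl | rfl | rfl | rfl | rfl
      · exact absurd rfl hi
      · rw [hc]; decide
      · rw [a1]; decide
      · rw [b0]; decide
      · rw [show (4 : ZMod 7) = 2 * 2 by decide, a2]; decide
      · rw [show (5 : ZMod 7) = 2 * (2 * 3) by decide, b2]; decide
      · rw [show (6 : ZMod 7) = 2 * 3 by decide, b1]; decide
    · exfalso; rw [hc] at a1; exact hf2 (by rw [a1]; decide)
    · refine ⟨Or.inr (Or.inl hc), ?_⟩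
      rw [hc] at a1 a2 b0 b1 b2 ⊢
      intro i hi
      rcases hall i with rfl | rfl | rfl | rfl | rfl | rfl | rfl
      · exact absurd rfl hi
      · rw [hc]; decide
      · rw [a1]; decide
      · rw [show (3 : ZMod 7) = 2 * 5 by decide, b1]; decide
      · rw [show (4 : ZMod 7) = 2 * 2 by decide, a2]; decide
      · rw [b0]; decide
      · rw [show (6 : ZMod 7) = 2 * (2 * 5) by decide, b2]; decide
    · refine ⟨Or.inr (Or.inr hc), ?_⟩
      rw [hc] at a1 a2 b0 b1 b2 ⊢
      intro i hi
      rcases hall i with rfl | rfl | rfl | rfl | rfl | rfl | rfl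
      · exact absurd rfl hi
      · rw [hc]; decide
      · rw [a1]; decide
      · rw [show (3 : ZMod 7) = 2 * (2 * 6) by decide, b2]; decide
      · rw [show (4 : ZMod 7) = 2 * 2 by decide, a2]; decide
      · rw [show (5 : ZMod 7) = 2 * 6 by decide, b1]; decide
      · rw [b0]; decide
  · have a1 := hκf 1 (by decide)
    have a2 := hκf 4 (by decide)
    rw [mul_one] at a1
    rw [a1] at a2
    have b1 := hκf (f 1) hc0
    have b2 := hκf (4 * f 1) (mul_ne_zero (by decide) hc0)
    rw [b0] at b1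
    rw [b1] at b2
    have hf2 := hfix 2 (by decide)
    have hf4 := hfix 4 (by decide)
    rcases hall (f 1) with hc | hc | hc | hc | hc | hc | hc
    · exact absurd hc hc0
    · exact absurd hc hc1
    · exfalso; rw [hc] at a1; exact hf4 (by rw [a1]; decide)
    · refine ⟨Or.inl hc, ?_⟩
      rw [hc] at a1 a2 b0 b1 b2 ⊢
      intro i hi
      rcases hall i with rfl | rfl | rfl | rfl | rfl | rfl | rfl
      · exact absurd rfl hi
      · rw [hc]; decide
      · rw [show (2 : ZMod 7) = 4 * 4 by decide, a2]; decide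
      · rw [b0]; decide
      · rw [a1]; decide
      · rw [show (5 : ZMod 7) = 4 * 3 by decide, b1]; decide
      · rw [show (6 : ZMod 7) = 4 * (4 * 3) by decide, b2]; decide
    · exfalso; rw [hc] at a2; exact hf2 (by rw [show (2 : ZMod 7) = 4 * 4 by decide, a2]; decide)
    · refine ⟨Or.inr (Or.inl hc), ?_⟩
      rw [hc] at a1 a2 b0 b1 b2 ⊢
      intro i hi
      rcases hall i with rfl | rfl | rfl | rfl | rfl | rfl | rfl
      · exact absurd rfl hi
      · rw [hc]; decide
      · rw [show (2 : ZMod 7) = 4 * 4 by decide, a2]; decide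
      · rw [show (3 : ZMod 7) = 4 * (4 * 5) by decide, b2]; decide
      · rw [a1]; decide
      · rw [b0]; decide
      · rw [show (6 : ZMod 7) = 4 * 5 by decide, b1]; decide
    · refine ⟨Or.inr (Or.inr hc), ?_⟩
      rw [hc] at a1 a2 b0 b1 b2 ⊢
      intro i hi
      rcases hall i with rfl | rfl | rfl | rfl | rfl | rfl | rfl
      · exact absurd rfl hi
      · rw [hc]; decide
      · rw [show (2 : ZMod 7) = 4 * 4 by decide, a2]; decide
      · rw [show (3 : ZMod 7) = 4 * 6 by decide, b1]; decide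
      · rw [a1]; decide
      · rw [show (5 : ZMod 7) = 4 * (4 * 6) by decide, b2]; decide
      · rw [b0]; decide

section Hom

variable {G : Type*} [Group G]

/-- The permutation representation on the projective line induced by a labelling. -/
noncomputable def labHom (e : OnePoint (ZMod 7) ≃ Sylow 7 G) :
    G →* Equiv.Perm (OnePoint (ZMod 7)) :=
  (e.symm.permCongrHom).toMonoidHom.comp (MulAction.toPermHom G (Sylow 7 G))

theorem labHom_apply (e : OnePoint (ZMod 7) ≃ Sylow 7 G) (g : G) (q : OnePoint (ZMod 7)) :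
    labHom e g q = e.symm (g • e q) := rfl

theorem labHom_eq_of (e : OnePoint (ZMod 7) ≃ Sylow 7 G) (g : G)
    (σ : Equiv.Perm (OnePoint (ZMod 7))) (h : ∀ q, g • e q = e (σ q)) : labHom e g = σ := by
  ext q
  rw [labHom_apply, h, Equiv.symm_apply_apply]

theorem labHom_injective (e : OnePoint (ZMod 7) ≃ Sylow 7 G)
    (hf : Function.Injective (MulAction.toPermHom G (Sylow 7 G))) :
    Function.Injective (labHom e) := by
  intro a b hab
  apply hf
  exact (e.symm.permCongrHom).injective hab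

end Hom

section Free

variable {G : Type*} [Group G] [Finite G]

theorem free_of_order {P Q0 : Sylow 7 G} (hP7 : Nat.card P = 7) {x : G} (hxP : x ∈ P)
    (hox : orderOf x = 7) (hPQ : Q0 ≠ P) : ∀ n : ℕ, x ^ n • Q0 = Q0 → 7 ∣ n := by
  intro n hn
  by_contra hdvd
  apply hPQ
  apply sylow_eq_of_smul_eq P Q0 hP7 (Subgroup.pow_mem _ hxP n) _ hn
  intro h1
  apply hdvd
  rw [← hox]
  exact orderOf_dvd_of_pow_eq_one h1

theorem smul_self_of_mem {P : Sylow 7 G} {x : G} (hxP : x ∈ P) : x • P = P :=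
  Sylow.smul_eq_iff_mem_normalizer.2 (Subgroup.le_normalizer hxP)

/-- A Sylow 7-subgroup of order 7 is transitive on the other Sylow 7-subgroups. -/
theorem exists_pow_smul_eq (hcard : Nat.card (Sylow 7 G) = 8) {R : Sylow 7 G}
    (hR7 : Nat.card R = 7) {z : G} (hzR : z ∈ R) (hoz : orderOf z = 7)
    {Q1 Q2 : Sylow 7 G} (h1 : Q1 ≠ R) (h2 : Q2 ≠ R) : ∃ n : ℕ, z ^ n • Q1 = Q2 := by
  have hz7 : z ^ 7 = 1 := by rw [← hoz]; exact pow_orderOf_eq_one z
  have hbij := lab_bijective hz7 (smul_self_of_mem hzR) h1 (free_of_order hR7 hzR hoz h1) hcard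
  obtain ⟨q, hq⟩ := hbij.2 Q2
  induction q using OnePoint.rec with
  | infty => rw [lab_infty] at hq; exact absurd hq.symm h2
  | coe i => exact ⟨i.val, hq⟩

end Free

end O168

end Cfsg.Agent.Helper16
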