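import Mathlib
import Cfsg.Agent.S1003
import Cfsg.Agent.S1005
import Cfsg.Agent.Lib.Helper2.SylowSub
import Cfsg.Agent.Lib.Helper2.Order60
import Cfsg.Agent.Lib.Helper2.PSL27
import Cfsg.Agent.Lib.Helper16.Simple168b

/-!
# Simple groups of order 168, part c: the group-theoretic data
-/

set_option autoImplicit false
set_option linter.unusedSectionVars false

namespace Cfsg.Agent.Helper16

namespace O168

variable {G : Type*} [Group G]

theorem pow_val_injective {x : G} (hox : orderOf x = 7) :
    Function.Injective (fun i : ZMod 7 => x ^ i.val) := by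
  intro i j hij
  have h1 : x ^ i.val = x ^ j.val := hij
  rw [pow_inj_mod, hox, Nat.mod_eq_of_lt (ZMod.val_lt i), Nat.mod_eq_of_lt (ZMod.val_lt j)] at h1
  exact ZMod.val_injective 7 h1

/-- Conjugation by a normalizing element raises `x` to a power. -/
theorem exists_conj_eq_pow {x w : G} (hox : orderOf x = 7)
    (hw : w * x * w⁻¹ ∈ Subgroup.zpowers x) : ∃ μ : ZMod 7, w * x * w⁻¹ = x ^ μ.val := by
  have hx7 : x ^ 7 = 1 := by rw [← hox]; exact pow_orderOf_eq_one x
  have hfin : IsOfFinOrder x := by
    rw [← orderOf_pos_iff, hox]; norm_num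
  rw [← hfin.mem_powers_iff_mem_zpowers] at hw
  obtain ⟨n, hn⟩ := (Submonoid.mem_powers_iff _ _).1 hw
  exact ⟨(n : ZMod 7), by rw [pow_val_natCast hx7, hn]⟩

theorem conj_pow_val {x w : G} (hx7 : x ^ 7 = 1) {μ : ZMod 7} (hw : w * x * w⁻¹ = x ^ μ.val)
    (i : ZMod 7) : w * x ^ i.val * w⁻¹ = x ^ (μ * i).val := by
  rw [← conj_pow, hw, pow_val_mul hx7]

theorem cube_eq_one_of_conj {x w : G} (hox : orderOf x = 7) {μ : ZMod 7}
    (hw : w * x * w⁻¹ = x ^ μ.val) (hw3 : w ^ 3 = 1) : μ ^ 3 = 1 := by
  have hx7 : x ^ 7 = 1 := by rw [← hox]; exact pow_orderOf_eq_one x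
  have h1 : w * x ^ (1 : ZMod 7).val * w⁻¹ = x ^ (μ * 1).val := conj_pow_val hx7 hw 1
  have h2 : w * x ^ (μ * 1).val * w⁻¹ = x ^ (μ * (μ * 1)).val := conj_pow_val hx7 hw _
  have h3 : w * x ^ (μ * (μ * 1)).val * w⁻¹ = x ^ (μ * (μ * (μ * 1))).val := conj_pow_val hx7 hw _
  have h4 : w ^ 3 * x ^ (1 : ZMod 7).val * (w ^ 3)⁻¹ = x ^ (μ * (μ * (μ * 1))).val := by
    rw [← h3, ← h2, ← h1, pow_succ, pow_two]
    group
  rw [hw3] at h4
  simp only [one_mul, inv_one, mul_one] at h4
  have := pow_val_injective hox h4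
  calc μ ^ 3 = μ * (μ * μ) := by ring
    _ = 1 := this.symm

theorem kappa_cases : ∀ κ : ZMod 7, κ ^ 3 = 1 → κ ≠ 1 →
    (κ = 2 ∧ κ * κ = 4) ∨ (κ = 4 ∧ κ * κ = 2) := by decide

/-- Odd powers of an element swapping two points swap them. -/
theorem pow_swap {α : Type*} [MulAction G α] {g : G} {a b : α} (hab : g • a = b) (hba : g • b = a)
    (n : ℕ) : g ^ (2 * n) • a = a ∧ g ^ (2 * n + 1) • a = b := by
  induction n with
  | zero => simp [hab]
  | succ n ih =>
    have h1 : g ^ (2 * (n + 1)) • a = a := by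
      rw [show 2 * (n + 1) = (2 * n + 1) + 1 by ring, pow_succ', mul_smul, ih.2, hba]
    refine ⟨h1, ?_⟩
    rw [pow_succ', mul_smul, h1, hab]

set_option maxHeartbeats 1000000 in
/-- A simple group of order 168 is isomorphic to `PSL₂(7)`. -/
theorem simple_168_equiv_psl [Finite G] [IsSimpleGroup G] (h : Nat.card G = 168) :
    Nonempty (G ≃* Matrix.ProjectiveSpecialLinearGroup (Fin 2) (ZMod 7)) := by
  classical
  have hF3 : Fact (Nat.Prime 3) := ⟨Nat.prime_three⟩
  obtain ⟨-, -, hn7⟩ := Cfsg.Agent.S1003.result h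
  obtain ⟨hord, -, -⟩ := Cfsg.Agent.S1005.result h
  have hS7 : ∀ R : Sylow 7 G, Nat.card R = 7 := by
    intro R
    have := Cfsg.Agent.Helper2.sylow_card_of_card_eq (p := 7) (a := 1) (m := 24) R
      (by rw [h]; norm_num) (by decide)
    simpa using this
  have hN21 : ∀ R : Sylow 7 G, Nat.card (Subgroup.normalizer (R : Set G)) = 21 := by
    intro R
    have h1 := Sylow.card_eq_index_normalizer R
    have h2 := (Subgroup.normalizer (R : Set G)).card_mul_index
    rw [← h1, hn7, h] at h2
    omega
  have hgen : ∀ R : Sylow 7 G, ∃ z : G, z ∈ R ∧ orderOf z = 7 := by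
    intro R
    obtain ⟨z, hz⟩ := exists_prime_orderOf_dvd_card' (G := R) 7 (by rw [hS7 R])
    exact ⟨z, z.2, by rw [Subgroup.orderOf_coe, hz]⟩
  obtain ⟨P⟩ : Nonempty (Sylow 7 G) := inferInstance
  have hP7 := hS7 P
  obtain ⟨x, hxP, hox⟩ := hgen P
  have hx7 : x ^ 7 = 1 := by rw [← hox]; exact pow_orderOf_eq_one x
  have hzx : Subgroup.zpowers x = (P : Subgroup G) := by
    apply Subgroup.eq_of_le_of_card_ge (Subgroup.zpowers_le.2 hxP)
    rw [Nat.card_zpowers, hox, hP7]
  have hxPs : x • P = P := smul_self_of_mem hxP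
  -- the element `u`
  obtain ⟨u0, hu0⟩ := exists_prime_orderOf_dvd_card'
    (G := Subgroup.normalizer (P : Set G)) 3 (by rw [hN21 P]; norm_num)
  set u : G := (u0 : G) with hu
  have huN : u ∈ Subgroup.normalizer (P : Set G) := u0.2
  have hou : orderOf u = 3 := by rw [hu, Subgroup.orderOf_coe, hu0]
  have hu3 : u ^ 3 = 1 := by rw [← hou]; exact pow_orderOf_eq_one u
  have huP : u • P = P := Sylow.smul_eq_iff_mem_normalizer.2 huN
  -- a second fixed point of `u`
  obtain ⟨Q0, hQ0, huQ⟩ : ∃ Q0 : Sylow 7 G, Q0 ≠ P ∧ u • Q0 = Q0 := by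
    by_contra hno
    push Not at hno
    have hpg : IsPGroup 3 (Subgroup.zpowers u) :=
      IsPGroup.of_card (n := 1) (by rw [Nat.card_zpowers, hou]; norm_num)
    have hmod := hpg.card_modEq_card_fixedPoints (Sylow 7 G)
    have hfix : MulAction.fixedPoints (Subgroup.zpowers u) (Sylow 7 G) = {P} := by
      ext Q
      rw [MulAction.mem_fixedPoints, Set.mem_singleton_iff]
      constructor
      · intro hQ
        by_contra hne
        exact hno Q hne (hQ ⟨u, Subgroup.mem_zpowers u⟩)
      · rintro rfl g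
        have hg : (g : G) ∈ Subgroup.normalizer (Q : Set G) :=
          (Subgroup.zpowers_le.2 huN) g.2
        exact Sylow.smul_eq_iff_mem_normalizer.2 hg
    rw [hfix, hn7, Nat.card_coe_set_eq, Set.ncard_singleton] at hmod
    exact absurd hmod (by decide)
  have hfree := free_of_order hP7 hxP hox hQ0
  have hbij := lab_bijective hx7 hxPs hQ0 hfree hn7
  have hinjl := hbij.1
  set e : OnePoint (ZMod 7) ≃ Sylow 7 G := Equiv.ofBijective (lab P Q0 x) hbij with he
  have he_infty : e OnePoint.infty = P := rfl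
  have he_coe : ∀ i : ZMod 7, e (i : OnePoint (ZMod 7)) = x ^ i.val • Q0 := fun i => rfl
  have he0 : e ((0 : ZMod 7) : OnePoint (ZMod 7)) = Q0 := by
    rw [he_coe, ZMod.val_zero, pow_zero, one_smul]
  -- the exponent `κ`
  have hconjP : ∀ w : G, w ∈ Subgroup.normalizer (P : Set G) →
      w * x * w⁻¹ ∈ Subgroup.zpowers x := by
    intro w hw
    rw [hzx]
    exact (Subgroup.mem_normalizer_iff.1 hw x).1 hxP
  obtain ⟨κ, hκ⟩ := exists_conj_eq_pow hox (hconjP u huN)
  have hκ3 := cube_eq_one_of_conj hox hκ hu3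
  have hκ1 : κ ≠ 1 := by
    rintro rfl
    rw [ZMod.val_one, pow_one] at hκ
    have hc : Commute u x := by
      have : u * x = x * u := by
        calc u * x = u * x * u⁻¹ * u := by group
          _ = x * u := by rw [hκ]
      exact this
    have h21 := hc.orderOf_mul_eq_mul_orderOf_of_coprime (by rw [hou, hox]; norm_num)
    rw [hou, hox] at h21
    rcases hord (u * x) with h' | h' | h' | h' | h' <;> rw [h'] at h21 <;> norm_num at h21
  have hκc := kappa_cases κ hκ3 hκ1
  set κ' : ZMod 7 := κ * κ with hκ'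
  have hκκ' : κ * κ' = 1 := by
    rw [hκ']
    calc κ * (κ * κ) = κ ^ 3 := by ring
      _ = 1 := hκ3
  have hu_coe : ∀ i : ZMod 7, u • e (i : OnePoint (ZMod 7)) = e ((κ * i : ZMod 7) : OnePoint (ZMod 7)) := by
    intro i
    rw [he_coe, he_coe, ← conj_pow_val hx7 hκ i, mul_smul, mul_smul]
    congr 2
    exact (inv_smul_eq_iff.2 huQ.symm).symm
  have hu_inv_coe : ∀ i : ZMod 7,
      u⁻¹ • e (i : OnePoint (ZMod 7)) = e ((κ' * i : ZMod 7) : OnePoint (ZMod 7)) := by
    intro i
    rw [inv_smul_eq_iff, hu_coe, ← mul_assoc, hκκ', one_mul]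
  -- the involution `t`
  obtain ⟨t, htP, htQ, hot⟩ : ∃ t : G, t • P = Q0 ∧ t • Q0 = P ∧ orderOf t = 2 := by
    obtain ⟨g1, hg1⟩ := MulAction.exists_smul_eq G P Q0
    obtain ⟨z, hzQ, hoz⟩ := hgen Q0
    have hR : g1 • Q0 ≠ Q0 := by
      intro hR
      exact hQ0 (smul_left_cancel g1 (hR.trans hg1.symm))
    obtain ⟨n, hn⟩ := exists_pow_smul_eq hn7 (hS7 Q0) hzQ hoz hR hQ0.symm
    set g : G := z ^ n * g1 with hg
    have hgP : g • P = Q0 := by
      rw [hg, mul_smul, hg1]
      exact smul_self_of_mem (Subgroup.pow_mem _ hzQ n)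
    have hgQ : g • Q0 = P := by
      rw [hg, mul_smul, hn]
    refine ⟨g, hgP, hgQ, ?_⟩
    have hsw := pow_swap hgP hgQ
    rcases hord g with h' | h' | h' | h' | h'
    · exfalso
      rw [orderOf_eq_one_iff] at h'
      rw [h', one_smul] at hgP
      exact hQ0 hgP.symm
    · exact h'
    · exfalso
      have h3 : g ^ 3 = 1 := by rw [← h']; exact pow_orderOf_eq_one g
      have := (hsw 1).2
      norm_num at this
      rw [h3, one_smul] at this
      exact hQ0 this.symm
    · exfalso
      have h2 : orderOf (g ^ 2) = 2 := by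
        rw [orderOf_pow' g (by norm_num : (2 : ℕ) ≠ 0), h']
        norm_num
      have hmem : g ^ 2 ∈ Subgroup.normalizer (P : Set G) := by
        apply Sylow.smul_eq_iff_mem_normalizer.1
        have := (hsw 1).1
        simpa using this
      have hdvd := Subgroup.orderOf_dvd_natCard _ hmem
      rw [h2, hN21 P] at hdvd
      norm_num at hdvd
    · exfalso
      have h7 : g ^ 7 = 1 := by rw [← h']; exact pow_orderOf_eq_one g
      have := (hsw 3).2
      norm_num at this
      rw [h7, one_smul] at this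
      exact hQ0 this.symm
  have ht2 : t * t = 1 := by
    rw [← pow_two, ← hot]; exact pow_orderOf_eq_one t
  have htinv : t⁻¹ = t := inv_eq_of_mul_eq_one_left ht2
  have htfix : ∀ R : Sylow 7 G, t • R ≠ R := by
    intro R hR
    have hmem := Sylow.smul_eq_iff_mem_normalizer.1 hR
    have hdvd := Subgroup.orderOf_dvd_natCard _ hmem
    rw [hot, hN21 R] at hdvd
    norm_num at hdvd
  -- the two-point stabilizer
  have htut : t * u * t⁻¹ = u⁻¹ := by
    set W : Subgroup G := Subgroup.normalizer (P : Set G) ⊓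
      Subgroup.normalizer (Q0 : Set G) with hW
    have hWord : ∀ w ∈ W, w ^ 3 = 1 := by
      intro w hw
      have hdvd := Subgroup.orderOf_dvd_natCard _ hw.1
      rw [hN21 P] at hdvd
      rcases hord w with h' | h' | h' | h' | h'
      · rw [orderOf_eq_one_iff] at h'; rw [h', one_pow]
      · rw [h'] at hdvd; norm_num at hdvd
      · rw [← h']; exact pow_orderOf_eq_one w
      · rw [h'] at hdvd; norm_num at hdvd
      · exfalso
        -- an element of order 7 normalizing `P` lies in `P`
        have hpg : IsPGroup 7 (Subgroup.zpowers w) :=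
          IsPGroup.of_card (n := 1) (by rw [Nat.card_zpowers, h']; norm_num)
        have h1 := hpg.inf_normalizer_sylow P
        have hwP : w ∈ (P : Subgroup G) :=
          (h1.le ⟨Subgroup.mem_zpowers w, hw.1⟩).2
        have hw1 : w ≠ 1 := by
          intro h1'
          rw [h1', orderOf_one] at h'
          norm_num at h'
        exact hQ0 (sylow_eq_of_smul_eq P Q0 hP7 hwP hw1
          (Sylow.smul_eq_iff_mem_normalizer.2 hw.2))
    have hWp : IsPGroup 3 W := by
      intro w
      refine ⟨1, ?_⟩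
      apply Subtype.ext
      rw [pow_one, Subgroup.coe_pow, hWord w w.2]
      rfl
    obtain ⟨k, hk⟩ := IsPGroup.iff_card.1 hWp
    have hWdvd : Nat.card W ∣ 21 := by
      rw [← hN21 P]
      exact Subgroup.card_dvd_of_le inf_le_left
    have hk1 : k ≤ 1 := by
      by_contra hk2
      push Not at hk2
      have : 3 ^ 2 ∣ 21 := by
        refine dvd_trans (pow_dvd_pow 3 hk2) ?_
        rw [← hk]; exact hWdvd
      norm_num at this
    have huW : u ∈ W := ⟨huN, Sylow.smul_eq_iff_mem_normalizer.1 huQ⟩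
    have hWu : Subgroup.zpowers u = W := by
      apply Subgroup.eq_of_le_of_card_ge (Subgroup.zpowers_le.2 huW)
      rw [Nat.card_zpowers, hou, hk]
      calc 3 ^ k ≤ 3 ^ 1 := Nat.pow_le_pow_right (by norm_num) hk1
        _ = 3 := by norm_num
    have hvW : t * u * t⁻¹ ∈ W := by
      constructor
      · apply Sylow.smul_eq_iff_mem_normalizer.1
        rw [mul_smul, mul_smul, htinv, htP, huQ, htQ]
      · apply Sylow.smul_eq_iff_mem_normalizer.1
        rw [mul_smul, mul_smul, htinv, htQ, huP, htP]
    rw [← hWu] at hvW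
    obtain ⟨m, hm⟩ := Subgroup.mem_zpowers_iff.1 hvW
    have hm' : u ^ (m % 3) = t * u * t⁻¹ := by
      rw [← hm]
      have := zpow_mod_orderOf u m
      rw [hou] at this
      exact_mod_cast this
    have hr0 : 0 ≤ m % 3 := Int.emod_nonneg _ (by norm_num)
    have hr3 : m % 3 < 3 := Int.emod_lt_of_pos _ (by norm_num)
    have hu1 : u ≠ 1 := by
      intro h1
      rw [h1, orderOf_one] at hou
      norm_num at hou
    have hr : m % 3 = 0 ∨ m % 3 = 1 ∨ m % 3 = 2 := by omega
    rcases hr with hr | hr | hr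
    · exfalso
      rw [hr, zpow_zero] at hm'
      apply hu1
      have : u = t⁻¹ * (t * u * t⁻¹) * t := by group
      rw [this, ← hm']; group
    · exfalso
      rw [hr, zpow_one] at hm'
      have hc : Commute t u := by
        have : t * u = u * t := by
          calc t * u = t * u * t⁻¹ * t := by group
            _ = u * t := by rw [← hm']
        exact this
      have h6 := hc.orderOf_mul_eq_mul_orderOf_of_coprime (by rw [hou, hot]; norm_num)
      rw [hou, hot] at h6
      rcases hord (t * u) with h' | h' | h' | h' | h' <;> rw [h'] at h6 <;> norm_num at h6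
    · rw [← hm', hr]
      have : u ^ (2 : ℤ) * u = 1 := by
        rw [← zpow_add_one]; norm_num
        exact_mod_cast hu3
      exact eq_inv_of_mul_eq_one_left this
  -- the function `f`
  have hq_ne : ∀ i : ZMod 7, i ≠ 0 → e.symm (t • e (i : OnePoint (ZMod 7))) ≠ OnePoint.infty := by
    intro i hi hq
    have h1 : t • e (i : OnePoint (ZMod 7)) = P := by
      rw [← he_infty, ← hq, Equiv.apply_symm_apply]
    rw [← htQ] at h1
    have h2 := smul_left_cancel t h1
    rw [← he0] at h2
    exact hi (OnePoint.coe_injective (e.injective h2))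
  have hf_ex : ∀ i : ZMod 7, ∃ j : ZMod 7, i ≠ 0 →
      t • e (i : OnePoint (ZMod 7)) = e (j : OnePoint (ZMod 7)) := by
    intro i
    by_cases hi : i = 0
    · exact ⟨0, fun h => absurd hi h⟩
    · have := hq_ne i hi
      obtain ⟨j, hj⟩ := OnePoint.ne_infty_iff_exists.1 this
      refine ⟨j, fun _ => ?_⟩
      rw [hj, Equiv.apply_symm_apply]
  choose f hf using hf_ex
  have hf0 : ∀ i, i ≠ 0 → f i ≠ 0 := by
    intro i hi h0
    have h1 := hf i hi
    rw [h0, he0, ← htP] at h1
    have h2 := smul_left_cancel t h1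
    rw [← he_infty] at h2
    exact OnePoint.coe_ne_infty _ (e.injective h2)
  have hfinv : ∀ i, i ≠ 0 → f (f i) = i := by
    intro i hi
    have h1 := hf i hi
    have h2 := hf (f i) (hf0 i hi)
    rw [← h1, ← mul_smul, ht2, one_smul] at h2
    exact (OnePoint.coe_injective (e.injective h2)).symm
  have hffix : ∀ i, i ≠ 0 → f i ≠ i := by
    intro i hi h1
    have h2 := hf i hi
    rw [h1] at h2
    exact htfix _ h2
  have hfκ : ∀ i, i ≠ 0 → f (κ * i) = κ' * f i := by
    intro i hi
    have hκ0 : κ ≠ 0 := by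
      rintro rfl
      rw [zero_mul] at hκκ'
      exact zero_ne_one hκκ'
    have hκi : κ * i ≠ 0 := mul_ne_zero hκ0 hi
    have h1 := hf (κ * i) hκi
    rw [← hu_coe i] at h1
    have h2 : t • u • e (i : OnePoint (ZMod 7)) = u⁻¹ • t • e (i : OnePoint (ZMod 7)) := by
      rw [← htut, ← mul_smul, ← mul_smul]
      congr 1
      group
    rw [h2, hf i hi, hu_inv_coe] at h1
    exact (OnePoint.coe_injective (e.injective h1)).symm
  obtain ⟨hc, hfi⟩ := inversion_form κ κ' hκc f hf0 hfinv hffix hfκ
  -- the Möbius transformations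
  have hx_mob : labHom e x ∈ (mobius (ZMod 7)).range := by
    refine ⟨translMat 1, ?_⟩
    symm
    apply labHom_eq_of
    intro q
    induction q using OnePoint.rec with
    | infty => rw [mobius_translMat_infty, he_infty, hxPs]
    | coe i =>
      rw [mobius_translMat_coe, he_coe, he_coe, ← mul_smul, pow_val_add hx7, ZMod.val_one,
        pow_one, pow_mul_comm']
  have hu_mob : labHom e u ∈ (mobius (ZMod 7)).range := by
    rcases hκc with ⟨hk, -⟩ | ⟨hk, -⟩
    · refine ⟨diagMat 3 (by decide), ?_⟩
      symm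
      apply labHom_eq_of
      intro q
      induction q using OnePoint.rec with
      | infty => rw [mobius_diagMat_infty, he_infty, huP]
      | coe i =>
        rw [mobius_diagMat_coe, hu_coe, hk, show (3 * 3 : ZMod 7) = 2 by decide]
    · refine ⟨diagMat 2 (by decide), ?_⟩
      symm
      apply labHom_eq_of
      intro q
      induction q using OnePoint.rec with
      | infty => rw [mobius_diagMat_infty, he_infty, huP]
      | coe i =>
        rw [mobius_diagMat_coe, hu_coe, hk, show (2 * 2 : ZMod 7) = 4 by decide]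
  have ht_mob_aux : ∀ (b l : ZMod 7) (hbl : -(b * l) = 1) (hl : l ≠ 0), l * f 1 = b →
      labHom e t ∈ (mobius (ZMod 7)).range := by
    intro b l hbl hl hlb
    refine ⟨antiMat b l hbl, ?_⟩
    symm
    apply labHom_eq_of
    intro q
    induction q using OnePoint.rec with
    | infty => rw [mobius_antiMat_infty, he_infty, he0, htP]
    | coe i =>
      by_cases hi : i = 0
      · rw [hi, mobius_antiMat_zero, he_infty, he0, htQ]
      · rw [mobius_antiMat_coe _ _ _ _ hi, hf i hi]
        congr 2
        rw [eq_div_iff (mul_ne_zero hl hi)]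
        calc f i * (l * i) = l * (i * f i) := by ring
          _ = b := by rw [hfi i hi, hlb]
  have ht_mob : labHom e t ∈ (mobius (ZMod 7)).range := by
    rcases hc with hc | hc | hc
    · exact ht_mob_aux 2 3 (by decide) (by decide) (by rw [hc]; decide)
    · exact ht_mob_aux 3 2 (by decide) (by decide) (by rw [hc]; decide)
    · exact ht_mob_aux 6 1 (by decide) (by decide) (by rw [hc]; decide)
  -- generation
  have hgenG : Subgroup.closure ({x, u, t} : Set G) = ⊤ := by
    by_contra hH
    set H : Subgroup G := Subgroup.closure ({x, u, t} : Set G) with hHdef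
    have hxH : x ∈ H := Subgroup.subset_closure (by simp)
    have huH : u ∈ H := Subgroup.subset_closure (by simp)
    have htH : t ∈ H := Subgroup.subset_closure (by simp)
    have h7 : 7 ∣ Nat.card H := by rw [← hox]; exact Subgroup.orderOf_dvd_natCard _ hxH
    have h3 : 3 ∣ Nat.card H := by rw [← hou]; exact Subgroup.orderOf_dvd_natCard _ huH
    have h2 : 2 ∣ Nat.card H := by rw [← hot]; exact Subgroup.orderOf_dvd_natCard _ htH
    have h42 : 42 ∣ Nat.card H := by
      have h21 : 21 ∣ Nat.card H :=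
        Nat.Coprime.mul_dvd_of_dvd_of_dvd (by norm_num : Nat.Coprime 3 7) h3 h7
      exact Nat.Coprime.mul_dvd_of_dvd_of_dvd (by norm_num : Nat.Coprime 2 21) h2 h21
    obtain ⟨m, hm⟩ := h42
    have hci := H.card_mul_index
    rw [hm, h] at hci
    have hfac := Cfsg.Agent.Helper2.simple_card_dvd_factorial_index' H hH
    rw [h] at hfac
    have hidx : m * H.index = 4 := by nlinarith
    have hidx4 : H.index ∣ 4 := ⟨m, by rw [← hidx]; ring⟩
    have hle : H.index ≤ 4 := Nat.le_of_dvd (by norm_num) hidx4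
    have hpos : 0 < H.index := Nat.pos_of_ne_zero (fun h0 => by rw [h0, mul_zero] at hidx; norm_num at hidx)
    interval_cases H.index <;> revert hfac <;> decide
  -- conclusion
  have hfaith : Function.Injective (MulAction.toPermHom G (Sylow 7 G)) := by
    rw [← MonoidHom.ker_eq_bot_iff]
    rcases (MonoidHom.normal_ker (MulAction.toPermHom G (Sylow 7 G))).eq_bot_or_eq_top with hk | hk
    · exact hk
    · exfalso
      have hxk : x ∈ (MulAction.toPermHom G (Sylow 7 G)).ker := by rw [hk]; trivial
      rw [MonoidHom.mem_ker] at hxk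
      have h1 : x • Q0 = Q0 := by
        have := congrArg (fun σ : Equiv.Perm (Sylow 7 G) => σ Q0) hxk
        exact this
      have := hfree 1 (by rw [pow_one]; exact h1)
      norm_num at this
  refine equiv_psl_of_mobius (labHom e) (labHom_injective e hfaith) {x, u, t} hgenG ?_ ?_
  · intro s hs
    rcases hs with rfl | rfl | rfl
    · exact hx_mob
    · exact hu_mob
    · exact ht_mob
  · rw [h, Cfsg.Agent.Helper2.P27.card_PSL27]

end O168

end Cfsg.Agent.Helper16
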