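import Mathlib
import Cfsg.Agent.Lib.Helper16.BG147G

/-!
BG Theorem 14.7, corollaries: `M ∩ M* = K K*` is cyclic (S1368); `Ẑ` is a TI-subset with
normalizer `Z` (S1370).
-/

set_option autoImplicit false

namespace Cfsg.Agent.Helper16.BG147

open Cfsg Subgroup
open Cfsg.Agent.Helper10 (IsPiNum)
open scoped commutatorElement

variable {G : Type*} [Group G] [Finite G]

/-- a `π`-subgroup of `M` containing a Hall `π`-subgroup of `M` equals it -/
theorem eq_of_piHall_le {π : Set ℕ} {H M Y : Subgroup G} (hH : IsPiHallOf π H M) (hHY : H ≤ Y)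
    (hYM : Y ≤ M) (hY : IsPiNum π (Nat.card Y)) : Y = H := by
  apply le_antisymm _ hHY
  rw [← Subgroup.relIndex_eq_one]
  by_contra hne
  obtain ⟨p, hp, hpd⟩ := Nat.exists_prime_and_dvd hne
  have h1 : H.relIndex Y * Y.relIndex M = H.relIndex M := Subgroup.relIndex_mul_relIndex H Y M hHY hYM
  have h2 : p ∣ H.relIndex M := by rw [← h1]; exact hpd.mul_right _
  have h3 : p ∣ Nat.card Y := hpd.trans (Subgroup.relIndex_dvd_card H Y)
  exact hH.2.2 p hp (hY p hp h3) h2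

namespace Ctx

variable {M K Ms : Subgroup G} (c : Ctx M K Ms)
include c

/-- a subgroup of prime order of `K` -/
theorem exists_prime_subgroup : ∃ X : Subgroup G, X ≤ K ∧ (Nat.card X).Prime := by
  obtain ⟨k, hkK, hk1⟩ := c.exists_K_ne_one
  have hne : orderOf k ≠ 1 := by rw [Ne, orderOf_eq_one_iff]; exact hk1
  obtain ⟨p, hp, hpd⟩ := Nat.exists_prime_and_dvd hne
  haveI := Fact.mk hp
  have hord : orderOf (k ^ (orderOf k / p)) = p :=
    orderOf_pow_orderOf_div (orderOf_pos k).ne' hpd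
  refine ⟨zpowers (k ^ (orderOf k / p)), ?_, ?_⟩
  · rw [zpowers_le]; exact pow_mem hkK _
  · rw [Nat.card_zpowers, hord]; exact hp

theorem normalizer_K : M ⊓ normalizer (K : Set G) = K ⊔ Kst M K := by
  obtain ⟨X, hXK, hX⟩ := c.exists_prime_subgroup
  exact ((c.h30 M c.hM K c.hall c.hK1).2.2 X hXK hX).2.1

/-- `K` is a Hall `σ(M*)`-subgroup of `M` -/
theorem K_hall : IsPiHallOf (sigma Ms) K M := by
  have := c.symm.Kst_hall
  rwa [c.Kst_Kst] at this

/-- `M ∩ M*_σ = K` -/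
theorem inf_sigmaCore_Ms : M ⊓ sigmaCore Ms = K :=
  eq_of_piHall_le c.K_hall (le_inf c.K_le c.K_le_sigmaCore_Ms) inf_le_left
    (fun p hp hpd => card_sigmaCore Ms p hp (hpd.trans (Subgroup.card_dvd_of_le inf_le_right)))

/-- `M ∩ M* = K K*` -/
theorem inf_Ms : M ⊓ Ms = K ⊔ Kst M K := by
  apply le_antisymm
  · rw [← c.normalizer_K]
    refine le_inf inf_le_left ?_
    intro d hd
    have hdM : d ∈ M := (Subgroup.mem_inf.mp hd).1
    have hdMs : d ∈ Ms := (Subgroup.mem_inf.mp hd).2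
    apply mem_normalizer_fintype
    intro k hk
    have hk' : k ∈ K := hk
    show d * k * d⁻¹ ∈ K
    rw [← c.inf_sigmaCore_Ms]
    refine Subgroup.mem_inf.mpr ⟨M.mul_mem (M.mul_mem hdM (c.K_le hk')) (M.inv_mem hdM), ?_⟩
    exact conj_mem_sigmaCore hdMs (c.K_le_sigmaCore_Ms hk')
  · exact sup_le (le_inf c.K_le c.K_le_Ms) (le_inf c.Kst_le c.Kst_le_Ms)

/-- `Z = K K*` is cyclic -/
theorem Z_cyclic : IsCyclic ↥(K ⊔ Kst M K) := by
  haveI := c.cyc
  haveI := c.symm.cyc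
  obtain ⟨a, ha⟩ := IsCyclic.exists_ofOrder_eq_natCard (α := K)
  obtain ⟨b, hb⟩ := IsCyclic.exists_ofOrder_eq_natCard (α := ↥(Kst M K))
  have hcomm : Commute (a : G) (b : G) := c.comm_K_Kst a a.2 b b.2
  have hoa : orderOf (a : G) = Nat.card K := by rw [Subgroup.orderOf_coe]; exact ha
  have hob : orderOf (b : G) = Nat.card ↥(Kst M K) := by rw [Subgroup.orderOf_coe]; exact hb
  have hcop : (orderOf (a : G)).Coprime (orderOf (b : G)) := by
    rw [hoa, hob]; exact c.coprime_K_Kst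
  have hord : orderOf ((a : G) * (b : G)) = Nat.card ↥(K ⊔ Kst M K) := by
    rw [hcomm.orderOf_mul_eq_mul_orderOf_of_coprime hcop, hoa, hob, c.card_Z]
  have hmem : (a : G) * (b : G) ∈ K ⊔ Kst M K := mul_mem (mem_sup_left a.2) (mem_sup_right b.2)
  apply isCyclic_of_orderOf_eq_card (⟨(a : G) * (b : G), hmem⟩ : ↥(K ⊔ Kst M K))
  rw [Subgroup.orderOf_mk]; exact hord

/-- `Ẑ` is nonempty -/
theorem Zh_nonempty : (Zh M K).Nonempty := by
  obtain ⟨k, hkK, hk1⟩ := c.exists_K_ne_one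
  obtain ⟨y, hyK, hy1⟩ := c.symm.exists_K_ne_one
  exact ⟨k * y, c.mem_Zh_iff.mpr ⟨k, hkK, hk1, y, hyK, hy1, rfl⟩⟩

/-- `Z` normalizes `Ẑ` -/
theorem Z_le_normalizer_Zh : K ⊔ Kst M K ≤ normalizer (Zh M K) := by
  intro g hg
  have key : ∀ z ∈ Zh M K, g * z * g⁻¹ = z := by
    intro z hz
    have := c.Z_comm g hg z (Zh_sub hz)
    rw [this]; group
  intro z
  constructor
  · intro hz
    rw [key z hz]; exact hz
  · intro hz
    have h2 := c.Z_comm g⁻¹ (inv_mem hg) (g * z * g⁻¹) (Zh_sub hz)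
    have h3 : z = g⁻¹ * (g * z * g⁻¹) * g⁻¹⁻¹ := by group
    rw [h3, h2]
    have : g * z * g⁻¹ * g⁻¹ * g⁻¹⁻¹ = g * z * g⁻¹ := by group
    rw [this]; exact hz

/-- `N_G(Ẑ) = Z` -/
theorem normalizer_Zh : normalizer (Zh M K) = K ⊔ Kst M K := by
  apply le_antisymm _ c.Z_le_normalizer_Zh
  intro g hg
  obtain ⟨z, hz⟩ := c.Zh_nonempty
  exact c.Zh_TI g z hz ((hg z).mp hz)

/-- `Ẑ` is a TI-subset of `G` -/
theorem Zh_isTI : IsTISubset (Zh M K) := by
  intro g hg x hx hgx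
  exfalso
  exact hg (c.Z_le_normalizer_Zh (c.Zh_TI g x hx hgx))

end Ctx

/-- S1368 from the frozen statements S1430, S1431, S1432, S1351 (2nd half), S1378 (2nd half) -/
theorem main68 (hG : IsMinSimpleOddOrder G) (h30 : St1430 G) (h31 : St1431 G) (h32 : St1432 G)
    (h51 : St1351b G) (h78 : St1378b G)
    (M : Subgroup G) (hM : IsCoatom M) (K U : Subgroup G) (hKU : Cfsg.IsSigmaDecomposition M K U) (hK1 : K ≠ ⊥) (Mstar : Subgroup G) (hMstar : IsCoatom Mstar)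
    (hKst : K = Cfsg.sigmaCore Mstar ⊓ Subgroup.centralizer ((Cfsg.sigmaCore M ⊓ Subgroup.centralizer (K : Set G)) : Set G))
    (hKstH : Cfsg.IsPiHallOf (Cfsg.kappa Mstar) (Cfsg.sigmaCore M ⊓ Subgroup.centralizer (K : Set G)) Mstar) :
    M ⊓ Mstar = K ⊔ (Cfsg.sigmaCore M ⊓ Subgroup.centralizer (K : Set G)) ∧ IsCyclic ↥(K ⊔ (Cfsg.sigmaCore M ⊓ Subgroup.centralizer (K : Set G))) := by
  have c : Ctx M K Mstar :=
    { hG := hG, hM := hM, hMs := hMstar, cyc := hKU.cyclic, hall := hKU.hall, hK1 := hK1,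
      hKst := hKst, hKstH := hKstH, h30 := h30, h31 := h31, h32 := h32, h51 := h51, h78 := h78 }
  exact ⟨c.inf_Ms, c.Z_cyclic⟩

/-- frozen statement S1366 -/
def St1366 (G : Type*) [Group G] [Finite G] : Prop :=
  ∀ (M : Subgroup G) (hM : IsCoatom M) (K U : Subgroup G) (hKU : Cfsg.IsSigmaDecomposition M K U) (hK1 : K ≠ ⊥),
    ∃! Mstar : Subgroup G, IsCoatom Mstar ∧ K = Cfsg.sigmaCore Mstar ⊓ Subgroup.centralizer ((Cfsg.sigmaCore M ⊓ Subgroup.centralizer (K : Set G)) : Set G) ∧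
        Cfsg.IsPiHallOf (Cfsg.kappa Mstar) (Cfsg.sigmaCore M ⊓ Subgroup.centralizer (K : Set G)) Mstar

/-- the context exists for every standard factorisation with `K ≠ 1` -/
theorem exists_ctx (hG : IsMinSimpleOddOrder G) (h30 : St1430 G) (h31 : St1431 G) (h32 : St1432 G)
    (h51 : St1351b G) (h78 : St1378b G) (h66 : St1366 G)
    (M : Subgroup G) (hM : IsCoatom M) (K U : Subgroup G) (hKU : Cfsg.IsSigmaDecomposition M K U) (hK1 : K ≠ ⊥) :
    ∃ Mstar : Subgroup G, Ctx M K Mstar := by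
  obtain ⟨Mstar, ⟨hMstar, hKst, hKstH⟩, -⟩ := h66 M hM K U hKU hK1
  exact ⟨Mstar,
    { hG := hG, hM := hM, hMs := hMstar, cyc := hKU.cyclic, hall := hKU.hall, hK1 := hK1,
      hKst := hKst, hKstH := hKstH, h30 := h30, h31 := h31, h32 := h32, h51 := h51, h78 := h78 }⟩

/-- S1370 from the frozen statements S1430, S1431, S1432, S1351 (2nd half), S1378 (2nd half), S1366 -/
theorem main70 (hG : IsMinSimpleOddOrder G) (h30 : St1430 G) (h31 : St1431 G) (h32 : St1432 G)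
    (h51 : St1351b G) (h78 : St1378b G) (h66 : St1366 G)
    (M : Subgroup G) (hM : IsCoatom M) (K U : Subgroup G) (hKU : Cfsg.IsSigmaDecomposition M K U) (hK1 : K ≠ ⊥) :
    Cfsg.IsTISubset ((↑(K ⊔ (Cfsg.sigmaCore M ⊓ Subgroup.centralizer (K : Set G))) : Set G) \ ((K : Set G) ∪ ↑(Cfsg.sigmaCore M ⊓ Subgroup.centralizer (K : Set G)))) ∧ Subgroup.normalizer ((↑(K ⊔ (Cfsg.sigmaCore M ⊓ Subgroup.centralizer (K : Set G))) : Set G) \ ((K : Set G) ∪ ↑(Cfsg.sigmaCore M ⊓ Subgroup.centralizer (K : Set G)))) = K ⊔ (Cfsg.sigmaCore M ⊓ Subgroup.centralizer (K : Set G)) := by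
  obtain ⟨Mstar, c⟩ := exists_ctx hG h30 h31 h32 h51 h78 h66 M hM K U hKU hK1
  exact ⟨c.Zh_isTI, c.normalizer_Zh⟩

end Cfsg.Agent.Helper16.BG147
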