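import Mathlib
import Cfsg.Agent.Lib.Helper16.BG145A

/-!
BG Lemma 14.5(a) (S1433): the cosets `x R(x)` are pairwise disjoint.  Part II: the proof, from the
frozen statements S1350, S1375 and the second half of S1378.
-/

set_option autoImplicit false

namespace Cfsg.Agent.Helper16.BG145

open Cfsg Subgroup
open Cfsg.Agent.Helper10 (IsPiNum)
open Cfsg.Agent.Helper16.BG147 (St1378b mem_centralizer_singleton sigmaCore_le card_sigmaCore)

/-- frozen statement S1350 -/
def St1350 (G : Type*) [Group G] [Finite G] : Prop :=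
  ∀ (M : Subgroup G) (hM : IsCoatom M),
    Cfsg.IsPiHallOf (Cfsg.sigma M) (Cfsg.sigmaCore M) M ∧ Cfsg.IsPiHall (Cfsg.sigma M) (Cfsg.sigmaCore M) ∧
      ∀ N : Subgroup G, M ≤ Subgroup.normalizer (N : Set G) → Cfsg.IsPiHallOf (Cfsg.sigma M) N M →
        N = Cfsg.sigmaCore M

/-- frozen statement S1375 -/
def St1375 (G : Type*) [Group G] [Finite G] : Prop :=
  ∀ (M : Subgroup G) (hM : IsCoatom M) (x : G) (hx : x ∈ Cfsg.sigmaCore M) (hx1 : x ≠ 1) (hxM : ¬ Subgroup.centralizer ({x} : Set G) ≤ M),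
    ∃ N : Subgroup G, (IsCoatom N ∧ Subgroup.centralizer ({x} : Set G) ≤ N) ∧ (∀ L : Subgroup G, IsCoatom L → Subgroup.centralizer ({x} : Set G) ≤ L → L = N) ∧
        Cfsg.sigmaCore N = Cfsg.fittingHallOf N ∧
        Subgroup.centralizer ({x} : Set G) ≤ Subgroup.normalizer ((Cfsg.sigmaCore N ⊓ Subgroup.centralizer ({x} : Set G) : Subgroup G) : Set G) ∧
        Cfsg.IsComplIn (M ⊓ Subgroup.centralizer ({x} : Set G)) (Cfsg.sigmaCore N ⊓ Subgroup.centralizer ({x} : Set G)) (Subgroup.centralizer ({x} : Set G)) ∧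
        Cfsg.IsComplIn (M ⊓ N) (Cfsg.sigmaCore N) N ∧
        ∀ K' U' : Subgroup G, Cfsg.IsSigmaDecomposition N K' U' → U' ≠ ⊥ ∧ x ∈ Cfsg.sigmaA N U' ∧ x ∉ Cfsg.sigmaCore N

variable {G : Type*} [Group G] [Finite G]

omit [Finite G] in
theorem supportR_mem {M : Subgroup G} {x r : G} (hr : r ∈ supportR M x) :
    r = 1 ∨ (¬ centralizer ({x} : Set G) ≤ M ∧ ∃ L : Subgroup G, IsCoatom L ∧
      centralizer ({x} : Set G) ≤ L ∧
      (∀ L' : Subgroup G, IsCoatom L' → centralizer ({x} : Set G) ≤ L' → L' = L) ∧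
      r ∈ fittingHallOf L ∧ r ∈ centralizer ({x} : Set G)) := by
  unfold supportR at hr
  split_ifs at hr with h
  · right
    refine ⟨h.1, Classical.choose h.2.exists, (Classical.choose_spec h.2.exists).1,
      (Classical.choose_spec h.2.exists).2, ?_, hr.1, hr.2⟩
    intro L' hL' hxL'
    exact h.2.unique ⟨hL', hxL'⟩ (Classical.choose_spec h.2.exists)
  · left; exact (mem_bot.mp hr)

/-- primes dividing the order of an element of `M_σ` lie in `σ(M)` -/
theorem prime_mem_sigma_of_mem_sigmaCore {M : Subgroup G} {z : G} (hz : z ∈ sigmaCore M) :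
    IsPiNum (sigma M) (orderOf z) := by
  intro p hp hpd
  apply card_sigmaCore M p hp
  have : orderOf z ∣ Nat.card ↥(sigmaCore M) := by
    have := orderOf_dvd_natCard (⟨z, hz⟩ : ↥(sigmaCore M))
    rwa [Subgroup.orderOf_mk] at this
  exact hpd.trans this

/-- the data attached to a non-identity element of `R(x)` -/
structure Data (M : Subgroup G) (x r : G) (L : Subgroup G) : Prop where
  hL : IsCoatom L
  hxL : centralizer ({x} : Set G) ≤ L
  uniq : ∀ L' : Subgroup G, IsCoatom L' → centralizer ({x} : Set G) ≤ L' → L' = L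
  hr : r ∈ sigmaCore L
  comm : x * r = r * x
  inf : (M ⊓ L) ⊓ sigmaCore L = ⊥
  notσ : ∀ q : ℕ, q.Prime → q ∣ orderOf x → q ∉ sigma L

theorem exists_data (h50 : St1350 G) (h75 : St1375 G) {M : Subgroup G} (hM : IsCoatom M) {x r : G}
    (hx : x ∈ sigmaCore M) (hx1 : x ≠ 1) (hr : r ∈ supportR M x) (hr1 : r ≠ 1) :
    ∃ L, Data M x r L := by
  rcases supportR_mem hr with h | ⟨hxM, L, hL, hxL, huniq, hrF, hrC⟩
  · exact absurd h hr1
  obtain ⟨N₀, ⟨hN₀, hxN₀⟩, huN₀, hF, -, -, hcompl, -⟩ := h75 M hM x hx hx1 hxM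
  have hLN : L = N₀ := huN₀ L hL hxL
  subst hLN
  have hxML : x ∈ M ⊓ L :=
    Subgroup.mem_inf.mpr ⟨sigmaCore_le M hx, hxL (mem_centralizer_singleton.mpr rfl)⟩
  refine ⟨L, hL, hxL, huniq, by rw [hF]; exact hrF, (mem_centralizer_singleton.mp hrC), hcompl.2.2.1, ?_⟩
  intro q hq hqd hqσ
  haveI := Fact.mk hq
  -- an element of order q in ⟨x⟩
  have hord : orderOf (x ^ (orderOf x / q)) = q :=
    orderOf_pow_orderOf_div (orderOf_pos x).ne' hqd
  set x₁ := x ^ (orderOf x / q) with hx₁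
  have hx₁ML : x₁ ∈ M ⊓ L := pow_mem hxML _
  have hx₁L : x₁ ∈ L := (Subgroup.mem_inf.mp hx₁ML).2
  -- it lies in L_σ
  have hidx : ¬ q ∣ (sigmaCore L).relIndex L := (h50 L hL).1.2.2 q hq hqσ
  have hidx' : ¬ q ∣ (piCore (sigma L) ↥L).index := by
    rw [← Cfsg.Agent.Helper14.BGTrans.piCoreOf_subgroupOf]
    exact hidx
  have hcard : Nat.card (zpowers (⟨x₁, hx₁L⟩ : L)) = q := by
    rw [Nat.card_zpowers, Subgroup.orderOf_mk]; exact hord
  have hle := Cfsg.Agent.Helper7.BG12.le_of_coprime_card_index (piCore (sigma L) ↥L)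
    (zpowers (⟨x₁, hx₁L⟩ : L)) (by
      rw [hcard]; exact (Nat.Prime.coprime_iff_not_dvd hq).mpr hidx')
  have hx₁σ : x₁ ∈ sigmaCore L := ⟨⟨x₁, hx₁L⟩, hle (mem_zpowers _), rfl⟩
  have : x₁ ∈ (M ⊓ L) ⊓ sigmaCore L := Subgroup.mem_inf.mpr ⟨hx₁ML, hx₁σ⟩
  rw [hcompl.2.2.1, mem_bot] at this
  rw [this, orderOf_one] at hord
  exact hq.one_lt.ne hord

namespace Data

variable {M : Subgroup G} {x r : G} {L : Subgroup G}

/-- `σ(M)` and `σ(L)` are disjoint -/
theorem sigma_disjoint (d : Data M x r L) (h78 : St1378b G) (hM : IsCoatom M)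
    (hx : x ∈ sigmaCore M) (hx1 : x ≠ 1) : ∀ p, p ∈ sigma M → p ∉ sigma L := by
  intro p hp hp'
  obtain ⟨g, hg⟩ := h78 M L hM d.hL ⟨p, hp, hp'⟩
  have hσ : sigma L = sigma M := by rw [hg]; exact sigma_map_conj M g
  have hne : orderOf x ≠ 1 := by rw [Ne, orderOf_eq_one_iff]; exact hx1
  obtain ⟨q, hq, hqd⟩ := Nat.exists_prime_and_dvd hne
  apply d.notσ q hq hqd
  rw [hσ]
  exact prime_mem_sigma_of_mem_sigmaCore hx q hq hqd

theorem coprime (d : Data M x r L) : (orderOf x).Coprime (orderOf r) := by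
  apply Nat.coprime_of_dvd
  intro k hk hkx hkr
  exact d.notσ k hk hkx (prime_mem_sigma_of_mem_sigmaCore d.hr k hk hkr)

theorem orderOf_mul (d : Data M x r L) : orderOf (x * r) = orderOf x * orderOf r :=
  Commute.orderOf_mul_eq_mul_orderOf_of_coprime d.comm d.coprime

end Data

/-- the case `s = 1` -/
theorem case2 (h50 : St1350 G) (h75 : St1375 G) (h78 : St1378b G) {M N : Subgroup G}
    (hM : IsCoatom M) (hN : IsCoatom N) {x y r : G} (hx : x ∈ sigmaCore M) (hy : y ∈ sigmaCore N)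
    (hx1 : x ≠ 1) (hr : r ∈ supportR M x) (hr1 : r ≠ 1) : x * r ≠ y := by
  intro h
  obtain ⟨L, d⟩ := exists_data h50 h75 hM hx hx1 hr hr1
  have hord := d.orderOf_mul
  rw [h] at hord
  have hnex : orderOf x ≠ 1 := by rw [Ne, orderOf_eq_one_iff]; exact hx1
  have hner : orderOf r ≠ 1 := by rw [Ne, orderOf_eq_one_iff]; exact hr1
  obtain ⟨p, hp, hpd⟩ := Nat.exists_prime_and_dvd hnex
  obtain ⟨q, hq, hqd⟩ := Nat.exists_prime_and_dvd hner
  have hpN : p ∈ sigma N :=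
    prime_mem_sigma_of_mem_sigmaCore hy p hp (by rw [hord]; exact hpd.mul_right _)
  have hqN : q ∈ sigma N :=
    prime_mem_sigma_of_mem_sigmaCore hy q hq (by rw [hord]; exact hqd.mul_left _)
  have hpM : p ∈ sigma M := prime_mem_sigma_of_mem_sigmaCore hx p hp hpd
  have hqL : q ∈ sigma L := prime_mem_sigma_of_mem_sigmaCore d.hr q hq hqd
  obtain ⟨a, ha⟩ := h78 M N hM hN ⟨p, hpM, hpN⟩
  obtain ⟨b, hb⟩ := h78 N L hN d.hL ⟨q, hqN, hqL⟩
  have h1 : sigma N = sigma M := by rw [ha]; exact sigma_map_conj M a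
  have h2 : sigma L = sigma N := by rw [hb]; exact sigma_map_conj N b
  apply d.notσ p hp hpd
  rw [h2, h1]; exact hpM

/-- BG Lemma 14.5(a), from the frozen statements S1350, S1375 and the second half of S1378 -/
theorem main (h50 : St1350 G) (h75 : St1375 G) (h78 : St1378b G)
    (M N : Subgroup G) (hM : IsCoatom M) (hN : IsCoatom N) (x y : G) (hx : x ∈ Cfsg.sigmaCore M) (hy : y ∈ Cfsg.sigmaCore N)
    (hx1 : x ≠ 1) (hy1 : y ≠ 1) (hxy : x ≠ y) :
    ∀ r ∈ Cfsg.supportR M x, ∀ s ∈ Cfsg.supportR N y, x * r ≠ y * s := by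
  intro r hr s hs h
  by_cases hr1 : r = 1
  · by_cases hs1 : s = 1
    · rw [hr1, hs1, mul_one, mul_one] at h
      exact hxy h
    · rw [hr1, mul_one] at h
      exact case2 h50 h75 h78 hN hM hy hx hy1 hs hs1 h.symm
  by_cases hs1 : s = 1
  · rw [hs1, mul_one] at h
    exact case2 h50 h75 h78 hM hN hx hy hx1 hr hr1 h
  obtain ⟨L, d⟩ := exists_data h50 h75 hM hx hx1 hr hr1
  obtain ⟨L', d'⟩ := exists_data h50 h75 hN hy hy1 hs hs1
  have hxσ := prime_mem_sigma_of_mem_sigmaCore hx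
  have hyσ := prime_mem_sigma_of_mem_sigmaCore hy
  have hrσ := prime_mem_sigma_of_mem_sigmaCore d.hr
  have hsσ := prime_mem_sigma_of_mem_sigmaCore d'.hr
  have hdis := d.sigma_disjoint h78 hM hx hx1
  have hdis' := d'.sigma_disjoint h78 hN hy hy1
  by_cases hMN : (sigma M ∩ sigma N).Nonempty
  · -- `σ(M) = σ(N)`: both decompositions are the `σ(M)`-decomposition
    obtain ⟨a, ha⟩ := h78 M N hM hN hMN
    have h1 : sigma N = sigma M := by rw [ha]; exact sigma_map_conj M a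
    have := pi_decomp_unique (sigma M) d.comm d'.comm h hxσ (by rw [← h1]; exact hyσ)
      (fun q hq hqd hqM => hdis q hqM (hrσ q hq hqd))
      (fun q hq hqd hqM => hdis' q (by rw [h1]; exact hqM) (hsσ q hq hqd))
    exact hxy this.1
  · have hMN' : ∀ p, p ∈ sigma M → p ∉ sigma N := fun p hp hp' => hMN ⟨p, hp, hp'⟩
    have hnex : orderOf x ≠ 1 := by rw [Ne, orderOf_eq_one_iff]; exact hx1
    have hney : orderOf y ≠ 1 := by rw [Ne, orderOf_eq_one_iff]; exact hy1
    obtain ⟨p, hp, hpd⟩ := Nat.exists_prime_and_dvd hnex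
    obtain ⟨q, hq, hqd⟩ := Nat.exists_prime_and_dvd hney
    have hpM : p ∈ sigma M := hxσ p hp hpd
    have hqN : q ∈ sigma N := hyσ q hq hqd
    have ho : orderOf x * orderOf r = orderOf y * orderOf s := by
      rw [← d.orderOf_mul, ← d'.orderOf_mul, h]
    -- `p ∣ o(s)` and `q ∣ o(r)`
    have hps : p ∣ orderOf s := by
      have : p ∣ orderOf y * orderOf s := by rw [← ho]; exact hpd.mul_right _
      rcases (Nat.Prime.dvd_mul hp).mp this with h' | h'
      · exact absurd (hyσ p hp h') (hMN' p hpM)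
      · exact h'
    have hqr : q ∣ orderOf r := by
      have : q ∣ orderOf x * orderOf r := by rw [ho]; exact hqd.mul_right _
      rcases (Nat.Prime.dvd_mul hq).mp this with h' | h'
      · exact absurd hqN (hMN' q (hxσ q hq h'))
      · exact h'
    obtain ⟨a, ha⟩ := h78 M L' hM d'.hL ⟨p, hpM, hsσ p hp hps⟩
    obtain ⟨b, hb⟩ := h78 N L hN d.hL ⟨q, hqN, hrσ q hq hqr⟩
    have h1 : sigma L' = sigma M := by rw [ha]; exact sigma_map_conj M a
    have h2 : sigma L = sigma N := by rw [hb]; exact sigma_map_conj N b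
    have hys : y * s = s * y := d'.comm
    have := pi_decomp_unique (sigma M) d.comm hys.symm (h.trans hys) hxσ (by rw [← h1]; exact hsσ)
      (fun k hk hkd hkM => hMN' k hkM (by rw [← h2]; exact hrσ k hk hkd))
      (fun k hk hkd hkM => hMN' k hkM (hyσ k hk hkd))
    obtain ⟨hxs, hry⟩ := this
    -- now `x = s ∈ L'_σ`, `y = r ∈ L_σ`
    have hxL' : x ∈ sigmaCore L' := by rw [hxs]; exact d'.hr
    have hyL : y ∈ sigmaCore L := by rw [← hry]; exact d.hr
    have hxL'' : ¬ centralizer ({x} : Set G) ≤ L' := by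
      intro hle
      have hLL : L' = L := d.uniq L' d'.hL hle
      apply hMN' p hpM
      rw [← h2, ← hLL, h1]; exact hpM
    obtain ⟨N₁, ⟨hN₁, hxN₁⟩, huN₁, -, -, -, hcompl, -⟩ := h75 L' d'.hL x hxL' hx1 hxL''
    have hLN₁ : L = N₁ := huN₁ L d.hL d.hxL
    subst hLN₁
    have hyL' : y ∈ L' := d'.hxL (mem_centralizer_singleton.mpr rfl)
    have : y ∈ (L' ⊓ L) ⊓ sigmaCore L :=
      Subgroup.mem_inf.mpr ⟨Subgroup.mem_inf.mpr ⟨hyL', sigmaCore_le L hyL⟩, hyL⟩
    rw [hcompl.2.2.1, mem_bot] at this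
    exact hy1 this

end Cfsg.Agent.Helper16.BG145
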