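import Mathlib
import Cfsg.Agent.Lib.Helper11.CGBase
import Cfsg.Agent.Lib.Helper1.CGCLOS

/-!
# Two-generation of the Chevalley groups (S2405): piece DRVB (Steinberg's trick)
-/

set_option autoImplicit false
set_option linter.unusedSectionVars false
set_option linter.unusedVariables false

namespace Cfsg.Agent.Helper11.CG

open Cfsg Cfsg.Lie Cfsg.Agent.Lead.Chev

variable {F : Type*} [Field F]

/-- `n_w⁻¹ x_{w rp}(t) n_w = x_{rp}(± t)` -/
theorem drvb_conj_inv (D : ChevalleyDatum) (hFc : ChevFacts D F) (w : List ℕ)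
    (hw : ∀ i ∈ w, i < D.rank) (rp : ℕ) (hrp : rp < D.nroots) (t : F) :
    (nWordGL D hFc.xadd w)⁻¹ * xGL D hFc.xadd (reflWord D w rp) t * nWordGL D hFc.xadd w =
      xGL D hFc.xadd rp (((signWord D (etaOf D) w rp : ℤ) : F) * t) := by
  have h1 := nWordGL_conj D hFc.xadd (etaOf D) hFc.nsimple w hw rp hrp
    (((signWord D (etaOf D) w rp : ℤ) : F) * t)
  have e : ((signWord D (etaOf D) w rp : ℤ) : F) *
      (((signWord D (etaOf D) w rp : ℤ) : F) * t) = t := by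
    rcases cgbase_sign D hFc w hw rp with h2 | h2 <;> rw [h2] <;> simp
  rw [e] at h1
  rw [← h1]
  group

/-- the abstract computation behind Steinberg's trick -/
theorem drvb_abstract {G : Type*} [Group G] (X : F → G) (hmul : ∀ s t, X s * X t = X (s + t))
    (hinv : ∀ t, (X t)⁻¹ = X (-t))
    (g h : G) (α β : F) (hcomm : g * h = h * g)
    (hg : ∀ t, g * X t * g⁻¹ = X (α * t)) (hh : ∀ t, h * X t * h⁻¹ = X (β * t)) :
    (X 1 * g * (X 1)⁻¹) * h * (X 1 * g * (X 1)⁻¹)⁻¹ * h⁻¹ = X ((1 - α) * (1 - β)) := by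
  have hy : X 1 * g * (X 1)⁻¹ = X (1 - α) * g := by
    have e : X 1 * g * (X 1)⁻¹ = X 1 * (g * X (-1) * g⁻¹) * g := by rw [hinv]; group
    rw [e, hg, hmul]
    congr 2
    ring
  have hgh : g * h * g⁻¹ = h := by rw [hcomm, mul_inv_cancel_right]
  rw [hy]
  have e2 : X (1 - α) * g * h * (X (1 - α) * g)⁻¹ * h⁻¹ =
      X (1 - α) * (g * h * g⁻¹) * (X (1 - α))⁻¹ * h⁻¹ := by group
  rw [e2, hgh]
  have e3 : X (1 - α) * h * (X (1 - α))⁻¹ * h⁻¹ =
      X (1 - α) * (h * X (-(1 - α)) * h⁻¹) := by rw [hinv]; group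
  rw [e3, hh, hmul]
  congr 1
  ring

theorem drvb_zpow_ne_one (k : F) (hk1 : k ≠ 1) (c : ℤ) (hc : c = 1 ∨ c = -1) : k ^ c ≠ 1 := by
  rcases hc with rfl | rfl
  · rw [zpow_one]; exact hk1
  · rw [zpow_neg, zpow_one]
    intro h
    exact hk1 (inv_eq_one.1 h)

theorem steinberg_core [Finite F] (D : ChevalleyDatum) (hFc : ChevFacts D F)
    (K : Subgroup (GL D.Idx F)) (w : List ℕ) (hw : ∀ i ∈ w, i < D.rank)
    (k : F) (hk : k ≠ 0) (hk1 : k ≠ 1) (hgen : ∀ v : F, v ≠ 0 → ∃ m : ℕ, v = k ^ m)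
    (j r rp : ℕ) (hr : r < D.nroots) (hrp : rp < D.nroots) (hj : j < D.rank)
    (hcr : D.cartan j r = 1 ∨ D.cartan j r = -1)
    (hrp' : reflWord D w rp = r)
    (hcrp : D.cartan j rp = 1 ∨ D.cartan j rp = -1)
    (hh : hGLt D hFc.xadd (D.simple j) k ∈ K)
    (hb : xGL D hFc.xadd r 1 * nWordGL D hFc.xadd w ∈ K) :
    Full D hFc.xadd K r ∧ nWordGL D hFc.xadd w ∈ K := by
  have hsl : D.simple j < D.nroots := hFc.simple_lt j hj
  have hhd : hGLt D hFc.xadd (D.simple j) k ∈ D.diagonalSubgroup F :=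
    hGLt_mem_diagonal D hFc.xadd _ hsl k hk
  have hgd := nWordGL_conj_mem_diagonal D hFc.xadd (etaOf D) hFc.nsimple w hw _ hhd
  have hcomm := diagonalSubgroup_comm D hFc.hall _ _ hgd hhd
  -- the action of `g = n h n⁻¹` on `X_r`
  have hA : ∀ t, (nWordGL D hFc.xadd w * hGLt D hFc.xadd (D.simple j) k * (nWordGL D hFc.xadd w)⁻¹) *
      xGL D hFc.xadd r t *
      (nWordGL D hFc.xadd w * hGLt D hFc.xadd (D.simple j) k * (nWordGL D hFc.xadd w)⁻¹)⁻¹ =
      xGL D hFc.xadd r (k ^ (D.cartan j rp) * t) := by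
    intro t
    have e1 : (nWordGL D hFc.xadd w * hGLt D hFc.xadd (D.simple j) k * (nWordGL D hFc.xadd w)⁻¹) *
      xGL D hFc.xadd r t *
      (nWordGL D hFc.xadd w * hGLt D hFc.xadd (D.simple j) k * (nWordGL D hFc.xadd w)⁻¹)⁻¹ =
        nWordGL D hFc.xadd w * (hGLt D hFc.xadd (D.simple j) k *
          ((nWordGL D hFc.xadd w)⁻¹ * xGL D hFc.xadd r t * nWordGL D hFc.xadd w) *
          (hGLt D hFc.xadd (D.simple j) k)⁻¹) * (nWordGL D hFc.xadd w)⁻¹ := by group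
    rw [e1, ← hrp', drvb_conj_inv D hFc w hw rp hrp, hGLt_conj D hFc j hj rp hrp k hk,
      nWordGL_conj D hFc.xadd (etaOf D) hFc.nsimple w hw rp hrp]
    congr 1
    rcases cgbase_sign D hFc w hw rp with h2 | h2 <;> rw [h2] <;> simp
  have hB : ∀ t, hGLt D hFc.xadd (D.simple j) k * xGL D hFc.xadd r t *
      (hGLt D hFc.xadd (D.simple j) k)⁻¹ = xGL D hFc.xadd r (k ^ (D.cartan j r) * t) :=
    fun t => hGLt_conj D hFc j hj r hr k hk t
  have hkey := drvb_abstract (fun t => xGL D hFc.xadd r t) (fun s t => xGL_mul D hFc.xadd r s t)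
    (fun t => xGL_inv D hFc.xadd r t) _ _ _ _ hcomm hA hB
  -- the element lies in `K`
  have hyK : xGL D hFc.xadd r 1 *
      (nWordGL D hFc.xadd w * hGLt D hFc.xadd (D.simple j) k * (nWordGL D hFc.xadd w)⁻¹) *
      (xGL D hFc.xadd r 1)⁻¹ ∈ K := by
    have h1 := mul_mem (mul_mem hb hh) (inv_mem hb)
    have e : xGL D hFc.xadd r 1 * nWordGL D hFc.xadd w * hGLt D hFc.xadd (D.simple j) k *
        (xGL D hFc.xadd r 1 * nWordGL D hFc.xadd w)⁻¹ = xGL D hFc.xadd r 1 *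
      (nWordGL D hFc.xadd w * hGLt D hFc.xadd (D.simple j) k * (nWordGL D hFc.xadd w)⁻¹) *
      (xGL D hFc.xadd r 1)⁻¹ := by group
    rw [e] at h1
    exact h1
  have hzK := mul_mem (mul_mem (mul_mem hyK hh) (inv_mem hyK)) (inv_mem hh)
  beta_reduce at hkey
  rw [hkey] at hzK
  have hne : (1 - k ^ (D.cartan j rp)) * (1 - k ^ (D.cartan j r)) ≠ 0 := by
    apply mul_ne_zero
    · exact sub_ne_zero.2 (drvb_zpow_ne_one k hk1 _ hcrp).symm
    · exact sub_ne_zero.2 (drvb_zpow_ne_one k hk1 _ hcr).symm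
  have hfull : Full D hFc.xadd K r :=
    full_of_torus D hFc K j hj k hk hh r hr _ hne hzK
      (gen_zpow k hk hgen _ (by rcases hcr with h | h; exact Or.inl h; exact Or.inr (Or.inl h)))
  refine ⟨hfull, ?_⟩
  have h1 := mul_mem (inv_mem (hfull 1)) hb
  rwa [inv_mul_cancel_left] at h1

/-- `a = h_{p_j}(k)`, `b = x_r(1) n_w`, `K = closure {a, b}`: `steinberg_core`, `full_orbit` for `r`,
`group_le_of_cover` with `known = orbitList r`, `closure_subtype_eq_top`. -/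
theorem caseB0 [Finite F] (D : ChevalleyDatum) (hFc : ChevFacts D F) (w : List ℕ)
    (hw : ∀ i ∈ w, i < D.rank) (hq : ∃ x : F, x ≠ 0 ∧ x ≠ 1)
    (j r rp N : ℕ) (hr : r < D.nroots) (hrp : rp < D.nroots) (hj : j < D.rank)
    (hcr : D.cartan j r = 1 ∨ D.cartan j r = -1)
    (hrp' : reflWord D w rp = r)
    (hcrp : D.cartan j rp = 1 ∨ D.cartan j rp = -1)
    (hperr : iter D w N r = r)
    (zs cs : List ℤ) (hzs : ∀ c ∈ zs, ((c : ℤ) : F) = 0) (hcs : ∀ c ∈ cs, ((c : ℤ) : F) ≠ 0)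
    (cert : List (ℕ × ℕ × ℕ))
    (hchk : closChk D zs cs (orbitList D w r N) cert = true)
    (hcov : coverChk D (orbitList D w r N) cert = true) :
    ∃ a b : ↥(D.group F), Subgroup.closure ({a, b} : Set ↥(D.group F)) = ⊤ := by
  obtain ⟨k, hk, hgen, hkpow⟩ := exists_gen (F := F)
  have hk1 : k ≠ 1 := by
    obtain ⟨x, hx0, hx1⟩ := hq
    intro h1
    obtain ⟨m, hm⟩ := hgen x hx0
    rw [h1, one_pow] at hm
    exact hx1 hm
  have ha : hGLt D hFc.xadd (D.simple j) k ∈ D.group F := hGLt_mem_group D hFc.xadd _ _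
  have hb : xGL D hFc.xadd r 1 * nWordGL D hFc.xadd w ∈ D.group F :=
    mul_mem (xGL_mem_group D hFc.xadd _ _) (nWordGL_mem_group D hFc.xadd _)
  refine ⟨⟨_, ha⟩, ⟨_, hb⟩, closure_subtype_eq_top D _ _ ha hb ?_⟩
  have haK : hGLt D hFc.xadd (D.simple j) k ∈ Subgroup.closure
      {hGLt D hFc.xadd (D.simple j) k, xGL D hFc.xadd r 1 * nWordGL D hFc.xadd w} :=
    Subgroup.subset_closure (by simp)
  have hbK : xGL D hFc.xadd r 1 * nWordGL D hFc.xadd w ∈ Subgroup.closure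
      {hGLt D hFc.xadd (D.simple j) k, xGL D hFc.xadd r 1 * nWordGL D hFc.xadd w} :=
    Subgroup.subset_closure (by simp)
  obtain ⟨hfull, hnK⟩ := steinberg_core D hFc _ w hw k hk hk1 hgen j r rp hr hrp hj hcr hrp' hcrp
    haK hbK
  have horb := full_orbit D hFc _ w hw hnK r N 0 hr hperr hfull
  exact group_le_of_cover D hFc _ zs cs hzs hcs _ cert hchk hcov horb

theorem caseB [Finite F] (D : ChevalleyDatum) (hFc : ChevFacts D F) (w : List ℕ)
    (hw : ∀ i ∈ w, i < D.rank) (hq : ∃ x : F, x ≠ 0 ∧ x ≠ 1)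
    (s j r rp i1 N : ℕ) (hs : s < D.nroots) (hr : r < D.nroots) (hrp : rp < D.nroots)
    (hj : j < D.rank) (hcs0 : D.cartan j s = 0)
    (hcr : D.cartan j r = 1 ∨ D.cartan j r = -1)
    (hrp' : reflWord D w rp = r)
    (hcrp : D.cartan j rp = 1 ∨ D.cartan j rp = -1)
    (hcs1 : D.cartan j (iter D w i1 s) = 1 ∨ D.cartan j (iter D w i1 s) = -1 ∨
      ((2 : F) = 0 ∧ (D.cartan j (iter D w i1 s) = 2 ∨ D.cartan j (iter D w i1 s) = -2)))
    (hpers : iter D w N s = s) (hperr : iter D w N r = r)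
    (zs cs : List ℤ) (hzs : ∀ c ∈ zs, ((c : ℤ) : F) = 0) (hcs : ∀ c ∈ cs, ((c : ℤ) : F) ≠ 0)
    (cert : List (ℕ × ℕ × ℕ))
    (hchk : closChk D zs cs (orbitList D w s N ++ orbitList D w r N) cert = true)
    (hcov : coverChk D (orbitList D w s N ++ orbitList D w r N) cert = true) :
    ∃ a b : ↥(D.group F), Subgroup.closure ({a, b} : Set ↥(D.group F)) = ⊤ := by
  obtain ⟨k, hk, hgen, hkpow⟩ := exists_gen (F := F)
  have hk1 : k ≠ 1 := by
    obtain ⟨x, hx0, hx1⟩ := hq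
    intro h1
    obtain ⟨m, hm⟩ := hgen x hx0
    rw [h1, one_pow] at hm
    exact hx1 hm
  have ha : xGL D hFc.xadd s 1 * hGLt D hFc.xadd (D.simple j) k ∈ D.group F :=
    mul_mem (xGL_mem_group D hFc.xadd _ _) (hGLt_mem_group D hFc.xadd _ _)
  have hb : xGL D hFc.xadd r 1 * nWordGL D hFc.xadd w ∈ D.group F :=
    mul_mem (xGL_mem_group D hFc.xadd _ _) (nWordGL_mem_group D hFc.xadd _)
  refine ⟨⟨_, ha⟩, ⟨_, hb⟩, closure_subtype_eq_top D _ _ ha hb ?_⟩
  have haK : xGL D hFc.xadd s 1 * hGLt D hFc.xadd (D.simple j) k ∈ Subgroup.closure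
      {xGL D hFc.xadd s 1 * hGLt D hFc.xadd (D.simple j) k,
        xGL D hFc.xadd r 1 * nWordGL D hFc.xadd w} :=
    Subgroup.subset_closure (by simp)
  have hbK : xGL D hFc.xadd r 1 * nWordGL D hFc.xadd w ∈ Subgroup.closure
      {xGL D hFc.xadd s 1 * hGLt D hFc.xadd (D.simple j) k,
        xGL D hFc.xadd r 1 * nWordGL D hFc.xadd w} :=
    Subgroup.subset_closure (by simp)
  -- the two factors of `a` commute
  have hcomm : Commute (xGL D hFc.xadd s 1) (hGLt D hFc.xadd (D.simple j) k) := by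
    have h1 := hGLt_conj D hFc j hj s hs k hk 1
    rw [hcs0, zpow_zero, one_mul] at h1
    show xGL D hFc.xadd s 1 * hGLt D hFc.xadd (D.simple j) k =
      hGLt D hFc.xadd (D.simple j) k * xGL D hFc.xadd s 1
    exact (mul_inv_eq_iff_eq_mul.1 h1).symm
  have hxpow : xGL D hFc.xadd s (1 : F) ^ (Nat.card F - 1) = (xGL D hFc.xadd s (1 : F))⁻¹ := by
    rw [xGL_pow, cast_card_sub_one, xGL_inv]
    congr 1
    ring
  have hhpow : hGLt D hFc.xadd (D.simple j) k ^ (Nat.card F - 1) = 1 :=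
    hGLt_pow_eq_one D hFc j hj k hk _ hkpow
  obtain ⟨hxK, hhK⟩ := mem_of_commute_pow _ _ _ hcomm _ hxpow hhpow haK
  obtain ⟨hfull, hnK⟩ := steinberg_core D hFc _ w hw k hk hk1 hgen j r rp hr hrp hj hcr hrp' hcrp
    hhK hbK
  obtain ⟨ε, hε, hmem⟩ := one_iter D hFc _ w hw hnK i1 s hs 1 hxK
  have hεne : ε * (1 : F) ≠ 0 := by
    rcases hε with h | h <;> rw [h] <;> simp
  have hfs : Full D hFc.xadd _ (iter D w i1 s) :=
    full_of_torus D hFc _ j hj k hk hhK _ (iter_lt D hFc w hw i1 s hs) _ hεne hmem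
      (gen_zpow k hk hgen _ hcs1)
  have horbs := full_orbit D hFc _ w hw hnK s N i1 hs hpers hfs
  have horbr := full_orbit D hFc _ w hw hnK r N 0 hr hperr hfull
  refine group_le_of_cover D hFc _ zs cs hzs hcs _ cert hchk hcov ?_
  intro t ht
  rcases List.mem_append.1 ht with ht | ht
  · exact horbs t ht
  · exact horbr t ht

end Cfsg.Agent.Helper11.CG
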