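import Mathlib
import Cfsg.Agent.Lib.Helper12.BinIco3

/-!
# Piece GEN3 of S0690 (helper16 for helper4): `SL(2,5)` is generated by its elements of order 3
-/

set_option autoImplicit false

namespace Cfsg.Agent.Helper16.ZassGen3

open Cfsg.Agent.Helper12.BinIco

/-- an element of order 3 -/
def ma : S25 := ⟨!![0, 3; 3, 4], by decide⟩

/-- another element of order 3 -/
def mb : S25 := ⟨!![1, 4; 3, 3], by decide⟩

theorem ma_pow : ma ^ 3 = 1 := by decide
theorem mb_pow : mb ^ 3 = 1 := by decide
theorem ma_ne : ma ≠ 1 := by decide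
theorem mb_ne : mb ≠ 1 := by decide
theorem mab_pow : (ma * mb) ^ 5 = mz := by decide
theorem my_eq : my = (ma * mb) ^ 5 * (ma * mb) := by decide

theorem orderOf_three {g : S25} (h : g ^ 3 = 1) (h1 : g ≠ 1) : orderOf g = 3 := by
  have : Fact (Nat.Prime 3) := ⟨by norm_num⟩
  exact orderOf_eq_prime h h1

/-- `SL(2,5) = ⟨x, y⟩` -/
theorem closure_mx_my : Subgroup.closure ({mx, my} : Set S25) = ⊤ := by
  have hgx : gamEquiv gx = mx := lift_gx m_rel
  have hgy : gamEquiv gy = my := lift_gy m_rel
  have h1 := congrArg (Subgroup.map gamEquiv.toMonoidHom) gam_gen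
  rw [MonoidHom.map_closure, Set.image_pair] at h1
  have h2 : Subgroup.map gamEquiv.toMonoidHom ⊤ = ⊤ :=
    Subgroup.map_top_of_surjective _ gamEquiv.surjective
  rw [h2] at h1
  rw [← h1]
  congr 2
  · exact hgx.symm
  · rw [← hgy]; rfl

/-- `SL(2,5)` is generated by its elements of order 3 -/
theorem closure_order_three_eq_top : Subgroup.closure {g : S25 | orderOf g = 3} = ⊤ := by
  rw [eq_top_iff, ← closure_mx_my, Subgroup.closure_le]
  have ha : ma ∈ Subgroup.closure {g : S25 | orderOf g = 3} :=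
    Subgroup.subset_closure (orderOf_three ma_pow ma_ne)
  have hb : mb ∈ Subgroup.closure {g : S25 | orderOf g = 3} :=
    Subgroup.subset_closure (orderOf_three mb_pow mb_ne)
  have hab := Subgroup.mul_mem _ ha hb
  intro g hg
  rcases hg with rfl | rfl
  · exact Subgroup.subset_closure (orderOf_three mx_pow mx_ne)
  · rw [SetLike.mem_coe, my_eq]
    exact Subgroup.mul_mem _ (Subgroup.pow_mem _ hab 5) hab

/-- **Piece GEN3.** -/
theorem le_closure_order_three {H : Type*} [Group H] (N : Subgroup H)
    (e : Nonempty (N ≃* Matrix.SpecialLinearGroup (Fin 2) (ZMod 5))) :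
    N ≤ Subgroup.closure {g : H | orderOf g = 3} := by
  obtain ⟨e⟩ := e
  set f : S25 →* H := N.subtype.comp e.symm.toMonoidHom with hf
  have hfinj : Function.Injective f := by
    intro a b hab
    have h1 : ((e.symm a : N) : H) = ((e.symm b : N) : H) := hab
    exact e.symm.injective (Subtype.ext h1)
  have hmap : Subgroup.map f ⊤ ≤ Subgroup.closure {g : H | orderOf g = 3} := by
    rw [← closure_order_three_eq_top, MonoidHom.map_closure]
    apply Subgroup.closure_mono
    rintro _ ⟨t, ht, rfl⟩
    show orderOf (f t) = 3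
    rw [orderOf_injective f hfinj t]
    exact ht
  intro n hn
  apply hmap
  refine ⟨e ⟨n, hn⟩, Subgroup.mem_top _, ?_⟩
  show ((e.symm (e ⟨n, hn⟩) : N) : H) = n
  rw [MulEquiv.symm_apply_apply]

end Cfsg.Agent.Helper16.ZassGen3
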