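import Mathlib
import Cfsg.Agent.Lib.Helper16.SL23Recog

/-!
# Constructing a section isomorphic to `SL(2,3)` (helper16's library)
-/

set_option autoImplicit false

namespace Cfsg.Agent.Helper16

namespace SL23

/-- If `x, y` generate a quaternion group and the odd-order element `g` acts on it by
`x ↦ y ↦ x y`, then `⟨x, y, g⟩ / ⟨g ^ 3⟩ ≅ SL(2,3)`. -/
theorem exists_section {G : Type*} [Group G] {x y g : G} (hxo : orderOf x = 4)
    (hy : y ^ 2 = x ^ 2) (hyx : y * x * y⁻¹ = x⁻¹) (hgx : g * x * g⁻¹ = y)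
    (hgy : g * y * g⁻¹ = x * y) (hodd : Odd (orderOf g)) :
    ∃ (H K : Subgroup G) (hK : (K.subgroupOf H).Normal),
      Nonempty ((H ⧸ K.subgroupOf H) ≃* Matrix.SpecialLinearGroup (Fin 2) (ZMod 3)) := by
  have hx4 : x ^ 4 = 1 := by rw [← hxo]; exact pow_orderOf_eq_one x
  have hx2 : x ^ 2 ≠ 1 := by
    intro h
    have := orderOf_dvd_of_pow_eq_one h
    rw [hxo] at this
    norm_num at this
  -- `y x y = x`
  have hyxy : y * x * y = x := by
    calc y * x * y = (y * x * y⁻¹) * y ^ 2 := by rw [pow_two]; group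
      _ = x⁻¹ * x ^ 2 := by rw [hyx, hy]
      _ = x := by rw [pow_two]; group
  -- `g (x y) g⁻¹ = x`
  have hgxy : g * (x * y) * g⁻¹ = x := by
    calc g * (x * y) * g⁻¹ = (g * x * g⁻¹) * (g * y * g⁻¹) := by group
      _ = y * (x * y) := by rw [hgx, hgy]
      _ = y * x * y := by group
      _ = x := hyxy
  -- `g ^ 3` centralizes `x` and `y`
  have hg3x : g ^ 3 * x = x * g ^ 3 := by
    have : g ^ 3 * x * (g ^ 3)⁻¹ = x := by
      calc g ^ 3 * x * (g ^ 3)⁻¹ = g * (g * (g * x * g⁻¹) * g⁻¹) * g⁻¹ := by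
            rw [pow_succ, pow_two]; group
        _ = g * (g * y * g⁻¹) * g⁻¹ := by rw [hgx]
        _ = g * (x * y) * g⁻¹ := by rw [hgy]
        _ = x := hgxy
    calc g ^ 3 * x = (g ^ 3 * x * (g ^ 3)⁻¹) * g ^ 3 := by group
      _ = x * g ^ 3 := by rw [this]
  have hg3y : g ^ 3 * y = y * g ^ 3 := by
    have : g ^ 3 * y * (g ^ 3)⁻¹ = y := by
      calc g ^ 3 * y * (g ^ 3)⁻¹ = g * (g * (g * y * g⁻¹) * g⁻¹) * g⁻¹ := by
            rw [pow_succ, pow_two]; group
        _ = g * (g * (x * y) * g⁻¹) * g⁻¹ := by rw [hgy]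
        _ = g * x * g⁻¹ := by rw [hgxy]
        _ = y := hgx
    calc g ^ 3 * y = (g ^ 3 * y * (g ^ 3)⁻¹) * g ^ 3 := by group
      _ = y * g ^ 3 := by rw [this]
  have hg3g : g ^ 3 * g = g * g ^ 3 := by rw [← pow_succ, ← pow_succ']
  -- the subgroups
  set H : Subgroup G := Subgroup.closure {x, y, g} with hH
  set K : Subgroup G := Subgroup.zpowers (g ^ 3) with hKdef
  have hxH : x ∈ H := Subgroup.subset_closure (by simp)
  have hyH : y ∈ H := Subgroup.subset_closure (by simp)
  have hgH : g ∈ H := Subgroup.subset_closure (by simp)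
  have hHcent : H ≤ Subgroup.centralizer ({g ^ 3} : Set G) := by
    rw [hH, Subgroup.closure_le]
    intro w hw
    rw [SetLike.mem_coe, Subgroup.mem_centralizer_iff]
    intro c hc
    rw [Set.mem_singleton_iff] at hc
    subst hc
    rcases hw with rfl | rfl | rfl
    · exact hg3x
    · exact hg3y
    · exact hg3g
  have hKcomm : ∀ k ∈ K, ∀ w ∈ H, w * k = k * w := by
    intro k hk w hw
    obtain ⟨i, rfl⟩ := Subgroup.mem_zpowers_iff.1 hk
    have h1 : g ^ 3 * w = w * g ^ 3 := (Subgroup.mem_centralizer_iff.1 (hHcent hw)) _ rfl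
    have : Commute w (g ^ 3) := h1.symm
    exact (this.zpow_right i).eq
  have hKn : (K.subgroupOf H).Normal := by
    refine ⟨fun k hk w => ?_⟩
    rw [Subgroup.mem_subgroupOf] at hk ⊢
    have h1 := hKcomm _ hk _ w.2
    have : ((w * k * w⁻¹ : H) : G) = (k : G) := by
      simp only [Subgroup.coe_mul, Subgroup.coe_inv]
      rw [h1, mul_inv_cancel_right]
    rw [this]
    exact hk
  refine ⟨H, K, hKn, ?_⟩
  -- orders of elements of `K`
  have hKodd : ∀ k ∈ K, Odd (orderOf k) := by
    intro k hk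
    have h1 : orderOf k ∣ orderOf (g ^ 3) := orderOf_dvd_of_mem_zpowers hk
    have h2 : orderOf (g ^ 3) ∣ orderOf g := orderOf_pow_dvd 3
    exact Odd.of_dvd_nat hodd (h1.trans h2)
  have hx2K : x ^ 2 ∉ K := by
    intro h
    have h1 := hKodd _ h
    have h2 : orderOf (x ^ 2) = 2 := by
      apply orderOf_eq_prime
      · rw [← pow_mul]; exact hx4
      · exact hx2
    rw [h2] at h1
    exact absurd h1 (by decide)
  have hyx' : y ≠ x := by
    intro h
    rw [h, mul_inv_cancel_right] at hyx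
    apply hx2
    rw [pow_two]
    calc x * x = x⁻¹ * x := by rw [← hyx]
      _ = 1 := inv_mul_cancel x
  have hgK : g ∉ K := by
    intro h
    have h1 := hKcomm g h x hxH
    apply hyx'
    rw [← hgx, ← h1, mul_inv_cancel_right]
  -- the elements of the quotient
  set π : H →* H ⧸ K.subgroupOf H := QuotientGroup.mk' (K.subgroupOf H) with hπ
  have hrel : Rel (π ⟨x, hxH⟩) (π ⟨y, hyH⟩) (π ⟨g, hgH⟩) := by
    refine ⟨?_, ?_, ?_, ?_, ?_, ?_⟩
    · have h1 : ¬ (π ⟨x, hxH⟩) ^ 2 ^ 1 = 1 := by
        rw [pow_one, ← map_pow, hπ, QuotientGroup.mk'_apply, QuotientGroup.eq_one_iff,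
          Subgroup.mem_subgroupOf]
        exact hx2K
      have h2 : (π ⟨x, hxH⟩) ^ 2 ^ (1 + 1) = 1 := by
        rw [← map_pow]
        have : (⟨x, hxH⟩ : H) ^ 2 ^ (1 + 1) = 1 := Subtype.ext (by simpa using hx4)
        rw [this, map_one]
      have := orderOf_eq_prime_pow h1 h2
      simpa using this
    · rw [← map_pow, ← map_pow]
      congr 1
      exact Subtype.ext (by simpa using hy)
    · rw [← map_inv, ← map_mul, ← map_mul, ← map_inv]
      congr 1
      exact Subtype.ext (by simpa using hyx)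
    · apply orderOf_eq_prime
      · rw [← map_pow, hπ, QuotientGroup.mk'_apply, QuotientGroup.eq_one_iff,
          Subgroup.mem_subgroupOf]
        exact Subgroup.mem_zpowers (g ^ 3)
      · rw [hπ, QuotientGroup.mk'_apply, Ne, QuotientGroup.eq_one_iff, Subgroup.mem_subgroupOf]
        exact hgK
    · rw [← map_inv, ← map_mul, ← map_mul]
      congr 1
      exact Subtype.ext (by simpa using hgx)
    · rw [← map_inv, ← map_mul, ← map_mul, ← map_mul]
      congr 1
      exact Subtype.ext (by simpa using hgy)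
  apply nonempty_mulEquiv_SL23_of_closure hrel
  -- generation
  have h1 : Subgroup.closure ({⟨x, hxH⟩, ⟨y, hyH⟩, ⟨g, hgH⟩} : Set H) = ⊤ := by
    have h2 := Subgroup.closure_closure_coe_preimage (k := ({x, y, g} : Set G))
    have h3 : ((↑) : Subgroup.closure ({x, y, g} : Set G) → G) ⁻¹' {x, y, g} =
        ({⟨x, hxH⟩, ⟨y, hyH⟩, ⟨g, hgH⟩} : Set H) := by
      ext w
      simp only [Set.mem_preimage, Set.mem_insert_iff, Set.mem_singleton_iff]
      constructor
      · rintro (h | h | h)
        · left; exact Subtype.ext h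
        · right; left; exact Subtype.ext h
        · right; right; exact Subtype.ext h
      · rintro (h | h | h)
        · left; rw [h]
        · right; left; rw [h]
        · right; right; rw [h]
    rw [h3] at h2
    exact h2
  have h4 := congrArg (Subgroup.map π) h1
  rw [MonoidHom.map_closure, ← MonoidHom.range_eq_map,
    MonoidHom.range_eq_top.2 (QuotientGroup.mk'_surjective _)] at h4
  rw [← h4]
  congr 1
  ext w
  simp only [Set.mem_image, Set.mem_insert_iff, Set.mem_singleton_iff]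
  constructor
  · rintro (h | h | h)
    · exact ⟨_, Or.inl rfl, h.symm⟩
    · exact ⟨_, Or.inr (Or.inl rfl), h.symm⟩
    · exact ⟨_, Or.inr (Or.inr rfl), h.symm⟩
  · rintro ⟨v, (h | h | h), rfl⟩
    · left; rw [h]
    · right; left; rw [h]
    · right; right; rw [h]

end SL23

end Cfsg.Agent.Helper16
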