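import Mathlib

/-!
# S3702 (helper16): interface of the pure-arithmetic part (no group theory)

`ι` = Irr(G); `d X` = X(1); `v X i` = (X, b_i^G) for the nine generalized characters
b_0..b_8 = ξ0, ξ1, ξ2, ξ3, ζ+, ζ-, υ0, υ1, υ2 of H = 3^3:S4 vanishing off the TI set A
(see plans/S3702_proof.md).  `M0` is their Gram matrix, `v1` the coordinates of the trivial character.
-/

set_option autoImplicit false

namespace Cfsg.Agent.Helper16.TC648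

/-- Gram matrix of (ξ0, ξ1, ξ2, ξ3, ζ+, ζ-, υ0, υ1, υ2) -/
def M0 : Matrix (Fin 9) (Fin 9) ℤ :=
  !![4, 1, 1, 1, 3, 3, 2, 2, 2;
     1, 3, 1, 2, 3, 3, 2, 2, 2;
     1, 1, 4, 1, 3, 3, 2, 2, 2;
     1, 2, 1, 3, 3, 3, 2, 2, 2;
     3, 3, 3, 3, 8, 5, 4, 4, 4;
     3, 3, 3, 3, 5, 8, 4, 4, 4;
     2, 2, 2, 2, 4, 4, 5, 2, 2;
     2, 2, 2, 2, 4, 4, 2, 4, 3;
     2, 2, 2, 2, 4, 4, 2, 3, 4]

/-- coordinates of the trivial character -/
def v1 : Fin 9 → ℤ := ![-1, 0, 0, 0, -1, 0, -1, 0, 0]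

variable {ι : Type*}

/-- p = a - d (multiplicity of 1_J minus multiplicity of a weight-3 character of J in X|_J) -/
def pp (v : ι → Fin 9 → ℤ) (X : ι) : ℤ := -(v X 6 + v X 7 + v X 8)
/-- q = c - b (weight 2 minus weight 1) -/
def qq (v : ι → Fin 9 → ℤ) (X : ι) : ℤ := v X 4 + v X 5 - v X 0 - v X 1 - v X 2 - v X 3
/-- r = c - d (weight 2 minus weight 3) -/
def rr (v : ι → Fin 9 → ℤ) (X : ι) : ℤ := v X 4 + v X 5 - v X 6 - v X 7 - v X 8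

/-- value of X on the weight-1 class of J -/
def xf (v : ι → Fin 9 → ℤ) (X : ι) : ℤ := pp v X - 3 * qq v X + 3 * rr v X
/-- value of X on the weight-2 class of J -/
def xe (v : ι → Fin 9 → ℤ) (X : ι) : ℤ := pp v X - 3 * rr v X
/-- value of X on the weight-3 class of J -/
def xv (v : ι → Fin 9 → ℤ) (X : ι) : ℤ := pp v X + 3 * qq v X

/-- The arithmetic data extracted from a group G satisfying the hypotheses of S3702. -/
structure Arith (ι : Type*) [Fintype ι] where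
  d : ι → ℕ
  v : ι → Fin 9 → ℤ
  o : ι
  g : ℕ
  m : ℕ
  dpos : ∀ X, 0 < d X
  hg : g = 648 * m
  hm : m % 27 = 1
  ho : v o = v1
  hdo : d o = 1
  gram : ∀ i j, ∑ X, v X i * v X j = M0 i j
  deg : ∀ i, ∑ X, v X i * (d X : ℤ) = 0
  sq : ∑ X, (d X) ^ 2 = g
  cong : ∀ X, ((d X : ℤ) - (pp v X - 6 * qq v X + 18 * rr v X)) % 27 = 0
  Tffe : ∑ X, ((xf v X) ^ 2 * xe v X : ℚ) / d X = 23328 / g
  Tffv : ∑ X, ((xf v X) ^ 2 * xv v X : ℚ) / d X = 0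
  Tfee : ∑ X, ((xf v X) * (xe v X) ^ 2 : ℚ) / d X = 11664 / g
  Tfvv : ∑ X, ((xf v X) * (xv v X) ^ 2 : ℚ) / d X = 26244 / g
  Teev : ∑ X, ((xe v X) ^ 2 * xv v X : ℚ) / d X = 17496 / g
  Tevv : ∑ X, ((xe v X) * (xv v X) ^ 2 : ℚ) / d X = 13122 / g
  Tfev : ∑ X, ((xf v X) * (xe v X) * xv v X : ℚ) / d X = 17496 / g

end Cfsg.Agent.Helper16.TC648
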