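import Mathlib
import Cfsg.Agent.Lib.Helper24.CharComplete
import Cfsg.Agent.Lib.Helper24.CharOrtho
import Cfsg.Agent.Lib.Helper24.CharHom
import Cfsg.Agent.Lib.Helper24.CharAlgebra
import Cfsg.Agent.Lib.Helper24.CharLinear
import Cfsg.Agent.Lib.Helper16.TC648Defs

/-!
# S3702 (helper16): core lemmas of the character-theoretic part
-/

set_option autoImplicit false
set_option linter.unusedSectionVars false
set_option linter.unusedVariables false

namespace Cfsg.Agent.Helper16.TC648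

open Cfsg Cfsg.Agent.Helper24
open scoped ComplexConjugate

universe u v

/-- table of the values (on the nine class representatives `z`) of the nine generalized characters
`ξ0, ξ1, ξ2, ξ3, ζ+, ζ-, υ0, υ1, υ2` of `H`; `s3` is a square root of 3 -/
def tab (s3 : ℂ) : Fin 9 → Fin 9 → ℂ :=
  ![![-3, -6, -9, -3, 0, -3, -3, 0, 0],
    ![-3, -6, -9, 3, 0, -s3, s3, 0, 0],
    ![-3, -6, -9, -3, 0, 3, 3, 0, 0],
    ![-3, -6, -9, 3, 0, s3, -s3, 0, 0],
    ![-12, -15, -9, 0, -3, 0, 0, 0, 0],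
    ![-12, -15, -9, 0, 3, 0, 0, 0, 0],
    ![-12, -6, -9, 0, 0, 0, 0, -3, -3],
    ![-12, -6, -9, 0, 0, 0, 0, 0, 3],
    ![-12, -6, -9, 0, 0, 0, 0, 3, 0]]

/-- rows of `tab` belonging to `C_H(t1)` (ξ_n) -/
def rowF (n : Fin 4) : Fin 9 := ⟨n, by omega⟩
/-- rows of `tab` belonging to `C_H(t1 t2)` (ζ_±) -/
def rowE (n : Fin 2) : Fin 9 := ⟨4 + n, by omega⟩
/-- rows of `tab` belonging to `C_H(t1 t2 t3)` (υ_n) -/
def rowV (n : Fin 3) : Fin 9 := ⟨6 + n, by omega⟩

/-- the square root of 3 attached to a primitive cube root of unity `ω` (and `Complex.I`) -/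
noncomputable def sq3 (ω : ℂ) : ℂ := Complex.I * (ω ^ 2 - ω)

theorem sq3_sq {ω : ℂ} (hω : ω ^ 2 + ω + 1 = 0) : sq3 ω ^ 2 = 3 := by
  unfold sq3
  have hI : Complex.I ^ 2 = -1 := Complex.I_sq
  have h3 : ω ^ 3 = 1 := by linear_combination (ω - 1) * hω
  have h4 : ω ^ 4 = ω := by linear_combination ω * h3
  calc (Complex.I * (ω ^ 2 - ω)) ^ 2 = Complex.I ^ 2 * (ω ^ 4 - 2 * ω ^ 3 + ω ^ 2) := by ring
    _ = 3 := by rw [hI, h4, h3]; linear_combination -hω

theorem omega_cube {ω : ℂ} (hω : ω ^ 2 + ω + 1 = 0) : ω ^ 3 = 1 := by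
  linear_combination (ω - 1) * hω

theorem omega_ne_zero {ω : ℂ} (hω : ω ^ 2 + ω + 1 = 0) : ω ≠ 0 := by
  intro h
  rw [h] at hω
  norm_num at hω

theorem conj_omega {ω : ℂ} (hω : ω ^ 2 + ω + 1 = 0) : conj ω = ω ^ 2 := by
  have h3 := omega_cube hω
  have hn : ‖ω‖ = 1 := by
    have : ‖ω‖ ^ 3 = 1 := by rw [← norm_pow, h3, norm_one]
    exact (pow_eq_one_iff_of_nonneg (norm_nonneg _) (by norm_num)).1 this
  have h0 := omega_ne_zero hω
  have h1 : conj ω * ω = 1 := by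
    rw [mul_comm, Complex.mul_conj, Complex.normSq_eq_norm_sq, hn]
    norm_num
  have h2 : ω ^ 2 * ω = 1 := by rw [← h3]; ring
  exact mul_right_cancel₀ h0 (h1.trans h2.symm)

theorem conj_sq3 {ω : ℂ} (hω : ω ^ 2 + ω + 1 = 0) : conj (sq3 ω) = sq3 ω := by
  unfold sq3
  have h3 := omega_cube hω
  rw [map_mul, Complex.conj_I, map_sub, map_pow, conj_omega hω]
  have h4 : (ω ^ 2) ^ 2 = ω := by linear_combination ω * h3
  rw [h4]
  ring

/-- the value of a linear character is a unit of norm one: `conj = inverse` -/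
theorem conj_unit_hom {M : Type v} [Group M] [Finite M] (μ : M →* ℂˣ) (x : M) :
    conj ((μ x : ℂˣ) : ℂ) = ((μ x⁻¹ : ℂˣ) : ℂ) := by
  have h := irr_inv (isCharacter_of_isIrrCharacter (isIrrCharacter_of_monoidHom μ)) x
  exact h.symm

/-- INTEGRALITY from a model: if `ι : M →* G` is a homomorphism from a finite group and `μ1, μ0` are linear characters
of `M`, then `∑_{x ∈ M} χ(ι x) (conj μ1(x) - conj μ0(x))` is `|M|` times an integer, for every character `χ` of `G`. -/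
theorem int_of_model {G : Type u} [Group G] {M : Type v} [Group M] [Fintype M] (ι : M →* G)
    (μ1 μ0 : M →* ℂˣ) {χ : G → ℂ} (hχ : IsCharacter G χ) :
    ∃ n : ℤ, (n : ℂ) * (Fintype.card M : ℂ) =
      ∑ x : M, χ (ι x) * (conj ((μ1 x : ℂˣ) : ℂ) - conj ((μ0 x : ℂˣ) : ℂ)) := by
  classical
  let _ : Fintype (IrrCharacter M) := irrFintype
  have hc : IsCharacter M (fun x => χ (ι x)) := isCharacter_comp ι hχ
  have h1 := isCharacter_of_isIrrCharacter (isIrrCharacter_of_monoidHom μ1)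
  have h0 := isCharacter_of_isIrrCharacter (isIrrCharacter_of_monoidHom μ0)
  obtain ⟨n1, hn1⟩ := classInner_char_nat hc h1
  obtain ⟨n0, hn0⟩ := classInner_char_nat hc h0
  refine ⟨(n1 : ℤ) - (n0 : ℤ), ?_⟩
  have hM : (Nat.card M : ℂ) ≠ 0 := by
    have : 0 < Nat.card M := Nat.card_pos
    exact_mod_cast this.ne'
  unfold classInner at hn1 hn0
  have e1 : ∑ x : M, χ (ι x) * conj ((μ1 x : ℂˣ) : ℂ) = (n1 : ℂ) * (Nat.card M : ℂ) := by
    rw [← hn1]; field_simp
  have e0 : ∑ x : M, χ (ι x) * conj ((μ0 x : ℂˣ) : ℂ) = (n0 : ℂ) * (Nat.card M : ℂ) := by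
    rw [← hn0]; field_simp
  simp only [mul_sub, Finset.sum_sub_distrib]
  rw [e1, e0, Nat.card_eq_fintype_card]
  push_cast
  ring

end Cfsg.Agent.Helper16.TC648
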