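import Mathlib
import Cfsg.Agent.Lib.Helper13.SpBN3

/-!
# The hyperoctahedral group is generated by the simple reflections (helper16, piece WGEN of S2545)
-/

set_option autoImplicit false

namespace Cfsg.Agent.Helper16.SpBNWGen

open Cfsg.Agent.Helper6.SpN Cfsg.Agent.Helper13.SpBN

variable {m : ℕ}

theorem exists_key_eq {k : ℕ} (hk : k < 2 * m) : ∃ a : Fin m ⊕ Fin m, key a = k := by
  by_cases h : k < m
  · exact ⟨Sum.inl ⟨k, h⟩, rfl⟩
  · refine ⟨Sum.inr ⟨2 * m - 1 - k, by omega⟩, ?_⟩
    rw [key_inr]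
    show 2 * m - 1 - (2 * m - 1 - k) = k
    omega

theorem adjacent_cases {a a' : Fin m ⊕ Fin m} (h : key a' = key a + 1) :
    (∃ i : Fin m, a = ra i ∧ a' = rb i) ∨ (∃ i : Fin m, a = ng (rb i) ∧ a' = ng (ra i)) := by
  cases a with
  | inl x =>
    cases a' with
    | inl y =>
      rw [key_inl, key_inl] at h
      left
      have hx : x.val + 1 < m := by have := y.2; omega
      refine ⟨x, rfl, ?_⟩
      unfold rb
      rw [dif_pos hx]
      congr 1
      exact Fin.ext h
    | inr y =>
      rw [key_inl, key_inr] at h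
      have := x.2
      have := y.2
      left
      have hx : ¬ x.val + 1 < m := by omega
      refine ⟨x, rfl, ?_⟩
      unfold rb
      rw [dif_neg hx]
      congr 1
      apply Fin.ext
      omega
  | inr x =>
    cases a' with
    | inl y =>
      rw [key_inl, key_inr] at h
      have := x.2
      have := y.2
      omega
    | inr y =>
      rw [key_inr, key_inr] at h
      have := x.2
      have := y.2
      right
      have hy : y.val + 1 < m := by omega
      refine ⟨y, ?_, rfl⟩
      unfold rb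
      rw [dif_pos hy]
      show Sum.inr x = Sum.inr _
      congr 1
      apply Fin.ext
      show x.val = y.val + 1
      omega

theorem key_lt_of_adjacent (π : Equiv.Perm (Fin m ⊕ Fin m)) (hπ : ∀ a, π (ng a) = ng (π a))
    (h : ∀ i : Fin m, key (π (ra i)) < key (π (rb i))) {a a' : Fin m ⊕ Fin m}
    (haa : key a' = key a + 1) : key (π a) < key (π a') := by
  rcases adjacent_cases haa with ⟨i, rfl, rfl⟩ | ⟨i, rfl, rfl⟩
  · exact h i
  · rw [hπ, hπ, key_ng, key_ng]
    have h1 := h i
    have h2 := key_lt (π (rb i))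
    omega

theorem eq_one_of_no_descent (π : Equiv.Perm (Fin m ⊕ Fin m)) (hπ : ∀ a, π (ng a) = ng (π a))
    (h : ∀ i : Fin m, key (π (ra i)) < key (π (rb i))) : π = 1 := by
  have hge : ∀ k : ℕ, ∀ a : Fin m ⊕ Fin m, key a = k → k ≤ key (π a) := by
    intro k
    induction k with
    | zero => intro a _; exact Nat.zero_le _
    | succ k ih =>
      intro a ha
      have hk : k < 2 * m := by have := key_lt a; omega
      obtain ⟨a0, ha0⟩ := exists_key_eq hk
      have h1 := ih a0 ha0
      have h2 := key_lt_of_adjacent π hπ h (a := a0) (a' := a) (by rw [ha, ha0])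
      omega
  have hinv : π⁻¹ = 1 := by
    apply perm_eq_one_of_key_le
    intro b
    have := hge (key (π⁻¹ b)) (π⁻¹ b) rfl
    simpa using this
  rw [← inv_inv π, hinv, inv_one]

/-- the potential -/
def Phi (π : Equiv.Perm (Fin m ⊕ Fin m)) : ℤ := ∑ a, (key a : ℤ) * (key (π a) : ℤ)

theorem Phi_le (π : Equiv.Perm (Fin m ⊕ Fin m)) :
    Phi π ≤ ∑ a : Fin m ⊕ Fin m, (key a : ℤ) * (2 * m : ℤ) := by
  apply Finset.sum_le_sum
  intro a _
  apply mul_le_mul_of_nonneg_left _ (by positivity)
  exact_mod_cast (key_lt (π a)).le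

theorem pr_pr (i : Fin m) (a : Fin m ⊕ Fin m) : pr i (pr i a) = a := by
  have h := congrArg (fun f : Equiv.Perm (Fin m ⊕ Fin m) => f a) (pr_mul_self i)
  simpa using h

theorem pr_fix_or (i : Fin m) (a : Fin m ⊕ Fin m) :
    pr i a = a ∨ a = ra i ∨ a = rb i ∨ a = ng (ra i) ∨ a = ng (rb i) := by
  by_cases h : i.val + 1 < m
  · have hrb : rb i = Sum.inl ⟨i.val + 1, h⟩ := by unfold rb; rw [dif_pos h]
    by_cases h1 : a = ra i
    · exact Or.inr (Or.inl h1)
    by_cases h2 : a = rb i
    · exact Or.inr (Or.inr (Or.inl h2))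
    by_cases h3 : a = ng (ra i)
    · exact Or.inr (Or.inr (Or.inr (Or.inl h3)))
    by_cases h4 : a = ng (rb i)
    · exact Or.inr (Or.inr (Or.inr (Or.inr h4)))
    left
    rw [pr_short h]
    rw [hrb] at h2 h4
    exact piS_of_ne h1 h2 h3 h4
  · by_cases h1 : a = ra i
    · exact Or.inr (Or.inl h1)
    by_cases h3 : a = ng (ra i)
    · exact Or.inr (Or.inr (Or.inr (Or.inl h3)))
    left
    rw [pr_long h]
    exact Equiv.swap_apply_of_ne_of_ne h1 h3

/-- the contribution of `a` to twice the increase of the potential -/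
def Tm' (π : Equiv.Perm (Fin m ⊕ Fin m)) (i : Fin m) (a : Fin m ⊕ Fin m) : ℤ :=
  ((key (pr i a) : ℤ) - key a) * ((key (π a) : ℤ) - key (π (pr i a)))

theorem two_mul_diff (π : Equiv.Perm (Fin m ⊕ Fin m)) (i : Fin m) :
    ∑ a, Tm' π i a = 2 * (Phi (π * pr i) - Phi π) := by
  have e1 : ∑ a, (key (pr i a) : ℤ) * key (π a) = Phi (π * pr i) := by
    unfold Phi
    rw [← Equiv.sum_comp (pr i) (fun b => (key b : ℤ) * (key ((π * pr i) b) : ℤ))]
    apply Finset.sum_congr rfl
    intro a _
    rw [Equiv.Perm.mul_apply, pr_pr]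
  have e2 : ∑ a, (key (pr i a) : ℤ) * key (π (pr i a)) = Phi π :=
    Equiv.sum_comp (pr i) (fun b => (key b : ℤ) * (key (π b) : ℤ))
  have e3 : ∑ a, (key a : ℤ) * key (π (pr i a)) = Phi (π * pr i) := rfl
  have e4 : ∑ a, (key a : ℤ) * key (π a) = Phi π := rfl
  calc ∑ a, Tm' π i a
      = ∑ a, ((key (pr i a) : ℤ) * key (π a) - (key (pr i a) : ℤ) * key (π (pr i a))
          - ((key a : ℤ) * key (π a) - (key a : ℤ) * key (π (pr i a)))) := by
        apply Finset.sum_congr rfl
        intro a _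
        unfold Tm'
        ring
    _ = 2 * (Phi (π * pr i) - Phi π) := by
        rw [Finset.sum_sub_distrib, Finset.sum_sub_distrib, Finset.sum_sub_distrib, e1, e2, e3, e4]
        ring

theorem key_ng_int (a : Fin m ⊕ Fin m) : ((key (ng a) : ℕ) : ℤ) = 2 * (m : ℤ) - 1 - (key a : ℤ) := by
  have h1 := key_ng a
  have h2 := key_lt a
  omega

theorem Tm'_ng (π : Equiv.Perm (Fin m ⊕ Fin m)) (hπ : ∀ a, π (ng a) = ng (π a)) (i : Fin m)
    (x : Fin m ⊕ Fin m) : Tm' π i (ng x) = Tm' π i x := by
  unfold Tm'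
  rw [pr_comm_ng, hπ, hπ, key_ng_int, key_ng_int, key_ng_int, key_ng_int]
  ring

theorem Tm'_ra (π : Equiv.Perm (Fin m ⊕ Fin m)) (i : Fin m) :
    Tm' π i (ra i) = (key (π (ra i)) : ℤ) - key (π (rb i)) := by
  unfold Tm'
  rw [pr_ra, key_ra, key_rb]
  push_cast
  ring

theorem Tm'_rb (π : Equiv.Perm (Fin m ⊕ Fin m)) (i : Fin m) :
    Tm' π i (rb i) = (key (π (ra i)) : ℤ) - key (π (rb i)) := by
  unfold Tm'
  rw [pr_rb, key_ra, key_rb]
  push_cast
  ring

theorem Tm'_fix (π : Equiv.Perm (Fin m ⊕ Fin m)) (i : Fin m) {a : Fin m ⊕ Fin m}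
    (h : pr i a = a) : Tm' π i a = 0 := by
  unfold Tm'
  rw [h]
  ring

theorem Phi_lt_of_descent (π : Equiv.Perm (Fin m ⊕ Fin m)) (hπ : ∀ a, π (ng a) = ng (π a))
    (i : Fin m) (h : key (π (rb i)) < key (π (ra i))) : Phi π < Phi (π * pr i) := by
  have hδ : (0 : ℤ) < (key (π (ra i)) : ℤ) - key (π (rb i)) := by
    have : ((key (π (rb i)) : ℕ) : ℤ) < key (π (ra i)) := by exact_mod_cast h
    linarith
  have hpos : 0 < ∑ a, Tm' π i a := by
    apply Finset.sum_pos'
    · intro a _
      rcases pr_fix_or i a with h1 | rfl | rfl | rfl | rfl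
      · rw [Tm'_fix π i h1]
      · rw [Tm'_ra]; exact hδ.le
      · rw [Tm'_rb]; exact hδ.le
      · rw [Tm'_ng π hπ, Tm'_ra]; exact hδ.le
      · rw [Tm'_ng π hπ, Tm'_rb]; exact hδ.le
    · exact ⟨ra i, Finset.mem_univ _, by rw [Tm'_ra]; exact hδ⟩
  rw [two_mul_diff] at hpos
  linarith

theorem exists_word {m : ℕ} (π : Equiv.Perm (Fin m ⊕ Fin m)) (hπ : ∀ a, π (ng a) = ng (π a)) :
    ∃ l : List (Fin m), π = (l.map pr).prod := by
  set B : ℤ := ∑ a : Fin m ⊕ Fin m, (key a : ℤ) * (2 * m : ℤ) with hB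
  have key_ind : ∀ n : ℕ, ∀ π : Equiv.Perm (Fin m ⊕ Fin m), (∀ a, π (ng a) = ng (π a)) →
      B - Phi π ≤ n → ∃ l : List (Fin m), π = (l.map pr).prod := by
    intro n
    induction n with
    | zero =>
      intro π hπ hn
      by_cases hd : ∀ i : Fin m, key (π (ra i)) < key (π (rb i))
      · exact ⟨[], by rw [eq_one_of_no_descent π hπ hd]; rfl⟩
      · exfalso
        push Not at hd
        obtain ⟨i, hi⟩ := hd
        have hne : key (π (rb i)) ≠ key (π (ra i)) := by
          intro e
          have e2 := π.injective (key_injective e)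
          have h1 := key_ra i
          have h2 := key_rb i
          rw [e2] at h2
          omega
        have hlt := Phi_lt_of_descent π hπ i (lt_of_le_of_ne hi hne)
        have hle := Phi_le (π * pr i)
        push_cast at hn
        linarith
    | succ n ih =>
      intro π hπ hn
      by_cases hd : ∀ i : Fin m, key (π (ra i)) < key (π (rb i))
      · exact ⟨[], by rw [eq_one_of_no_descent π hπ hd]; rfl⟩
      · push Not at hd
        obtain ⟨i, hi⟩ := hd
        have hne : key (π (rb i)) ≠ key (π (ra i)) := by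
          intro e
          have e2 := π.injective (key_injective e)
          have h1 := key_ra i
          have h2 := key_rb i
          rw [e2] at h2
          omega
        have hlt := Phi_lt_of_descent π hπ i (lt_of_le_of_ne hi hne)
        have hπ' : ∀ a, (π * pr i) (ng a) = ng ((π * pr i) a) := by
          intro a
          rw [Equiv.Perm.mul_apply, Equiv.Perm.mul_apply, pr_comm_ng, hπ]
        obtain ⟨l, hl⟩ := ih (π * pr i) hπ' (by push_cast at hn ⊢; linarith)
        refine ⟨l ++ [i], ?_⟩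
        rw [List.map_append, List.prod_append, ← hl, List.map_singleton, List.prod_singleton,
          mul_assoc, pr_mul_self, mul_one]
  have hle := Phi_le π
  exact key_ind (B - Phi π).toNat π hπ (by rw [Int.toNat_of_nonneg (by linarith)])

end Cfsg.Agent.Helper16.SpBNWGen
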