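import Mathlib
import Cfsg.Prelude
import Cfsg.Agent.Lib.Helper13.SuBN2
import Cfsg.Agent.Lib.Helper2.SuGenA
import Cfsg.Agent.Lib.Helper2.SuGenB

/-!
# `B` and `N` generate `WSU n φ`, by relativised elimination (piece GENR of S2547, helper16)

Any `n`, any `φ`; the only input about the Weyl group is the existence of monomial elements with the
permutations `piL z` (swap of `z` and `rev z`).
-/

set_option autoImplicit false

namespace Cfsg.Agent.Helper13.SoP

open Matrix Cfsg.Agent.Helper13.SuBN Cfsg.Agent.Helper13.SuP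

variable {n : ℕ} {F : Type*} [Field F] {φ : F →+* F}

/-- `e_q` is an eigenvector of `g` -/
def grEig (g : WSU n φ) (q : Fin n) : Prop :=
  ∃ c : F, mt g *ᵥ (ev q : Fin n → F) = c • ev q

theorem grEig_one (q : Fin n) : grEig (1 : WSU n φ) q :=
  ⟨1, by rw [mt_one, Matrix.one_mulVec, one_smul]⟩

theorem grEig_of_fix {g : WSU n φ} {q : Fin n} (h : mt g *ᵥ (ev q : Fin n → F) = ev q) :
    grEig g q := ⟨1, by rw [h, one_smul]⟩

theorem grEig_mul {g h : WSU n φ} {q : Fin n} (hh : grEig h q) (hg : grEig g q) :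
    grEig (h * g) q := by
  obtain ⟨c, hc⟩ := hg
  obtain ⟨d, hd⟩ := hh
  refine ⟨c * d, ?_⟩
  rw [mt_mul, ← Matrix.mulVec_mulVec, hc, Matrix.mulVec_smul, hd, smul_smul]

theorem gr_mon_ev {N : Matrix (Fin n) (Fin n) F} {π : Equiv.Perm (Fin n)} (hN : IsMon N π)
    (q : Fin n) : N *ᵥ (ev q : Fin n → F) = N (π q) q • ev (π q) := by
  funext p
  rw [mulVec_ev, Pi.smul_apply, smul_eq_mul]
  by_cases hp : p = π q
  · rw [hp, ev_self, mul_one]
  · rw [hN p q hp, ev_ne (fun e => hp e.symm), mul_zero]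

theorem grEig_mon {N : WSU n φ} {π : Equiv.Perm (Fin n)} (hN : IsMon (mt N) π) {q : Fin n}
    (hq : π q = q) : grEig N q := by
  refine ⟨mt N q q, ?_⟩
  have := gr_mon_ev hN q
  rw [hq] at this
  exact this

/-- the row of an eigen-index -/
theorem gr_row {g : WSU n φ} {a : Fin n} (h : grEig g (Fin.rev a)) (q : Fin n) (hq : q ≠ a) :
    mt g a q = 0 := by
  obtain ⟨c, hc⟩ := h
  have := (gb_col_row (Fin.rev a) g c hc).2 q (by rw [Fin.rev_rev]; exact hq)
  rwa [Fin.rev_rev] at this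

theorem gr_col {g : WSU n φ} {a : Fin n} (h : grEig g a) (p : Fin n) (hp : p ≠ a) :
    mt g p a = 0 := by
  obtain ⟨c, hc⟩ := h
  exact (gb_col_row a g c hc).1 p hp

theorem gr_form_ev {z : Fin n} (hz : z ≠ Fin.rev z) : gaForm φ (ev z : Fin n → F) = 0 := by
  unfold gaForm
  apply Finset.sum_eq_zero
  intro a _
  by_cases ha : a = z
  · rw [ha, ev_ne hz, map_zero, mul_zero]
  · rw [ev_ne (fun e => ha e.symm), zero_mul]

theorem gr_col_iso (g : WSU n φ) {z : Fin n} (hz : z ≠ Fin.rev z) :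
    gaForm φ (mt g *ᵥ (ev z : Fin n → F)) = 0 := by
  rw [ga_form_mulVec, gr_form_ev hz]

theorem gr_col_ne_zero (g : WSU n φ) (z : Fin n) : mt g *ᵥ (ev z : Fin n → F) ≠ 0 := by
  intro h
  have h1 : mt g⁻¹ *ᵥ (mt g *ᵥ (ev z : Fin n → F)) = ev z := by
    rw [Matrix.mulVec_mulVec, mt_inv_mul, Matrix.one_mulVec]
  rw [h, Matrix.mulVec_zero] at h1
  have h2 := congrFun h1 z
  rw [Pi.zero_apply, ev_self] at h2
  exact zero_ne_one h2

/-! ### phase 1 -/

theorem gr_phase1 (hφφ : ∀ x, φ (φ x) = x) (z : Fin n) (hzlt : z < Fin.rev z)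
    (Nz : WSU n φ) (hNz : IsMon (mt Nz) (piL z)) (v : Fin n → F) (hv : v ≠ 0)
    (hiso : gaForm φ v = 0) (hout : ∀ q, (q < z ∨ Fin.rev z < q) → v q = 0) :
    ∃ g ∈ mon n φ, (∀ q, (q < z ∨ Fin.rev z < q) → grEig g q) ∧
      (mt g *ᵥ v) (Fin.rev z) ≠ 0 := by
  have hz : z ≠ Fin.rev z := ne_of_lt hzlt
  by_cases h0 : v (Fin.rev z) ≠ 0
  · exact ⟨1, (mon n φ).one_mem, fun q _ => grEig_one q,
      by rw [mt_one, Matrix.one_mulVec]; exact h0⟩
  push Not at h0
  by_cases hex : ∃ b, v b ≠ 0 ∧ b ≠ Fin.rev b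
  · obtain ⟨b, hb0, hbr⟩ := hex
    have hbz : z ≤ b := by
      by_contra h
      exact hb0 (hout b (Or.inl (not_le.1 h)))
    have hbl : b ≤ Fin.rev z := by
      by_contra h
      exact hb0 (hout b (Or.inr (not_le.1 h)))
    by_cases hbz' : b = z
    · have hmon := hNz
      refine ⟨Nz, ⟨_, hmon⟩, ?_, ?_⟩
      · intro q hq
        apply grEig_mon hmon
        unfold piL
        apply Equiv.swap_apply_of_ne_of_ne
        · rcases hq with h | h
          · exact ne_of_lt h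
          · exact ne_of_gt (lt_trans hzlt h)
        · rcases hq with h | h
          · exact ne_of_lt (lt_trans h hzlt)
          · exact ne_of_gt h
      · rw [ga_mon_mulVec hmon, piL_inv]
        have e1 : piL z (Fin.rev z) = z := Equiv.swap_apply_right _ _
        have e2 : piL z z = Fin.rev z := Equiv.swap_apply_left _ _
        rw [e1]
        apply mul_ne_zero
        · have := hmon.apply_ne_zero z
          rwa [e2] at this
        · rw [← hbz']; exact hb0
    · have hlast : b ≠ Fin.rev z := by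
        intro e
        rw [e] at hb0
        exact hb0 h0
      have hab' : b ≠ Fin.rev (Fin.rev z) := by rw [Fin.rev_rev]; exact hbz'
      have hb' : Fin.rev z ≠ Fin.rev (Fin.rev z) := by rw [Fin.rev_rev]; exact hz.symm
      have hmon := wS_isMon (φ := φ) hφφ hlast hab' hbr hb' (c := 1) one_ne_zero
      refine ⟨wS φ b (Fin.rev z) 1, ⟨_, hmon⟩, ?_, ?_⟩
      · intro q hq
        apply grEig_mon hmon
        have hzb : z < b := lt_of_le_of_ne hbz (Ne.symm hbz')
        have hbl' : b < Fin.rev z := lt_of_le_of_ne hbl hlast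
        have hrb1 : z < Fin.rev b := by
          have := Fin.rev_lt_rev.2 hbl'
          rwa [Fin.rev_rev] at this
        have hrb2 : Fin.rev b < Fin.rev z := Fin.rev_lt_rev.2 hzb
        apply piS_of_ne
        · rcases hq with h | h
          · exact ne_of_lt (lt_trans h hzb)
          · exact ne_of_gt (lt_trans hbl' h)
        · rcases hq with h | h
          · exact ne_of_lt (lt_trans h hzlt)
          · exact ne_of_gt h
        · rcases hq with h | h
          · exact ne_of_lt (lt_trans h hrb1)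
          · exact ne_of_gt (lt_trans hrb2 h)
        · rw [Fin.rev_rev]
          rcases hq with h | h
          · exact ne_of_lt h
          · exact ne_of_gt (lt_trans hzlt h)
      · rw [ga_mon_mulVec hmon, piS_inv hlast hab' hbr hb', piS_b hlast hab' hbr hb']
        apply mul_ne_zero _ hb0
        have := hmon.apply_ne_zero b
        rwa [piS_a hlast hab' hbr hb'] at this
  · exfalso
    push Not at hex
    obtain ⟨c, hc⟩ : ∃ c, v c ≠ 0 := by
      by_contra h
      push Not at h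
      exact hv (funext h)
    have hcr : c = Fin.rev c := hex c hc
    have hsum : gaForm φ v = v c * φ (v c) := by
      unfold gaForm
      rw [Finset.sum_eq_single c]
      · rw [← hcr]
      · intro a _ hac
        by_cases ha0 : v a = 0
        · rw [ha0, zero_mul]
        · exact absurd (ga_rev_fix_unique (hex a ha0) hcr) hac
      · intro h; exact absurd (Finset.mem_univ _) h
    rw [hsum] at hiso
    rcases mul_eq_zero.1 hiso with h | h
    · exact hc h
    · exact ga_phi_ne_zero hφφ hc h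

/-! ### phase 2 -/

/-- one clearing step -/
theorem gr_clear_one (hφφ : ∀ x, φ (φ x) = x) (z : Fin n) (hz : z ≠ Fin.rev z)
    (htr : ∀ r : F, φ r = r → ∃ s : F, s + φ s = r)
    (v : Fin n → F) (hlast : v (Fin.rev z) ≠ 0) (b : Fin n) (hzlt : z < b)
    (hlt : b < Fin.rev z) :
    ∃ g ∈ bor n φ, (∀ q, (q ≤ z ∨ Fin.rev z < q) → mt g *ᵥ (ev q : Fin n → F) = ev q) ∧
      (mt g *ᵥ v) b = 0 ∧ ∀ q, q ≠ b → q ≠ z → (mt g *ᵥ v) q = v q := by
  have hbz : b ≠ z := ne_of_gt hzlt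
  have hbl : b ≠ Fin.rev z := ne_of_lt hlt
  by_cases hbr : b = Fin.rev b
  · -- the middle index
    obtain ⟨u, hu⟩ : ∃ u : F, u = φ (v b / v (Fin.rev z)) := ⟨_, rfl⟩
    obtain ⟨s, hs⟩ := htr (-(u * φ u)) (by rw [map_neg, map_mul, hφφ]; ring)
    have huv : s + φ s + u * φ u = 0 := by rw [hs]; ring
    have hcoe := Mm_coe (φ := φ) hφφ hbz.symm hz hbr huv
    refine ⟨Mm φ z b u s, ?_, ?_, ?_, ?_⟩
    · intro p q hpq
      rw [hcoe]
      apply ga_MmM_apply_of_ne
      · intro e; rw [e] at hpq; exact lt_irrefl _ hpq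
      · rintro ⟨rfl, rfl⟩; exact lt_asymm hzlt hpq
      · rintro ⟨rfl, rfl⟩; exact lt_asymm hlt hpq
      · rintro ⟨rfl, rfl⟩; exact lt_asymm (lt_trans hzlt hlt) hpq
    · intro q hq
      have hqb : q ≠ b := by
        rcases hq with h | h
        · exact ne_of_lt (lt_of_le_of_lt h hzlt)
        · exact ne_of_gt (lt_trans hlt h)
      have hql : q ≠ Fin.rev z := by
        rcases hq with h | h
        · exact ne_of_lt (lt_of_le_of_lt h (lt_trans hzlt hlt))
        · exact ne_of_gt h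
      rw [hcoe, MmM_mulVec, ev_ne hqb, ev_ne hql]
      simp
    · rw [hcoe, MmM_mulVec]
      simp only [Pi.add_apply, Pi.sub_apply, Pi.smul_apply, smul_eq_mul, ev_self, ev_ne hbz.symm]
      rw [hu, hφφ]
      field_simp
      ring
    · intro q hqb hqz
      rw [hcoe, MmM_mulVec]
      simp only [Pi.add_apply, Pi.sub_apply, Pi.smul_apply, smul_eq_mul, ev_ne hqb.symm,
        ev_ne hqz.symm]
      ring
  · have hb' : Fin.rev z ≠ Fin.rev (Fin.rev z) := by rw [Fin.rev_rev]; exact hz.symm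
    obtain ⟨t, ht⟩ : ∃ t : F, t = -(v b / v (Fin.rev z)) := ⟨_, rfl⟩
    refine ⟨Tm φ b (Fin.rev z) t, Tm_mem_bor hφφ hbl hbr hb' hlt t, ?_, ?_, ?_⟩
    · intro q hq
      have hrb1 : z < Fin.rev b := by
        have := Fin.rev_lt_rev.2 hlt
        rwa [Fin.rev_rev] at this
      have hrb2 : Fin.rev b < Fin.rev z := Fin.rev_lt_rev.2 hzlt
      apply Tm_ev_of_ne hφφ hbl hbr hb' t
      · rcases hq with h | h
        · exact ne_of_lt (lt_of_le_of_lt h (lt_trans hzlt hlt))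
        · exact ne_of_gt h
      · rcases hq with h | h
        · exact ne_of_lt (lt_of_le_of_lt h hrb1)
        · exact ne_of_gt (lt_trans hrb2 h)
    · rw [Tm_mulVec hφφ hbl hbr hb', Fin.rev_rev]
      simp only [Pi.add_apply, Pi.sub_apply, Pi.smul_apply, smul_eq_mul, ev_self, ev_ne hbz.symm]
      rw [ht]
      field_simp
      ring
    · intro q hqb hqz
      rw [Tm_mulVec hφφ hbl hbr hb', Fin.rev_rev]
      simp only [Pi.add_apply, Pi.sub_apply, Pi.smul_apply, smul_eq_mul, ev_ne hqb.symm,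
        ev_ne hqz.symm]
      ring

theorem gr_phase2 (hφφ : ∀ x, φ (φ x) = x) (z : Fin n) (hz : z ≠ Fin.rev z)
    (htr : ∀ r : F, φ r = r → ∃ s : F, s + φ s = r) :
    ∀ S : Finset (Fin n), (∀ b ∈ S, z < b ∧ b < Fin.rev z) → ∀ v : Fin n → F,
      v (Fin.rev z) ≠ 0 →
      (∀ b, b ∉ S → b ≠ z → b ≠ Fin.rev z → v b = 0) →
      ∃ g ∈ bor n φ, (∀ q, (q ≤ z ∨ Fin.rev z < q) → mt g *ᵥ (ev q : Fin n → F) = ev q) ∧
        (∀ b, b ≠ z → b ≠ Fin.rev z → (mt g *ᵥ v) b = 0) ∧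
        (mt g *ᵥ v) (Fin.rev z) ≠ 0 := by
  intro S
  induction S using Finset.induction_on with
  | empty =>
    intro _ v hlast hS
    refine ⟨1, (bor n φ).one_mem, ?_, ?_, by rw [mt_one, Matrix.one_mulVec]; exact hlast⟩
    · intro q _
      rw [mt_one, Matrix.one_mulVec]
    · intro b hbz hbl
      rw [mt_one, Matrix.one_mulVec]
      exact hS b (Finset.notMem_empty _) hbz hbl
  | insert b S' hbS ih =>
    intro hblock v hlast hS
    have hblock' : ∀ b' ∈ S', z < b' ∧ b' < Fin.rev z :=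
      fun b' hb' => hblock b' (Finset.mem_insert_of_mem hb')
    obtain ⟨hzb, hbl⟩ := hblock b (Finset.mem_insert_self _ _)
    have hbz : b ≠ z := ne_of_gt hzb
    have hbl' : b ≠ Fin.rev z := ne_of_lt hbl
    obtain ⟨g1, hg1, hfix1, hgb, hgq⟩ := gr_clear_one hφφ z hz htr v hlast b hzb hbl
    have hlast' : (mt g1 *ᵥ v) (Fin.rev z) ≠ 0 := by
      rw [hgq _ hbl'.symm hz.symm]
      exact hlast
    have hS' : ∀ q, q ∉ S' → q ≠ z → q ≠ Fin.rev z → (mt g1 *ᵥ v) q = 0 := by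
      intro q hq hqz hql
      by_cases hqb : q = b
      · rw [hqb]; exact hgb
      · rw [hgq q hqb hqz]
        apply hS q _ hqz hql
        intro hmem
        rcases Finset.mem_insert.1 hmem with e | e
        · exact hqb e
        · exact hq e
    obtain ⟨g2, hg2, hfix2, h2a, h2b⟩ := ih hblock' (mt g1 *ᵥ v) hlast' hS'
    refine ⟨g2 * g1, (bor n φ).mul_mem hg2 hg1, ?_, ?_, ?_⟩
    · intro q hq
      rw [mt_mul, ← Matrix.mulVec_mulVec, hfix1 q hq, hfix2 q hq]
    · intro q hqz hql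
      rw [mt_mul, ← Matrix.mulVec_mulVec]
      exact h2a q hqz hql
    · rw [mt_mul, ← Matrix.mulVec_mulVec]
      exact h2b

/-! ### phase 3, first half -/

theorem gr_phase3a (z : Fin n) (hzlt : z < Fin.rev z) (hφφ : ∀ x, φ (φ x) = x)
    (w : Fin n → F) (hw : ∀ b, b ≠ z → b ≠ Fin.rev z → w b = 0) (hlast : w (Fin.rev z) ≠ 0)
    (hiso : gaForm φ w = 0) :
    ∃ g ∈ bor n φ, (∀ q, q ≠ Fin.rev z → mt g *ᵥ (ev q : Fin n → F) = ev q) ∧
      mt g *ᵥ w = w (Fin.rev z) • (ev (Fin.rev z) : Fin n → F) := by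
  have hz : z ≠ Fin.rev z := ne_of_lt hzlt
  have hsum : gaForm φ w = w z * φ (w (Fin.rev z)) + w (Fin.rev z) * φ (w z) := by
    unfold gaForm
    rw [Finset.sum_eq_add z (Fin.rev z) hz]
    · rw [Fin.rev_rev]
    · intro q _ hq
      rw [hw q hq.1 hq.2, zero_mul]
    · intro h; exact absurd (Finset.mem_univ _) h
    · intro h; exact absurd (Finset.mem_univ _) h
  obtain ⟨t, ht⟩ : ∃ t : F, t = -(w z / w (Fin.rev z)) := ⟨_, rfl⟩
  have hφlast : φ (w (Fin.rev z)) ≠ 0 := ga_phi_ne_zero hφφ hlast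
  have htt : t + φ t = 0 := by
    rw [ht, map_neg, map_div₀]
    rw [hsum] at hiso
    field_simp
    linear_combination -hiso
  have hLm := Lm_mem_bor (φ := φ) hz hzlt htt
  refine ⟨Lm φ z t, hLm, ?_, ?_⟩
  · intro q hq
    exact Lm_ev_of_ne hz htt hq
  · rw [Lm_mulVec hz htt]
    funext q
    simp only [Pi.add_apply, Pi.smul_apply, smul_eq_mul]
    by_cases hqz : q = z
    · rw [hqz, ev_self, ev_ne hz.symm, ht]
      field_simp
      ring
    by_cases hql : q = Fin.rev z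
    · rw [hql, ev_self, ev_ne hz]
      ring
    · rw [hw q hqz hql, ev_ne (fun e => hqz e.symm), ev_ne (fun e => hql e.symm)]
      ring

/-- phases 2 and 3a -/
theorem gr_core (hφφ : ∀ x, φ (φ x) = x) (z : Fin n) (hzlt : z < Fin.rev z)
    (htr : ∀ r : F, φ r = r → ∃ s : F, s + φ s = r) (v : Fin n → F)
    (hlast : v (Fin.rev z) ≠ 0) (hout : ∀ q, (q < z ∨ Fin.rev z < q) → v q = 0)
    (hiso : gaForm φ v = 0) :
    ∃ g ∈ bor n φ, (∀ q, (q ≤ z ∨ Fin.rev z < q) → mt g *ᵥ (ev q : Fin n → F) = ev q) ∧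
      ∃ β : F, β ≠ 0 ∧ mt g *ᵥ v = β • (ev (Fin.rev z) : Fin n → F) := by
  have hz : z ≠ Fin.rev z := ne_of_lt hzlt
  obtain ⟨g1, hg1, hfix1, h1a, h1b⟩ := gr_phase2 hφφ z hz htr
    (Finset.univ.filter (fun b => z < b ∧ b < Fin.rev z))
    (fun b hb => (Finset.mem_filter.1 hb).2) v hlast (by
      intro b hb hbz hbl
      apply hout
      have hb' : ¬ (z < b ∧ b < Fin.rev z) := fun h => hb (Finset.mem_filter.2 ⟨Finset.mem_univ _, h⟩)
      by_cases h1 : z < b
      · right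
        have h2 : ¬ b < Fin.rev z := fun h => hb' ⟨h1, h⟩
        exact lt_of_le_of_ne (not_lt.1 h2) (Ne.symm hbl)
      · left
        exact lt_of_le_of_ne (not_lt.1 h1) hbz)
  have hiso' : gaForm φ (mt g1 *ᵥ v) = 0 := by rw [ga_form_mulVec]; exact hiso
  obtain ⟨g2, hg2, hfix2, h2⟩ := gr_phase3a z hzlt hφφ _ h1a h1b hiso'
  refine ⟨g2 * g1, (bor n φ).mul_mem hg2 hg1, ?_, (mt g1 *ᵥ v) (Fin.rev z), h1b, ?_⟩
  · intro q hq
    have hql : q ≠ Fin.rev z := by
      rcases hq with h | h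
      · exact ne_of_lt (lt_of_le_of_lt h hzlt)
      · exact ne_of_gt h
    rw [mt_mul, ← Matrix.mulVec_mulVec, hfix1 q hq, hfix2 q hql]
  · rw [mt_mul, ← Matrix.mulVec_mulVec]
    exact h2

/-! ### the induction -/

/-- the eigen-condition at level `k` -/
def grLev (k : ℕ) (g : WSU n φ) : Prop :=
  ∀ q : Fin n, (q.val < k ∨ (Fin.rev q).val < k) → grEig g q

theorem gr_step (hφφ : ∀ x, φ (φ x) = x)
    (htr : ∀ r : F, φ r = r → ∃ s : F, s + φ s = r)
    (hsw : ∀ z : Fin n, z ≠ Fin.rev z → ∃ N : WSU n φ, IsMon (mt N) (piL z))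
    (k : ℕ) (hk : 2 * (k + 1) ≤ n) (g : WSU n φ) (hg : grLev k g) :
    ∃ h ∈ bor n φ ⊔ mon n φ, grLev (k + 1) (h * g) := by
  obtain ⟨z, hzdef⟩ : ∃ z : Fin n, z = ⟨k, by omega⟩ := ⟨_, rfl⟩
  have hzv : z.val = k := by rw [hzdef]
  have hrzv : (Fin.rev z).val = n - 1 - k := by rw [Fin.val_rev, hzv]; omega
  have hzlt : z < Fin.rev z := by rw [Fin.lt_def, hrzv, hzv]; omega
  have hz : z ≠ Fin.rev z := ne_of_lt hzlt
  have hz' : Fin.rev z ≠ Fin.rev (Fin.rev z) := by rw [Fin.rev_rev]; exact hz.symm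
  obtain ⟨Nz, hNz⟩ := hsw z hz
  have hout_iff : ∀ q : Fin n, (q < z ∨ Fin.rev z < q) ↔ (q.val < k ∨ (Fin.rev q).val < k) := by
    intro q
    rw [Fin.lt_def, Fin.lt_def, hrzv, hzv, Fin.val_rev]
    have := q.2
    constructor
    · intro h; omega
    · intro h; omega
  have hOrev : ∀ q : Fin n, (q < z ∨ Fin.rev z < q) → (Fin.rev q < z ∨ Fin.rev z < Fin.rev q) := by
    intro q hq
    rcases hq with h | h
    · right
      exact Fin.rev_lt_rev.2 h
    · left
      have := Fin.rev_lt_rev.2 h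
      rwa [Fin.rev_rev] at this
  have hOz : ∀ q : Fin n, (q < z ∨ Fin.rev z < q) → q ≠ z := by
    intro q hq
    rcases hq with h | h
    · exact ne_of_lt h
    · exact ne_of_gt (lt_trans hzlt h)
  have hOl : ∀ q : Fin n, (q < z ∨ Fin.rev z < q) → q ≠ Fin.rev z := by
    intro q hq
    rcases hq with h | h
    · exact ne_of_lt (lt_trans h hzlt)
    · exact ne_of_gt h
  have hOle : ∀ q : Fin n, (q < z ∨ Fin.rev z < q) → (q ≤ z ∨ Fin.rev z < q) := by
    intro q hq
    rcases hq with h | h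
    · exact Or.inl (le_of_lt h)
    · exact Or.inr h
  -- vanishing of the outer entries of the columns
  have hvan : ∀ h : WSU n φ, (∀ q, (q < z ∨ Fin.rev z < q) → grEig h q) → ∀ y q : Fin n,
      (q < z ∨ Fin.rev z < q) → q ≠ y → (mt h *ᵥ (ev y : Fin n → F)) q = 0 := by
    intro h hh y q hq hqy
    rw [mulVec_ev]
    exact gr_row (hh (Fin.rev q) (hOrev q hq)) y hqy.symm
  have hgO : ∀ q, (q < z ∨ Fin.rev z < q) → grEig g q := fun q hq => hg q ((hout_iff q).1 hq)
  -- phase 1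
  obtain ⟨g0, hg0mon, hg0E, hg0⟩ := gr_phase1 hφφ z hzlt Nz hNz (mt g *ᵥ (ev z : Fin n → F))
    (gr_col_ne_zero g z) (gr_col_iso g hz) (fun q hq => hvan g hgO z q hq (hOz q hq))
  have hE1 : ∀ q, (q < z ∨ Fin.rev z < q) → grEig (g0 * g) q :=
    fun q hq => grEig_mul (hg0E q hq) (hgO q hq)
  have hv1 : mt g0 *ᵥ (mt g *ᵥ (ev z : Fin n → F)) = mt (g0 * g) *ᵥ ev z := by
    rw [mt_mul, ← Matrix.mulVec_mulVec]
  rw [hv1] at hg0
  -- phases 2, 3a
  obtain ⟨g1, hg1B, hg1fix, β, hβ, hg1v⟩ := gr_core hφφ z hzlt htr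
    (mt (g0 * g) *ᵥ (ev z : Fin n → F)) hg0
    (fun q hq => hvan (g0 * g) hE1 z q hq (hOz q hq)) (gr_col_iso (g0 * g) hz)
  -- the swap
  have hNl : mt Nz *ᵥ (ev (Fin.rev z) : Fin n → F) = mt Nz z (Fin.rev z) • ev z := by
    have h := gr_mon_ev hNz (Fin.rev z)
    have e1 : piL z (Fin.rev z) = z := Equiv.swap_apply_right _ _
    rw [e1] at h
    exact h
  have hNO : ∀ q, (q < z ∨ Fin.rev z < q) → grEig Nz q := by
    intro q hq
    apply grEig_mon hNz
    unfold piL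
    exact Equiv.swap_apply_of_ne_of_ne (hOz q hq) (hOl q hq)
  have hE2 : ∀ q, (q < z ∨ Fin.rev z < q) → grEig (Nz * (g1 * (g0 * g))) q :=
    fun q hq => grEig_mul (hNO q hq)
      (grEig_mul (grEig_of_fix (hg1fix q (hOle q hq))) (hE1 q hq))
  have hzE : mt (Nz * (g1 * (g0 * g))) *ᵥ (ev z : Fin n → F) =
      (β * mt Nz z (Fin.rev z)) • ev z := by
    rw [mt_mul, ← Matrix.mulVec_mulVec, mt_mul, ← Matrix.mulVec_mulVec, hg1v,
      Matrix.mulVec_smul, hNl, smul_smul]
  obtain ⟨g'', hg''⟩ : ∃ g'' : WSU n φ, g'' = Nz * (g1 * (g0 * g)) := ⟨_, rfl⟩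
  rw [← hg''] at hE2 hzE
  -- the column `rev z`
  have hrow := (gb_col_row z g'' _ hzE).2
  have hwl : mt g'' (Fin.rev z) (Fin.rev z) ≠ 0 := by
    intro h0
    have h1 := congrFun (congrFun (mt_mul_inv g'') (Fin.rev z)) (Fin.rev z)
    rw [Matrix.mul_apply, Matrix.one_apply_eq, Finset.sum_eq_zero] at h1
    · exact zero_ne_one h1
    · intro q _
      by_cases hq : q = Fin.rev z
      · rw [hq, h0, zero_mul]
      · rw [hrow q hq, zero_mul]
  have hwl' : (mt g'' *ᵥ (ev (Fin.rev z) : Fin n → F)) (Fin.rev z) ≠ 0 := by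
    rw [mulVec_ev]
    exact hwl
  obtain ⟨g2, hg2B, hg2fix, β', hβ', hg2w⟩ := gr_core hφφ z hzlt htr
    (mt g'' *ᵥ (ev (Fin.rev z) : Fin n → F)) hwl'
    (fun q hq => hvan g'' hE2 (Fin.rev z) q hq (hOl q hq)) (gr_col_iso g'' hz')
  refine ⟨g2 * (Nz * (g1 * g0)), ?_, ?_⟩
  · apply Subgroup.mul_mem _ (Subgroup.mem_sup_left hg2B)
    apply Subgroup.mul_mem _ (Subgroup.mem_sup_right (show Nz ∈ mon n φ from ⟨_, hNz⟩))
    exact Subgroup.mul_mem _ (Subgroup.mem_sup_left hg1B) (Subgroup.mem_sup_right hg0mon)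
  · have e : g2 * (Nz * (g1 * g0)) * g = g2 * g'' := by
      rw [hg'']
      simp only [mul_assoc]
    rw [e]
    intro q hq
    by_cases hO : q < z ∨ Fin.rev z < q
    · exact grEig_mul (grEig_of_fix (hg2fix q (hOle q hO))) (hE2 q hO)
    by_cases hqz : q = z
    · rw [hqz]
      exact grEig_mul (grEig_of_fix (hg2fix z (Or.inl le_rfl))) ⟨_, hzE⟩
    · have hql : q = Fin.rev z := by
        apply Fin.ext
        rw [hrzv]
        rw [Fin.lt_def, Fin.lt_def, hrzv, hzv] at hO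
        rw [Fin.val_rev] at hq
        have h1 : q.val ≠ k := fun e => hqz (Fin.ext (by rw [e, hzv]))
        have := q.2
        omega
      rw [hql]
      refine ⟨β', ?_⟩
      rw [mt_mul, ← Matrix.mulVec_mulVec]
      exact hg2w

theorem gr_lev (hφφ : ∀ x, φ (φ x) = x)
    (htr : ∀ r : F, φ r = r → ∃ s : F, s + φ s = r)
    (hsw : ∀ z : Fin n, z ≠ Fin.rev z → ∃ N : WSU n φ, IsMon (mt N) (piL z)) :
    ∀ k : ℕ, 2 * k ≤ n → ∀ g : WSU n φ, ∃ h ∈ bor n φ ⊔ mon n φ, grLev k (h * g) := by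
  intro k
  induction k with
  | zero =>
    intro _ g
    refine ⟨1, Subgroup.one_mem _, ?_⟩
    intro q hq
    rcases hq with h | h
    · exact absurd h (Nat.not_lt_zero _)
    · exact absurd h (Nat.not_lt_zero _)
  | succ k ih =>
    intro hk g
    obtain ⟨h, hh, hl⟩ := ih (by omega) g
    obtain ⟨h', hh', hl'⟩ := gr_step hφφ htr hsw k hk (h * g) hl
    refine ⟨h' * h, Subgroup.mul_mem _ hh' hh, ?_⟩
    rw [mul_assoc]
    exact hl'

theorem gr_final (k : ℕ) (h2 : n ≤ 2 * k + 1) (g : WSU n φ) (hg : grLev k g) :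
    g ∈ bor n φ := by
  intro a b hab
  by_cases hb : b.val < k ∨ (Fin.rev b).val < k
  · exact gr_col (hg b hb) a (ne_of_gt hab)
  · have ha : (Fin.rev a).val < k := by
      rw [Fin.val_rev] at hb ⊢
      have h3 := Fin.lt_def.1 hab
      have h4 := a.2
      omega
    have hE : grEig g (Fin.rev a) := hg (Fin.rev a) (Or.inl ha)
    exact gr_row hE b (ne_of_lt hab)

/-- **GENR** -/
theorem sup_eq_top_of_swaps (hφφ : ∀ x, φ (φ x) = x)
    (htr : ∀ r : F, φ r = r → ∃ s : F, s + φ s = r)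
    (hsw : ∀ z : Fin n, z ≠ Fin.rev z → ∃ N : WSU n φ, IsMon (mt N) (piL z)) :
    bor n φ ⊔ mon n φ = ⊤ := by
  rw [eq_top_iff]
  intro g _
  obtain ⟨h, hh, hl⟩ := gr_lev hφφ htr hsw (n / 2) (by omega) g
  have hb : h * g ∈ bor n φ := gr_final (n / 2) (by omega) (h * g) hl
  have e : g = h⁻¹ * (h * g) := by group
  rw [e]
  exact Subgroup.mul_mem _ (Subgroup.inv_mem _ hh) (Subgroup.mem_sup_left hb)

end Cfsg.Agent.Helper13.SoP
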