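import Mathlib
import Cfsg.Agent.Lib.Helper6.UniDefs
import Cfsg.Agent.Lib.Helper13.SylOSP

/-!
# S2316 (Steinberg's count for `Sp_{2m}(q)`): definitions and the block combinatorics (helper16)

The positions `0, …, 2m-1` (`key`) of the signed indices are cut into blocks by a set `A` of simple
reflections: the positions `k, k+1` are *linked* when the simple reflection exchanging them lies in `A`.
`blk A a b`: `a` and `b` lie in the same block.  `BlkId A x`: the diagonal blocks of `x` are identity matrices.
-/

set_option autoImplicit false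
set_option linter.unusedSectionVars false
set_option linter.unusedVariables false

namespace Cfsg.Agent.Helper16.SpU

open Matrix Cfsg.Agent.Helper6.SpN Cfsg.Agent.Helper13.SpBN

variable {m : ℕ}

/-- the index of the simple reflection exchanging the positions `k` and `k+1` -/
def lidx (m k : ℕ) : ℕ := if k < m then k else 2 * m - 2 - k

/-- the positions `k` and `k+1` are linked by a simple reflection of `A` -/
def lnk (A : Set (Fin m)) (k : ℕ) : Prop := k + 1 < 2 * m ∧ ∃ i ∈ A, (i : ℕ) = lidx m k

/-- `a` and `b` lie in the same block -/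
def blk (A : Set (Fin m)) (a b : Fin m ⊕ Fin m) : Prop :=
  ∀ j, min (key a) (key b) ≤ j → j < max (key a) (key b) → lnk A j

/-- the diagonal blocks are identity matrices -/
def BlkId {F : Type*} [Field F] (A : Set (Fin m)) (x : symplecticGroup (Fin m) F) : Prop :=
  ∀ c d, blk A c d → x.1 c d = (1 : Matrix (Fin m ⊕ Fin m) (Fin m ⊕ Fin m) F) c d

/-- the set of indices of a set of distinguished generators of `spBN` -/
def idxSet {F : Type*} [Field F] (A : Set ↥(spBN m F).S) : Set (Fin m) :=
  {i | ∃ s ∈ A, (s : symplecticGroup (Fin m) F) = sr i}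

variable (A : Set (Fin m))

theorem blk_refl (a : Fin m ⊕ Fin m) : blk A a a := by
  intro j h1 h2
  rw [min_self] at h1
  rw [max_self] at h2
  omega

theorem blk_symm {a b : Fin m ⊕ Fin m} (h : blk A a b) : blk A b a := by
  intro j h1 h2
  rw [min_comm] at h1
  rw [max_comm] at h2
  exact h j h1 h2

theorem blk_trans {a b c : Fin m ⊕ Fin m} (h1 : blk A a b) (h2 : blk A b c) : blk A a c := by
  intro j hj1 hj2
  by_cases hab : min (key a) (key b) ≤ j ∧ j < max (key a) (key b)
  · exact h1 j hab.1 hab.2
  · apply h2 j
    · rcases le_total (key a) (key b) with h | h <;> rcases le_total (key b) (key c) with h' | h' <;>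
        rcases le_total (key a) (key c) with h'' | h'' <;>
        simp only [min_def, max_def] at * <;> split_ifs at * <;> omega
    · rcases le_total (key a) (key b) with h | h <;> rcases le_total (key b) (key c) with h' | h' <;>
        rcases le_total (key a) (key c) with h'' | h'' <;>
        simp only [min_def, max_def] at * <;> split_ifs at * <;> omega

/-- blocks are intervals -/
theorem blk_of_between {c d e f : Fin m ⊕ Fin m} (h : blk A c d) (h1 : key c ≤ key e)
    (h2 : key e ≤ key f) (h3 : key f ≤ key d) : blk A e f := by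
  intro j hj1 hj2
  apply h j
  · rw [min_eq_left h2] at hj1
    rw [min_eq_left (by omega)]
    omega
  · rw [max_eq_right h2] at hj2
    rw [max_eq_right (by omega)]
    omega

/-- distinct blocks are ordered -/
theorem key_lt_of_not_blk {c d c' d' : Fin m ⊕ Fin m} (h : ¬ blk A c d) (hcd : key c < key d)
    (hc : blk A c c') (hd : blk A d d') : key c' < key d' := by
  unfold blk at h
  push Not at h
  obtain ⟨j, hj1, hj2, hj3⟩ := h
  rw [min_eq_left hcd.le] at hj1
  rw [max_eq_right hcd.le] at hj2
  have h1 : key c' ≤ j := by
    by_contra hlt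
    apply hj3
    apply hc j
    · rw [min_eq_left (by omega)]; exact hj1
    · rw [max_eq_right (by omega)]; omega
  have h2 : j < key d' := by
    by_contra hlt
    apply hj3
    apply hd j
    · rw [min_eq_right (by omega)]; omega
    · rw [max_eq_left (by omega)]; exact hj2
  omega

theorem blk_mono {A A' : Set (Fin m)} (hA : A ⊆ A') {a b : Fin m ⊕ Fin m} (h : blk A a b) :
    blk A' a b := by
  intro j h1 h2
  obtain ⟨h3, i, hi, hij⟩ := h j h1 h2
  exact ⟨h3, i, hA hi, hij⟩

/-- if every simple reflection is in `A` there is only one block -/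
theorem blk_univ (a b : Fin m ⊕ Fin m) : blk (Set.univ : Set (Fin m)) a b := by
  intro j h1 h2
  have ha := key_lt a
  have hb := key_lt b
  have hj : j + 1 < 2 * m := by
    rcases le_total (key a) (key b) with h | h
    · rw [max_eq_right h] at h2; omega
    · rw [max_eq_left h] at h2; omega
  refine ⟨hj, ⟨lidx m j, ?_⟩, Set.mem_univ _, rfl⟩
  unfold lidx
  split_ifs <;> omega

/-- adjacent linked positions are in the same block -/
theorem blk_of_lnk {a b : Fin m ⊕ Fin m} (hab : key b = key a + 1) (h : lnk A (key a)) :
    blk A a b := by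
  intro j h1 h2
  rw [min_eq_left (by omega)] at h1
  rw [max_eq_right (by omega)] at h2
  have : j = key a := by omega
  rw [this]
  exact h

/-- every position is the key of a signed index -/
theorem exists_key_eq {k : ℕ} (hk : k < 2 * m) : ∃ a : Fin m ⊕ Fin m, key a = k := by
  by_cases h : k < m
  · exact ⟨Sum.inl ⟨k, h⟩, rfl⟩
  · refine ⟨Sum.inr ⟨2 * m - 1 - k, by omega⟩, ?_⟩
    rw [key_inr]
    show 2 * m - 1 - (2 * m - 1 - k) = k
    omega

/-- a block-preserving permutation preserves the order of distinct blocks -/
theorem rev_lt_of_not_blk (ρ : Equiv.Perm (Fin m ⊕ Fin m)) (hblk : ∀ a, blk A a (ρ a))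
    {c d : Fin m ⊕ Fin m} (hcd : ¬ blk A c d) (hlt : key c < key d) : key (ρ c) < key (ρ d) :=
  key_lt_of_not_blk A hcd hlt (hblk c) (hblk d)

/-- an upper triangular matrix with identity diagonal blocks is unipotent -/
theorem mem_unipSp_of_blkId {F : Type*} [Field F] {x : symplecticGroup (Fin m) F}
    (hx : x ∈ bor m F) (hx' : BlkId A x) : x ∈ Cfsg.Agent.Helper13.SylO.unipSp m F := by
  refine ⟨hx, fun i => ?_⟩
  rw [hx' _ _ (blk_refl A _), Matrix.one_apply_eq]

end Cfsg.Agent.Helper16.SpU
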