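import Mathlib
import Cfsg.Agent.Lib.Helper16.BG147H
import Cfsg.Agent.Lib.Helper1.HallConj
import Cfsg.Agent.Lib.Helper7.BG16a
import Cfsg.Agent.Lib.Lead.BGThmC2

/-!
BG Theorem 14.7 corollary (S1371): the `M`-conjugates of `Ẑ` form `A₀(M) ∖ A(M)`, a TI-subset.
-/

set_option autoImplicit false

namespace Cfsg.Agent.Helper16.BG147

open Cfsg Subgroup
open Cfsg.Agent.Helper10 (IsPiNum)
open scoped Pointwise

variable {G : Type*} [Group G] [Finite G]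

/-- in a solvable subgroup `M`, an element of `M` whose order is a `π`-number is `M`-conjugate
into any Hall `π`-subgroup of `M` -/
theorem exists_conj_mem_of_piHall {π : Set ℕ} {K M : Subgroup G} (hsol : Group.IsSolvable ↥M)
    (hK : IsPiHallOf π K M) {x : G} (hx : x ∈ M) (hxo : IsPiNum π (orderOf x)) :
    ∃ m ∈ M, m * x * m⁻¹ ∈ K := by
  have := hsol
  set m := Nat.card K with hm
  set n := K.relIndex M with hn
  have hcard : Nat.card ↥M = m * n := Cfsg.Agent.Lead.BGThmC2.card_eq_mul_relIndex hK.1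
  have hmn : m.Coprime n := by
    apply Nat.coprime_of_dvd
    intro p hp hpm hpn
    exact hK.2.2 p hp (hK.2.1 p hp hpm) hpn
  let x' : ↥M := ⟨x, hx⟩
  have hxo' : orderOf x' = orderOf x := Subgroup.orderOf_mk x hx
  have hY : (Nat.card ↥(zpowers x')).Coprime n := by
    rw [Nat.card_zpowers, hxo']
    apply Nat.coprime_of_dvd
    intro p hp hpm hpn
    exact hK.2.2 p hp (hxo p hp hpm) hpn
  obtain ⟨H₁, hH₁, hYH₁⟩ := Cfsg.Agent.Helper1.hall_contain m n hcard hmn (zpowers x') hY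
  have hK' : Nat.card ↥(K.subgroupOf M) = m :=
    Nat.card_congr (Subgroup.subgroupOfEquivOfLe hK.1).toEquiv
  obtain ⟨g, hg⟩ := Cfsg.Agent.Helper1.hall_conj m n hcard hmn H₁ (K.subgroupOf M) hH₁ hK'
  refine ⟨g, g.2, ?_⟩
  have h1 : g * x' * g⁻¹ ∈ K.subgroupOf M := by
    rw [← hg]
    exact ⟨x', hYH₁ (mem_zpowers x'), rfl⟩
  exact Subgroup.mem_subgroupOf.mp h1


/-- `K ∩ U M_σ = 1` in a standard factorisation -/
theorem K_inf_sup_sigmaCore {M K U : Subgroup G} (hKU : IsSigmaDecomposition M K U) :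
    K ⊓ (U ⊔ sigmaCore M) = ⊥ := by
  rw [← disjoint_iff]
  apply Subgroup.disjoint_of_coprime_natCard
  have h1 : Nat.card ↥(sigmaCore M ⊔ U) ∣ Nat.card ↥(sigmaCore M) * Nat.card U :=
    Cfsg.Agent.Helper7.card_sup_dvd_mul_of_le_normalizer
      (hKU.compl.1.trans (le_normalizer_sigmaCore M))
  rw [sup_comm] at h1
  apply Nat.Coprime.coprime_dvd_right h1
  apply Nat.Coprime.mul_right
  · exact coprime_of_isPiNum (kappa_not_sigma M) hKU.hall.2.1 (card_sigmaCore M)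
  · apply Nat.coprime_of_dvd
    intro p hp hpK hpU
    exact Cfsg.Agent.Lead.BGThmC2.not_mem_kappa_of_dvd_card M K U hKU hp hpU
      (hKU.hall.2.1 p hp hpK)

/-- an element of `M` of order prime to `|K|` lies in `U M_σ` -/
theorem mem_sup_sigmaCore_of_pow {M K U : Subgroup G} (hKU : IsSigmaDecomposition M K U)
    {a : G} (ha : a ∈ M) {n : ℕ} (hn : n.Coprime (Nat.card K)) (han : a ^ n = 1) :
    a ∈ U ⊔ sigmaCore M := by
  have hNM : U ⊔ sigmaCore M ≤ M := sup_le hKU.compl.1 (sigmaCore_le M)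
  have hNn := Cfsg.Agent.Helper7.BG16.le_normalizer_sup_sigmaCore hKU
  have : ((U ⊔ sigmaCore M).subgroupOf M).Normal :=
    (Subgroup.normal_subgroupOf_iff_le_normalizer hNM).mpr hNn
  let f : K →* ↥M ⧸ (U ⊔ sigmaCore M).subgroupOf M :=
    (QuotientGroup.mk' ((U ⊔ sigmaCore M).subgroupOf M)).comp (Subgroup.inclusion hKU.hall.1)
  have hsurj : Function.Surjective f := by
    intro q
    obtain ⟨m, rfl⟩ := QuotientGroup.mk'_surjective ((U ⊔ sigmaCore M).subgroupOf M) q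
    obtain ⟨u, hu, b, hb, hmub⟩ := hKU.compl.2.2.2 m m.2
    have hb' : b ∈ ((K : Set G) * (sigmaCore M : Set G)) := by
      rw [← Subgroup.coe_mul_of_left_le_normalizer_right K (sigmaCore M)
        (hKU.hall.1.trans (le_normalizer_sigmaCore M))]
      exact hb
    obtain ⟨k, hk, s, hs, rfl⟩ := Set.mem_mul.mp hb'
    refine ⟨⟨k, hk⟩, ?_⟩
    show QuotientGroup.mk' _ (Subgroup.inclusion hKU.hall.1 ⟨k, hk⟩) = QuotientGroup.mk' _ m
    rw [QuotientGroup.mk'_apply, QuotientGroup.mk'_apply, QuotientGroup.eq,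
      Subgroup.mem_subgroupOf]
    have h1 : k⁻¹ * u * k⁻¹⁻¹ ∈ U :=
      ((Subgroup.mem_set_normalizer_iff).mp (hKU.normal (K.inv_mem hk)) u).mp hu
    have h2 : ((Subgroup.inclusion hKU.hall.1 ⟨k, hk⟩ : ↥M)⁻¹ * m : ↥M) = (k⁻¹ * u * k⁻¹⁻¹) * s := by
      push_cast
      rw [hmub]
      show k⁻¹ * (u * (k * s)) = _
      group
    rw [h2]
    exact mul_mem (mem_sup_left h1) (mem_sup_right hs)
  have hdvd : Nat.card (↥M ⧸ (U ⊔ sigmaCore M).subgroupOf M) ∣ Nat.card K :=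
    Subgroup.card_dvd_of_surjective f hsurj
  have h1 : orderOf (QuotientGroup.mk' ((U ⊔ sigmaCore M).subgroupOf M) ⟨a, ha⟩) ∣ n := by
    apply orderOf_dvd_of_pow_eq_one
    rw [← map_pow]
    have : (⟨a, ha⟩ : ↥M) ^ n = 1 := by
      apply Subtype.ext
      push_cast
      exact han
    rw [this, map_one]
  have h2 : orderOf (QuotientGroup.mk' ((U ⊔ sigmaCore M).subgroupOf M) ⟨a, ha⟩) ∣ Nat.card K :=
    (_root_.orderOf_dvd_natCard _).trans hdvd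
  have h3 : orderOf (QuotientGroup.mk' ((U ⊔ sigmaCore M).subgroupOf M) ⟨a, ha⟩) = 1 :=
    Nat.eq_one_of_dvd_coprimes hn h1 h2
  rw [orderOf_eq_one_iff, QuotientGroup.mk'_apply, QuotientGroup.eq_one_iff,
    Subgroup.mem_subgroupOf] at h3
  exact h3


namespace Ctx

variable {M K Ms : Subgroup G} (c : Ctx M K Ms)
include c

/-- every `M`-conjugate of an element of `Ẑ` lies in `A₀(M) ∖ A(M)` -/
theorem conj_Zh_mem {U : Subgroup G} (hKU : IsSigmaDecomposition M K U) {m z : G} (hm : m ∈ M)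
    (hz : z ∈ Zh M K) : m * z * m⁻¹ ∈ sigmaA0 M K \ sigmaA M U := by
  have hzM : z ∈ M := c.Z_le (Zh_sub hz)
  obtain ⟨k, hk, hk1, y, hy, hy1, rfl⟩ := c.mem_Zh_iff.mp hz
  obtain ⟨e₁, e₂, he⟩ := c.exists_proj
  have haM : m * (k * y) * m⁻¹ ∈ M := M.mul_mem (M.mul_mem hm hzM) (M.inv_mem hm)
  have hhat : m * (k * y) * m⁻¹ ∈ sigmaHat M := by
    refine ⟨haM, m * y * m⁻¹, conj_mem_sigmaCore hm (c.Kst_le_sigmaCore hy), ?_, ?_⟩
    · intro h
      apply hy1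
      have h2 : y = m⁻¹ * (m * y * m⁻¹) * m := by group
      rw [h2, h]; group
    · have hc : (k * y) * y = y * (k * y) :=
        c.Z_comm (k * y) (Zh_sub hz) y (mem_sup_right hy)
      calc m * (k * y) * m⁻¹ * (m * y * m⁻¹) = m * ((k * y) * y) * m⁻¹ := by group
        _ = m * (y * (k * y)) * m⁻¹ := by rw [hc]
        _ = m * y * m⁻¹ * (m * (k * y) * m⁻¹) := by group
  refine ⟨⟨hhat, ?_⟩, ?_⟩
  · rintro ⟨k', hk', hk'1, m', hm', heq⟩
    have h1 := (he k hk y hy).2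
    have h2 := (he k' hk' 1 (one_mem _)).2
    rw [mul_one] at h2
    have h3 : m * y * m⁻¹ = 1 := by
      rw [← h1, ← conj_pow, heq, conj_pow, h2]; group
    apply hy1
    have h4 : y = m⁻¹ * (m * y * m⁻¹) * m := by group
    rw [h4, h3]; group
  · rintro ⟨-, hmem⟩
    have hNn := Cfsg.Agent.Helper7.BG16.le_normalizer_sup_sigmaCore hKU
    have h1 : k * y ∈ U ⊔ sigmaCore M :=
      ((Subgroup.mem_set_normalizer_iff).mp (hNn hm) (k * y)).mpr hmem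
    have h2 : k ∈ U ⊔ sigmaCore M := by
      rw [← (he k hk y hy).1]; exact pow_mem h1 _
    have h3 : k ∈ K ⊓ (U ⊔ sigmaCore M) := Subgroup.mem_inf.mpr ⟨hk, h2⟩
    rw [K_inf_sup_sigmaCore hKU, mem_bot] at h3
    exact hk1 h3


/-- every element of `A₀(M) ∖ A(M)` is an `M`-conjugate of an element of `Ẑ` -/
theorem exists_conj_Zh {U : Subgroup G} (hKU : IsSigmaDecomposition M K U) {a : G}
    (ha : a ∈ sigmaA0 M K \ sigmaA M U) : ∃ m ∈ M, ∃ z ∈ Zh M K, a = m * z * m⁻¹ := by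
  obtain ⟨⟨hhat, hnc⟩, hnA⟩ := ha
  have haM : a ∈ M := hhat.1
  have hnN : a ∉ U ⊔ sigmaCore M := fun h => hnA ⟨hhat, h⟩
  have hcard : Nat.card ↥M = Nat.card K * K.relIndex M :=
    Cfsg.Agent.Lead.BGThmC2.card_eq_mul_relIndex c.K_le
  have hcop : (Nat.card K).Coprime (K.relIndex M) := by
    apply Nat.coprime_of_dvd
    intro p hp hpm hpn
    exact c.hall.2.2 p hp (c.hall.2.1 p hp hpm) hpn
  have hoa : orderOf a ∣ Nat.card K * K.relIndex M := by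
    rw [← hcard]; exact Subgroup.orderOf_dvd_natCard M haM
  let e₁ := Nat.chineseRemainder hcop 1 0
  let e₂ := Nat.chineseRemainder hcop 0 1
  have he₁1 : (e₁ : ℕ) ≡ 1 [MOD Nat.card K] := e₁.2.1
  have he₁2 : (e₁ : ℕ) ≡ 0 [MOD K.relIndex M] := e₁.2.2
  have he₂1 : (e₂ : ℕ) ≡ 0 [MOD Nat.card K] := e₂.2.1
  have he₂2 : (e₂ : ℕ) ≡ 1 [MOD K.relIndex M] := e₂.2.2
  -- `a = a₁ a₂`
  have hsplit : a ^ (e₁ : ℕ) * a ^ (e₂ : ℕ) = a := by
    rw [← pow_add]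
    nth_rewrite 2 [← pow_one a]
    rw [pow_eq_pow_iff_modEq]
    apply Nat.ModEq.of_dvd hoa
    rw [← Nat.modEq_and_modEq_iff_modEq_mul hcop]
    constructor
    · have := he₁1.add he₂1
      simpa using this
    · have := he₁2.add he₂2
      simpa using this
  have ha₁ : (a ^ (e₁ : ℕ)) ^ Nat.card K = 1 := by
    rw [← pow_mul, ← orderOf_dvd_iff_pow_eq_one]
    apply hoa.trans
    rw [mul_comm]
    exact Nat.mul_dvd_mul_right ((Nat.modEq_zero_iff_dvd).1 he₁2) _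
  have ha₂ : (a ^ (e₂ : ℕ)) ^ K.relIndex M = 1 := by
    rw [← pow_mul, ← orderOf_dvd_iff_pow_eq_one]
    apply hoa.trans
    exact Nat.mul_dvd_mul_right ((Nat.modEq_zero_iff_dvd).1 he₂1) _
  have ha₁M : a ^ (e₁ : ℕ) ∈ M := pow_mem haM _
  have ha₂M : a ^ (e₂ : ℕ) ∈ M := pow_mem haM _
  have ha₁1 : a ^ (e₁ : ℕ) ≠ 1 := by
    intro h
    apply hnN
    rw [h, one_mul] at hsplit
    rw [← hsplit]
    exact mem_sup_sigmaCore_of_pow hKU ha₂M hcop.symm ha₂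
  -- conjugate `a₁` into `K`
  have hpi : IsPiNum (kappa M) (orderOf (a ^ (e₁ : ℕ))) := by
    intro p hp hpd
    exact c.hall.2.1 p hp (hpd.trans (orderOf_dvd_of_pow_eq_one ha₁))
  obtain ⟨m, hm, hmK⟩ := exists_conj_mem_of_piHall (c.hG.2.2.2 M c.hM.1) c.hall ha₁M hpi
  have hk1 : m * a ^ (e₁ : ℕ) * m⁻¹ ≠ 1 := by
    intro h
    apply ha₁1
    have h2 : a ^ (e₁ : ℕ) = m⁻¹ * (m * a ^ (e₁ : ℕ) * m⁻¹) * m := by group
    rw [h2, h]; group
  have hbM : m * a ^ (e₂ : ℕ) * m⁻¹ ∈ M := M.mul_mem (M.mul_mem hm ha₂M) (M.inv_mem hm)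
  have hcomm : (a ^ (e₂ : ℕ)) * (a ^ (e₁ : ℕ)) = (a ^ (e₁ : ℕ)) * (a ^ (e₂ : ℕ)) := by
    rw [← pow_add, ← pow_add, add_comm]
  have hbc : m * a ^ (e₂ : ℕ) * m⁻¹ ∈ M ⊓ centralizer ({m * a ^ (e₁ : ℕ) * m⁻¹} : Set G) := by
    refine Subgroup.mem_inf.mpr ⟨hbM, ?_⟩
    rw [mem_centralizer_singleton]
    symm
    calc m * a ^ (e₂ : ℕ) * m⁻¹ * (m * a ^ (e₁ : ℕ) * m⁻¹)
        = m * (a ^ (e₂ : ℕ) * a ^ (e₁ : ℕ)) * m⁻¹ := by group
      _ = m * (a ^ (e₁ : ℕ) * a ^ (e₂ : ℕ)) * m⁻¹ := by rw [hcomm]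
      _ = m * a ^ (e₁ : ℕ) * m⁻¹ * (m * a ^ (e₂ : ℕ) * m⁻¹) := by group
  rw [c.centralizer_inf_K hmK hk1, mem_sup_iff_of_commute K (Kst M K) c.comm_K_Kst] at hbc
  obtain ⟨k', hk', y', hy', hb⟩ := hbc
  obtain ⟨p₁, p₂, hp⟩ := c.exists_proj
  have hk'1 : k' = 1 := by
    have hbn : (m * a ^ (e₂ : ℕ) * m⁻¹) ^ K.relIndex M = 1 := by
      rw [conj_pow, ha₂]; group
    have h1 : k' ^ K.relIndex M = 1 := by
      rw [← (hp k' hk' y' hy').1, ← hb, ← pow_mul, mul_comm, pow_mul, hbn, one_pow]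
    have h2 : k' ^ Nat.card K = 1 := by
      have := pow_card_eq_one' (G := K) (x := ⟨k', hk'⟩)
      exact congrArg Subtype.val this
    have h3 : orderOf k' = 1 :=
      Nat.eq_one_of_dvd_coprimes hcop (orderOf_dvd_of_pow_eq_one h2) (orderOf_dvd_of_pow_eq_one h1)
    exact orderOf_eq_one_iff.mp h3
  rw [hk'1, one_mul] at hb
  have hy'1 : y' ≠ 1 := by
    intro h
    rw [h] at hb
    apply hnc
    refine ⟨m * a ^ (e₁ : ℕ) * m⁻¹, hmK, hk1, m⁻¹, M.inv_mem hm, ?_⟩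
    have h2 : a ^ (e₂ : ℕ) = 1 := by
      have h3 : a ^ (e₂ : ℕ) = m⁻¹ * (m * a ^ (e₂ : ℕ) * m⁻¹) * m := by group
      rw [h3, hb]; group
    rw [h2, mul_one] at hsplit
    rw [hsplit]; group
  refine ⟨m⁻¹, M.inv_mem hm, m * a ^ (e₁ : ℕ) * m⁻¹ * y', ?_, ?_⟩
  · exact c.mem_Zh_iff.mpr ⟨_, hmK, hk1, y', hy', hy'1, rfl⟩
  · rw [← hb]
    nth_rewrite 1 [← hsplit]
    group


/-- the set of `M`-conjugates of `Ẑ` is `A₀(M) ∖ A(M)` -/
theorem conj_Zh_eq {U : Subgroup G} (hKU : IsSigmaDecomposition M K U) :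
    {a : G | ∃ m ∈ M, ∃ z ∈ Zh M K, a = m * z * m⁻¹} = sigmaA0 M K \ sigmaA M U := by
  ext a
  constructor
  · rintro ⟨m, hm, z, hz, rfl⟩
    exact c.conj_Zh_mem hKU hm hz
  · intro ha
    exact c.exists_conj_Zh hKU ha

/-- `A₀(M) ∖ A(M)` is a TI-subset of `G` -/
theorem sigmaA0_diff_isTI {U : Subgroup G} (hKU : IsSigmaDecomposition M K U) :
    IsTISubset (sigmaA0 M K \ sigmaA M U) := by
  intro g hg x hx hgx
  exfalso
  apply hg
  obtain ⟨m, hm, z, hz, rfl⟩ := c.exists_conj_Zh hKU hx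
  obtain ⟨m', hm', z', hz', heq⟩ := c.exists_conj_Zh hKU hgx
  have h1 : (m'⁻¹ * g * m) * z * (m'⁻¹ * g * m)⁻¹ = z' := by
    have : z' = m'⁻¹ * (m' * z' * m'⁻¹) * m' := by group
    rw [this, ← heq]; group
  have h2 : m'⁻¹ * g * m ∈ K ⊔ Kst M K := c.Zh_TI _ z hz (by rw [h1]; exact hz')
  have hgM : g ∈ M := by
    have h3 : g = m' * (m'⁻¹ * g * m) * m⁻¹ := by group
    rw [h3]
    exact M.mul_mem (M.mul_mem hm' (c.Z_le h2)) (M.inv_mem hm)
  apply mem_normalizer_fintype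
  intro n hn
  obtain ⟨m₁, hm₁, z₁, hz₁, rfl⟩ := c.exists_conj_Zh hKU hn
  have h4 : g * (m₁ * z₁ * m₁⁻¹) * g⁻¹ = (g * m₁) * z₁ * (g * m₁)⁻¹ := by group
  rw [h4]
  exact c.conj_Zh_mem hKU (M.mul_mem hgM hm₁) hz₁

end Ctx

/-- S1371 from the frozen statements S1430, S1431, S1432, S1351 (2nd half), S1378 (2nd half),
S1366 -/
theorem main71 (hG : IsMinSimpleOddOrder G) (h30 : St1430 G) (h31 : St1431 G) (h32 : St1432 G)
    (h51 : St1351b G) (h78 : St1378b G) (h66 : St1366 G)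
    (M : Subgroup G) (hM : IsCoatom M) (K U : Subgroup G) (hKU : Cfsg.IsSigmaDecomposition M K U) (hK1 : K ≠ ⊥) :
    {a : G | ∃ m ∈ M, ∃ z ∈ ((↑(K ⊔ (Cfsg.sigmaCore M ⊓ Subgroup.centralizer (K : Set G))) : Set G) \ ((K : Set G) ∪ ↑(Cfsg.sigmaCore M ⊓ Subgroup.centralizer (K : Set G)))), a = m * z * m⁻¹} = Cfsg.sigmaA0 M K \ Cfsg.sigmaA M U ∧
      Cfsg.IsTISubset (Cfsg.sigmaA0 M K \ Cfsg.sigmaA M U) := by
  obtain ⟨Mstar, c⟩ := exists_ctx hG h30 h31 h32 h51 h78 h66 M hM K U hKU hK1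
  exact ⟨c.conj_Zh_eq hKU, c.sigmaA0_diff_isTI hKU⟩

end Cfsg.Agent.Helper16.BG147
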