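import Mathlib
import Cfsg.Agent.Lib.Helper14.BhsDefs

/-! # S2999 piece BHS-FAITH (helper16): `P` is faithful on `W / Z`. -/

set_option autoImplicit false

namespace Cfsg.Agent.Helper14.Bhs

open Pointwise

universe u v

section faithK

variable (P : Type u) [Group P] (W : Type v) [AddCommGroup W] [DistribMulAction P W]

/-- the kernel of the action of `P` on `W / Z`. -/
def bhs_faith_K : Subgroup P where
  carrier := {g | ∀ w : W, cm w g ∈ fix W (⊤ : Subgroup P)}
  one_mem' := fun w => by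
    show cm w (1 : P) ∈ fix W (⊤ : Subgroup P)
    rw [cm_one]; exact (fix W (⊤ : Subgroup P)).zero_mem
  mul_mem' := fun {a c} ha hc w => by
    show cm w (a * c) ∈ fix W (⊤ : Subgroup P)
    rw [cm_mul]
    have h1 := hc w
    have h2 : a • cm w c = cm w c := mem_fix_top.1 h1 a
    rw [h2]; exact (fix W (⊤ : Subgroup P)).add_mem (ha w) h1
  inv_mem' := fun {a} ha w => by
    show cm w a⁻¹ ∈ fix W (⊤ : Subgroup P)
    have h1 := ha w
    have h2 : a⁻¹ • cm w a = cm w a := mem_fix_top.1 h1 a⁻¹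
    have h3 : cm w a⁻¹ = - (a⁻¹ • cm w a) := by
      simp only [cm, smul_sub, inv_smul_smul]; abel
    rw [h3, h2]; exact (fix W (⊤ : Subgroup P)).neg_mem h1

variable {P W}

theorem bhs_faith_mem_K {g : P} :
    g ∈ bhs_faith_K P W ↔ ∀ w : W, cm w g ∈ fix W (⊤ : Subgroup P) := Iff.rfl

theorem bhs_faith_K_normal : (bhs_faith_K P W).Normal := by
  constructor
  intro k hk g w
  show cm w (g * k * g⁻¹) ∈ fix W (⊤ : Subgroup P)
  have h1 : cm w (g * k * g⁻¹) = g • cm (g⁻¹ • w) k := by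
    rw [smul_cm, smul_inv_smul]
  rw [h1]
  have h2 := hk (g⁻¹ • w)
  have h3 : g • cm (g⁻¹ • w) k = cm (g⁻¹ • w) k := mem_fix_top.1 h2 g
  rw [h3]; exact h2

theorem bhs_faith_pow_smul {k : P} (hk : k ∈ bhs_faith_K P W) (w : W) (n : ℕ) :
    (k ^ n) • w = w + n • cm w k := by
  induction n with
  | zero => simp
  | succ n ih =>
    have h1 := hk w
    have h2 : (k ^ n) • cm w k = cm w k := mem_fix_top.1 h1 (k ^ n)
    rw [pow_succ, mul_smul, smul_eq_add_cm w k, smul_add, ih, h2, succ_nsmul]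
    abel

end faithK

section grp3

variable {P : Type u} [Group P] [Finite P] {W : Type v} [AddCommGroup W] [Finite W]
  [DistribMulAction P W] {p : ℕ} [Fact p.Prime] {T : Sylow p P} {M A : Subgroup P}

omit [Finite P] [Finite W] [Fact (Nat.Prime p)] in
theorem bhs_faith_K_isPGroup (h : Hyp W p T M A) : IsPGroup p ↥(bhs_faith_K P W) := by
  intro k
  refine ⟨1, ?_⟩
  have h1 : ((k : P) ^ p) = 1 := by
    apply h.faith
    intro w
    rw [bhs_faith_pow_smul k.2 w p, h.hpW, add_zero]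
  apply Subtype.ext
  simpa using h1

omit [Finite W] in
theorem bhs_faith_K_le (h : Hyp W p T M A) : bhs_faith_K P W ≤ (T : Subgroup P) := by
  have hn : (bhs_faith_K P W).Normal := bhs_faith_K_normal
  obtain ⟨Q, hQ⟩ := (bhs_faith_K_isPGroup h).exists_le_sylow
  obtain ⟨g, hg⟩ := MulAction.exists_smul_eq P Q T
  intro k hk
  have h1 : g⁻¹ * k * g⁻¹⁻¹ ∈ bhs_faith_K P W := hn.conj_mem k hk g⁻¹
  have h2 : g⁻¹ * k * g⁻¹⁻¹ ∈ (Q : Subgroup P) := hQ h1
  have h3 : ((g • Q : Sylow p P) : Subgroup P) = (Q : Subgroup P).map (MulAut.conj g).toMonoidHom := rfl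
  rw [← hg, h3]
  refine ⟨g⁻¹ * k * g⁻¹⁻¹, h2, ?_⟩
  simp only [MulEquiv.coe_toMonoidHom, MulAut.conj_apply]
  group

theorem faithQ (h : Hyp W p T M A) {x : P} (hI : Ideal W A x)
    (hI' : Ideal W (A.map (MulAut.conj x).toMonoidHom) x⁻¹) : FaithQ W P := by
  intro k hk
  have hkK : k ∈ bhs_faith_K P W := hk
  have hn : (bhs_faith_K P W).Normal := bhs_faith_K_normal
  have hKT := bhs_faith_K_le h
  obtain ⟨d₀, hd₀T, hd₀Z⟩ := SetLike.not_le_iff_exists.1 h.hii
  have hd₀D : d₀ ∈ fix W A := fix_anti h.hAT hd₀T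
  -- `k` fixes every `g • d₀`
  have hfix : ∀ g : P, k • (g • d₀) = g • d₀ := by
    intro g
    have h1 : g⁻¹ * k * g⁻¹⁻¹ ∈ bhs_faith_K P W := hn.conj_mem k hkK g⁻¹
    have h2 : (g⁻¹ * k * g⁻¹⁻¹) • d₀ = d₀ := hd₀T _ (hKT h1)
    have h3 : k • (g • d₀) = g • ((g⁻¹ * k * g⁻¹⁻¹) • d₀) := by
      simp only [inv_inv, mul_smul, smul_inv_smul]
    rw [h3, h2]
  have hZfix : ∀ z ∈ fix W (⊤ : Subgroup P), k • z = z := fun z hz => mem_fix_top.1 hz k
  -- rewrite the second ideal configuration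
  obtain ⟨hI1, hI2, hI3, hI4, hI5, hI6⟩ := hI
  obtain ⟨-, -, -, -, -, hI6'⟩ := hI'
  rw [fix_conj, inv_smul_smul] at hI6'
  -- `k` fixes `E = x • D` pointwise
  have hE : ∀ e ∈ x • fix W A, k • e = e := by
    intro e he
    obtain ⟨b, hb, hbz⟩ := hI6' d₀ hd₀D hd₀Z e he
    have h1 : k • cm d₀ b = cm d₀ b := by
      rw [cm_def, smul_sub, hfix b]
      have := hfix 1
      rw [one_smul] at this
      rw [this]
    have h2 := hZfix _ hbz
    rw [smul_sub, h1] at h2
    have h3 : k • e = e := by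
      have h4 : cm d₀ b - k • e = cm d₀ b - e := h2
      exact sub_right_injective h4
    exact h3
  -- `e₀ = x • d₀ ∈ E \ Z`
  have he₀E : x • d₀ ∈ x • fix W A := AddSubgroup.smul_mem_pointwise_smul _ _ _ hd₀D
  have he₀Z : x • d₀ ∉ fix W (⊤ : Subgroup P) := by
    intro hz
    apply hd₀Z
    have h1 : x⁻¹ • (x • d₀) ∈ x⁻¹ • fix W (⊤ : Subgroup P) :=
      AddSubgroup.smul_mem_pointwise_smul _ _ _ hz
    rw [inv_smul_smul, smul_fix_top] at h1
    exact h1
  -- `k` fixes `D` pointwise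
  have hD : ∀ d ∈ fix W A, k • d = d := by
    intro d hd
    obtain ⟨a, ha, haz⟩ := hI6 (x • d₀) he₀E he₀Z d hd
    have h1 : k • cm (x • d₀) a = cm (x • d₀) a := by
      have h5 : k • (a • (x • d₀)) = a • (x • d₀) := by
        have := hfix (a * x)
        rwa [mul_smul] at this
      rw [cm_def, smul_sub, hfix x, h5]
    have h2 := hZfix _ haz
    rw [smul_sub, h1] at h2
    exact sub_right_injective h2
  -- `D ⊔ E = ⊤`
  apply h.faith
  intro w
  have hw : w ∈ fix W A ⊔ x • fix W A := by rw [hI1]; exact AddSubgroup.mem_top w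
  obtain ⟨d, hd, e, he, rfl⟩ := AddSubgroup.mem_sup.1 hw
  rw [smul_add, hD d hd, hE e he]

end grp3

end Cfsg.Agent.Helper14.Bhs
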