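import Mathlib
import Cfsg.Agent.Lib.Helper24.DlSylDefs
import Cfsg.Agent.Lib.Helper24.CharBrauerPerm
import Cfsg.Agent.Lib.Helper24.CharComplete
import Cfsg.Agent.Lib.Helper20.ConjUnion

/-!
# Piece G of S4768 (helper16 for helper24)

A `p`-element fixing every irreducible character of a normal `p'`-subgroup centralizes it
(Brauer's permutation lemma + a fixed point argument; adapted from helper24's S4713).
-/

set_option autoImplicit false
set_option linter.style.haveILetI false

namespace Cfsg.Agent.Helper16.DlSylG

open Cfsg Cfsg.Agent.Helper24 Cfsg.Agent.Helper24.DlSyl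

universe u

variable {p : ℕ} [Fact p.Prime] {G : Type u} [Group G] [Finite G]

/-- the elements of `G` stabilizing every conjugacy class of the normal subgroup `R` -/
def classStab (R : Subgroup G) [hR : R.Normal] : Subgroup G where
  carrier := {g | ∀ n : R, IsConj (MulAut.conjNormal g n) n}
  one_mem' := by
    intro n
    rw [map_one]
    exact IsConj.refl n
  mul_mem' := by
    intro a b ha hb n
    rw [map_mul]
    exact (ha (MulAut.conjNormal b n)).trans (hb n)
  inv_mem' := by
    intro a ha n
    have h1 := ha (MulAut.conjNormal a⁻¹ n)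
    have e : MulAut.conjNormal a (MulAut.conjNormal a⁻¹ n) = n := by
      rw [← MulAut.mul_apply, ← map_mul, mul_inv_cancel, map_one]
      rfl
    rw [e] at h1
    exact h1.symm

/-- If `q` fixes all irreducible characters of the normal subgroup `R`, it fixes every conjugacy
class of `R` (Brauer's permutation lemma). -/
theorem isConj_of_fixes (R : Subgroup G) [hR : R.Normal] (q : G)
    (hfix : ∀ θ : R → ℂ, Cfsg.IsIrrCharacter R θ → ∀ r : R,
      θ ⟨q * r * q⁻¹, hR.conj_mem (r : G) r.2 q⟩ = θ r) (n : R) :
    IsConj (MulAut.conjNormal q n) n := by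
  classical
  letI : Fintype R := Fintype.ofFinite R
  letI : Fintype (IrrCharacter R) := irrFintype
  have h := brauer_permutation (G := R) id (MulAut.conjNormal q : R ≃* R).toEquiv
    (fun a b hab => by
      obtain ⟨c, hc⟩ := isConj_iff.mp hab
      rw [isConj_iff]
      refine ⟨MulAut.conjNormal q c, ?_⟩
      show MulAut.conjNormal q c * MulAut.conjNormal q a * (MulAut.conjNormal q c)⁻¹ =
        MulAut.conjNormal q b
      rw [← map_inv, ← map_mul, ← map_mul, hc])
    (fun θ k => by
      have e : (MulAut.conjNormal q : R ≃* R).toEquiv k =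
          ⟨q * k * q⁻¹, hR.conj_mem (k : G) k.2 q⟩ := Subtype.ext rfl
      rw [e]
      exact hfix θ.1 θ.2 k)
  have hleft : Nat.card {χ : IrrCharacter R // id χ = χ} = Nat.card (ConjClasses R) := by
    rw [← card_irr_eq_card_conjClasses]
    exact Nat.card_congr (Equiv.subtypeUnivEquiv (fun χ => rfl))
  rw [hleft] at h
  by_contra hcon
  have hlt : Fintype.card {c : ConjClasses R // ∀ k : R, ConjClasses.mk k = c →
      ConjClasses.mk ((MulAut.conjNormal q : R ≃* R).toEquiv k) = c} <
      Fintype.card (ConjClasses R) := by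
    apply Fintype.card_subtype_lt (x := ConjClasses.mk n)
    intro hall
    apply hcon
    have := hall n rfl
    rw [ConjClasses.mk_eq_mk_iff_isConj] at this
    exact this
  rw [← Nat.card_eq_fintype_card, ← Nat.card_eq_fintype_card, ← h] at hlt
  exact lt_irrefl _ hlt

/-- A `p`-subgroup `H` fixing every conjugacy class of the normal `p'`-subgroup `N`
centralizes `N`. -/
theorem commute_of_isConj (N H : Subgroup G) [hN : N.Normal] (hNp : (Nat.card N).Coprime p)
    (hH : IsPGroup p H) (hconj : ∀ g ∈ H, ∀ n : N, IsConj (MulAut.conjNormal g n) n) :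
    ∀ n ∈ N, ∀ x ∈ H, x * n = n * x := by
  classical
  have hp : Fact p.Prime := inferInstance
  set C : Subgroup N := (Subgroup.centralizer (H : Set G)).subgroupOf N with hC
  have htop : C = ⊤ := by
    apply Cfsg.Agent.Helper20.eq_top_of_forall_conj_mem
    intro n
    let Ω := {m : N // IsConj m n}
    letI : MulAction H Ω :=
      { smul := fun x m => ⟨MulAut.conjNormal (x : G) m.1, (hconj x x.2 m.1).trans m.2⟩
        one_smul := fun m => by
          apply Subtype.ext
          show MulAut.conjNormal ((1 : H) : G) m.1 = m.1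
          rw [Subgroup.coe_one, map_one]
          rfl
        mul_smul := fun x y m => by
          apply Subtype.ext
          show MulAut.conjNormal ((x * y : H) : G) m.1 =
            MulAut.conjNormal (x : G) (MulAut.conjNormal (y : G) m.1)
          rw [Subgroup.coe_mul, map_mul]
          rfl }
    have hcard : ¬ p ∣ Nat.card Ω := by
      have h1 : Nat.card Ω = (MulAction.orbit (ConjAct N) n).ncard := by
        rw [← Nat.card_coe_set_eq]
        apply Nat.card_congr
        exact Equiv.subtypeEquivRight (fun m => ConjAct.mem_orbit_conjAct.symm)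
      rw [h1, ← MulAction.index_stabilizer]
      intro hdvd
      have h2 : p ∣ Nat.card (ConjAct N) := hdvd.trans (Subgroup.index_dvd_card _)
      have h3 : Nat.card (ConjAct N) = Nat.card N := Nat.card_congr ConjAct.ofConjAct.toEquiv
      rw [h3] at h2
      have := Nat.Coprime.eq_one_of_dvd hNp.symm h2
      exact hp.out.one_lt.ne' this
    obtain ⟨⟨m, hm⟩, hfix⟩ := hH.nonempty_fixed_point_of_prime_not_dvd_card Ω hcard
    obtain ⟨c, hc⟩ := isConj_iff.mp hm
    refine ⟨c, ?_⟩
    have hcm : c⁻¹ * n * c = m := by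
      rw [← hc]
      group
    rw [hcm, hC, Subgroup.mem_subgroupOf, Subgroup.mem_centralizer_iff]
    intro x hx
    have h1 := hfix ⟨x, hx⟩
    have h2 : (MulAut.conjNormal x m : N) = m := congrArg Subtype.val h1
    have h3 : x * (m : G) * x⁻¹ = m := by
      rw [← MulAut.conjNormal_apply]
      exact congrArg Subtype.val h2
    exact mul_inv_eq_iff_eq_mul.mp h3
  intro n hn x hx
  have hmem : (⟨n, hn⟩ : N) ∈ C := by rw [htop]; exact Subgroup.mem_top _
  rw [hC, Subgroup.mem_subgroupOf, Subgroup.mem_centralizer_iff] at hmem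
  exact hmem x hx

/-- **Piece G.** -/
theorem centralizes_of_fixes_irr (R : Subgroup G) [hR : R.Normal] (hRp : (Nat.card R).Coprime p)
    (q : G) (k : ℕ) (hq : q ^ p ^ k = 1)
    (hfix : ∀ θ : R → ℂ, Cfsg.IsIrrCharacter R θ → ∀ r : R,
      θ ⟨q * r * q⁻¹, hR.conj_mem (r : G) r.2 q⟩ = θ r) :
    ∀ r ∈ R, q * r = r * q := by
  have hqS : q ∈ classStab R := fun n => isConj_of_fixes R q hfix n
  have hle : Subgroup.zpowers q ≤ classStab R := Subgroup.zpowers_le.2 hqS
  have hH : IsPGroup p (Subgroup.zpowers q) := by
    rintro ⟨x, hx⟩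
    obtain ⟨j, rfl⟩ := Subgroup.mem_zpowers_iff.1 hx
    refine ⟨k, Subtype.ext ?_⟩
    show (q ^ j) ^ p ^ k = 1
    rw [← zpow_natCast, ← zpow_mul, mul_comm, zpow_mul, zpow_natCast, hq, one_zpow]
  intro r hr
  exact commute_of_isConj (p := p) R (Subgroup.zpowers q) hRp hH (fun g hg n => hle hg n) r hr q
    (Subgroup.mem_zpowers q)

end Cfsg.Agent.Helper16.DlSylG
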