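import Mathlib

/-!
# S3702 (helper16): `[G : H] ≡ 1 mod |J|` from fusion control (Burnside's lemma on `G ⧸ H`)
-/

set_option autoImplicit false

namespace Cfsg.Agent.Helper16.TC648

universe u

open MulAction in
/-- If every `g` with `g⁻¹ j g ∈ H` for some `1 ≠ j ∈ J ≤ H` lies in `H`, then `J` acts on `G ⧸ H` with the
single fixed point `H` and regularly elsewhere: `[G : H] ≡ 1 mod |J|`. -/
theorem index_modEq_one_of_control {G : Type u} [Group G] [Finite G] (H J : Subgroup G) (hJH : J ≤ H)
    (hctl : ∀ j ∈ J, j ≠ 1 → ∀ g : G, g⁻¹ * j * g ∈ H → g ∈ H) :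
    H.index ≡ 1 [MOD Nat.card J] := by
  classical
  have : Fintype G := Fintype.ofFinite G
  have : Fintype (G ⧸ H) := Fintype.ofFinite _
  have : Fintype ↥J := Fintype.ofFinite _
  -- fixed points of `j ≠ 1`
  have hfix : ∀ j : ↥J, j ≠ 1 → fixedBy (G ⧸ H) j = {((1 : G) : G ⧸ H)} := by
    intro j hj
    ext x
    induction x using QuotientGroup.induction_on with
    | H g =>
      rw [mem_fixedBy, Set.mem_singleton_iff]
      have h1 : j • (g : G ⧸ H) = (((j : G) * g : G) : G ⧸ H) := rfl
      rw [h1, QuotientGroup.eq, QuotientGroup.eq]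
      constructor
      · intro h
        have h2 : g⁻¹ * (j : G)⁻¹ * g ∈ H := by
          have e : ((j : G) * g)⁻¹ * g = g⁻¹ * (j : G)⁻¹ * g := by group
          rw [← e]; exact h
        have hj1 : ((j : G))⁻¹ ≠ 1 := by
          intro h3
          apply hj
          ext
          simpa using h3
        have := hctl _ (J.inv_mem j.2) hj1 g h2
        simpa using H.inv_mem this
      · intro h
        have hg : g ∈ H := by simpa using H.inv_mem h
        have : ((j : G) * g)⁻¹ * g = g⁻¹ * ((j : G))⁻¹ * g := by group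
        rw [this]
        exact H.mul_mem (H.mul_mem (H.inv_mem hg) (H.inv_mem (hJH j.2))) hg
  have hburn := sum_card_fixedBy_eq_card_orbits_mul_card_group ↥J (G ⧸ H)
  have h1 : ∑ j : ↥J, Fintype.card (fixedBy (G ⧸ H) j) =
      Fintype.card (G ⧸ H) + (Fintype.card ↥J - 1) := by
    rw [← Finset.sum_erase_add _ _ (Finset.mem_univ (1 : ↥J))]
    have h2 : Fintype.card (fixedBy (G ⧸ H) (1 : ↥J)) = Fintype.card (G ⧸ H) := by
      have : fixedBy (G ⧸ H) (1 : ↥J) = Set.univ := by
        ext x; simp
      rw [Fintype.card_congr (Equiv.setCongr this)]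
      exact Fintype.card_congr (Equiv.Set.univ _)
    have h3 : ∀ j ∈ (Finset.univ : Finset ↥J).erase 1, Fintype.card (fixedBy (G ⧸ H) j) = 1 := by
      intro j hj
      have hj1 : j ≠ 1 := (Finset.mem_erase.1 hj).1
      rw [Fintype.card_congr (Equiv.setCongr (hfix j hj1))]
      simp
    rw [Finset.sum_congr rfl h3, h2]
    simp [Finset.card_erase_of_mem, add_comm]
  rw [h1] at hburn
  have hJpos : 0 < Fintype.card ↥J := Fintype.card_pos
  have hidx : H.index = Fintype.card (G ⧸ H) := by
    rw [Subgroup.index, Nat.card_eq_fintype_card]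
  rw [hidx, Nat.card_eq_fintype_card]
  -- card (G/H) + (|J| - 1) = k * |J|
  set n := Fintype.card ↥J with hn
  set q := Fintype.card (G ⧸ H) with hq
  set k := Fintype.card (Quotient (orbitRel ↥J (G ⧸ H))) with hk
  have hmod : (q + (n - 1)) % n = 0 := by
    rw [hburn]; exact Nat.mul_mod_left k n
  show q % n = 1 % n
  have e : q + (n - 1) + 1 = q + n := by omega
  have : (q + n) % n = (0 + 1) % n := by
    rw [← e, Nat.add_mod, hmod]
    simp
  rw [Nat.add_mod_right] at this
  simpa using this

end Cfsg.Agent.Helper16.TC648
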