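import Mathlib
import Cfsg.Agent.Lib.Helper16.InvCent
import Cfsg.Agent.Lib.Helper16.OddUnique
import Cfsg.Agent.Lib.Helper1.FpfAction

set_option autoImplicit false

namespace Cfsg.Agent.Helper16

open Cfsg

section main

variable {H : Type*} [Group H] [Finite H]

/-- `O_2(H) ≠ 1` in a nontrivial solvable group with `O(H) = 1`. -/
theorem pCore_two_ne_bot_of_ne_one (hsol : Group.IsSolvable H) (hO : pPrimeCore 2 H = ⊥)
    {a : H} (ha : a ≠ 1) : pCore 2 H ≠ ⊥ := by
  have hF : Fact (Nat.Prime 2) := ⟨Nat.prime_two⟩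
  intro hY
  have hCY := centralizer_pCore_le_of_isSolvable 2 hsol hO
  rw [hY] at hCY
  have : a ∈ Subgroup.centralizer (((⊥ : Subgroup H) : Subgroup H) : Set H) := by
    rw [Subgroup.mem_centralizer_iff]
    intro z hz
    rw [SetLike.mem_coe, Subgroup.mem_bot] at hz
    rw [hz, one_mul, mul_one]
  exact ha ((Subgroup.mem_bot).1 (hCY this))

/-- The fixed-point-free action of odd-order elements on `O_2(H)`. -/
theorem pCore_inf_centralizer_eq_bot (hsol : Group.IsSolvable H) (hO : pPrimeCore 2 H = ⊥)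
    (hI : ∀ t : H, orderOf t = 2 →
      Cfsg.HasNormalPComplement 2 ↥(Subgroup.centralizer ({t} : Set H)))
    (x : H) (hx : Odd (orderOf x)) (hx1 : x ≠ 1) :
    pCore 2 H ⊓ Subgroup.centralizer ({x} : Set H) = ⊥ := by
  rw [eq_bot_iff]
  intro y hy
  rw [Subgroup.mem_bot]
  by_contra hy1
  apply hx1
  apply eq_one_of_odd_of_commute_pCore hsol hO hI x hx y hy.1 hy1
  have h2 : y ∈ Subgroup.centralizer ({x} : Set H) := hy.2
  rw [Subgroup.mem_centralizer_iff] at h2
  exact h2 x (Set.mem_singleton x)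

/-- The Sylow subgroups of an odd-order subgroup `X` are cyclic. -/
theorem isCyclic_sylow_of_odd (hsol : Group.IsSolvable H) (hO : pPrimeCore 2 H = ⊥)
    (hI : ∀ t : H, orderOf t = 2 →
      Cfsg.HasNormalPComplement 2 ↥(Subgroup.centralizer ({t} : Set H)))
    (X : Subgroup H) (hXodd : Odd (Nat.card X)) (p : ℕ) [hp : Fact p.Prime] (P : Sylow p ↥X) :
    IsCyclic ↥(P : Subgroup ↥X) := by
  have hXo : ∀ x ∈ X, Odd (orderOf x) := by
    intro x hx
    have h1 : orderOf (⟨x, hx⟩ : X) ∣ Nat.card X := orderOf_dvd_natCard _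
    rw [Subgroup.orderOf_mk] at h1
    exact Odd.of_dvd_nat hXodd h1
  have hPodd : Odd (Nat.card (P : Subgroup ↥X)) :=
    Odd.of_dvd_nat hXodd (Subgroup.card_subgroup_dvd_card _)
  obtain ⟨k, hk⟩ := IsPGroup.iff_card.1 P.2
  rcases Nat.eq_zero_or_pos k with hk0 | hk0
  · rw [hk0, pow_zero] at hk
    have : Subsingleton ↥(P : Subgroup ↥X) := (Nat.card_eq_one_iff_unique.1 hk).1
    exact isCyclic_of_subsingleton
  have hpodd : Odd p := by
    rw [hk] at hPodd
    exact (Nat.odd_pow_iff hk0.ne').1 hPodd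
  apply isCyclic_of_uniqueOrderP_odd hpodd P.2
  intro a b ha hb
  have ha1 : a ≠ 1 := by
    intro h
    rw [h, orderOf_one] at ha
    exact hp.out.one_lt.ne ha
  have haH : ((a : X) : H) ≠ 1 := by
    intro h
    apply ha1
    exact Subtype.ext (Subtype.ext h)
  have hYne := pCore_two_ne_bot_of_ne_one hsol hO haH
  have : (pCore 2 H).Normal := pCore_normal' 2
  -- central element of order p
  have : Nontrivial ↥(P : Subgroup ↥X) := ⟨⟨a, 1, ha1⟩⟩
  have : Nontrivial ↥(Subgroup.center ↥(P : Subgroup ↥X)) := P.2.center_nontrivial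
  have hZp : IsPGroup p ↥(Subgroup.center ↥(P : Subgroup ↥X)) := P.2.to_subgroup _
  have hdvd : p ∣ Nat.card ↥(Subgroup.center ↥(P : Subgroup ↥X)) := by
    obtain ⟨n, hn0, hn⟩ := hZp.nontrivial_iff_card.1 inferInstance
    rw [hn]
    exact dvd_pow_self p hn0.ne'
  obtain ⟨z, hz⟩ := exists_prime_orderOf_dvd_card' (G := ↥(Subgroup.center ↥(P : Subgroup ↥X))) p hdvd
  have hzc : ∀ q : ↥(P : Subgroup ↥X), (z : ↥(P : Subgroup ↥X)) * q = q * z := by
    intro q
    have := z.2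
    rw [Subgroup.mem_center_iff] at this
    exact (this q).symm
  have hzo : orderOf (z : ↥(P : Subgroup ↥X)) = p := by rw [Subgroup.orderOf_coe]; exact hz
  set Q : Subgroup H := ((P : Subgroup ↥X).map X.subtype) with hQ
  have hQX : Q ≤ X := by
    rintro _ ⟨x, -, rfl⟩
    exact x.2
  have hQp : IsPGroup p Q := P.2.map _
  have hmemQ : ∀ q : ↥(P : Subgroup ↥X), ((q : X) : H) ∈ Q := fun q => ⟨(q : X), q.2, rfl⟩
  have hord : ∀ q : ↥(P : Subgroup ↥X), orderOf ((q : X) : H) = orderOf q := by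
    intro q
    rw [Subgroup.orderOf_coe, Subgroup.orderOf_coe]
  have hfpf : ∀ h ∈ X, h ≠ 1 → pCore 2 H ⊓ Subgroup.centralizer {h} = ⊥ := by
    intro h hh hh1
    exact pCore_inf_centralizer_eq_bot hsol hO hI h (hXo h hh) hh1
  have hzcH : ∀ q ∈ Q, (((z : ↥(P : Subgroup ↥X)) : X) : H) * q = q * (((z : ↥(P : Subgroup ↥X)) : X) : H) := by
    rintro _ ⟨x, hx, rfl⟩
    have := hzc ⟨x, hx⟩
    have h2 := congrArg (fun w : ↥(P : Subgroup ↥X) => ((w : X) : H)) this
    simpa using h2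
  have key : ∀ w : ↥(P : Subgroup ↥X), orderOf w = p →
      ((w : X) : H) ∈ Subgroup.zpowers (((z : ↥(P : Subgroup ↥X)) : X) : H) := by
    intro w hw
    exact Cfsg.Agent.Helper1.mem_zpowers_of_fpf hYne hfpf Q hQX hQp (hmemQ z)
      ((hord z).trans hzo) hzcH (hmemQ w) ((hord w).trans hw)
  have lift : ∀ w : ↥(P : Subgroup ↥X), orderOf w = p →
      w ∈ Subgroup.zpowers (z : ↥(P : Subgroup ↥X)) := by
    intro w hw
    obtain ⟨i, hi⟩ := Subgroup.mem_zpowers_iff.1 (key w hw)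
    rw [Subgroup.mem_zpowers_iff]
    refine ⟨i, ?_⟩
    apply Subtype.ext
    apply Subtype.ext
    simpa using hi
  have haz := lift a ha
  have hbz := lift b hb
  have heq : Subgroup.zpowers a = Subgroup.zpowers (z : ↥(P : Subgroup ↥X)) := by
    apply Subgroup.eq_of_le_of_card_ge (Subgroup.zpowers_le.2 haz)
    rw [Nat.card_zpowers, Nat.card_zpowers, ha, hzo]
  rw [heq]
  exact hbz

end main

end Cfsg.Agent.Helper16
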