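import Mathlib
import Cfsg.Agent.Lib.Helper16.UniqueOrderP
import Cfsg.Agent.Lib.Helper16.InvCent

/-!
# Cyclicity criteria (helper16's library)
-/

set_option autoImplicit false

namespace Cfsg.Agent.Helper16

/-- A finite commutative group with at most one subgroup of order `p` for every prime `p` is
cyclic. -/
theorem isCyclic_of_comm_of_forall_uniqueOrderP {G : Type*} [Group G] [Finite G]
    (hc : ∀ a b : G, a * b = b * a) (h : ∀ p : ℕ, p.Prime → UniqueOrderP p G) : IsCyclic G := by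
  letI : CommGroup G := { ‹Group G› with mul_comm := hc }
  apply IsCyclic.of_exponent_eq_card
  apply Nat.dvd_antisymm Group.exponent_dvd_nat_card
  have hexp0 : Monoid.exponent G ≠ 0 := Monoid.exponent_ne_zero_of_finite
  rw [← Nat.factorization_prime_le_iff_dvd Nat.card_pos.ne' hexp0]
  intro p hp
  haveI : Fact p.Prime := ⟨hp⟩
  obtain ⟨P⟩ : Nonempty (Sylow p G) := inferInstance
  have hPc : IsCyclic ↥(P : Subgroup G) :=
    isCyclic_of_comm_of_uniqueOrderP P.2 (fun a b => Subtype.ext (hc a b))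
      ((h p hp).subgroup (P : Subgroup G))
  obtain ⟨g, hg⟩ := IsCyclic.exists_ofOrder_eq_natCard (α := ↥(P : Subgroup G))
  rw [← Subgroup.orderOf_coe, Sylow.card_eq_multiplicity] at hg
  rw [← hp.pow_dvd_iff_le_factorization hexp0, ← hg]
  exact Monoid.order_dvd_exponent _

/-- The automorphism group of a cyclic group is commutative. -/
theorem mulAut_comm_of_isCyclic {F : Type*} [Group F] [IsCyclic F] (φ ψ : MulAut F) :
    φ * ψ = ψ * φ := by
  apply (IsCyclic.mulAutMulEquiv F).injective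
  rw [map_mul, map_mul, mul_comm]

/-- An involution of the quotient by a normal subgroup of odd order lifts to an involution. -/
theorem exists_involution_lift {G : Type*} [Group G] [Finite G] (N : Subgroup G) [N.Normal]
    (hN : Odd (Nat.card N)) (q : G ⧸ N) (hq : orderOf q = 2) :
    ∃ a : G, (a : G ⧸ N) = q ∧ orderOf a = 2 := by
  obtain ⟨a₀, rfl⟩ := QuotientGroup.mk_surjective q
  obtain ⟨i, m, hm, hi⟩ := Nat.exists_eq_two_pow_mul_odd (orderOf_pos a₀).ne'
  have hq2 : ((a₀ : G ⧸ N)) ^ 2 = 1 := by rw [← hq]; exact pow_orderOf_eq_one _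
  have hq1 : ((a₀ : G ⧸ N)) ≠ 1 := by
    intro h
    rw [h, orderOf_one] at hq
    exact absurd hq (by norm_num)
  have hqm : ((a₀ : G ⧸ N)) ^ m = (a₀ : G ⧸ N) := by
    obtain ⟨j, rfl⟩ := hm
    rw [pow_succ, pow_mul, hq2, one_pow, one_mul]
  refine ⟨a₀ ^ m, ?_, ?_⟩
  · rw [QuotientGroup.mk_pow, hqm]
  · have hsq : (a₀ ^ m) ^ 2 = 1 := by
      apply eq_one_of_odd_of_two_pow
      · have hmem : (a₀ ^ m) ^ 2 ∈ N := by
          rw [← QuotientGroup.eq_one_iff, QuotientGroup.mk_pow, QuotientGroup.mk_pow, hqm, hq2]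
        have h1 : orderOf (⟨_, hmem⟩ : N) ∣ Nat.card N := orderOf_dvd_natCard _
        rw [Subgroup.orderOf_mk] at h1
        exact Odd.of_dvd_nat hN h1
      · have h1 : ((a₀ ^ m) ^ 2) ^ (2 ^ i) = 1 := by
          rw [← pow_mul, ← pow_mul]
          have : m * (2 * 2 ^ i) = (2 ^ i * m) * 2 := by ring
          rw [this, pow_mul, ← hi, pow_orderOf_eq_one, one_pow]
        have h2 : orderOf ((a₀ ^ m) ^ 2) ∣ 2 ^ i := orderOf_dvd_of_pow_eq_one h1
        obtain ⟨j, -, hj⟩ := (Nat.dvd_prime_pow Nat.prime_two).1 h2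
        exact ⟨j, hj⟩
    have hne : a₀ ^ m ≠ 1 := by
      intro h
      apply hq1
      rw [← hqm, ← QuotientGroup.mk_pow, h, QuotientGroup.mk_one]
    exact orderOf_eq_prime hsq hne

end Cfsg.Agent.Helper16
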