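import Mathlib
import Cfsg.Prelude.Def_Solvable
import Cfsg.Agent.Lib.Helper7.Fitting2
import Cfsg.Agent.Lib.Helper14.Basic
import Cfsg.Agent.Lib.Helper16.PClosed
import Cfsg.Agent.Lib.Helper16.Solvable2
import Cfsg.Agent.Lib.Helper16.CyclicCrit
import Cfsg.Agent.Lib.Helper20.InvolutionAction
import Cfsg.Agent.Lib.Helper21.FittingSubgroup

/-!
# Solvable groups with `O_2(G) = 1` whose involution centralizers are `2`-groups

If moreover `G` has no odd-order `ℤ_p × ℤ_p` inside a Hall `2'`-subgroup `X`, then `X` is normal and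
`G ⧸ X` is cyclic.  (helper16's library)
-/

set_option autoImplicit false

namespace Cfsg.Agent.Helper16

open Cfsg

section

variable {G : Type*} [Group G] [Finite G]

/-- If `O_2(G) = 1` then the Fitting subgroup has odd order. -/
theorem odd_card_fittingSubgroup_of_pCore_two_eq_bot (h2 : pCore 2 G = ⊥) :
    Odd (Nat.card (fittingSubgroup G)) := by
  have hF2 : Fact (Nat.Prime 2) := ⟨Nat.prime_two⟩
  have hFn : (fittingSubgroup G).Normal := Cfsg.Agent.Helper7.fittingSubgroup_normal'
  have hFnil : Group.IsNilpotent ↥(fittingSubgroup G) :=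
    Cfsg.Agent.Helper7.fittingSubgroup_isNilpotent
  rw [← Nat.not_even_iff_odd, even_iff_two_dvd]
  intro hdvd
  obtain ⟨Q⟩ : Nonempty (Sylow 2 ↥(fittingSubgroup G)) := inferInstance
  have hQn : (Q : Subgroup ↥(fittingSubgroup G)).Normal :=
    Sylow.normal_of_normalizerCondition Group.normalizerCondition_of_isNilpotent Q
  have hQc : (Q : Subgroup ↥(fittingSubgroup G)).Characteristic :=
    Sylow.characteristic_of_normal Q hQn
  have hQG : ((Q : Subgroup ↥(fittingSubgroup G)).map (fittingSubgroup G).subtype).Normal :=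
    ConjAct.normal_of_characteristic_of_normal
  have hle := Cfsg.Agent.Helper14.le_pCore hQG (Q.2.map _)
  rw [h2, le_bot_iff] at hle
  have hQbot : (Q : Subgroup ↥(fittingSubgroup G)) = ⊥ := by
    rw [eq_bot_iff]
    intro x hx
    have : (x : G) ∈ (Q : Subgroup ↥(fittingSubgroup G)).map (fittingSubgroup G).subtype :=
      ⟨x, hx, rfl⟩
    rw [hle, Subgroup.mem_bot] at this
    rw [Subgroup.mem_bot]
    exact Subtype.ext this
  exact Q.ne_bot_of_dvd_card hdvd hQbot

/-- A normal subgroup of odd order lies in every odd-order subgroup of `2`-power index. -/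
theorem le_of_normal_odd_of_index_two_pow (F X : Subgroup G) [F.Normal] (hF : Odd (Nat.card F))
    (hX : ∃ k : ℕ, X.index = 2 ^ k) : F ≤ X := by
  obtain ⟨k, hk⟩ := hX
  rw [← Subgroup.relIndex_eq_one]
  have h1 : X.relIndex F ∣ 2 ^ k :=
    hk ▸ Cfsg.Agent.Helper21.relIndex_dvd_index_of_normal_right X F
  have h2 : X.relIndex F ∣ Nat.card F := Subgroup.relIndex_dvd_card X F
  have h3 : (Nat.card F).Coprime (2 ^ k) :=
    Nat.Coprime.pow_right k (Nat.Coprime.symm (Nat.coprime_two_left.2 hF))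
  exact Nat.eq_one_of_dvd_coprimes h3 h2 h1

/-- The main structure lemma. -/
theorem normal_and_cyclic_quotient_of_odd_hall (hsol : Group.IsSolvable G)
    (h2 : pCore 2 G = ⊥)
    (ha : ∀ e : G, orderOf e = 2 → ∀ d : G, Odd (orderOf d) → d * e = e * d → d = 1)
    (X : Subgroup G) (hXodd : Odd (Nat.card X)) (hXidx : ∃ k : ℕ, X.index = 2 ^ k)
    (hb : ∀ p : ℕ, p.Prime → ∀ x ∈ X, ∀ y ∈ X, orderOf x = p → orderOf y = p → x * y = y * x →
      y ∈ Subgroup.zpowers x) :
    X.Normal ∧ ∀ hN : X.Normal, IsCyclic (G ⧸ X) := by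
  have hF2 : Fact (Nat.Prime 2) := ⟨Nat.prime_two⟩
  set F := fittingSubgroup G with hF
  have hFn : F.Normal := Cfsg.Agent.Helper7.fittingSubgroup_normal'
  have hCF : Subgroup.centralizer (F : Set G) ≤ F :=
    centralizer_fittingSubgroup_le_of_isSolvable hsol
  have hFodd : Odd (Nat.card F) := odd_card_fittingSubgroup_of_pCore_two_eq_bot h2
  have hFX : F ≤ X := le_of_normal_odd_of_index_two_pow F X hFodd hXidx
  have hFo : ∀ x ∈ F, Odd (orderOf x) := by
    intro x hx
    have h1 : orderOf (⟨x, hx⟩ : F) ∣ Nat.card F := orderOf_dvd_natCard _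
    rw [Subgroup.orderOf_mk] at h1
    exact Odd.of_dvd_nat hFodd h1
  -- every involution inverts `F`
  have hinv : ∀ e : G, orderOf e = 2 → ∀ x ∈ F, e * x * e⁻¹ = x⁻¹ := by
    intro e he
    apply Cfsg.Agent.Helper20.inverts_of_fixedPointFree_involution F e
    · rw [← he]; exact pow_orderOf_eq_one e
    · intro x hx
      exact hFn.conj_mem x hx e
    · intro x hx hfix
      apply ha e he x (hFo x hx)
      calc x * e = (e * x * e⁻¹) * e := by rw [hfix]
        _ = e * x := by group
  -- case: no involution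
  by_cases hinvol : ∃ e : G, orderOf e = 2
  swap
  · have hodd : ¬ 2 ∣ Nat.card G := by
      intro hdvd
      exact hinvol (exists_prime_orderOf_dvd_card' 2 hdvd)
    obtain ⟨k, hk⟩ := hXidx
    have hk0 : k = 0 := by
      by_contra hk0
      apply hodd
      have h1 : X.index ∣ Nat.card G := Subgroup.index_dvd_card X
      rw [hk] at h1
      exact (dvd_pow_self 2 hk0).trans h1
    rw [hk0, pow_zero, Subgroup.index_eq_one] at hk
    subst hk
    refine ⟨inferInstance, fun hN => ?_⟩
    have : Subsingleton (G ⧸ (⊤ : Subgroup G)) := QuotientGroup.subsingleton_quotient_top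
    exact isCyclic_of_subsingleton
  obtain ⟨e, he⟩ := hinvol
  -- `F` is abelian
  have hFcomm : ∀ x ∈ F, ∀ y ∈ F, x * y = y * x := by
    intro x hx y hy
    have h1 := hinv e he x hx
    have h2 := hinv e he y hy
    have h3 := hinv e he (x * y) (F.mul_mem hx hy)
    have h4 : e * (x * y) * e⁻¹ = (e * x * e⁻¹) * (e * y * e⁻¹) := by group
    rw [h4, h1, h2, mul_inv_rev] at h3
    have h5 : (x⁻¹ * y⁻¹)⁻¹ = (y⁻¹ * x⁻¹)⁻¹ := by rw [h3]
    simpa using h5.symm
  -- `F` is cyclic
  have hFcyc : IsCyclic ↥F := by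
    apply isCyclic_of_comm_of_forall_uniqueOrderP
    · intro a b
      exact Subtype.ext (hFcomm a a.2 b b.2)
    · intro p hp x y hx hy
      rw [← Subgroup.orderOf_coe] at hx hy
      have := hb p hp x (hFX x.2) y (hFX y.2) hx hy (hFcomm x x.2 y y.2)
      rw [Subgroup.mem_zpowers_iff] at this ⊢
      obtain ⟨i, hi⟩ := this
      exact ⟨i, Subtype.ext (by simpa using hi)⟩
  -- commutators centralize `F`
  have hcommF : ∀ g h : G, g * h * g⁻¹ * h⁻¹ ∈ F := by
    intro g h
    apply hCF
    rw [Subgroup.mem_centralizer_iff]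
    intro x hx
    have h1 : MulAut.conjNormal (H := F) (g * h * g⁻¹ * h⁻¹) = 1 := by
      rw [map_mul, map_mul, map_mul, map_inv, map_inv]
      rw [mulAut_comm_of_isCyclic (MulAut.conjNormal g) (MulAut.conjNormal h)]
      group
    have h3 := congrArg (fun φ : MulAut ↥F => ((φ ⟨x, hx⟩ : ↥F) : G)) h1
    simp only [MulAut.conjNormal_apply, MulAut.one_apply] at h3
    calc x * (g * h * g⁻¹ * h⁻¹)
        = (g * h * g⁻¹ * h⁻¹ * x * (g * h * g⁻¹ * h⁻¹)⁻¹) * (g * h * g⁻¹ * h⁻¹) := by rw [h3]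
      _ = g * h * g⁻¹ * h⁻¹ * x := by group
  have hcomle : commutator G ≤ X := by
    rw [commutator_def, Subgroup.commutator_le]
    intro g _ h _
    exact hFX (hcommF g h)
  have hXn : X.Normal := normal_of_commutator_le hcomle
  refine ⟨hXn, fun hN => ?_⟩
  have hcomm : ∀ a b : G ⧸ X, a * b = b * a := by
    have := (Subgroup.Normal.quotient_commutative_iff_commutator_le (N := X)).2 hcomle
    exact fun a b => this.is_comm.comm a b
  have hp2 : IsPGroup 2 (G ⧸ X) := by
    obtain ⟨k, hk⟩ := hXidx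
    apply IsPGroup.of_card (n := k)
    rw [← Subgroup.index_eq_card, hk]
  apply isCyclic_of_comm_of_uniqueOrderP hp2 hcomm
  intro a b hao hbo
  obtain ⟨a', rfl, ha'⟩ := exists_involution_lift X hXodd a hao
  obtain ⟨b', rfl, hb'⟩ := exists_involution_lift X hXodd b hbo
  have hab : a'⁻¹ * b' ∈ X := by
    apply hFX
    apply hCF
    rw [Subgroup.mem_centralizer_iff]
    intro x hx
    have h1 := hinv b' hb' x hx
    have h2 := hinv a' ha' x hx
    have h3 : a'⁻¹ * x⁻¹ * a' = x := by
      rw [← h2]; group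
    calc x * (a'⁻¹ * b') = (a'⁻¹ * x⁻¹ * a') * (a'⁻¹ * b') := by rw [h3]
      _ = a'⁻¹ * (b' * x * b'⁻¹) * b' := by rw [h1]; group
      _ = a'⁻¹ * b' * x := by group
  have heq : (a' : G ⧸ X) = (b' : G ⧸ X) := QuotientGroup.eq.2 hab
  rw [heq]
  exact Subgroup.mem_zpowers _

end

end Cfsg.Agent.Helper16
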