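import Mathlib
import Cfsg.Agent.Lib.Helper16.InvCent
import Cfsg.Agent.Lib.Helper16.FpfSylow
import Cfsg.Agent.Lib.Helper16.OddHallNormal
import Cfsg.Agent.Lib.Helper16.QuotPGroup
import Cfsg.Agent.Lib.Helper1.Coprime
import Cfsg.Agent.Lib.Helper20.OddLift

/-!
# The quotient `H ⧸ O_2(H)` in a solvable group with `2`-nilpotent involution centralizers
(helper16's library)
-/

set_option autoImplicit false

namespace Cfsg.Agent.Helper16

open Cfsg

section main

variable {H : Type*} [Group H] [Finite H]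

/-- Commuting elements of prime order of an odd-order subgroup generate the same group. -/
theorem mem_zpowers_of_commute_of_odd (hsol : Group.IsSolvable H) (hO : pPrimeCore 2 H = ⊥)
    (hI : ∀ t : H, orderOf t = 2 →
      Cfsg.HasNormalPComplement 2 ↥(Subgroup.centralizer ({t} : Set H)))
    (X : Subgroup H) (hXodd : Odd (Nat.card X)) (p : ℕ) [hp : Fact p.Prime] (x y : H)
    (hxX : x ∈ X) (hyX : y ∈ X) (hx : orderOf x = p) (hy : orderOf y = p) (hxy : x * y = y * x) :
    y ∈ Subgroup.zpowers x := by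
  have hXo : ∀ x ∈ X, Odd (orderOf x) := by
    intro x hx
    have h1 : orderOf (⟨x, hx⟩ : X) ∣ Nat.card X := orderOf_dvd_natCard _
    rw [Subgroup.orderOf_mk] at h1
    exact Odd.of_dvd_nat hXodd h1
  have hx1 : x ≠ 1 := by
    intro h
    rw [h, orderOf_one] at hx
    exact hp.out.one_lt.ne hx
  have hYne := pCore_two_ne_bot_of_ne_one hsol hO hx1
  have : (pCore 2 H).Normal := pCore_normal' 2
  have hfpf : ∀ h ∈ X, h ≠ 1 → pCore 2 H ⊓ Subgroup.centralizer {h} = ⊥ := by
    intro h hh hh1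
    exact pCore_inf_centralizer_eq_bot hsol hO hI h (hXo h hh) hh1
  have hzx : IsPGroup p (Subgroup.zpowers x) := by
    apply IsPGroup.of_card (n := 1)
    rw [Nat.card_zpowers, hx, pow_one]
  have hzy : IsPGroup p (Subgroup.zpowers y) := by
    apply IsPGroup.of_card (n := 1)
    rw [Nat.card_zpowers, hy, pow_one]
  have hle : Subgroup.zpowers x ⊔ Subgroup.zpowers y ≤ Subgroup.centralizer ({x} : Set H) := by
    apply sup_le
    · rw [Subgroup.zpowers_le, Subgroup.mem_centralizer_iff]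
      intro z hz
      rw [Set.mem_singleton_iff] at hz
      rw [hz]
    · rw [Subgroup.zpowers_le, Subgroup.mem_centralizer_iff]
      intro z hz
      rw [Set.mem_singleton_iff] at hz
      rw [hz]; exact hxy
  have hnorm : Subgroup.zpowers y ≤ Subgroup.normalizer ((Subgroup.zpowers x : Subgroup H) : Set H) := by
    have h1 : Subgroup.zpowers y ≤ Subgroup.centralizer ((Subgroup.zpowers x : Subgroup H) : Set H) := by
      rw [Subgroup.zpowers_le, Subgroup.mem_centralizer_iff]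
      intro z hz
      rw [SetLike.mem_coe, Subgroup.mem_zpowers_iff] at hz
      obtain ⟨i, rfl⟩ := hz
      exact ((show Commute x y from hxy).zpow_left i).eq
    exact h1.trans (Subgroup.centralizer_le_normalizer _)
  have hQp : IsPGroup p ↥(Subgroup.zpowers x ⊔ Subgroup.zpowers y) :=
    hzx.to_sup_of_normal_left' hzy hnorm
  have hQX : Subgroup.zpowers x ⊔ Subgroup.zpowers y ≤ X :=
    sup_le (Subgroup.zpowers_le.2 hxX) (Subgroup.zpowers_le.2 hyX)
  apply Cfsg.Agent.Helper1.mem_zpowers_of_fpf hYne hfpf _ hQX hQp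
    (le_sup_left (a := Subgroup.zpowers x) (Subgroup.mem_zpowers x)) hx _
    (le_sup_right (b := Subgroup.zpowers y) (Subgroup.mem_zpowers y)) hy
  intro q hq
  have := hle hq
  rw [Subgroup.mem_centralizer_iff] at this
  exact this x (Set.mem_singleton x)

/-- In `H ⧸ O_2(H)` no nonidentity element of odd order commutes with an involution. -/
theorem eq_one_of_odd_of_commute_involution_quotient [hYn : (pCore 2 H).Normal]
    (hsol : Group.IsSolvable H) (hO : pPrimeCore 2 H = ⊥)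
    (hI : ∀ t : H, orderOf t = 2 →
      Cfsg.HasNormalPComplement 2 ↥(Subgroup.centralizer ({t} : Set H)))
    (e : H ⧸ pCore 2 H) (he : orderOf e = 2) (d : H ⧸ pCore 2 H) (hd : Odd (orderOf d))
    (hde : d * e = e * d) : d = 1 := by
  have hF2 : Fact (Nat.Prime 2) := ⟨Nat.prime_two⟩
  have hY : IsPGroup 2 (pCore 2 H) := Cfsg.Agent.Helper14.pCore_isPGroup 2 H
  obtain ⟨d', rfl, hd'⟩ := Cfsg.Agent.Helper20.exists_odd_lift (QuotientGroup.mk' (pCore 2 H))
    (QuotientGroup.mk'_surjective _) d hd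
  obtain ⟨e', rfl⟩ := QuotientGroup.mk'_surjective (pCore 2 H) e
  by_contra hd1
  have hd'1 : d' ≠ 1 := by
    rintro rfl
    exact hd1 (map_one _)
  have hNtop : Subgroup.normalizer ((pCore 2 H : Subgroup H) : Set H) = ⊤ :=
    Subgroup.normalizer_eq_top _
  have hcop : (Nat.card (Subgroup.zpowers d')).Coprime (Nat.card (pCore 2 H)) := by
    obtain ⟨n, hn⟩ := IsPGroup.iff_card.1 hY
    rw [Nat.card_zpowers, hn]
    exact Nat.Coprime.pow_right n (Nat.Coprime.symm (Nat.coprime_two_left.2 hd'))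
  have hsolv : Group.IsSolvable (Subgroup.zpowers d') ∨ Group.IsSolvable (pCore 2 H) := by
    right
    have := hY.isNilpotent
    infer_instance
  have hx : ∀ a ∈ Subgroup.zpowers d', e'⁻¹ * a * e' * a⁻¹ ∈ pCore 2 H := by
    intro a ha
    rw [Subgroup.mem_zpowers_iff] at ha
    obtain ⟨i, rfl⟩ := ha
    rw [← QuotientGroup.eq_one_iff]
    have hc : Commute (QuotientGroup.mk' (pCore 2 H) d') (QuotientGroup.mk' (pCore 2 H) e') := hde
    have hc' := (hc.zpow_left i).eq
    have : ((e'⁻¹ * d' ^ i * e' * (d' ^ i)⁻¹ : H) : H ⧸ pCore 2 H)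
        = (QuotientGroup.mk' (pCore 2 H) e')⁻¹ * (QuotientGroup.mk' (pCore 2 H) d') ^ i *
          (QuotientGroup.mk' (pCore 2 H) e') * ((QuotientGroup.mk' (pCore 2 H) d') ^ i)⁻¹ := by
      simp
    rw [this, mul_assoc _ (_ ^ i) _, hc', ← mul_assoc, inv_mul_cancel, one_mul, mul_inv_cancel]
  obtain ⟨c, hc, hce⟩ := Cfsg.Agent.Helper1.exists_centralizer_mem_coset (pCore 2 H)
    (Subgroup.zpowers d') (by rw [hNtop]; exact le_top) hcop hsolv e' hx
  have hcq : (QuotientGroup.mk' (pCore 2 H) e') = (QuotientGroup.mk' (pCore 2 H) c) :=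
    QuotientGroup.eq.2 hce
  have hdc : d' * c = c * d' := by
    rw [Subgroup.mem_centralizer_iff] at hc
    exact hc d' (Subgroup.mem_zpowers d')
  have hc2Y : c ^ 2 ∈ pCore 2 H := by
    rw [← QuotientGroup.eq_one_iff, QuotientGroup.mk_pow]
    have : ((c : H) : H ⧸ pCore 2 H) = QuotientGroup.mk' (pCore 2 H) e' := hcq.symm
    rw [this]
    have h3 := pow_orderOf_eq_one (QuotientGroup.mk' (pCore 2 H) e')
    rwa [he] at h3
  have hc2 : c ^ 2 = 1 := by
    by_contra hne
    apply hd'1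
    apply eq_one_of_odd_of_commute_pCore hsol hO hI d' hd' (c ^ 2) hc2Y hne
    exact ((show Commute d' c from hdc).pow_right 2).eq
  have hc1 : c ≠ 1 := by
    rintro rfl
    rw [map_one] at hcq
    rw [hcq, orderOf_one] at he
    exact absurd he (by norm_num)
  have hco : orderOf c = 2 := orderOf_eq_prime hc2 hc1
  exact hd'1 (eq_one_of_odd_of_commute_involution hsol hO hI c hco d' hd' hdc)

omit [Finite H] in
/-- `O_p(H ⧸ O_p(H)) = 1`. -/
theorem pCore_quotient_pCore_eq_bot (p : ℕ) [hYn : (pCore p H).Normal] :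
    pCore p (H ⧸ pCore p H) = ⊥ := by
  have h1 := comap_pCore_quotient (pCore p H) (Cfsg.Agent.Helper14.pCore_isPGroup p H)
  have h2 := Subgroup.map_comap_eq_self_of_surjective (QuotientGroup.mk'_surjective (pCore p H))
    (pCore p (H ⧸ pCore p H))
  rw [h1, QuotientGroup.map_mk'_self] at h2
  exact h2.symm

/-- `X O_2(H)` is normal with cyclic quotient. -/
theorem sup_pCore_normal_and_cyclic (hsol : Group.IsSolvable H) (hO : pPrimeCore 2 H = ⊥)
    (hI : ∀ t : H, orderOf t = 2 →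
      Cfsg.HasNormalPComplement 2 ↥(Subgroup.centralizer ({t} : Set H)))
    (X : Subgroup H) (hXodd : Odd (Nat.card X)) (hXidx : ∃ k : ℕ, X.index = 2 ^ k) :
    (X ⊔ pCore 2 H).Normal ∧
      ∀ hN : (X ⊔ pCore 2 H).Normal, IsCyclic (H ⧸ (X ⊔ pCore 2 H)) := by
  have hYn : (pCore 2 H).Normal := pCore_normal' 2
  have hY : IsPGroup 2 (pCore 2 H) := Cfsg.Agent.Helper14.pCore_isPGroup 2 H
  have hqs : Function.Surjective (QuotientGroup.mk' (pCore 2 H)) :=
    QuotientGroup.mk'_surjective (pCore 2 H)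
  have hXo : ∀ x ∈ X, Odd (orderOf x) := by
    intro x hx
    have h1 : orderOf (⟨x, hx⟩ : X) ∣ Nat.card X := orderOf_dvd_natCard _
    rw [Subgroup.orderOf_mk] at h1
    exact Odd.of_dvd_nat hXodd h1
  have hsol' : Group.IsSolvable (H ⧸ pCore 2 H) := by
    have := hsol
    infer_instance
  have h2 : pCore 2 (H ⧸ pCore 2 H) = ⊥ := pCore_quotient_pCore_eq_bot 2
  have ha := eq_one_of_odd_of_commute_involution_quotient hsol hO hI
  have hX'odd : Odd (Nat.card (X.map (QuotientGroup.mk' (pCore 2 H)))) :=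
    Odd.of_dvd_nat hXodd (Subgroup.card_map_dvd _ _)
  have hX'idx : ∃ k : ℕ, (X.map (QuotientGroup.mk' (pCore 2 H))).index = 2 ^ k := by
    obtain ⟨k, hk⟩ := hXidx
    have h1 := Subgroup.index_map_dvd X hqs
    rw [hk] at h1
    obtain ⟨j, -, hj⟩ := (Nat.dvd_prime_pow Nat.prime_two).1 h1
    exact ⟨j, hj⟩
  -- the quotient map is injective on `X`
  have hinj : ∀ x ∈ X, QuotientGroup.mk' (pCore 2 H) x = 1 → x = 1 := by
    intro x hx h1
    have hxY : x ∈ pCore 2 H := (QuotientGroup.eq_one_iff x).1 h1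
    apply eq_one_of_odd_of_two_pow (hXo x hx)
    obtain ⟨j, hj⟩ := IsPGroup.iff_orderOf.1 hY ⟨x, hxY⟩
    rw [Subgroup.orderOf_mk] at hj
    exact ⟨j, hj⟩
  have hinj' : Function.Injective ((QuotientGroup.mk' (pCore 2 H)).comp X.subtype) := by
    rw [injective_iff_map_eq_one]
    intro x hx
    exact Subtype.ext (hinj x x.2 hx)
  have hb : ∀ p : ℕ, p.Prime → ∀ x ∈ X.map (QuotientGroup.mk' (pCore 2 H)),
      ∀ y ∈ X.map (QuotientGroup.mk' (pCore 2 H)), orderOf x = p → orderOf y = p →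
      x * y = y * x → y ∈ Subgroup.zpowers x := by
    rintro p hp _ ⟨x, hx, rfl⟩ _ ⟨y, hy, rfl⟩ hxo hyo hxy
    have : Fact p.Prime := ⟨hp⟩
    have hxo' : orderOf x = p := by
      rw [← hxo, ← Subgroup.orderOf_mk x hx]
      exact (orderOf_injective _ hinj' ⟨x, hx⟩).symm
    have hyo' : orderOf y = p := by
      rw [← hyo, ← Subgroup.orderOf_mk y hy]
      exact (orderOf_injective _ hinj' ⟨y, hy⟩).symm
    have hxy' : x * y = y * x := by
      have h1 : ((QuotientGroup.mk' (pCore 2 H)).comp X.subtype) (⟨x, hx⟩ * ⟨y, hy⟩)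
          = ((QuotientGroup.mk' (pCore 2 H)).comp X.subtype) (⟨y, hy⟩ * ⟨x, hx⟩) := by
        rw [map_mul, map_mul]
        exact hxy
      exact congrArg Subtype.val (hinj' h1)
    have := mem_zpowers_of_commute_of_odd hsol hO hI X hXodd p x y hx hy hxo' hyo' hxy'
    rw [Subgroup.mem_zpowers_iff] at this ⊢
    obtain ⟨i, rfl⟩ := this
    exact ⟨i, (map_zpow _ x i).symm⟩
  obtain ⟨hn, hc⟩ := normal_and_cyclic_quotient_of_odd_hall hsol' h2 ha
    (X.map (QuotientGroup.mk' (pCore 2 H))) hX'odd hX'idx hb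
  have hcomap : (X.map (QuotientGroup.mk' (pCore 2 H))).comap (QuotientGroup.mk' (pCore 2 H))
      = X ⊔ pCore 2 H := by
    rw [Subgroup.comap_map_eq, QuotientGroup.ker_mk']
  have hN : (X ⊔ pCore 2 H).Normal := hcomap ▸ hn.comap _
  refine ⟨hN, fun hN' => ?_⟩
  have := hn
  have hcyc := hc hn
  let φ₁ : H ⧸ pCore 2 H →* H ⧸ (X ⊔ pCore 2 H) :=
    QuotientGroup.map (pCore 2 H) (X ⊔ pCore 2 H) (MonoidHom.id H) (fun y hy => le_sup_right (a := X) hy)
  have hφ₁ : ∀ h : H, φ₁ (QuotientGroup.mk' (pCore 2 H) h) = (h : H ⧸ (X ⊔ pCore 2 H)) := fun h => rfl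
  let φ₂ : (H ⧸ pCore 2 H) ⧸ (X.map (QuotientGroup.mk' (pCore 2 H))) →* H ⧸ (X ⊔ pCore 2 H) :=
    QuotientGroup.lift _ φ₁ (by
      rintro _ ⟨x, hx, rfl⟩
      rw [MonoidHom.mem_ker, hφ₁, QuotientGroup.eq_one_iff]
      exact le_sup_left (b := pCore 2 H) hx)
  have hsurj : Function.Surjective φ₂ := by
    intro z
    obtain ⟨h, rfl⟩ := QuotientGroup.mk_surjective z
    exact ⟨((QuotientGroup.mk' (pCore 2 H) h : H ⧸ pCore 2 H) :
      (H ⧸ pCore 2 H) ⧸ (X.map (QuotientGroup.mk' (pCore 2 H)))), rfl⟩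
  exact isCyclic_of_surjective φ₂ hsurj

end main

end Cfsg.Agent.Helper16
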