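import Mathlib

set_option autoImplicit false

universe u

namespace Cfsg.Agent.Helper14.SA

variable {G : Type u} [Group G] [Finite G] {p : ℕ} [Fact p.Prime]

/-- PIECE BURN -/
theorem burnside_conj (P : Sylow p G) (hab : IsMulCommutative (P : Subgroup G))
    (H K : Subgroup G) (hH : H ≤ P) (hK : K ≤ P) (g : G)
    (hg : K = H.map (MulAut.conj g).toMonoidHom) :
    ∃ n ∈ Subgroup.normalizer ((P : Subgroup G) : Set G),
      K = H.map (MulAut.conj n).toMonoidHom := by
  have hcomm : ∀ x ∈ (P : Subgroup G), ∀ y ∈ (P : Subgroup G), x * y = y * x := by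
    intro x hx y hy
    have := isMulCommutative_iff.mp hab ⟨x, hx⟩ ⟨y, hy⟩
    exact congrArg Subtype.val this
  have hKmem : ∀ x : G, x ∈ K ↔ ∃ h ∈ H, g * h * g⁻¹ = x := by
    intro x
    rw [hg, Subgroup.mem_map]
    simp [MulAut.conj_apply]
  have h1 : (P : Subgroup G) ≤ Subgroup.centralizer (K : Set G) := by
    intro x hx
    rw [Subgroup.mem_centralizer_iff]
    intro k hk
    exact hcomm k (hK hk) x hx
  have h2 : ((g • P : Sylow p G) : Subgroup G) ≤ Subgroup.centralizer (K : Set G) := by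
    intro x hx
    rw [Sylow.coe_subgroup_smul, Subgroup.mem_pointwise_smul_iff_inv_smul_mem] at hx
    rw [Subgroup.mem_centralizer_iff]
    intro k hk
    obtain ⟨h, hh, rfl⟩ := (hKmem k).1 hk
    have hx' : g⁻¹ * x * g ∈ (P : Subgroup G) := by
      simpa [MulAut.smul_def, MulAut.conj_apply] using hx
    have hc := hcomm h (hH hh) _ hx'
    calc g * h * g⁻¹ * x = g * (h * (g⁻¹ * x * g)) * g⁻¹ := by group
      _ = g * ((g⁻¹ * x * g) * h) * g⁻¹ := by rw [hc]
      _ = x * (g * h * g⁻¹) := by group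
  obtain ⟨c, hc⟩ :=
    MulAction.exists_smul_eq (Subgroup.centralizer (K : Set G)) ((g • P).subtype h2)
      (P.subtype h1)
  simp_rw [Sylow.smul_subtype, Subgroup.smul_def, smul_smul] at hc
  refine ⟨c * g, Sylow.smul_eq_iff_mem_normalizer.mp (Sylow.subtype_injective hc), ?_⟩
  have hcK : ∀ k ∈ K, (c : G) * k * (c : G)⁻¹ = k := by
    intro k hk
    have := Subgroup.mem_centralizer_iff.1 c.2 k hk
    calc (c : G) * k * (c : G)⁻¹ = k * c * (c : G)⁻¹ := by rw [this]
      _ = k := by group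
  ext x
  rw [Subgroup.mem_map]
  constructor
  · intro hx
    obtain ⟨h, hh, rfl⟩ := (hKmem x).1 hx
    refine ⟨h, hh, ?_⟩
    have := hcK _ hx
    simp only [MulEquiv.coe_toMonoidHom, MulAut.conj_apply]
    calc (c : G) * g * h * ((c : G) * g)⁻¹ = (c : G) * (g * h * g⁻¹) * (c : G)⁻¹ := by group
      _ = g * h * g⁻¹ := this
  · rintro ⟨h, hh, rfl⟩
    have hk : g * h * g⁻¹ ∈ K := (hKmem _).2 ⟨h, hh, rfl⟩
    have := hcK _ hk
    simp only [MulEquiv.coe_toMonoidHom, MulAut.conj_apply]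
    have e : (c : G) * g * h * ((c : G) * g)⁻¹ = g * h * g⁻¹ := by
      calc (c : G) * g * h * ((c : G) * g)⁻¹ = (c : G) * (g * h * g⁻¹) * (c : G)⁻¹ := by group
        _ = g * h * g⁻¹ := this
    rw [e]; exact hk

end Cfsg.Agent.Helper14.SA
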