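import Mathlib
import Cfsg.Prelude.Def_Perm

set_option autoImplicit false

namespace Cfsg.Agent.Helper14.SA

/-- PIECE CARD1 -/
theorem card_semiaffine_le (F : Type) [Field F] [Fintype F] :
    Nat.card ↥(Cfsg.semiaffineGroup F) ≤
      Fintype.card F * (Fintype.card F - 1) * Nat.card (F ≃+* F) := by
  classical
  have hfin : Finite (F ≃+* F) :=
    Finite.of_injective (fun e : F ≃+* F => (e : F → F)) DFunLike.coe_injective
  have key : ∀ σ : ↥(Cfsg.semiaffineGroup F), ∃ t : (F × Fˣ) × (F ≃+* F),
      ∀ x, (σ : Equiv.Perm F) x = (t.1.2 : F) * t.2 x + t.1.1 := by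
    intro σ
    obtain ⟨a, b, φ, h⟩ := σ.2
    exact ⟨((b, a), φ), h⟩
  choose f hf using key
  have hinj : Function.Injective f := by
    intro σ τ hστ
    apply Subtype.ext
    ext x
    rw [hf σ x, hf τ x, hστ]
  have := Nat.card_le_card_of_injective f hinj
  rw [Nat.card_prod, Nat.card_prod, Nat.card_units, Nat.card_eq_fintype_card (α := F)] at this
  exact this

/-- PIECE CARD2 -/
theorem card_affine_le (F : Type) [Field F] [Fintype F] :
    Nat.card ↥(Cfsg.affineGroup F) ≤ Fintype.card F * (Fintype.card F - 1) := by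
  classical
  have key : ∀ σ : ↥(Cfsg.affineGroup F), ∃ t : F × Fˣ,
      ∀ x, (σ : Equiv.Perm F) x = (t.2 : F) * x + t.1 := by
    intro σ
    obtain ⟨a, b, h⟩ := σ.2
    exact ⟨(b, a), h⟩
  choose f hf using key
  have hinj : Function.Injective f := by
    intro σ τ hστ
    apply Subtype.ext
    ext x
    rw [hf σ x, hf τ x, hστ]
  have := Nat.card_le_card_of_injective f hinj
  rw [Nat.card_prod, Nat.card_units, Nat.card_eq_fintype_card (α := F)] at this
  exact this

end Cfsg.Agent.Helper14.SA
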