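import Mathlib
import Cfsg.Prelude.Def_Perm

set_option autoImplicit false

namespace Cfsg.Agent.Helper14.SA

theorem tr_mem_semiaffine {R S : Type} [Ring R] [Ring S] (φ : R ≃+* S) {σ : Equiv.Perm R}
    (hσ : σ ∈ Cfsg.semiaffineGroup R) : φ.toEquiv.permCongr σ ∈ Cfsg.semiaffineGroup S := by
  obtain ⟨a, b, ψ, h⟩ := hσ
  refine ⟨Units.map (φ : R →* S) a, φ b, (φ.symm.trans ψ).trans φ, fun x => ?_⟩
  simp [Equiv.permCongr_apply, h]

theorem tr_mem_affine {R S : Type} [Ring R] [Ring S] (φ : R ≃+* S) {σ : Equiv.Perm R}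
    (hσ : σ ∈ Cfsg.affineGroup R) : φ.toEquiv.permCongr σ ∈ Cfsg.affineGroup S := by
  obtain ⟨a, b, h⟩ := hσ
  refine ⟨Units.map (φ : R →* S) a, φ b, fun x => ?_⟩
  simp [Equiv.permCongr_apply, h]

theorem tr_permCongr_symm {R S : Type} [Ring R] [Ring S] (φ : R ≃+* S) (σ : Equiv.Perm R) :
    φ.symm.toEquiv.permCongr (φ.toEquiv.permCongr σ) = σ := by
  ext x
  simp [Equiv.permCongr_apply]

theorem tr_permCongr_mul {R S : Type} [Ring R] [Ring S] (φ : R ≃+* S) (σ τ : Equiv.Perm R) :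
    φ.toEquiv.permCongr (σ * τ) = φ.toEquiv.permCongr σ * φ.toEquiv.permCongr τ := by
  ext x
  simp [Equiv.permCongr_apply]

/-- PIECE TR1 -/
theorem semiaffine_congr {R S : Type} [Ring R] [Ring S] (φ : R ≃+* S) :
    Nonempty (↥(Cfsg.semiaffineGroup R) ≃* ↥(Cfsg.semiaffineGroup S)) := by
  refine ⟨{
    toFun := fun σ => ⟨φ.toEquiv.permCongr σ.1, tr_mem_semiaffine φ σ.2⟩
    invFun := fun τ => ⟨φ.symm.toEquiv.permCongr τ.1, tr_mem_semiaffine φ.symm τ.2⟩
    left_inv := fun σ => Subtype.ext (tr_permCongr_symm φ σ.1)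
    right_inv := fun τ => Subtype.ext (by
      have := tr_permCongr_symm φ.symm τ.1
      simpa using this)
    map_mul' := fun σ τ => Subtype.ext (tr_permCongr_mul φ σ.1 τ.1) }⟩

/-- PIECE TR2 -/
theorem affine_congr {R S : Type} [Ring R] [Ring S] (φ : R ≃+* S) :
    Nonempty (↥(Cfsg.affineGroup R) ≃* ↥(Cfsg.affineGroup S)) := by
  refine ⟨{
    toFun := fun σ => ⟨φ.toEquiv.permCongr σ.1, tr_mem_affine φ σ.2⟩
    invFun := fun τ => ⟨φ.symm.toEquiv.permCongr τ.1, tr_mem_affine φ.symm τ.2⟩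
    left_inv := fun σ => Subtype.ext (tr_permCongr_symm φ σ.1)
    right_inv := fun τ => Subtype.ext (by
      have := tr_permCongr_symm φ.symm τ.1
      simpa using this)
    map_mul' := fun σ τ => Subtype.ext (tr_permCongr_mul φ σ.1 τ.1) }⟩

end Cfsg.Agent.Helper14.SA
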