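import Mathlib

/-!
# S3360 (Huppert) piece EVEN (helper16): a nondegenerate alternating pairing on a group of prime
exponent `r` forces the order to be an even power of `r`
-/

set_option autoImplicit false
set_option linter.unusedVariables false

namespace Cfsg.Agent.Helper7.Hup

/-- a nontrivial subgroup of exponent `r` (prime) of a cyclic group has order `r` -/
theorem card_eq_prime_of_exponent {Z : Type*} [Group Z] [IsCyclic Z] (K : Subgroup Z) [Finite K]
    (r : ℕ) (hr : r.Prime) (hK : ∀ k ∈ K, k ^ r = 1) (hne : K ≠ ⊥) : Nat.card K = r := by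
  obtain ⟨g, hg⟩ := IsCyclic.exists_generator (α := K)
  have h1 : orderOf g = Nat.card K := orderOf_eq_card_of_forall_mem_zpowers hg
  have h2 : g ^ r = 1 := by
    apply Subtype.ext
    rw [Subgroup.coe_pow]
    exact hK g g.2
  have h3 : Nat.card K ∣ r := by
    rw [← h1]; exact orderOf_dvd_of_pow_eq_one h2
  rcases (Nat.dvd_prime hr).mp h3 with h | h
  · exact absurd (Subgroup.eq_bot_of_card_eq K h) hne
  · exact h

/-- one step: cutting a subgroup of exponent `r` with the kernel of a homomorphism into a cyclic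
group divides the order by `r`, and the witness generates a complement. -/
theorem hom_step {E Z : Type*} [Group E] [Finite E] [Group Z] [IsCyclic Z] (θ : E →* Z)
    (W : Subgroup E) (r : ℕ) (hr : r.Prime) (hWr : ∀ w ∈ W, w ^ r = 1) (w₀ : E) (hw₀ : w₀ ∈ W)
    (h0 : θ w₀ ≠ 1) :
    Nat.card W = r * Nat.card (W ⊓ θ.ker : Subgroup E) ∧
      ∀ w ∈ W, ∃ n : ℤ, w * (w₀ ^ n)⁻¹ ∈ (W ⊓ θ.ker : Subgroup E) := by
  have : Fact r.Prime := ⟨hr⟩
  set θ' : W →* Z := θ.comp W.subtype with hθ'
  have hker : θ'.ker = (W ⊓ θ.ker).subgroupOf W := by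
    ext x
    rw [MonoidHom.mem_ker, Subgroup.mem_subgroupOf, Subgroup.mem_inf, MonoidHom.mem_ker]
    constructor
    · intro h; exact ⟨x.2, h⟩
    · intro h; exact h.2
  have hcardker : Nat.card θ'.ker = Nat.card (W ⊓ θ.ker : Subgroup E) := by
    rw [hker]
    exact Nat.card_congr (Subgroup.subgroupOfEquivOfLe inf_le_left).toEquiv
  have hfin : Finite θ'.range := Finite.of_surjective θ'.rangeRestrict θ'.rangeRestrict_surjective
  have hrange : Nat.card θ'.range = r := by
    apply card_eq_prime_of_exponent θ'.range r hr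
    · rintro _ ⟨x, rfl⟩
      rw [← map_pow]
      have : x ^ r = 1 := by
        apply Subtype.ext
        rw [Subgroup.coe_pow]
        exact hWr x x.2
      rw [this, map_one]
    · intro h
      have : θ' ⟨w₀, hw₀⟩ ∈ θ'.range := ⟨_, rfl⟩
      rw [h, Subgroup.mem_bot] at this
      exact h0 this
  constructor
  · have h1 : Nat.card θ'.ker * θ'.ker.index = Nat.card W := θ'.ker.card_mul_index
    rw [Subgroup.index_ker, hrange, hcardker] at h1
    rw [← h1, mul_comm]
  · intro w hw
    have hg : (⟨θ' ⟨w₀, hw₀⟩, ⟨_, rfl⟩⟩ : θ'.range) ≠ 1 := by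
      intro h
      exact h0 (congrArg Subtype.val h)
    have hmem := mem_zpowers_of_prime_card (G := θ'.range) hrange
      (g := ⟨θ' ⟨w₀, hw₀⟩, ⟨_, rfl⟩⟩) (g' := ⟨θ' ⟨w, hw⟩, ⟨_, rfl⟩⟩) hg
    obtain ⟨n, hn⟩ := Subgroup.mem_zpowers_iff.mp hmem
    have hn' : (θ w₀) ^ n = θ w := by
      have h5 := congrArg Subtype.val hn
      rw [Subgroup.coe_zpow] at h5
      exact h5
    refine ⟨n, Subgroup.mem_inf.mpr ⟨W.mul_mem hw (W.inv_mem (W.zpow_mem hw₀ n)), ?_⟩⟩
    rw [MonoidHom.mem_ker, map_mul, map_inv, map_zpow, hn', mul_inv_cancel]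

/-- PIECE EVEN -/
theorem card_eq_pow_even {E Z : Type*} [CommGroup E] [Finite E] [Group Z] [IsCyclic Z]
    (β : E → E → Z)
    (hmul : ∀ e f g, β (e * f) g = β e g * β f g)
    (hmul' : ∀ e f g, β e (f * g) = β e f * β e g)
    (halt : ∀ e, β e e = 1)
    (r : ℕ) (hr : r.Prime) (W : Subgroup E) (hWr : ∀ w ∈ W, w ^ r = 1)
    (hnd : ∀ e ∈ W, (∀ f ∈ W, β e f = 1) → e = 1) :
    ∃ k : ℕ, Nat.card W = r ^ (2 * k) := by
  classical
  -- `β x` as a homomorphism
  let B : E → (E →* Z) := fun x => MonoidHom.mk' (β x) (hmul' x)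
  have hB : ∀ x y, B x y = β x y := fun _ _ => rfl
  have hskew : ∀ x y, β x y * β y x = 1 := by
    intro x y
    have h := halt (x * y)
    rw [hmul, hmul', hmul', halt, halt, one_mul, mul_one] at h
    exact h
  suffices H : ∀ n : ℕ, ∀ W : Subgroup E, Nat.card W = n → (∀ w ∈ W, w ^ r = 1) →
      (∀ e ∈ W, (∀ f ∈ W, β e f = 1) → e = 1) → ∃ k : ℕ, Nat.card W = r ^ (2 * k) from
    H _ W rfl hWr hnd
  intro n
  induction n using Nat.strong_induction_on with
  | _ n ih =>
    intro W hn hWr hnd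
    by_cases hW : W = ⊥
    · refine ⟨0, ?_⟩
      rw [hW]
      simp
    · obtain ⟨x, hx⟩ := (Subgroup.ne_bot_iff_exists_ne_one).mp hW
      obtain ⟨e, heW, he1⟩ : ∃ e ∈ W, e ≠ 1 := ⟨(x : E), x.2, fun h => hx (Subtype.ext h)⟩
      have hf : ∃ f ∈ W, β e f ≠ 1 := by
        by_contra h
        push Not at h
        exact he1 (hnd e heW h)
      obtain ⟨f, hfW, hz⟩ := hf
      have hz' : β f e ≠ 1 := by
        intro h
        have := hskew e f
        rw [h, mul_one] at this
        exact hz this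
      -- first cut
      obtain ⟨hc1, hd1⟩ := hom_step (B e) W r hr hWr f hfW hz
      set W₁ : Subgroup E := W ⊓ (B e).ker with hW₁
      have heW₁ : e ∈ W₁ := Subgroup.mem_inf.mpr ⟨heW, MonoidHom.mem_ker.mpr (halt e)⟩
      have hW₁r : ∀ w ∈ W₁, w ^ r = 1 := fun w hw => hWr w (Subgroup.mem_inf.mp hw).1
      -- second cut
      obtain ⟨hc2, hd2⟩ := hom_step (B f) W₁ r hr hW₁r e heW₁ hz'
      set W₂ : Subgroup E := W₁ ⊓ (B f).ker with hW₂
      have hW₂W : W₂ ≤ W := inf_le_left.trans inf_le_left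
      have hcard : Nat.card W = r * (r * Nat.card W₂) := by rw [hc1, hc2]
      have hpos : 0 < Nat.card W₂ := Nat.card_pos
      have hlt : Nat.card W₂ < n := by
        rw [← hn, hcard]
        have h2 : 2 ≤ r := hr.two_le
        nlinarith
      have hnd₂ : ∀ x ∈ W₂, (∀ g ∈ W₂, β x g = 1) → x = 1 := by
        intro x hx hxg
        have hxW₁ : x ∈ W₁ := (Subgroup.mem_inf.mp hx).1
        have hxe : β e x = 1 := MonoidHom.mem_ker.mp (Subgroup.mem_inf.mp hxW₁).2
        have hxf : β f x = 1 := MonoidHom.mem_ker.mp (Subgroup.mem_inf.mp hx).2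
        have hxe' : β x e = 1 := by
          have := hskew x e
          rw [hxe, mul_one] at this
          exact this
        have hxf' : β x f = 1 := by
          have := hskew x f
          rw [hxf, mul_one] at this
          exact this
        apply hnd x (hW₂W hx)
        intro w hw
        obtain ⟨b, hb⟩ := hd1 w hw
        obtain ⟨a, ha⟩ := hd2 _ hb
        have hw_eq : w = (w * (f ^ b)⁻¹ * (e ^ a)⁻¹) * e ^ a * f ^ b := by group
        rw [hw_eq, ← hB, map_mul, map_mul, map_zpow, map_zpow, hB, hB, hB, hxg _ ha, hxe', hxf']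
        simp
      obtain ⟨k, hk⟩ := ih _ hlt W₂ rfl (fun w hw => hWr w (hW₂W hw)) hnd₂
      refine ⟨k + 1, ?_⟩
      rw [hcard, hk]
      ring

end Cfsg.Agent.Helper7.Hup
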