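import Mathlib
import Cfsg.Agent.Lib.Helper16.HupEVEN

/-!
# S3360 (Huppert) piece ACTABS (helper16): an automorphism of prime order `s` of an abelian group
of squarefree exponent and order prime to `s` preserving a nondegenerate alternating pairing
-/

set_option autoImplicit false
set_option linter.unusedVariables false
set_option linter.unusedSectionVars false

namespace Cfsg.Agent.Helper7.Hup

section pairing

variable {E Z : Type*} [CommGroup E] [Group Z] (β : E → E → Z)

theorem bm_one_right (hmul' : ∀ e f g, β e (f * g) = β e f * β e g) (x : E) : β x 1 = 1 := by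
  have h := hmul' x 1 1
  rw [mul_one] at h
  exact (mul_eq_left.mp h.symm)

theorem bm_one_left (hmul : ∀ e f g, β (e * f) g = β e g * β f g) (y : E) : β 1 y = 1 := by
  have h := hmul 1 1 y
  rw [mul_one] at h
  exact (mul_eq_left.mp h.symm)

theorem bm_pow_left (hmul : ∀ e f g, β (e * f) g = β e g * β f g) (x y : E) (n : ℕ) :
    β (x ^ n) y = (β x y) ^ n := by
  induction n with
  | zero => rw [pow_zero, pow_zero]; exact bm_one_left β hmul y
  | succ n ih => rw [pow_succ, pow_succ, hmul, ih]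

theorem bm_pow_right (hmul' : ∀ e f g, β e (f * g) = β e f * β e g) (x y : E) (n : ℕ) :
    β x (y ^ n) = (β x y) ^ n := by
  induction n with
  | zero => rw [pow_zero, pow_zero]; exact bm_one_right β hmul' x
  | succ n ih => rw [pow_succ, pow_succ, hmul', ih]

theorem bm_skew (hmul : ∀ e f g, β (e * f) g = β e g * β f g)
    (hmul' : ∀ e f g, β e (f * g) = β e f * β e g) (halt : ∀ e, β e e = 1) (x y : E) :
    β x y * β y x = 1 := by
  have h := halt (x * y)
  rw [hmul, hmul', hmul', halt, halt, one_mul, mul_one] at h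
  exact h

theorem bm_eq_one_of_swap (hmul : ∀ e f g, β (e * f) g = β e g * β f g)
    (hmul' : ∀ e f g, β e (f * g) = β e f * β e g) (halt : ∀ e, β e e = 1) {x y : E}
    (h : β x y = 1) : β y x = 1 := by
  have := bm_skew β hmul hmul' halt x y
  rw [h, one_mul] at this
  exact this

theorem bm_prod_right (hmul' : ∀ e f g, β e (f * g) = β e f * β e g) (x : E) (g : ℕ → E) (c : Z)
    (hg : ∀ j, β x (g j) = c) (n : ℕ) : β x (∏ j ∈ Finset.range n, g j) = c ^ n := by
  induction n with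
  | zero => rw [Finset.prod_range_zero, pow_zero]; exact bm_one_right β hmul' x
  | succ n ih => rw [Finset.prod_range_succ, hmul', ih, hg, pow_succ]

theorem eq_one_of_pow_coprime {M : Type*} [Monoid M] {z : M} {a b : ℕ} (hab : a.Coprime b)
    (ha : z ^ a = 1) (hb : z ^ b = 1) : z = 1 := by
  have h := pow_gcd_eq_one.mpr ⟨ha, hb⟩
  rw [Nat.Coprime] at hab
  rw [hab, pow_one] at h
  exact h

end pairing

section norm

variable {E : Type*} [CommGroup E]

/-- the norm map of an automorphism -/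
noncomputable def normHom (φ : E ≃* E) (s : ℕ) : E →* E :=
  MonoidHom.mk' (fun e => ∏ j ∈ Finset.range s, (φ ^ j) e) (by
    intro a b
    simp only [map_mul]
    exact Finset.prod_mul_distrib)

theorem normHom_apply (φ : E ≃* E) (s : ℕ) (e : E) :
    normHom φ s e = ∏ j ∈ Finset.range s, (φ ^ j) e := rfl

theorem pow_succ_apply (φ : E ≃* E) (j : ℕ) (e : E) : (φ ^ (j + 1)) e = φ ((φ ^ j) e) := by
  rw [pow_succ']
  rfl

theorem pow_succ_apply' (φ : E ≃* E) (j : ℕ) (e : E) : (φ ^ (j + 1)) e = (φ ^ j) (φ e) := by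
  rw [pow_succ]
  rfl

theorem prod_shift (φ : E ≃* E) (s : ℕ) (hφs : ∀ e, (φ ^ s) e = e) (e : E) :
    ∏ j ∈ Finset.range s, (φ ^ (j + 1)) e = ∏ j ∈ Finset.range s, (φ ^ j) e := by
  have h1 := Finset.prod_range_succ' (fun j => (φ ^ j) e) s
  have h2 := Finset.prod_range_succ (fun j => (φ ^ j) e) s
  rw [h2] at h1
  simp only [pow_zero] at h1
  rw [hφs e] at h1
  have h3 : (φ ^ 0 : E ≃* E) e = e := by rw [pow_zero]; rfl
  have h4 : (1 : E ≃* E) e = e := rfl
  rw [h4] at h1
  exact (mul_right_cancel h1).symm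

theorem apply_normHom (φ : E ≃* E) (s : ℕ) (hφs : ∀ e, (φ ^ s) e = e) (e : E) :
    φ (normHom φ s e) = normHom φ s e := by
  rw [normHom_apply, map_prod]
  simp only [← pow_succ_apply]
  exact prod_shift φ s hφs e

theorem normHom_apply_map (φ : E ≃* E) (s : ℕ) (hφs : ∀ e, (φ ^ s) e = e) (e : E) :
    normHom φ s (φ e) = normHom φ s e := by
  rw [normHom_apply, normHom_apply]
  simp only [← pow_succ_apply']
  exact prod_shift φ s hφs e

theorem pow_apply_of_fixed (φ : E ≃* E) {e : E} (he : φ e = e) (j : ℕ) : (φ ^ j) e = e := by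
  induction j with
  | zero => rw [pow_zero]; rfl
  | succ j ih => rw [pow_succ_apply, ih, he]

theorem normHom_of_fixed (φ : E ≃* E) (s : ℕ) {e : E} (he : φ e = e) : normHom φ s e = e ^ s := by
  rw [normHom_apply]
  simp only [pow_apply_of_fixed φ he]
  rw [Finset.prod_const, Finset.card_range]

end norm

/-- PIECE ACTABS -/
theorem act_abs {E Z : Type*} [CommGroup E] [Finite E] [Group Z] [IsCyclic Z]
    (β : E → E → Z)
    (hmul : ∀ e f g, β (e * f) g = β e g * β f g)
    (hmul' : ∀ e f g, β e (f * g) = β e f * β e g)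
    (halt : ∀ e, β e e = 1)
    (hnd : ∀ e, (∀ f, β e f = 1) → e = 1)
    (hsq : ∀ e : E, ∃ n : ℕ, Squarefree n ∧ e ^ n = 1)
    (s : ℕ) (hs : s.Prime) (hsE : ¬ s ∣ Nat.card E)
    (φ : E ≃* E) (hφs : ∀ e, (φ ^ s) e = e) (hφ1 : ∃ e, φ e ≠ e)
    (hφβ : ∀ e f, β (φ e) (φ f) = β e f) :
    ∃ r k : ℕ, r.Prime ∧ 0 < k ∧ r ^ (2 * k) ∣ Nat.card E ∧ s ∣ r ^ (2 * k) - 1 ∧
      (r ^ (2 * k) = Nat.card E → ∀ e, φ e = e → e = 1) := by
  classical
  have hcop : s.Coprime (Nat.card E) := (Nat.Prime.coprime_iff_not_dvd hs).mpr hsE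
  set N : E →* E := normHom φ s with hN
  -- s-th power is injective, hence surjective
  have hpinj : ∀ x : E, x ^ s = 1 → x = 1 := fun x hx =>
    eq_one_of_pow_coprime hcop hx pow_card_eq_one'
  have hpinj' : Function.Injective (powMonoidHom s : E →* E) := by
    rw [injective_iff_map_eq_one]
    exact hpinj
  have hpsurj : Function.Surjective (powMonoidHom s : E →* E) :=
    Finite.injective_iff_surjective.mp hpinj'
  -- invariance under powers of φ
  have hφβj : ∀ (j : ℕ) (a b : E), β ((φ ^ j) a) ((φ ^ j) b) = β a b := by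
    intro j
    induction j with
    | zero => intro a b; rw [pow_zero]; rfl
    | succ j ih => intro a b; rw [pow_succ_apply, pow_succ_apply, hφβ, ih]
  -- decomposition
  have hdec : ∀ e : E, ∃ e0 e1 : E, φ e0 = e0 ∧ N e1 = 1 ∧ e = e0 * e1 := by
    intro e
    obtain ⟨x, hx⟩ := hpsurj (N e)
    have hx' : x ^ s = N e := hx
    have hφx : φ x = x := by
      have h1 : (φ x * x⁻¹) ^ s = 1 := by
        rw [mul_pow, inv_pow, ← map_pow, hx', hN, apply_normHom φ s hφs, mul_inv_cancel]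
      have h2 := hpinj _ h1
      exact mul_inv_eq_one.mp h2
    refine ⟨x, e * x⁻¹, hφx, ?_, by rw [mul_comm e x⁻¹, mul_inv_cancel_left]⟩
    rw [map_mul, map_inv, hN, normHom_of_fixed φ s hφx, ← hN, ← hx', mul_inv_cancel]
  -- orthogonality
  have horth : ∀ e0 e1 : E, φ e0 = e0 → N e1 = 1 → β e0 e1 = 1 := by
    intro e0 e1 h0 h1
    have hc : ∀ j, β e0 ((φ ^ j) e1) = β e0 e1 := by
      intro j
      have := hφβj j e0 e1
      rw [pow_apply_of_fixed φ h0 j] at this
      exact this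
    have h2 := bm_prod_right β hmul' e0 (fun j => (φ ^ j) e1) (β e0 e1) hc s
    have h3 : ∏ j ∈ Finset.range s, (φ ^ j) e1 = 1 := h1
    rw [h3, bm_one_right β hmul'] at h2
    have h4 : (β e0 e1) ^ Nat.card E = 1 := by
      rw [← bm_pow_left β hmul, pow_card_eq_one', bm_one_left β hmul]
    exact eq_one_of_pow_coprime hcop h2.symm h4
  -- E1
  set E1 : Subgroup E := N.ker with hE1
  have hE1mem : ∀ x, x ∈ E1 ↔ N x = 1 := fun x => MonoidHom.mem_ker
  have hfix1 : ∀ x ∈ E1, φ x = x → x = 1 := by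
    intro x hx hφx
    have h1 : N x = x ^ s := by rw [hN]; exact normHom_of_fixed φ s hφx
    rw [(hE1mem x).mp hx] at h1
    exact hpinj x h1.symm
  have hφE1 : ∀ x ∈ E1, φ x ∈ E1 := by
    intro x hx
    rw [hE1mem] at hx ⊢
    rw [hN, normHom_apply_map φ s hφs, ← hN, hx]
  have hndE1 : ∀ e ∈ E1, (∀ f ∈ E1, β e f = 1) → e = 1 := by
    intro e he hef
    apply hnd e
    intro f
    obtain ⟨f0, f1, hf0, hf1, rfl⟩ := hdec f
    rw [hmul', hef f1 ((hE1mem f1).mpr hf1), mul_one]
    exact bm_eq_one_of_swap β hmul hmul' halt (horth f0 e hf0 ((hE1mem e).mp he))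
  have hE1ne : E1 ≠ ⊥ := by
    intro h
    obtain ⟨e, he⟩ := hφ1
    obtain ⟨e0, e1, h0, h1, rfl⟩ := hdec e
    have : e1 ∈ E1 := (hE1mem e1).mpr h1
    rw [h, Subgroup.mem_bot] at this
    rw [this, mul_one] at he
    exact he h0
  -- the prime r
  have hcard1 : Nat.card E1 ≠ 1 := fun h => hE1ne (Subgroup.eq_bot_of_card_eq E1 h)
  obtain ⟨r, hr, hrE1⟩ := Nat.exists_prime_and_dvd hcard1
  have hrF : Fact r.Prime := ⟨hr⟩
  set W : Subgroup E := E1 ⊓ (powMonoidHom r : E →* E).ker with hW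
  have hWmem : ∀ x, x ∈ W ↔ x ∈ E1 ∧ x ^ r = 1 := by
    intro x
    rw [hW, Subgroup.mem_inf, MonoidHom.mem_ker]
    rfl
  have hWr : ∀ w ∈ W, w ^ r = 1 := fun w hw => ((hWmem w).mp hw).2
  have hndW : ∀ e ∈ W, (∀ f ∈ W, β e f = 1) → e = 1 := by
    intro e he hef
    obtain ⟨heE1, her⟩ := (hWmem e).mp he
    apply hndE1 e heE1
    intro f hf
    -- split f
    obtain ⟨n, hnsq, hfn⟩ := hsq f
    obtain ⟨n', hcop', hfn'⟩ : ∃ n' : ℕ, r.Coprime n' ∧ f ^ (n' * r) = 1 := by
      by_cases hrn : r ∣ n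
      · obtain ⟨n', rfl⟩ := hrn
        exact ⟨n', Nat.coprime_of_squarefree_mul hnsq, by rw [mul_comm]; exact hfn⟩
      · exact ⟨n, (Nat.Prime.coprime_iff_not_dvd hr).mpr hrn, by rw [pow_mul, hfn, one_pow]⟩
    have hz_r : (β e f) ^ r = 1 := by
      rw [← bm_pow_left β hmul, her, bm_one_left β hmul]
    have hz_n : (β e f) ^ n' = 1 := by
      rw [← bm_pow_right β hmul']
      apply hef
      rw [hWmem]
      refine ⟨E1.pow_mem hf n', ?_⟩
      rw [← pow_mul]; exact hfn'
    exact eq_one_of_pow_coprime hcop' hz_r hz_n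
  obtain ⟨k, hk⟩ := card_eq_pow_even β hmul hmul' halt r hr W hWr hndW
  -- k > 0
  have hkpos : 0 < k := by
    rcases Nat.eq_zero_or_pos k with h0 | h0
    · exfalso
      rw [h0, mul_zero, pow_zero] at hk
      obtain ⟨x, hx⟩ := exists_prime_orderOf_dvd_card' (G := E1) r hrE1
      have hxW : (x : E) ∈ W := by
        rw [hWmem]
        refine ⟨x.2, ?_⟩
        have : x ^ r = 1 := by rw [← hx]; exact pow_orderOf_eq_one x
        exact_mod_cast congrArg Subtype.val this
      have hW1 : W = ⊥ := Subgroup.eq_bot_of_card_eq W hk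
      rw [hW1, Subgroup.mem_bot] at hxW
      have hx1 : x = 1 := Subtype.ext hxW
      rw [hx1, orderOf_one] at hx
      exact hr.one_lt.ne hx
    · exact h0
  -- the action on W
  have hφW : ∀ w ∈ W, φ w ∈ W := by
    intro w hw
    obtain ⟨h1, h2⟩ := (hWmem w).mp hw
    rw [hWmem]
    exact ⟨hφE1 w h1, by rw [← map_pow, h2, map_one]⟩
  let σ : Function.End W := fun w => ⟨φ w, hφW w w.2⟩
  have hσj : ∀ (j : ℕ) (w : W), (((σ ^ j : Function.End W) w : W) : E) = (φ ^ j) w := by
    intro j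
    induction j with
    | zero => intro w; rw [pow_zero, pow_zero]; rfl
    | succ j ih =>
      intro w
      rw [pow_succ', pow_succ_apply]
      show φ (((σ ^ j : Function.End W) w : W) : E) = _
      rw [ih]
  have hσs : σ ^ s ^ 1 = 1 := by
    rw [pow_one]
    funext w
    apply Subtype.ext
    rw [hσj, hφs]
    rfl
  have hsF : Fact s.Prime := ⟨hs⟩
  let _ : Fintype W := Fintype.ofFinite W
  have hmod := Equiv.Perm.card_fixedPoints_modEq (α := W) (f := σ) (p := s) (n := 1) hσs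
  rw [← Nat.card_eq_fintype_card, ← Nat.card_eq_fintype_card] at hmod
  have hfixcard : Nat.card (Function.fixedPoints σ) = 1 := by
    rw [Nat.card_eq_one_iff_unique]
    refine ⟨⟨?_⟩, ⟨⟨1, ?_⟩⟩⟩
    · rintro ⟨w, hw⟩ ⟨w', hw'⟩
      apply Subtype.ext
      rw [Function.mem_fixedPoints] at hw hw'
      have h1 : φ (w : E) = w := congrArg Subtype.val hw
      have h2 := hfix1 (w : E) ((hWmem _).mp w.2).1 h1
      have h1' : φ (w' : E) = w' := congrArg Subtype.val hw'
      have h2' := hfix1 (w' : E) ((hWmem _).mp w'.2).1 h1'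
      exact Subtype.ext (h2.trans h2'.symm)
    · rw [Function.mem_fixedPoints]
      show σ 1 = 1
      apply Subtype.ext
      show φ ((1 : W) : E) = ((1 : W) : E)
      rw [Subgroup.coe_one, map_one]
  rw [hfixcard, hk] at hmod
  have hdvd : s ∣ r ^ (2 * k) - 1 :=
    (Nat.modEq_iff_dvd' (Nat.one_le_pow _ _ hr.pos)).mp hmod.symm
  refine ⟨r, k, hr, hkpos, ?_, hdvd, ?_⟩
  · rw [← hk]
    exact Subgroup.card_subgroup_dvd_card W
  · intro hcardE e he
    have hWtop : W = ⊤ := Subgroup.eq_top_of_card_eq W (by rw [hk, hcardE])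
    have heW : e ∈ W := by rw [hWtop]; trivial
    exact hfix1 e ((hWmem e).mp heW).1 he

end Cfsg.Agent.Helper7.Hup
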