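import Mathlib
import Cfsg.Prelude.Def_Transfer
import Cfsg.Prelude.Def_Characters

/-!
# S3805 (helper16): definitions `Hyp`, `Cfg` for the `3² : 2²` configuration.  See plans/S3805_Skel.lean.txt.
-/

set_option autoImplicit false
set_option linter.unusedSectionVars false
set_option linter.unusedVariables false

namespace Cfsg.Agent.Helper16.KF9

open Cfsg

universe u

/-! ## Definitions (file KF9Defs.lean, landed by helper16) -/

section Defs

variable {G : Type u} [Group G] (T : Sylow 3 G)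

/-- the hypotheses of S3805, unpacked -/
structure Hyp : Prop where
  card : Nat.card (T : Subgroup G) = 9
  exp : ∀ x ∈ (T : Subgroup G), x ^ 3 = 1
  comm : ∀ x ∈ (T : Subgroup G), ∀ y ∈ (T : Subgroup G), x * y = y * x
  cent : Subgroup.centralizer ((T : Subgroup G) : Set G) = (T : Subgroup G)
  loc : ∀ t ∈ (T : Subgroup G), t ≠ 1 →
    Subgroup.centralizer ({t} : Set G) ≤ Subgroup.normalizer ((T : Subgroup G) : Set G)
  cardN : Nat.card (Subgroup.normalizer ((T : Subgroup G) : Set G)) = 36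
  sq : ∀ n ∈ Subgroup.normalizer ((T : Subgroup G) : Set G), n * n ∈ (T : Subgroup G)

/-- the `S₃ × S₃` configuration: `T = ⟨t1⟩ × ⟨t2⟩`, commuting involutions `a`, `b` of `N_G(T)`,
`a` inverts `t1` and centralizes `t2`, `b` centralizes `t1` and inverts `t2` -/
structure Cfg where
  t1 : G
  t2 : G
  a : G
  b : G
  ht1 : t1 ∈ (T : Subgroup G)
  ht2 : t2 ∈ (T : Subgroup G)
  o1 : orderOf t1 = 3
  o2 : orderOf t2 = 3
  ind : t2 ∉ Subgroup.zpowers t1
  ha : a ∈ Subgroup.normalizer ((T : Subgroup G) : Set G)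
  hb : b ∈ Subgroup.normalizer ((T : Subgroup G) : Set G)
  a1 : a * t1 * a⁻¹ = t1⁻¹
  a2 : a * t2 * a⁻¹ = t2
  b1 : b * t1 * b⁻¹ = t1
  b2 : b * t2 * b⁻¹ = t2⁻¹
  aa : a * a = 1
  bb : b * b = 1
  ab : a * b = b * a

variable {T}

/-- `t3 = t1 t2` -/
def Cfg.t3 (c : Cfg T) : G := c.t1 * c.t2
/-- `c4 = t1 b`, of order 6 -/
def Cfg.c4 (c : Cfg T) : G := c.t1 * c.b
/-- `c5 = t2 a`, of order 6 -/
def Cfg.c5 (c : Cfg T) : G := c.t2 * c.a

end Defs

end Cfsg.Agent.Helper16.KF9
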