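import Mathlib

/-!
# S2945 piece AUT4 (helper16): an elementary abelian 2-group acting on a four-group
-/

set_option autoImplicit false
set_option linter.unusedSectionVars false
set_option linter.unusedVariables false

namespace Cfsg.Agent.Helper15.JC45

universe u

variable {G : Type u} [Group G] [Finite G]

/-- enumeration of a group of order four from two distinct nontrivial elements -/
theorem aut4_enum {W : Subgroup G} (hW4 : Nat.card W = 4) {a b : G} (ha : a ∈ W) (hb : b ∈ W)
    (ha1 : a ≠ 1) (hb1 : b ≠ 1) (hab : a ≠ b) (hab1 : a * b ≠ 1) :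
    ∀ w ∈ W, w = 1 ∨ w = a ∨ w = b ∨ w = a * b := by
  classical
  have hsub : (({1, a, b, a * b} : Finset G) : Set G) ⊆ (W : Set G) := by
    intro x hx
    simp only [Finset.coe_insert, Finset.coe_singleton, Set.mem_insert_iff,
      Set.mem_singleton_iff] at hx
    rcases hx with rfl | rfl | rfl | rfl
    · exact W.one_mem
    · exact ha
    · exact hb
    · exact W.mul_mem ha hb
  have hcard : ({1, a, b, a * b} : Finset G).card = 4 := by
    have h1 : (1 : G) ∉ ({a, b, a * b} : Finset G) := by
      simp only [Finset.mem_insert, Finset.mem_singleton, not_or]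
      exact ⟨fun h => ha1 h.symm, fun h => hb1 h.symm, fun h => hab1 h.symm⟩
    have h2 : a ∉ ({b, a * b} : Finset G) := by
      simp only [Finset.mem_insert, Finset.mem_singleton, not_or]
      refine ⟨hab, fun h => hb1 ?_⟩
      exact (mul_eq_left.1 h.symm)
    have h3 : b ∉ ({a * b} : Finset G) := by
      simp only [Finset.mem_singleton]
      intro h
      exact ha1 (mul_eq_right.1 h.symm)
    rw [Finset.card_insert_of_notMem h1, Finset.card_insert_of_notMem h2,
      Finset.card_insert_of_notMem h3, Finset.card_singleton]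
  have hfin : (W : Set G).Finite := Set.toFinite _
  have hle : (W : Set G).ncard ≤ (({1, a, b, a * b} : Finset G) : Set G).ncard := by
    rw [Set.ncard_coe_finset, hcard]
    have : (W : Set G).ncard = Nat.card W := by
      rw [← Nat.card_coe_set_eq]; rfl
    rw [this, hW4]
  have heq := Set.eq_of_subset_of_ncard_le hsub hle hfin
  intro w hw
  have hw' : w ∈ (({1, a, b, a * b} : Finset G) : Set G) := by rw [heq]; exact hw
  simpa using hw'

theorem aut4 {W A₀ : Subgroup G} (hW4 : Nat.card W = 4) (hW2 : ∀ w ∈ W, w * w = 1)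
    (hA2 : ∀ a ∈ A₀, a * a = 1) (hAc : ∀ a ∈ A₀, ∀ b ∈ A₀, a * b = b * a)
    (hAW : A₀ ≤ Subgroup.normalizer (W : Set G)) :
    Nat.card A₀ * Nat.card ↥(W ⊓ Subgroup.centralizer (A₀ : Set G)) ≤
      4 * Nat.card ↥(A₀ ⊓ Subgroup.centralizer (W : Set G)) := by
  classical
  by_cases hcen : A₀ ≤ Subgroup.centralizer (W : Set G)
  · have h1 : A₀ ⊓ Subgroup.centralizer (W : Set G) = A₀ := inf_eq_left.2 hcen
    rw [h1]
    have h2 : Nat.card ↥(W ⊓ Subgroup.centralizer (A₀ : Set G)) ≤ 4 := by
      rw [← hW4]
      exact Nat.le_of_dvd Nat.card_pos (Subgroup.card_dvd_of_le inf_le_left)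
    calc Nat.card A₀ * Nat.card ↥(W ⊓ Subgroup.centralizer (A₀ : Set G))
        ≤ Nat.card A₀ * 4 := Nat.mul_le_mul_left _ h2
      _ = 4 * Nat.card A₀ := Nat.mul_comm _ _
  · -- some `b ∈ A₀` moves some `w₀ ∈ W`
    obtain ⟨b, hbA, hb⟩ := SetLike.not_le_iff_exists.1 hcen
    rw [Subgroup.mem_centralizer_iff] at hb
    push Not at hb
    obtain ⟨w₀, hw₀W, hw₀⟩ := hb
    have hw₀W' : w₀ ∈ W := hw₀W
    have hbinv : b⁻¹ = b := inv_eq_of_mul_eq_one_left (hA2 b hbA)
    -- conjugation by elements of `A₀` preserves `W`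
    have hconj : ∀ a ∈ A₀, ∀ w ∈ W, a * w * a⁻¹ ∈ W := fun a ha w hw =>
      (Subgroup.mem_normalizer_iff.1 (hAW ha) w).1 hw
    set w₁ := b * w₀ * b⁻¹ with hw₁
    have hw₁W : w₁ ∈ W := hconj b hbA w₀ hw₀W'
    have hw₀1 : w₀ ≠ 1 := by
      rintro rfl
      exact hw₀ (by simp)
    have hw₁1 : w₁ ≠ 1 := by
      intro h
      apply hw₀1
      have : w₀ = b⁻¹ * w₁ * b := by rw [hw₁]; group
      rw [this, h]; group
    have hne : w₀ ≠ w₁ := by
      intro h
      apply hw₀
      have : b * w₀ * b⁻¹ = w₀ := by rw [← hw₁]; exact h.symm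
      calc w₀ * b = (b * w₀ * b⁻¹) * b := by rw [this]
        _ = b * w₀ := by group
    have hinv₀ : w₀⁻¹ = w₀ := inv_eq_of_mul_eq_one_left (hW2 w₀ hw₀W')
    have hprod1 : w₀ * w₁ ≠ 1 := by
      intro h
      apply hne
      have : w₁ = w₀⁻¹ := eq_inv_of_mul_eq_one_right h
      rw [this, hinv₀]
    have henum := aut4_enum hW4 hw₀W' hw₁W hw₀1 hw₁1 hne hprod1
    -- `b` swaps `w₀` and `w₁`
    have hbw₁ : b * w₁ * b⁻¹ = w₀ := by
      rw [hw₁]
      have : b * (b * w₀ * b⁻¹) * b⁻¹ = (b * b) * w₀ * (b * b)⁻¹ := by group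
      rw [this, hA2 b hbA]; group
    -- the centralizer of `A₀` in `W` is proper
    have hfix : Nat.card ↥(W ⊓ Subgroup.centralizer (A₀ : Set G)) ≤ 2 := by
      have hdvd : Nat.card ↥(W ⊓ Subgroup.centralizer (A₀ : Set G)) ∣ 4 := by
        rw [← hW4]; exact Subgroup.card_dvd_of_le inf_le_left
      have hne4 : Nat.card ↥(W ⊓ Subgroup.centralizer (A₀ : Set G)) ≠ 4 := by
        intro h4
        have heq : W ⊓ Subgroup.centralizer (A₀ : Set G) = W := by
          apply Subgroup.eq_of_le_of_card_ge inf_le_left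
          rw [h4, hW4]
        have : w₀ ∈ Subgroup.centralizer (A₀ : Set G) := by
          have : w₀ ∈ W ⊓ Subgroup.centralizer (A₀ : Set G) := by rw [heq]; exact hw₀W'
          exact this.2
        apply hw₀
        exact (Subgroup.mem_centralizer_iff.1 this b hbA).symm
      have hle4 : Nat.card ↥(W ⊓ Subgroup.centralizer (A₀ : Set G)) ≤ 4 :=
        Nat.le_of_dvd (by norm_num) hdvd
      have hpos : 0 < Nat.card ↥(W ⊓ Subgroup.centralizer (A₀ : Set G)) := Nat.card_pos
      interval_cases h : Nat.card ↥(W ⊓ Subgroup.centralizer (A₀ : Set G))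
      · norm_num
      · norm_num
      · exfalso; norm_num at hdvd
      · exact absurd rfl hne4
    -- every element of `A₀` centralizes `W`, or its product with `b` does
    set C := A₀ ⊓ Subgroup.centralizer (W : Set G) with hC
    have hcentral_of : ∀ a ∈ A₀, a * w₀ * a⁻¹ = w₀ → a * w₁ * a⁻¹ = w₁ → a ∈ C := by
      intro a haA h0 h1
      refine ⟨haA, ?_⟩
      show a ∈ Subgroup.centralizer (W : Set G)
      rw [Subgroup.mem_centralizer_iff]
      intro w hw
      have key : ∀ v : G, a * v * a⁻¹ = v → v * a = a * v := by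
        intro v hv
        calc v * a = (a * v * a⁻¹) * a := by rw [hv]
          _ = a * v := by group
      rcases henum w hw with rfl | rfl | rfl | rfl
      · simp
      · exact key _ h0
      · exact key _ h1
      · apply key
        calc a * (w₀ * w₁) * a⁻¹ = (a * w₀ * a⁻¹) * (a * w₁ * a⁻¹) := by group
          _ = w₀ * w₁ := by rw [h0, h1]
    have hdich : ∀ a ∈ A₀, a ∈ C ∨ b * a ∈ C := by
      intro a haA
      have hab : a * b = b * a := hAc a haA b hbA
      have hy : a * w₀ * a⁻¹ ∈ W := hconj a haA w₀ hw₀W'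
      -- `a` commutes with conjugation by `b`
      have hcomm : ∀ v : G, a * (b * v * b⁻¹) * a⁻¹ = b * (a * v * a⁻¹) * b⁻¹ := by
        intro v
        calc a * (b * v * b⁻¹) * a⁻¹ = (a * b) * v * (a * b)⁻¹ := by group
          _ = (b * a) * v * (b * a)⁻¹ := by rw [hab]
          _ = b * (a * v * a⁻¹) * b⁻¹ := by group
      have hy1 : a * w₀ * a⁻¹ ≠ 1 := by
        intro h
        apply hw₀1
        have : w₀ = a⁻¹ * (a * w₀ * a⁻¹) * a := by group
        rw [this, h]; group
      rcases henum _ hy with h | h | h | h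
      · exact absurd h hy1
      · -- `a` fixes `w₀`, hence `w₁`
        left
        apply hcentral_of a haA h
        have := hcomm w₀
        rw [← hw₁, h, ← hw₁] at this
        exact this
      · -- `a` swaps, so `b * a` fixes
        right
        have h1 : a * w₁ * a⁻¹ = w₀ := by
          have := hcomm w₀
          rw [← hw₁, h, hbw₁] at this
          exact this
        apply hcentral_of (b * a) (A₀.mul_mem hbA haA)
        · calc b * a * w₀ * (b * a)⁻¹ = b * (a * w₀ * a⁻¹) * b⁻¹ := by group
            _ = w₀ := by rw [h, hbw₁]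
        · calc b * a * w₁ * (b * a)⁻¹ = b * (a * w₁ * a⁻¹) * b⁻¹ := by group
            _ = w₁ := by rw [h1, ← hw₁]
      · -- impossible: `a` would send `w₀` and `w₁` to the same element
        exfalso
        have h1 : a * w₁ * a⁻¹ = w₀ * w₁ := by
          have := hcomm w₀
          rw [← hw₁, h] at this
          rw [this]
          calc b * (w₀ * w₁) * b⁻¹ = (b * w₀ * b⁻¹) * (b * w₁ * b⁻¹) := by group
            _ = w₁ * w₀ := by rw [← hw₁, hbw₁]
            _ = w₀ * w₁ := by
              -- `W` is commutative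
              have h2 := hW2 (w₁ * w₀) (W.mul_mem hw₁W hw₀W')
              have hinv₁ : w₁⁻¹ = w₁ := inv_eq_of_mul_eq_one_left (hW2 w₁ hw₁W)
              have h3 : (w₁ * w₀)⁻¹ = w₁ * w₀ := inv_eq_of_mul_eq_one_left h2
              calc w₁ * w₀ = (w₁ * w₀)⁻¹ := h3.symm
                _ = w₀ * w₁ := by rw [mul_inv_rev, hinv₀, hinv₁]
        apply hne
        have : a * w₀ * a⁻¹ = a * w₁ * a⁻¹ := by rw [h, h1]
        have h3 : a * w₀ = a * w₁ := mul_right_cancel this
        exact mul_left_cancel h3
    -- counting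
    have hcount : Nat.card A₀ ≤ 2 * Nat.card C := by
      have hinj : Function.Injective (fun a : A₀ =>
          if h : (a : G) ∈ C then (Sum.inl ⟨(a : G), h⟩ : C ⊕ C)
          else Sum.inr ⟨b * (a : G), (hdich a a.2).resolve_left h⟩) := by
        intro a a' haa'
        simp only at haa'
        by_cases h : (a : G) ∈ C <;> by_cases h' : (a' : G) ∈ C
        · rw [dif_pos h, dif_pos h'] at haa'
          have := Sum.inl.inj haa'
          exact Subtype.ext (Subtype.mk.inj this)
        · rw [dif_pos h, dif_neg h'] at haa'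
          exact absurd haa' (by simp)
        · rw [dif_neg h, dif_pos h'] at haa'
          exact absurd haa' (by simp)
        · rw [dif_neg h, dif_neg h'] at haa'
          have := Sum.inr.inj haa'
          have h2 : b * (a : G) = b * (a' : G) := Subtype.mk.inj this
          exact Subtype.ext (mul_left_cancel h2)
      have := Nat.card_le_card_of_injective _ hinj
      rw [Nat.card_sum] at this
      omega
    calc Nat.card A₀ * Nat.card ↥(W ⊓ Subgroup.centralizer (A₀ : Set G))
        ≤ (2 * Nat.card C) * 2 := Nat.mul_le_mul hcount hfix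
      _ = 4 * Nat.card C := by ring

end Cfsg.Agent.Helper15.JC45
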