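import Mathlib
import Cfsg.Agent.Lib.Helper16.JC45AUT4

/-!
# S2945 piece AB (helper16): a 3-group of automorphisms of an elementary abelian group of
order at most 16
-/

set_option autoImplicit false
set_option linter.unusedSectionVars false
set_option linter.unusedVariables false

namespace Cfsg.Agent.Helper15.JC45

variable {M : Type*} [Group M] [Finite M]

/-- `x` moves `M` into `W`, without fixed points on `W`, `|W| = 4` -/
def AbT (x : MulAut M) (W : Subgroup M) : Prop :=
  (∀ m, x m * m⁻¹ ∈ W) ∧ (∀ w ∈ W, x w = w → w = 1) ∧ Nat.card W = 4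

theorem AbT.map_mem {x : MulAut M} {W : Subgroup M} (h : AbT x W) {w : M} (hw : w ∈ W) :
    x w ∈ W := by
  have : x w = (x w * w⁻¹) * w := by group
  rw [this]
  exact W.mul_mem (h.1 w) hw

theorem ab_inv_self (hM2 : ∀ m : M, m * m = 1) (m : M) : m⁻¹ = m :=
  inv_eq_of_mul_eq_one_left (hM2 m)

/-- enumeration of `W` from a nontrivial element -/
theorem AbT.enum (hM2 : ∀ m : M, m * m = 1) {x : MulAut M} {W : Subgroup M} (h : AbT x W)
    {a : M} (ha : a ∈ W) (ha1 : a ≠ 1) :
    ∀ w ∈ W, w = 1 ∨ w = a ∨ w = x a ∨ w = a * x a := by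
  apply aut4_enum h.2.2 ha (h.map_mem ha) ha1
  · intro h1
    apply ha1
    have : x a = x 1 := by rw [h1, map_one]
    exact x.injective this
  · intro h1
    exact ha1 (h.2.1 a ha h1.symm)
  · intro h1
    apply ha1
    apply h.2.1 a ha
    have : x a = a⁻¹ := eq_inv_of_mul_eq_one_right h1
    rw [this, ab_inv_self hM2]

theorem AbT.sq_apply (hMc : ∀ a b : M, a * b = b * a) (hM2 : ∀ m : M, m * m = 1)
    {x : MulAut M} {W : Subgroup M} (h : AbT x W) {a : M} (ha : a ∈ W) (ha1 : a ≠ 1) :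
    x (x a) = a * x a := by
  have hxa : x a ∈ W := h.map_mem ha
  have hxxa : x (x a) ∈ W := h.map_mem hxa
  have hxa1 : x a ≠ 1 := by
    intro h1
    apply ha1
    have : x a = x 1 := by rw [h1, map_one]
    exact x.injective this
  rcases h.enum hM2 ha ha1 _ hxxa with h1 | h1 | h1 | h1
  · exfalso
    apply hxa1
    have : x (x a) = x 1 := by rw [h1, map_one]
    exact x.injective this
  · exfalso
    -- `a * x a` would be fixed
    have hfix : x (a * x a) = a * x a := by
      rw [map_mul, h1, hMc]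
    have := h.2.1 _ (W.mul_mem ha hxa) hfix
    apply ha1
    apply h.2.1 a ha
    have h2 : x a = a⁻¹ := eq_inv_of_mul_eq_one_right this
    rw [h2, ab_inv_self hM2]
  · exfalso
    apply ha1
    apply h.2.1 a ha
    exact x.injective h1
  · exact h1

theorem AbT.cube_apply_W (hMc : ∀ a b : M, a * b = b * a) (hM2 : ∀ m : M, m * m = 1)
    {x : MulAut M} {W : Subgroup M} (h : AbT x W) {a : M} (ha : a ∈ W) :
    a * x a * x (x a) = 1 := by
  by_cases ha1 : a = 1
  · rw [ha1]; simp
  · rw [h.sq_apply hMc hM2 ha ha1]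
    calc a * x a * (a * x a) = 1 := hM2 _

theorem AbT.cube_apply (hMc : ∀ a b : M, a * b = b * a) (hM2 : ∀ m : M, m * m = 1)
    {x : MulAut M} {W : Subgroup M} (h : AbT x W) (m : M) : x (x (x m)) = m := by
  set w := x m * m⁻¹ with hw
  have hwW : w ∈ W := h.1 m
  have h1 : x m = w * m := by rw [hw]; group
  have h2 : x (x m) = x w * (w * m) := by
    conv_lhs => rw [h1]
    rw [map_mul, h1]
  have h3 : x (x (x m)) = x (x w) * (x w * (w * m)) := by
    conv_lhs => rw [h2]
    rw [map_mul]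
    congr 1
    rw [map_mul, h1]
  rw [h3]
  have h4 := h.cube_apply_W hMc hM2 hwW
  calc x (x w) * (x w * (w * m)) = (w * x w * x (x w)) * m := by
        rw [hMc (x (x w)) _, hMc (x w) (w * m)]
        simp only [mul_assoc]
        rw [hMc m (x w * x (x w))]
        simp only [mul_assoc]
    _ = m := by rw [h4, one_mul]

theorem AbT.cube (hMc : ∀ a b : M, a * b = b * a) (hM2 : ∀ m : M, m * m = 1)
    {x : MulAut M} {W : Subgroup M} (h : AbT x W) : x * x * x = 1 := by
  apply MulEquiv.ext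
  intro m
  simp only [MulAut.mul_apply, MulAut.one_apply]
  exact h.cube_apply hMc hM2 m

theorem AbT.exists_ne_one {x : MulAut M} {W : Subgroup M} (h : AbT x W) :
    ∃ a ∈ W, a ≠ 1 := by
  by_contra hcon
  push Not at hcon
  have : W = ⊥ := by
    rw [Subgroup.eq_bot_iff_forall]; exact hcon
  have h4 := h.2.2
  rw [this, Subgroup.card_bot] at h4
  omega

theorem AbT.ne_one {x : MulAut M} {W : Subgroup M} (h : AbT x W) : x ≠ 1 := by
  obtain ⟨a, ha, ha1⟩ := h.exists_ne_one
  intro h1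
  apply ha1
  apply h.2.1 a ha
  rw [h1, MulAut.one_apply]

theorem AbT.inv {x : MulAut M} {W : Subgroup M} (h : AbT x W) : AbT x⁻¹ W := by
  refine ⟨?_, ?_, h.2.2⟩
  · intro m
    have h1 := h.1 (x⁻¹ m)
    have h2 : x (x⁻¹ m) = m := by
      rw [← MulAut.mul_apply, mul_inv_cancel, MulAut.one_apply]
    rw [h2] at h1
    have := W.inv_mem h1
    rwa [mul_inv_rev, inv_inv] at this
  · intro w hw hfix
    apply h.2.1 w hw
    have : x (x⁻¹ w) = w := by
      rw [← MulAut.mul_apply, mul_inv_cancel, MulAut.one_apply]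
    rw [hfix] at this
    exact this

theorem AbT.conj {x : MulAut M} {W : Subgroup M} (h : AbT x W) (p : MulAut M) :
    AbT (p * x * p⁻¹) (W.map p.toMonoidHom) := by
  have hpp : ∀ m, p (p⁻¹ m) = m := by
    intro m
    rw [← MulAut.mul_apply, mul_inv_cancel, MulAut.one_apply]
  refine ⟨?_, ?_, ?_⟩
  · intro m
    refine ⟨x (p⁻¹ m) * (p⁻¹ m)⁻¹, h.1 _, ?_⟩
    show p (x (p⁻¹ m) * (p⁻¹ m)⁻¹) = (p * x * p⁻¹) m * m⁻¹
    rw [map_mul, map_inv, hpp]
    simp only [MulAut.mul_apply]
  · rintro w ⟨v, hv, rfl⟩ hfix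
    have h1 : (p * x * p⁻¹) (p v) = p (x v) := by
      simp only [MulAut.mul_apply]
      congr 2
      rw [← MulAut.mul_apply, inv_mul_cancel, MulAut.one_apply]
    have h2 : p (x v) = p v := by
      rw [← h1]; exact hfix
    have h3 : x v = v := p.injective h2
    have h4 := h.2.1 v hv h3
    show p v = 1
    rw [h4, map_one]
  · rw [← h.2.2]
    exact Subgroup.card_map_of_injective p.injective


/-- pointwise commutation from commutation in `MulAut M` -/
theorem ab_comm_apply {x x' : MulAut M} (hc : x * x' = x' * x) (m : M) : x (x' m) = x' (x m) := by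
  have := DFunLike.congr_fun hc m
  simpa only [MulAut.mul_apply] using this

/-- two commuting automorphisms of type `W` agreeing at one nontrivial point of `W` are equal -/
theorem ab_L0 (hMc : ∀ a b : M, a * b = b * a) (hM2 : ∀ m : M, m * m = 1)
    {x x' : MulAut M} {W : Subgroup M} (hT : AbT x W) (hT' : AbT x' W)
    (hc : x * x' = x' * x) {a : M} (ha : a ∈ W) (ha1 : a ≠ 1) (hxa : x' a = x a) : x' = x := by
  have hcm := ab_comm_apply hc
  -- agreement on `W`
  have hW : ∀ w ∈ W, x' w = x w := by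
    intro w hw
    rcases hT.enum hM2 ha ha1 w hw with rfl | rfl | rfl | rfl
    · rw [map_one, map_one]
    · exact hxa
    · rw [← hcm, hxa]
    · rw [map_mul, map_mul, hxa, ← hcm, hxa]
  set e : MulAut M := x⁻¹ * x' with he
  have hxx : ∀ m, x⁻¹ (x m) = m := by
    intro m
    rw [← MulAut.mul_apply, inv_mul_cancel, MulAut.one_apply]
  have hxx' : ∀ m, x (x⁻¹ m) = m := by
    intro m
    rw [← MulAut.mul_apply, mul_inv_cancel, MulAut.one_apply]
  have heW : ∀ u ∈ W, e u = u := by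
    intro u hu
    show x⁻¹ (x' u) = u
    rw [hW u hu, hxx]
  have hem : ∀ m, e m * m⁻¹ ∈ W := by
    intro m
    set n := e m with hn
    have hxn : x n = x' m := by
      show x (x⁻¹ (x' m)) = x' m
      exact hxx' _
    have h1 : n * m⁻¹ = (x n * n⁻¹)⁻¹ * (x' m * m⁻¹) := by
      rw [hxn]; group
    rw [h1]
    exact W.mul_mem (W.inv_mem (hT.1 n)) (hT'.1 m)
  have hee : e * e = 1 := by
    apply MulEquiv.ext
    intro m
    simp only [MulAut.mul_apply, MulAut.one_apply]
    set u := e m * m⁻¹ with hu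
    have huW : u ∈ W := hem m
    have h1 : e m = u * m := by rw [hu]; group
    rw [h1, map_mul, heW u huW, h1, ← mul_assoc, hM2, one_mul]
  have hcomm : Commute x⁻¹ x' := (Commute.inv_left (show Commute x x' from hc))
  have heee : e ^ 3 = 1 := by
    rw [he, hcomm.mul_pow]
    have h1 : x ^ 3 = 1 := by
      have := hT.cube hMc hM2
      rw [pow_succ, pow_two]; exact this
    have h2 : x' ^ 3 = 1 := by
      have := hT'.cube hMc hM2
      rw [pow_succ, pow_two]; exact this
    rw [inv_pow, h1, h2, inv_one, one_mul]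
  have he1 : e = 1 := by
    have : e ^ 3 = e * (e * e) := by rw [pow_succ, pow_two, mul_assoc]
    rw [this, hee, mul_one] at heee
    exact heee
  have : x * e = x' := by rw [he, mul_inv_cancel_left]
  rw [← this, he1, mul_one]

/-- **the key lemma**: commuting automorphisms of types `W`, `W'` generating different subgroups:
the second one centralizes `W` -/
theorem ab_L1 (hMc : ∀ a b : M, a * b = b * a) (hM2 : ∀ m : M, m * m = 1)
    {x x' : MulAut M} {W W' : Subgroup M} (hT : AbT x W) (hT' : AbT x' W')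
    (hc : x * x' = x' * x) (h1 : x' ≠ x) (h2 : x' ≠ x⁻¹) : ∀ w ∈ W, x' w = w := by
  classical
  by_contra hcon
  push Not at hcon
  obtain ⟨w₀, hw₀, hmove⟩ := hcon
  have hcm := ab_comm_apply hc
  -- a general surjectivity statement
  have hsurj : ∀ (z : MulAut M), (∀ w ∈ W, z w ∈ W) → (∀ w ∈ W, z w = w → w = 1) →
      ∀ w ∈ W, ∃ m ∈ W, w = z m * m⁻¹ := by
    intro z hzW hzf
    have hinj : Function.Injective (fun w : W => (⟨z w * (w : M)⁻¹,
        W.mul_mem (hzW w w.2) (W.inv_mem w.2)⟩ : W)) := by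
      intro w v hwv
      have h3 : z (w : M) * (w : M)⁻¹ = z (v : M) * (v : M)⁻¹ := Subtype.mk.inj hwv
      have h4 : z ((w : M) * (v : M)⁻¹) = (w : M) * (v : M)⁻¹ := by
        rw [map_mul, map_inv]
        have : z (w : M) = z (v : M) * (v : M)⁻¹ * (w : M) := by
          rw [← h3]; group
        rw [this, hMc (z (v : M) * (v : M)⁻¹ * (w : M)) _]
        calc (z (v : M))⁻¹ * (z (v : M) * (v : M)⁻¹ * (w : M)) = (v : M)⁻¹ * (w : M) := by group
          _ = (w : M) * (v : M)⁻¹ := hMc _ _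
      have h5 := hzf _ (W.mul_mem w.2 (W.inv_mem v.2)) h4
      exact Subtype.ext (mul_inv_eq_one.1 h5)
    have hs := Finite.injective_iff_surjective.1 hinj
    intro w hw
    obtain ⟨m, hm⟩ := hs ⟨w, hw⟩
    exact ⟨m, m.2, (Subtype.mk.inj hm).symm⟩
  -- `x'` preserves `W`
  have hx'W : ∀ w ∈ W, x' w ∈ W := by
    intro w hw
    obtain ⟨m, hm, rfl⟩ := hsurj x (fun w hw => hT.map_mem hw) hT.2.1 w hw
    rw [map_mul, map_inv, ← hcm]
    exact hT.1 (x' m)
  have hw₀1 : w₀ ≠ 1 := by
    rintro rfl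
    exact hmove (map_one _)
  -- `x'` has no fixed points on `W`
  have hx'f : ∀ w ∈ W, x' w = w → w = 1 := by
    intro w₁ hw₁ hfix
    by_contra hw₁1
    have hne : w₁ ≠ w₀ := by
      rintro rfl
      exact hmove hfix
    have hprod : w₁ * w₀ ≠ 1 := by
      intro h
      apply hne
      have : w₀ = w₁⁻¹ := eq_inv_of_mul_eq_one_right h
      rw [this, ab_inv_self hM2]
    have henum := aut4_enum hT.2.2 hw₁ hw₀ hw₁1 hw₀1 hne hprod
    rcases henum _ (hx'W w₀ hw₀) with h | h | h | h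
    · apply hw₀1
      have : x' w₀ = x' 1 := by rw [h, map_one]
      exact x'.injective this
    · apply hne
      have : x' w₀ = x' w₁ := by rw [h, hfix]
      exact (x'.injective this).symm
    · exact hmove h
    · have h3 : x' (x' w₀) = w₀ := by
        rw [h, map_mul, hfix, h, ← mul_assoc, hM2, one_mul]
      have h4 := hT'.cube_apply hMc hM2 w₀
      rw [h3] at h4
      exact hmove h4
  -- `W ≤ W'`, hence `W = W'`
  have hle : W ≤ W' := by
    intro w hw
    obtain ⟨m, hm, rfl⟩ := hsurj x' hx'W hx'f w hw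
    exact hT'.1 m
  have heq : W = W' := by
    apply Subgroup.eq_of_le_of_card_ge hle
    rw [hT.2.2, hT'.2.2]
  subst heq
  -- compare `x'` with `x` and `x⁻¹` at `w₀`
  rcases hT.enum hM2 hw₀ hw₀1 _ (hx'W w₀ hw₀) with h | h | h | h
  · apply hw₀1
    have : x' w₀ = x' 1 := by rw [h, map_one]
    exact x'.injective this
  · exact hmove h
  · exact h1 (ab_L0 hMc hM2 hT hT' hc hw₀ hw₀1 h)
  · apply h2
    have hc' : x⁻¹ * x' = x' * x⁻¹ := (Commute.inv_left (show Commute x x' from hc))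
    apply ab_L0 hMc hM2 hT.inv hT' hc' hw₀ hw₀1
    rw [h, ← hT.sq_apply hMc hM2 hw₀ hw₀1]
    have h3 := hT.cube_apply hMc hM2 w₀
    have h4 : x⁻¹ (x (x (x w₀))) = x (x w₀) := by
      rw [← MulAut.mul_apply, inv_mul_cancel, MulAut.one_apply]
    rw [h3] at h4
    exact h4.symm


/-- a 3-element normalizing `⟨x⟩`, `x` of order 3, centralizes `x` -/
theorem ab_comm_of_norm {H : Type*} [Group H] {x y : H} (hx3 : x ^ 3 = 1) (hx1 : x ≠ 1)
    (hy : ∃ k : ℕ, y ^ (3 ^ k) = 1) (hn : y * x * y⁻¹ = x ∨ y * x * y⁻¹ = x⁻¹) :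
    x * y = y * x := by
  rcases hn with h | h
  · calc x * y = (y * x * y⁻¹) * y := by rw [h]
      _ = y * x := by group
  · exfalso
    have h2 : Commute (y ^ 2) x := by
      show y ^ 2 * x = x * y ^ 2
      have : y ^ 2 * x * (y ^ 2)⁻¹ = x := by
        calc y ^ 2 * x * (y ^ 2)⁻¹ = y * (y * x * y⁻¹) * y⁻¹ := by rw [pow_two]; group
          _ = y * x⁻¹ * y⁻¹ := by rw [h]
          _ = (y * x * y⁻¹)⁻¹ := by group
          _ = x := by rw [h, inv_inv]
      calc y ^ 2 * x = (y ^ 2 * x * (y ^ 2)⁻¹) * y ^ 2 := by group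
        _ = x * y ^ 2 := by rw [this]
    obtain ⟨k, hk⟩ := hy
    obtain ⟨j, hj⟩ : Odd (3 ^ k) := Odd.pow (by decide)
    have hy2 : y = (y ^ 2) ^ (j + 1) := by
      rw [← pow_mul]
      have : 2 * (j + 1) = 3 ^ k + 1 := by omega
      rw [this, pow_succ, hk, one_mul]
    have hcy : Commute y x := by
      rw [hy2]; exact h2.pow_left _
    have h3 : y * x * y⁻¹ = x := by
      rw [hcy.eq]; group
    rw [h3] at h
    apply hx1
    have h4 : x ^ 2 = 1 := by
      rw [pow_two]
      nth_rewrite 1 [h]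
      exact inv_mul_cancel x
    calc x = x ^ 3 * (x ^ 2)⁻¹ := by group
      _ = 1 := by rw [hx3, h4]; simp

/-- an element conjugating `g` to `g` or `g⁻¹` normalizes `⟨g⟩` -/
theorem ab_mem_normalizer {H : Type*} [Group H] {q g : H}
    (h : q * g * q⁻¹ = g ∨ q * g * q⁻¹ = g⁻¹) :
    q ∈ Subgroup.normalizer ((Subgroup.zpowers g : Subgroup H) : Set H) := by
  have hback : q⁻¹ * g * q = g ∨ q⁻¹ * g * q = g⁻¹ := by
    rcases h with h | h
    · left
      calc q⁻¹ * g * q = q⁻¹ * (q * g * q⁻¹) * q := by rw [h]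
        _ = g := by group
    · right
      have : q⁻¹ * g⁻¹ * q = g := by
        calc q⁻¹ * g⁻¹ * q = q⁻¹ * (q * g * q⁻¹) * q := by rw [h]
          _ = g := by group
      calc q⁻¹ * g * q = (q⁻¹ * g⁻¹ * q)⁻¹ := by group
        _ = g⁻¹ := by rw [this]
  have key : ∀ (r : H), (r * g * r⁻¹ = g ∨ r * g * r⁻¹ = g⁻¹) →
      ∀ v ∈ Subgroup.zpowers g, r * v * r⁻¹ ∈ Subgroup.zpowers g := by
    intro r hr v hv
    obtain ⟨k, rfl⟩ := Subgroup.mem_zpowers_iff.1 hv
    rw [← conj_zpow]
    rcases hr with hr | hr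
    · rw [hr]; exact Subgroup.zpow_mem_zpowers g k
    · rw [hr, inv_zpow]
      exact Subgroup.inv_mem _ (Subgroup.zpow_mem_zpowers g k)
  rw [Subgroup.mem_normalizer_iff]
  intro v
  constructor
  · exact key q h v
  · intro hv
    have := key q⁻¹ (by rw [inv_inv]; exact hback) _ hv
    have h2 : q⁻¹ * (q * v * q⁻¹) * q⁻¹⁻¹ = v := by group
    rwa [h2] at this

theorem ab_central (hMc : ∀ a b : M, a * b = b * a)
    (hM2 : ∀ m : M, m * m = 1) (hM16 : Nat.card M ≤ 16)
    (P : Subgroup (MulAut M)) (hP : IsPGroup 3 P) {x : MulAut M} (hx : x ∈ P)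
    (W : Subgroup M) (hW : Nat.card W = 4)
    (hxW : ∀ m, x m * m⁻¹ ∈ W) (hxf : ∀ w ∈ W, x w = w → w = 1) :
    ∀ y ∈ P, x * y = y * x := by
  classical
  have : Fact (Nat.Prime 3) := ⟨by norm_num⟩
  have hT : AbT x W := ⟨hxW, hxf, hW⟩
  have hx3 : x ^ 3 = 1 := by
    have := hT.cube hMc hM2
    rw [pow_succ, pow_two]; exact this
  have hx1 : x ≠ 1 := hT.ne_one
  have h3el : ∀ y ∈ P, ∃ k : ℕ, y ^ (3 ^ k) = 1 := by
    intro y hy
    obtain ⟨k, hk⟩ := hP ⟨y, hy⟩
    refine ⟨k, ?_⟩
    have := congrArg Subtype.val hk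
    simpa using this
  set xP : P := ⟨x, hx⟩ with hxP
  set N : Subgroup P := Subgroup.normalizer ((Subgroup.zpowers xP : Subgroup P) : Set P) with hN
  -- elements of `N` centralize `x`
  have hcommN : ∀ (y : MulAut M) (hy : y ∈ P), (⟨y, hy⟩ : P) ∈ N → x * y = y * x := by
    intro y hy hyN
    have h1 := (Subgroup.mem_normalizer_iff.1 hyN xP).1 (Subgroup.mem_zpowers xP)
    obtain ⟨k, hk⟩ := Subgroup.mem_zpowers_iff.1 h1
    have hk' : x ^ k = y * x * y⁻¹ := by
      have := congrArg Subtype.val hk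
      simpa using this
    have ho : orderOf x = 3 := orderOf_eq_prime hx3 hx1
    have hmod := zpow_mod_orderOf x k
    rw [ho] at hmod
    apply ab_comm_of_norm hx3 hx1 (h3el y hy)
    have hcases : k % (3 : ℤ) = 0 ∨ k % (3 : ℤ) = 1 ∨ k % (3 : ℤ) = 2 := by omega
    rcases hcases with h0 | h0 | h0
    · exfalso
      apply hx1
      have h2 : y * x * y⁻¹ = 1 := by
        rw [← hk', ← hmod]
        have : ((3 : ℕ) : ℤ) = 3 := rfl
        rw [this, h0, zpow_zero]
      calc x = y⁻¹ * (y * x * y⁻¹) * y := by group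
        _ = 1 := by rw [h2]; group
    · left
      rw [← hk', ← hmod]
      have : ((3 : ℕ) : ℤ) = 3 := rfl
      rw [this, h0, zpow_one]
    · right
      rw [← hk', ← hmod]
      have : ((3 : ℕ) : ℤ) = 3 := rfl
      rw [this, h0]
      have h4 : x ^ (2 : ℤ) * x = 1 := by
        have : x ^ (2 : ℤ) = x ^ 2 := by norm_cast
        rw [this, ← pow_succ]; exact hx3
      exact eq_inv_of_mul_eq_one_left h4
  by_cases hNtop : N = ⊤
  · intro y hy
    apply hcommN y hy
    rw [hNtop]; exact Subgroup.mem_top _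
  · exfalso
    have hlt : N < ⊤ := lt_top_iff_ne_top.2 hNtop
    have : Group.IsNilpotent P := hP.isNilpotent
    have hnc := Group.normalizerCondition_of_isNilpotent (G := P) N hlt
    obtain ⟨p, hpNN, hpN⟩ := SetLike.exists_of_lt hnc
    set p₀ : MulAut M := (p : MulAut M) with hp₀
    have hp₀P : p₀ ∈ P := p.2
    set x₁ : MulAut M := p₀ * x * p₀⁻¹ with hx₁
    set x₂ : MulAut M := p₀ * x₁ * p₀⁻¹ with hx₂
    have hx₁P : x₁ ∈ P := P.mul_mem (P.mul_mem hp₀P hx) (P.inv_mem hp₀P)
    have hx₂P : x₂ ∈ P := P.mul_mem (P.mul_mem hp₀P hx₁P) (P.inv_mem hp₀P)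
    have hT₁ : AbT x₁ (W.map p₀.toMonoidHom) := hT.conj p₀
    have hT₂ : AbT x₂ ((W.map p₀.toMonoidHom).map p₀.toMonoidHom) := hT₁.conj p₀
    -- membership in `N`
    have hxN : xP ∈ N := Subgroup.le_normalizer (Subgroup.mem_zpowers xP)
    have hx₁N : (⟨x₁, hx₁P⟩ : P) ∈ N := by
      have := (Subgroup.mem_normalizer_iff.1 hpNN xP).1 hxN
      exact this
    have hx₂N : (⟨x₂, hx₂P⟩ : P) ∈ N := by
      have := (Subgroup.mem_normalizer_iff.1 hpNN ⟨x₁, hx₁P⟩).1 hx₁N
      exact this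
    have hc01 : x * x₁ = x₁ * x := hcommN x₁ hx₁P hx₁N
    have hc02 : x * x₂ = x₂ * x := hcommN x₂ hx₂P hx₂N
    have hc12 : x₁ * x₂ = x₂ * x₁ := by
      calc x₁ * x₂ = p₀ * (x * x₁) * p₀⁻¹ := by rw [hx₂, hx₁]; group
        _ = p₀ * (x₁ * x) * p₀⁻¹ := by rw [hc01]
        _ = x₂ * x₁ := by rw [hx₂, hx₁]; group
    -- distinctness
    have hd1 : x₁ ≠ x ∧ x₁ ≠ x⁻¹ := by
      constructor
      · intro h
        apply hpN
        apply ab_mem_normalizer
        left
        apply Subtype.ext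
        exact h
      · intro h
        apply hpN
        apply ab_mem_normalizer
        right
        apply Subtype.ext
        exact h
    have hd2 : x₂ ≠ x ∧ x₂ ≠ x⁻¹ := by
      have hp2 : p * p ∈ N → False := by
        intro h
        apply hpN
        obtain ⟨k, hk⟩ := hP p
        obtain ⟨j, hj⟩ : Odd (3 ^ k) := Odd.pow (by decide)
        have : p = (p * p) ^ (j + 1) := by
          rw [← pow_two, ← pow_mul]
          have : 2 * (j + 1) = 3 ^ k + 1 := by omega
          rw [this, pow_succ, hk, one_mul]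
        rw [this]
        exact N.pow_mem h _
      have hx₂' : x₂ = (p₀ * p₀) * x * (p₀ * p₀)⁻¹ := by rw [hx₂, hx₁]; group
      constructor
      · intro h
        apply hp2
        apply ab_mem_normalizer
        left
        apply Subtype.ext
        show (p₀ * p₀) * x * (p₀ * p₀)⁻¹ = x
        rw [← hx₂']; exact h
      · intro h
        apply hp2
        apply ab_mem_normalizer
        right
        apply Subtype.ext
        show (p₀ * p₀) * x * (p₀ * p₀)⁻¹ = x⁻¹
        rw [← hx₂']; exact h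
    have hd12 : x₂ ≠ x₁ ∧ x₂ ≠ x₁⁻¹ := by
      constructor
      · intro h
        apply hd1.1
        calc x₁ = p₀⁻¹ * x₂ * p₀ := by rw [hx₂]; group
          _ = p₀⁻¹ * x₁ * p₀ := by rw [h]
          _ = x := by rw [hx₁]; group
      · intro h
        apply hd1.2
        calc x₁ = p₀⁻¹ * x₂ * p₀ := by rw [hx₂]; group
          _ = p₀⁻¹ * x₁⁻¹ * p₀ := by rw [h]
          _ = x⁻¹ := by rw [hx₁]; group
    have hd1' : x ≠ x₁ ∧ x ≠ x₁⁻¹ := by
      refine ⟨fun h => hd1.1 h.symm, fun h => hd1.2 ?_⟩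
      rw [h, inv_inv]
    -- the four applications of the key lemma
    have hB := ab_L1 hMc hM2 hT₁ hT hc01.symm hd1'.1 hd1'.2
    have hC := ab_L1 hMc hM2 hT hT₂ hc02 hd2.1 hd2.2
    have hD := ab_L1 hMc hM2 hT₁ hT₂ hc12 hd12.1 hd12.2
    -- `M = W * W₁`
    set W₁ := W.map p₀.toMonoidHom with hW₁
    have hinj : Function.Injective (fun ab : W × W₁ => ((ab.1 : M) * (ab.2 : M))) := by
      rintro ⟨a, b⟩ ⟨a', b'⟩ hab
      simp only at hab
      have ht : (a' : M)⁻¹ * (a : M) = (b' : M) * (b : M)⁻¹ := by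
        calc (a' : M)⁻¹ * (a : M) = (a' : M)⁻¹ * ((a : M) * (b : M)) * (b : M)⁻¹ := by group
          _ = (a' : M)⁻¹ * ((a' : M) * (b' : M)) * (b : M)⁻¹ := by rw [hab]
          _ = (b' : M) * (b : M)⁻¹ := by group
      have htW : (a' : M)⁻¹ * (a : M) ∈ W := W.mul_mem (W.inv_mem a'.2) a.2
      have htW₁ : (a' : M)⁻¹ * (a : M) ∈ W₁ := by
        rw [ht]; exact W₁.mul_mem b'.2 (W₁.inv_mem b.2)
      have h1 := hT.2.1 _ htW (hB _ htW₁)
      have ha : a = a' := by
        apply Subtype.ext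
        have := inv_mul_eq_one.1 h1
        exact this.symm
      have hb : b = b' := by
        apply Subtype.ext
        rw [h1] at ht
        have := mul_inv_eq_one.1 ht.symm
        exact this.symm
      rw [ha, hb]
    have hcard : Nat.card M ≤ Nat.card (W × W₁) := by
      rw [Nat.card_prod, hT.2.2, hT₁.2.2]
      omega
    have hsurj := (hinj.bijective_of_nat_card_le hcard).2
    apply hT₂.ne_one
    apply MulEquiv.ext
    intro m
    obtain ⟨⟨a, b⟩, rfl⟩ := hsurj m
    simp only [MulAut.one_apply]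
    rw [map_mul, hC _ a.2, hD _ b.2]

end Cfsg.Agent.Helper15.JC45
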