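import Mathlib
import Cfsg.Agent.Lib.Helper2.AICDefs
import Cfsg.Agent.Lib.Helper2.AICGEN
import Cfsg.Agent.Lib.Helper2.AICBAS1
import Cfsg.Agent.Lib.Helper18.AICFACT
import Cfsg.Agent.Lib.Helper4.AICBAS2
import Cfsg.Agent.Lib.Helper24.AICORB
import Cfsg.Agent.Lib.Helper25.AICD2
import Cfsg.Agent.Lib.Helper25.AICD3
import Cfsg.Agent.S1224
import Cfsg.Agent.S1225

/-!
# S2202, piece D5A (helper16): counting in `D' = X ⊓ u X u⁻¹`, `X = N_G(K_P)`.
-/

set_option autoImplicit false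
set_option linter.unusedSectionVars false
set_option linter.unusedVariables false

namespace Cfsg.Agent.Helper2.AIC

variable {G : Type*} [Group G] [Finite G]

/-- `X = N_G(K_P)` -/
abbrev d5aX (P : Sylow 2 G) : Subgroup G := Subgroup.normalizer ((Kn P : Subgroup G) : Set G)

/-- `D' = X ⊓ u X u⁻¹` -/
abbrev d5aDp (P : Sylow 2 G) (u : G) : Subgroup G :=
  d5aX P ⊓ (d5aX P).map (MulAut.conj u).toMonoidHom

omit [Finite G] in
theorem d5a_mem_map {X : Subgroup G} {u d : G} :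
    d ∈ X.map (MulAut.conj u).toMonoidHom ↔ u⁻¹ * d * u ∈ X := by
  constructor
  · rintro ⟨x, hx, rfl⟩
    have : u⁻¹ * ((MulAut.conj u).toMonoidHom x) * u = x := by
      show u⁻¹ * (u * x * u⁻¹) * u = x
      group
    rw [this]; exact hx
  · intro h
    refine ⟨u⁻¹ * d * u, h, ?_⟩
    simp [MulAut.conj_apply, mul_assoc]

omit [Finite G] in
theorem d5a_inv_eq {u : G} (hu : orderOf u = 2) : u⁻¹ = u := by
  have h : u ^ 2 = 1 := by rw [← hu]; exact pow_orderOf_eq_one u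
  rw [inv_eq_iff_mul_eq_one, ← pow_two]; exact h

theorem d5a_odd_card (c : Cfg G) {P : Sylow 2 G} (hne : ∃ R : Sylow 2 G, Kn R ≠ Kn P) {u : G}
    (huX : u ∉ d5aX P) : Odd (Nat.card (d5aDp P u)) :=
  (X_stronglyEmbedded c hne).2.2 u huX

theorem d5a_odd_order (c : Cfg G) {P : Sylow 2 G} (hne : ∃ R : Sylow 2 G, Kn R ≠ Kn P) {u : G}
    (huX : u ∉ d5aX P) {d : G} (hd : d ∈ d5aDp P u) : Odd (orderOf d) := by
  have h1 : orderOf (⟨d, hd⟩ : d5aDp P u) ∣ Nat.card (d5aDp P u) := orderOf_dvd_natCard _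
  have h2 : orderOf (⟨d, hd⟩ : d5aDp P u) = orderOf d := Subgroup.orderOf_mk d hd
  rw [h2] at h1
  exact Odd.of_dvd_nat (d5a_odd_card c hne huX) h1

theorem d5a_mem_X (c : Cfg G) {P R : Sylow 2 G} (hR : Kn R = Kn P) {s : G} (hs : s ∈ R) :
    s ∈ d5aX P :=
  Mn_le_normalizer_Kn c hR (Subgroup.le_normalizer hs)

/-- S1225 for `X`: the involutions of the block are conjugate under `D'` -/
theorem d5a_conj (c : Cfg G) {P : Sylow 2 G} (hne : ∃ R : Sylow 2 G, Kn R ≠ Kn P) {u : G}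
    (hu : orderOf u = 2) (huX : u ∉ d5aX P) {R1 R2 : Sylow 2 G} (h1 : Kn R1 = Kn P)
    (h2 : Kn R2 = Kn P) {s t : G} (hs : s ∈ R1) (hso : orderOf s = 2) (ht : t ∈ R2)
    (hto : orderOf t = 2) : ∃ d ∈ d5aDp P u, d * s * d⁻¹ = t ∧ d • R1 = R2 := by
  obtain ⟨d, hd, hdst⟩ := (Cfsg.Agent.S1225.result (d5aX P) (X_stronglyEmbedded c hne) u hu huX s t hso
    (d5a_mem_X c h1 hs) hto (d5a_mem_X c h2 ht)).1
  refine ⟨d, hd, hdst, ?_⟩
  have h3 : t ∈ (d • R1 : Sylow 2 G) := by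
    rw [← hdst]; exact (conj_mem_smul R1 d s).2 hs
  exact c.sylow_unique hto h3 ht

theorem Dp_trans (c : Cfg G) {P : Sylow 2 G} (hne : ∃ R : Sylow 2 G, Kn R ≠ Kn P) {u : G}
    (hu : orderOf u = 2) (huX : u ∉ Subgroup.normalizer ((Kn P : Subgroup G) : Set G))
    {R1 R2 : Sylow 2 G} (h1 : Kn R1 = Kn P) (h2 : Kn R2 = Kn P) :
    ∃ d ∈ Subgroup.normalizer ((Kn P : Subgroup G) : Set G) ⊓
      (Subgroup.normalizer ((Kn P : Subgroup G) : Set G)).map (MulAut.conj u).toMonoidHom,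
      d • R1 = R2 := by
  obtain ⟨s, hs, hso⟩ := c.exists_inv R1
  obtain ⟨t, ht, hto⟩ := c.exists_inv R2
  obtain ⟨d, hd, _, h⟩ := d5a_conj c hne hu huX h1 h2 hs hso ht hto
  exact ⟨d, hd, h⟩

theorem d5a_inf_Cn (c : Cfg G) {P : Sylow 2 G} (hne : ∃ R : Sylow 2 G, Kn R ≠ Kn P) {u : G}
    (huX : u ∉ d5aX P) : (d5aDp P u ⊓ Mn P ⊓ Cn P : Subgroup G) = d5aDp P u ⊓ Kn P := by
  ext x
  constructor
  · rintro ⟨⟨hD, _⟩, hC⟩
    exact ⟨hD, (c.mem_Kn_iff P).2 ⟨hC, d5a_odd_order c hne huX hD⟩⟩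
  · rintro ⟨hD, hK⟩
    exact ⟨⟨hD, c.Kn_le_Mn P hK⟩, c.Kn_le_Cn P hK⟩

theorem card_Dp_stab (c : Cfg G) {P : Sylow 2 G} (hne : ∃ R : Sylow 2 G, Kn R ≠ Kn P) {u : G}
    (hu : orderOf u = 2) (huX : u ∉ Subgroup.normalizer ((Kn P : Subgroup G) : Set G)) :
    Nat.card (Subgroup.normalizer ((Kn P : Subgroup G) : Set G) ⊓
      (Subgroup.normalizer ((Kn P : Subgroup G) : Set G)).map (MulAut.conj u).toMonoidHom ⊓
      Mn P : Subgroup G) = nInv P *
    Nat.card (Subgroup.normalizer ((Kn P : Subgroup G) : Set G) ⊓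
      (Subgroup.normalizer ((Kn P : Subgroup G) : Set G)).map (MulAut.conj u).toMonoidHom ⊓
      Kn P : Subgroup G) := by
  have htr : ∀ s t : G, s ∈ P → orderOf s = 2 → t ∈ P → orderOf t = 2 →
      ∃ e ∈ (d5aDp P u ⊓ Mn P : Subgroup G), e * s * e⁻¹ = t := by
    intro s t hs hso ht hto
    obtain ⟨d, hd, hdst, hdP⟩ := d5a_conj c hne hu huX rfl rfl hs hso ht hto
    exact ⟨d, ⟨hd, mem_Mn_iff.2 hdP⟩, hdst⟩
  have h := c.card_of_trans (P := P) (E := d5aDp P u ⊓ Mn P) inf_le_right htr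
  rw [d5a_inf_Cn c hne huX] at h
  exact h

/-- `D'` preserves the block -/
theorem d5a_smul_block (c : Cfg G) {P R : Sylow 2 G} (hR : Kn R = Kn P) {d : G}
    (hd : d ∈ d5aX P) : Kn (d • R) = Kn P := by
  have h1 : d ∈ Subgroup.normalizer ((Kn R : Subgroup G) : Set G) := by rw [hR]; exact hd
  rw [(mem_normalizer_Kn_iff c).1 h1, hR]

theorem card_Dp (c : Cfg G) {P : Sylow 2 G} (hne : ∃ R : Sylow 2 G, Kn R ≠ Kn P) {u : G}
    (hu : orderOf u = 2) (huX : u ∉ Subgroup.normalizer ((Kn P : Subgroup G) : Set G)) :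
    Nat.card (Subgroup.normalizer ((Kn P : Subgroup G) : Set G) ⊓
      (Subgroup.normalizer ((Kn P : Subgroup G) : Set G)).map (MulAut.conj u).toMonoidHom :
      Subgroup G) = Nat.card {R : Sylow 2 G // Kn R = Kn P} * (nInv P *
    Nat.card (Subgroup.normalizer ((Kn P : Subgroup G) : Set G) ⊓
      (Subgroup.normalizer ((Kn P : Subgroup G) : Set G)).map (MulAut.conj u).toMonoidHom ⊓
      Kn P : Subgroup G)) := by
  rw [← card_Dp_stab c hne hu huX]
  have e := MulAction.orbitProdStabilizerEquivGroup (d5aDp P u) P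
  have h1 : Nat.card (d5aDp P u) =
      Nat.card (MulAction.orbit (d5aDp P u) P) * Nat.card (MulAction.stabilizer (d5aDp P u) P) := by
    rw [← Nat.card_prod]; exact (Nat.card_congr e).symm
  have h2 : Nat.card (MulAction.orbit (d5aDp P u) P) = Nat.card {R : Sylow 2 G // Kn R = Kn P} := by
    refine Nat.card_congr (Equiv.subtypeEquivRight ?_)
    intro R
    rw [MulAction.mem_orbit_iff]
    constructor
    · rintro ⟨d, rfl⟩
      rw [Subgroup.smul_def]
      exact d5a_smul_block c rfl d.2.1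
    · intro hR
      obtain ⟨d, hd, hdR⟩ := Dp_trans c hne hu huX (rfl : Kn P = Kn P) hR
      exact ⟨⟨d, hd⟩, hdR⟩
  have h3 : MulAction.stabilizer (d5aDp P u) P = (Mn P).subgroupOf (d5aDp P u) := by
    ext d
    rw [MulAction.mem_stabilizer_iff, Subgroup.mem_subgroupOf, mem_Mn_iff, Subgroup.smul_def]
  have h4 : Nat.card (MulAction.stabilizer (d5aDp P u) P) =
      Nat.card (d5aDp P u ⊓ Mn P : Subgroup G) := by
    rw [h3, ← Subgroup.inf_subgroupOf_right, inf_comm]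
    exact Nat.card_congr (Subgroup.subgroupOfEquivOfLe inf_le_left).toEquiv
  rw [h1, h2, h4]

theorem card_Dp_inverted (c : Cfg G) {P : Sylow 2 G} (hne : ∃ R : Sylow 2 G, Kn R ≠ Kn P) {u : G}
    (hu : orderOf u = 2) (huX : u ∉ Subgroup.normalizer ((Kn P : Subgroup G) : Set G)) :
    Nat.card {d : G // d ∈ Subgroup.normalizer ((Kn P : Subgroup G) : Set G) ⊓
      (Subgroup.normalizer ((Kn P : Subgroup G) : Set G)).map (MulAut.conj u).toMonoidHom ∧
      u * d * u⁻¹ = d⁻¹} = Nat.card {R : Sylow 2 G // Kn R = Kn P} * nInv P := by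
  rw [← card_inv_X c P]
  have hxy : (QuotientGroup.mk 1 : G ⧸ d5aX P) ≠ QuotientGroup.mk u := by
    intro h
    rw [QuotientGroup.eq] at h
    apply huX
    simpa using h
  rw [← Cfsg.Agent.S1224.result (d5aX P) (X_stronglyEmbedded c hne) _ _ hxy]
  have hui : u⁻¹ = u := d5a_inv_eq hu
  have huu : u * u = 1 := by
    have : u ^ 2 = 1 := by rw [← hu]; exact pow_orderOf_eq_one u
    rwa [pow_two] at this
  refine Nat.card_congr ?_
  refine
    { toFun := fun d => ⟨d.1 * u, ?_, ?_⟩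
      invFun := fun i => ⟨i.1 * u⁻¹, ?_, ?_⟩
      left_inv := fun d => by ext; simp
      right_inv := fun i => by ext; simp }
  · -- order of d * u
    obtain ⟨d, hd, hinv⟩ := d
    have h1 : u * d = d⁻¹ * u := by
      have : u * d * u⁻¹ * u = d⁻¹ * u := by rw [hinv]
      simpa [mul_assoc] using this
    refine orderOf_eq_prime ?_ ?_
    · show (d * u) ^ 2 = 1
      rw [pow_two]
      calc d * u * (d * u) = d * (u * d) * u := by group
        _ = d * (d⁻¹ * u) * u := by rw [h1]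
        _ = u * u := by group
        _ = 1 := huu
    · intro h
      apply huX
      have : d = u⁻¹ := eq_inv_of_mul_eq_one_left h
      rw [← hui, ← this]
      exact hd.1
  · obtain ⟨d, hd, hinv⟩ := d
    show (d * u) • (QuotientGroup.mk 1 : G ⧸ d5aX P) = QuotientGroup.mk u
    rw [MulAction.Quotient.smul_mk, QuotientGroup.eq, smul_eq_mul]
    have h1 : u⁻¹ * d * u ∈ d5aX P := d5a_mem_map.1 hd.2
    have h2 : (d * u * 1)⁻¹ * u = (u⁻¹ * d * u)⁻¹ := by group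
    rw [h2]
    exact inv_mem h1
  · obtain ⟨i, hio, hi⟩ := i
    have hi2 : (i * 1)⁻¹ * u ∈ d5aX P := by
      rw [MulAction.Quotient.smul_mk, QuotientGroup.eq, smul_eq_mul] at hi
      exact hi
    have hii : i⁻¹ = i := d5a_inv_eq hio
    have h3 : i * u ∈ d5aX P := by
      have : (i * 1)⁻¹ * u = i * u := by rw [mul_one, hii]
      rw [← this]; exact hi2
    refine ⟨?_, ?_⟩
    · show i * u⁻¹ ∈ d5aX P
      rw [hui]; exact h3
    · refine d5a_mem_map.2 ?_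
      show u⁻¹ * (i * u⁻¹) * u ∈ d5aX P
      have : u⁻¹ * (i * u⁻¹) * u = ((i * 1)⁻¹ * u)⁻¹ := by group
      rw [this]
      exact inv_mem hi2
  · obtain ⟨i, hio, hi⟩ := i
    have hii : i⁻¹ = i := d5a_inv_eq hio
    show u * (i * u⁻¹) * u⁻¹ = (i * u⁻¹)⁻¹
    rw [hui, mul_inv_rev, hui, hii]
    calc u * (i * u) * u = u * i * (u * u) := by group
      _ = u * i := by rw [huu, mul_one]

end Cfsg.Agent.Helper2.AIC
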