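import Mathlib
import Cfsg.Agent.Lib.Helper2.AICDefs
import Cfsg.Agent.Lib.Helper2.AICGEN
import Cfsg.Agent.Lib.Helper2.AICBAS1
import Cfsg.Agent.Lib.Helper18.AICFACT
import Cfsg.Agent.Lib.Helper4.AICBAS2
import Cfsg.Agent.Lib.Helper13.AICINV
import Cfsg.Agent.Lib.Helper25.AICD2
import Cfsg.Agent.Lib.Helper25.AICD3
import Cfsg.Agent.Lib.Helper25.AICD4
import Cfsg.Agent.Lib.Helper16.AICD5A

/-!
# S2202, piece D5B (helper16): `C_{D'}(u)` is central in `D' = X ⊓ u X u⁻¹`; three fixed points.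
-/

set_option autoImplicit false
set_option linter.unusedSectionVars false
set_option linter.unusedVariables false

namespace Cfsg.Agent.Helper2.AIC

variable {G : Type*} [Group G] [Finite G]

/-- `u` normalizes `D'` -/
theorem d5b_conj_mem {P : Sylow 2 G} {u : G} (hu : orderOf u = 2) {d : G} (hd : d ∈ d5aDp P u) :
    u * d * u⁻¹ ∈ d5aDp P u := by
  have hui : u⁻¹ = u := d5a_inv_eq hu
  refine ⟨?_, ⟨d, hd.1, rfl⟩⟩
  have h1 : u⁻¹ * d * u ∈ d5aX P := d5a_mem_map.1 hd.2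
  have h2 : u * d * u⁻¹ = u⁻¹ * d * u := by rw [hui]
  rw [h2]; exact h1

/-- conjugates by `u` of elements of `K_P ⊓ D'` commute with `D'` -/
theorem d5b_conj_central (c : Cfg G) {P Q : Sylow 2 G} (h : P ≠ Q) (hK : Kn P = Kn Q) {u : G}
    (hu : orderOf u = 2) {a : G} (ha : a ∈ Kn P) {d : G} (hd : d ∈ d5aDp P u) :
    (u * a * u⁻¹) * d = d * (u * a * u⁻¹) := by
  have h1 : u⁻¹ * d * u ∈ d5aX P := d5a_mem_map.1 hd.2
  have h2 : (u⁻¹ * d * u) * a = a * (u⁻¹ * d * u) := Kn_central_X c h hK h1 ha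
  calc (u * a * u⁻¹) * d = u * (a * (u⁻¹ * d * u)) * u⁻¹ := by group
    _ = u * ((u⁻¹ * d * u) * a) * u⁻¹ := by rw [h2]
    _ = d * (u * a * u⁻¹) := by group

/-- `C_{D'}(u)` as a subgroup -/
def d5bZh (P : Sylow 2 G) (u : G) : Subgroup G where
  carrier := {z | z ∈ d5aDp P u ∧ u * z * u⁻¹ = z}
  one_mem' := ⟨one_mem _, by group⟩
  mul_mem' := by
    rintro a b ⟨ha, ha'⟩ ⟨hb, hb'⟩
    refine ⟨mul_mem ha hb, ?_⟩
    calc u * (a * b) * u⁻¹ = (u * a * u⁻¹) * (u * b * u⁻¹) := by group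
      _ = a * b := by rw [ha', hb']
  inv_mem' := by
    rintro a ⟨ha, ha'⟩
    refine ⟨inv_mem ha, ?_⟩
    calc u * a⁻¹ * u⁻¹ = (u * a * u⁻¹)⁻¹ := by group
      _ = a⁻¹ := by rw [ha']

omit [Finite G] in
theorem d5b_mem_Zh {P : Sylow 2 G} {u z : G} :
    z ∈ d5bZh P u ↔ z ∈ d5aDp P u ∧ u * z * u⁻¹ = z := Iff.rfl

theorem d5b_card_fixed (c : Cfg G) {P : Sylow 2 G} (hne : ∃ R : Sylow 2 G, Kn R ≠ Kn P) {u : G}
    (hu : orderOf u = 2) (huX : u ∉ d5aX P) :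
    Nat.card {z : G // z ∈ d5aDp P u ∧ u * z * u⁻¹ = z} =
      Nat.card (d5aDp P u ⊓ Kn P : Subgroup G) := by
  have h1 := card_fact_odd (D := d5aDp P u) (d5a_odd_card c hne huX) hu
    (fun d hd => d5b_conj_mem hu hd)
  have h2 := card_Dp c hne hu huX
  have h3 := card_Dp_inverted c hne hu huX
  rw [h3] at h1
  have h4 : Nat.card (d5aDp P u) = Nat.card {R : Sylow 2 G // Kn R = Kn P} * (nInv P *
      Nat.card (d5aDp P u ⊓ Kn P : Subgroup G)) := h2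
  rw [h4] at h1
  have hpos : 0 < Nat.card {R : Sylow 2 G // Kn R = Kn P} * nInv P := by
    have hb : 0 < Nat.card {R : Sylow 2 G // Kn R = Kn P} := (odd_card_block c P).pos
    have hn : 3 ≤ nInv P := c.three_le_nInv P
    positivity
  have h5 : Nat.card (d5aDp P u ⊓ Kn P : Subgroup G) * (Nat.card {R : Sylow 2 G // Kn R = Kn P} * nInv P)
      = Nat.card {z : G // z ∈ d5aDp P u ∧ u * z * u⁻¹ = z} *
        (Nat.card {R : Sylow 2 G // Kn R = Kn P} * nInv P) := by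
    rw [← h1]; ring
  exact (Nat.eq_of_mul_eq_mul_right hpos h5).symm

/-- every element of `C_{D'}(u)` is `a * (u a u⁻¹)` with `a ∈ D' ⊓ K_P` -/
theorem d5b_fixed_eq (c : Cfg G) {P Q : Sylow 2 G} (h : P ≠ Q) (hK : Kn P = Kn Q)
    (hne : ∃ R : Sylow 2 G, Kn R ≠ Kn P) {u : G} (hu : orderOf u = 2) (huX : u ∉ d5aX P) {z : G}
    (hz : z ∈ d5aDp P u) (hzu : u * z * u⁻¹ = z) :
    ∃ a ∈ (d5aDp P u ⊓ Kn P : Subgroup G), z = a * (u * a * u⁻¹) := by
  have hui : u⁻¹ = u := d5a_inv_eq hu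
  have huu : u * u = 1 := fact_sq_one hu
  -- the map
  have hwell : ∀ a : (d5aDp P u ⊓ Kn P : Subgroup G),
      (a : G) * (u * a * u⁻¹) ∈ d5aDp P u ∧
        u * ((a : G) * (u * a * u⁻¹)) * u⁻¹ = (a : G) * (u * a * u⁻¹) := by
    intro a
    have haD : (a : G) ∈ d5aDp P u := a.2.1
    have haK : (a : G) ∈ Kn P := a.2.2
    have ha' : u * a * u⁻¹ ∈ d5aDp P u := d5b_conj_mem hu haD
    refine ⟨mul_mem haD ha', ?_⟩
    have hcomm : (u * (a : G) * u⁻¹) * a = a * (u * a * u⁻¹) :=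
      Kn_central_X c h hK ha'.1 haK
    calc u * ((a : G) * (u * a * u⁻¹)) * u⁻¹ = (u * a * u⁻¹) * ((u * u) * a * (u * u)⁻¹) := by group
      _ = (u * a * u⁻¹) * a := by rw [huu]; group
      _ = a * (u * a * u⁻¹) := hcomm
  let f : (d5aDp P u ⊓ Kn P : Subgroup G) → {z : G // z ∈ d5aDp P u ∧ u * z * u⁻¹ = z} :=
    fun a => ⟨(a : G) * (u * a * u⁻¹), hwell a⟩
  have hinj : Function.Injective f := by
    rintro ⟨a, haD, haK⟩ ⟨b, hbD, hbK⟩ hab
    have h0 : a * (u * a * u⁻¹) = b * (u * b * u⁻¹) := congrArg Subtype.val hab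
    -- w := b⁻¹ a is inverted by u
    have hwK : b⁻¹ * a ∈ Kn P := mul_mem (inv_mem hbK) haK
    have hb' : u * b * u⁻¹ ∈ d5aX P := (d5b_conj_mem hu hbD).1
    have c1 : (u * b * u⁻¹) * a = a * (u * b * u⁻¹) := Kn_central_X c h hK hb' haK
    have c4 : (u * b * u⁻¹) * b = b * (u * b * u⁻¹) := Kn_central_X c h hK hb' hbK
    have hinv : u * (b⁻¹ * a) * u⁻¹ = (b⁻¹ * a)⁻¹ := by
      have h1 : u * a * u⁻¹ = a⁻¹ * (b * (u * b * u⁻¹)) := by
        rw [← h0]; group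
      have c5 : a⁻¹ * (u * b * u⁻¹) = (u * b * u⁻¹) * a⁻¹ := by
        calc a⁻¹ * (u * b * u⁻¹) = a⁻¹ * ((u * b * u⁻¹) * a) * a⁻¹ := by group
          _ = a⁻¹ * (a * (u * b * u⁻¹)) * a⁻¹ := by rw [c1]
          _ = (u * b * u⁻¹) * a⁻¹ := by group
      calc u * (b⁻¹ * a) * u⁻¹ = (u * b * u⁻¹)⁻¹ * (u * a * u⁻¹) := by group
        _ = (u * b * u⁻¹)⁻¹ * (a⁻¹ * (b * (u * b * u⁻¹))) := by rw [h1]
        _ = (u * b * u⁻¹)⁻¹ * (a⁻¹ * ((u * b * u⁻¹) * b)) := by rw [c4]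
        _ = (u * b * u⁻¹)⁻¹ * ((a⁻¹ * (u * b * u⁻¹)) * b) := by group
        _ = (u * b * u⁻¹)⁻¹ * (((u * b * u⁻¹) * a⁻¹) * b) := by rw [c5]
        _ = a⁻¹ * b := by group
        _ = (b⁻¹ * a)⁻¹ := by group
    have hw1 : b⁻¹ * a = 1 := c.eq_one_of_inverted hwK hu hinv
    have : a = b := by
      have := congrArg (fun t => b * t) hw1
      simpa using this
    exact Subtype.ext this
  have hbij : Function.Bijective f :=
    Function.Injective.bijective_of_nat_card_le hinj (d5b_card_fixed c hne hu huX).le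
  obtain ⟨a, ha⟩ := hbij.2 ⟨z, hz, hzu⟩
  exact ⟨a, a.2, (congrArg Subtype.val ha).symm⟩

theorem Dp_fixed_central (c : Cfg G) {P Q : Sylow 2 G} (h : P ≠ Q) (hK : Kn P = Kn Q)
    (hne : ∃ R : Sylow 2 G, Kn R ≠ Kn P) {u : G} (hu : orderOf u = 2)
    (huX : u ∉ Subgroup.normalizer ((Kn P : Subgroup G) : Set G)) {z : G}
    (hz : z ∈ Subgroup.normalizer ((Kn P : Subgroup G) : Set G) ⊓
      (Subgroup.normalizer ((Kn P : Subgroup G) : Set G)).map (MulAut.conj u).toMonoidHom)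
    (hzu : u * z * u⁻¹ = z) :
    ∀ d ∈ Subgroup.normalizer ((Kn P : Subgroup G) : Set G) ⊓
      (Subgroup.normalizer ((Kn P : Subgroup G) : Set G)).map (MulAut.conj u).toMonoidHom,
      z * d = d * z := by
  intro d hd
  obtain ⟨a, ha, rfl⟩ := d5b_fixed_eq c h hK hne hu huX hz hzu
  have h1 : d * a = a * d := Kn_central_X c h hK hd.1 ha.2
  have h2 : (u * a * u⁻¹) * d = d * (u * a * u⁻¹) := d5b_conj_central c h hK hu ha.2 hd
  calc a * (u * a * u⁻¹) * d = a * ((u * a * u⁻¹) * d) := by group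
    _ = a * (d * (u * a * u⁻¹)) := by rw [h2]
    _ = (a * d) * (u * a * u⁻¹) := by group
    _ = (d * a) * (u * a * u⁻¹) := by rw [h1]
    _ = d * (a * (u * a * u⁻¹)) := by group

/-- `τ(d) = (u d u⁻¹) d` lies in `C_{D'}(u)` -/
theorem d5b_tau_mem (c : Cfg G) {P Q : Sylow 2 G} (h : P ≠ Q) (hK : Kn P = Kn Q)
    (hne : ∃ R : Sylow 2 G, Kn R ≠ Kn P) {u : G} (hu : orderOf u = 2) (huX : u ∉ d5aX P) {d : G}
    (hd : d ∈ d5aDp P u) : (u * d * u⁻¹) * d ∈ d5bZh P u := by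
  obtain ⟨z, hzD, y, hyD, hzu, hyu, rfl⟩ := fact_odd (D := d5aDp P u) (d5a_odd_card c hne huX) hu
    (fun d hd => d5b_conj_mem hu hd) hd
  have hcen := Dp_fixed_central c h hK hne hu huX hzD hzu
  have hzZ : z ∈ d5bZh P u := ⟨hzD, hzu⟩
  have h1 : u * (z * y) * u⁻¹ * (z * y) = z * z := by
    have hzy : z * y⁻¹ = y⁻¹ * z := hcen y⁻¹ (inv_mem hyD)
    calc u * (z * y) * u⁻¹ * (z * y) = (u * z * u⁻¹) * (u * y * u⁻¹) * (z * y) := by group
      _ = z * y⁻¹ * (z * y) := by rw [hzu, hyu]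
      _ = z * (y⁻¹ * z) * y := by group
      _ = z * (z * y⁻¹) * y := by rw [hzy]
      _ = z * z := by group
  rw [h1]
  exact mul_mem hzZ hzZ

/-- commutators of `D'` lie in `C_{D'}(u)` -/
theorem d5b_comm_mem (c : Cfg G) {P Q : Sylow 2 G} (h : P ≠ Q) (hK : Kn P = Kn Q)
    (hne : ∃ R : Sylow 2 G, Kn R ≠ Kn P) {u : G} (hu : orderOf u = 2) (huX : u ∉ d5aX P) {x y : G}
    (hx : x ∈ d5aDp P u) (hy : y ∈ d5aDp P u) : x⁻¹ * y⁻¹ * x * y ∈ d5bZh P u := by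
  have htx := d5b_tau_mem c h hK hne hu huX hx
  have hty := d5b_tau_mem c h hK hne hu huX hy
  have htxy := d5b_tau_mem c h hK hne hu huX (mul_mem hx hy)
  have hcen : (u * y * u⁻¹ * y) * x⁻¹ = x⁻¹ * (u * y * u⁻¹ * y) :=
    Dp_fixed_central c h hK hne hu huX hty.1 hty.2 x⁻¹ (inv_mem hx)
  have key : x⁻¹ * y⁻¹ * x * y =
      ((u * x * u⁻¹ * x) * (u * y * u⁻¹ * y))⁻¹ * (u * (x * y) * u⁻¹ * (x * y)) := by
    have e1 : (u * x * u⁻¹ * x) * (u * y * u⁻¹ * y) * (x⁻¹ * y⁻¹ * x * y) =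
        u * (x * y) * u⁻¹ * (x * y) := by
      calc (u * x * u⁻¹ * x) * (u * y * u⁻¹ * y) * (x⁻¹ * y⁻¹ * x * y)
          = (u * x * u⁻¹) * x * ((u * y * u⁻¹ * y) * x⁻¹) * (y⁻¹ * x * y) := by group
        _ = (u * x * u⁻¹) * x * (x⁻¹ * (u * y * u⁻¹ * y)) * (y⁻¹ * x * y) := by rw [hcen]
        _ = u * (x * y) * u⁻¹ * (x * y) := by group
    rw [← e1]; group
  rw [key]
  exact mul_mem (inv_mem (mul_mem htx hty)) htxy

theorem Dp_three_fix (c : Cfg G) {P Q : Sylow 2 G} (h : P ≠ Q) (hK : Kn P = Kn Q)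
    (hne : ∃ R : Sylow 2 G, Kn R ≠ Kn P) {u : G} (hu : orderOf u = 2)
    (huX : u ∉ Subgroup.normalizer ((Kn P : Subgroup G) : Set G)) :
    ∃ R1 R2 : Sylow 2 G, R1 ≠ P ∧ R2 ≠ P ∧ R1 ≠ R2 ∧ Kn R1 = Kn P ∧ Kn R2 = Kn P ∧
      (Subgroup.normalizer ((Kn P : Subgroup G) : Set G) ⊓
        (Subgroup.normalizer ((Kn P : Subgroup G) : Set G)).map (MulAut.conj u).toMonoidHom ⊓
        Mn P : Subgroup G) ≤ Mn R1 ⊓ Mn R2 := by
  by_cases hZ : ∀ z ∈ d5bZh P u, z ∈ Mn P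
  · -- `D'_P` is normal in `D'`, so it fixes the whole block
    have hfixall : ∀ R : Sylow 2 G, Kn R = Kn P →
        (d5aDp P u ⊓ Mn P : Subgroup G) ≤ Mn R := by
      intro R hR e he
      obtain ⟨d, hd, hdR⟩ := Dp_trans c hne hu huX (rfl : Kn P = Kn P) hR
      have h1 : d⁻¹ * e * d * e⁻¹ ∈ Mn P := by
        have := d5b_comm_mem c h hK hne hu huX hd (inv_mem he.1)
        have h2 : d⁻¹ * e⁻¹⁻¹ * d * e⁻¹ = d⁻¹ * e * d * e⁻¹ := by group
        rw [h2] at this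
        exact hZ _ this
      have h3 : d⁻¹ * e * d ∈ Mn P := by
        have : d⁻¹ * e * d = (d⁻¹ * e * d * e⁻¹) * e := by group
        rw [this]; exact mul_mem h1 he.2
      rw [mem_Mn_iff] at h3 ⊢
      rw [← hdR]
      calc e • d • P = d • ((d⁻¹ * e * d) • P) := by
            rw [smul_smul, smul_smul]; congr 1; group
        _ = d • P := by rw [h3]
    -- a third point of the block
    obtain ⟨R2, hR2, hR2P, hR2Q⟩ : ∃ R2 : Sylow 2 G, Kn R2 = Kn P ∧ R2 ≠ P ∧ R2 ≠ Q := by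
      by_contra hcon
      push Not at hcon
      have hodd := odd_card_block c P
      have h2 : Nat.card {R : Sylow 2 G // Kn R = Kn P} = 2 := by
        rw [Nat.card_eq_two_iff]
        refine ⟨⟨P, rfl⟩, ⟨Q, hK.symm⟩, ?_, ?_⟩
        · intro heq; exact h (congrArg Subtype.val heq)
        · ext ⟨R, hR⟩
          simp only [Set.mem_insert_iff, Set.mem_singleton_iff, Set.mem_univ, iff_true,
            Subtype.mk.injEq]
          by_cases hRP : R = P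
          · left; exact hRP
          · right; exact hcon R hR hRP
      rw [h2] at hodd
      exact absurd hodd (by decide)
    exact ⟨Q, R2, h.symm, hR2P, hR2Q.symm, hK.symm, hR2,
      le_inf (hfixall Q hK.symm) (hfixall R2 hR2)⟩
  · push Not at hZ
    obtain ⟨z, hzZ, hzP⟩ := hZ
    have hzD : z ∈ d5aDp P u := hzZ.1
    have hcen := Dp_fixed_central c h hK hne hu huX hzD hzZ.2
    have hzo : Odd (orderOf z) := d5a_odd_order c hne huX hzD
    have h1 : z • P ≠ P := fun h1 => hzP (mem_Mn_iff.2 h1)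
    have h2 : z • z • P ≠ P := by
      intro h2
      apply hzP
      have h3 : z ^ 2 ∈ Mn P := by
        rw [mem_Mn_iff, pow_two, mul_smul]; exact h2
      rw [← fact_half hzo]
      exact pow_mem h3 _
    have h3 : z • P ≠ z • z • P := by
      intro h3
      exact h1 (smul_left_cancel z h3).symm
    have hK1 : Kn (z • P) = Kn P := d5a_smul_block c rfl hzD.1
    have hK2 : Kn (z • z • P) = Kn P := d5a_smul_block c hK1 hzD.1
    refine ⟨z • P, z • z • P, h1, h2, h3, hK1, hK2, ?_⟩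
    intro e he
    have hez : z * e = e * z := hcen e he.1
    have heP : e • P = P := mem_Mn_iff.1 he.2
    have hf1 : e • z • P = z • P := by
      rw [smul_smul, ← hez, mul_smul, heP]
    refine ⟨mem_Mn_iff.2 hf1, mem_Mn_iff.2 ?_⟩
    rw [smul_smul e z, ← hez, mul_smul, hf1]

end Cfsg.Agent.Helper2.AIC
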