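import Mathlib
import Cfsg.Agent.S0143
import Cfsg.Agent.Lib.Helper1.Hall
import Cfsg.Agent.Lib.Helper1.HallConj
import Cfsg.Agent.Lib.Helper16.InvCent
import Cfsg.Agent.Lib.Helper21.FittingSubgroup

/-!
# Groups with an abelian Hall `2'`-subgroup (helper16's library)

Such a group is solvable (Burnside's class-size lemma), and the property passes to subgroups and
quotients.
-/

set_option autoImplicit false

namespace Cfsg.Agent.Helper16

universe u

/-- `H` has an abelian subgroup of odd order and `2`-power index. -/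
def HasAbelianOddHall (H : Type*) [Group H] : Prop :=
  ∃ C : Subgroup H, (∀ a ∈ C, ∀ b ∈ C, a * b = b * a) ∧ Odd (Nat.card C) ∧
    ∃ k : ℕ, C.index = 2 ^ k

theorem HasAbelianOddHall.of_complement {H : Type*} [Group H] [Finite H] (S : Sylow 2 H)
    (C : Subgroup H) (hC : IsMulCommutative ↥C)
    (hSC : Subgroup.IsComplement' (S : Subgroup H) C) : HasAbelianOddHall H := by
  obtain ⟨hodd, k, hk⟩ := complement_sylow_two_facts S C hSC.symm
  refine ⟨C, ?_, hodd, k, hk⟩
  intro a ha b hb
  exact congrArg Subtype.val (hC.is_comm.comm (⟨a, ha⟩ : C) ⟨b, hb⟩)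

theorem HasAbelianOddHall.exists_complement {H : Type*} [Group H] [Finite H]
    (h : HasAbelianOddHall H) :
    ∃ (P : Sylow 2 H) (D : Subgroup H), IsMulCommutative ↥D ∧
      Subgroup.IsComplement' (P : Subgroup H) D := by
  have hF2 : Fact (Nat.Prime 2) := ⟨Nat.prime_two⟩
  obtain ⟨C, hc, hodd, k, hk⟩ := h
  obtain ⟨P⟩ : Nonempty (Sylow 2 H) := inferInstance
  refine ⟨P, C, ⟨⟨fun a b => Subtype.ext (hc a a.2 b b.2)⟩⟩, ?_⟩
  have hcard : Nat.card C * 2 ^ k = Nat.card H := by rw [← hk]; exact C.card_mul_index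
  have hcop : (Nat.card C).Coprime 2 := Nat.Coprime.symm (Nat.coprime_two_left.2 hodd)
  have hP : Nat.card (P : Subgroup H) = 2 ^ k := by
    apply Nat.dvd_antisymm
    · have h1 : Nat.card (P : Subgroup H) ∣ Nat.card C * 2 ^ k := by
        rw [hcard]; exact Subgroup.card_subgroup_dvd_card _
      obtain ⟨n, hn⟩ := IsPGroup.iff_card.1 P.2
      have h2 : (Nat.card (P : Subgroup H)).Coprime (Nat.card C) := by
        rw [hn]; exact Nat.Coprime.pow_left n hcop.symm
      exact h2.dvd_of_dvd_mul_left h1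
    · exact P.pow_dvd_card_of_pow_dvd_card (hcard ▸ Dvd.intro_left _ rfl)
  apply Subgroup.isComplement'_of_coprime
  · rw [hP, mul_comm]; exact hcard
  · rw [hP]; exact Nat.Coprime.pow_left k hcop.symm

theorem HasAbelianOddHall.normal_subgroup {H : Type*} [Group H] [Finite H]
    (h : HasAbelianOddHall H) (N : Subgroup H) [N.Normal] : HasAbelianOddHall ↥N := by
  obtain ⟨C, hc, hodd, k, hk⟩ := h
  refine ⟨C.subgroupOf N, ?_, ?_, ?_⟩
  · intro a ha b hb
    rw [Subgroup.mem_subgroupOf] at ha hb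
    exact Subtype.ext (hc a ha b hb)
  · have h1 : Nat.card ((C.subgroupOf N).map N.subtype) = Nat.card (C.subgroupOf N) :=
      Subgroup.card_map_of_injective N.subtype_injective
    rw [Subgroup.subgroupOf_map_subtype] at h1
    rw [← h1]
    exact Odd.of_dvd_nat hodd (Subgroup.card_dvd_of_le inf_le_left)
  · have h1 : C.relIndex N ∣ C.index :=
      Cfsg.Agent.Helper21.relIndex_dvd_index_of_normal_right C N
    rw [hk] at h1
    obtain ⟨j, -, hj⟩ := (Nat.dvd_prime_pow Nat.prime_two).1 h1
    exact ⟨j, hj⟩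

theorem HasAbelianOddHall.quotient {H : Type*} [Group H] [Finite H]
    (h : HasAbelianOddHall H) (N : Subgroup H) [N.Normal] : HasAbelianOddHall (H ⧸ N) := by
  obtain ⟨C, hc, hodd, k, hk⟩ := h
  refine ⟨C.map (QuotientGroup.mk' N), ?_, ?_, ?_⟩
  · rintro _ ⟨a, ha, rfl⟩ _ ⟨b, hb, rfl⟩
    rw [← map_mul, ← map_mul, hc a ha b hb]
  · exact Odd.of_dvd_nat hodd (Subgroup.card_map_dvd _ _)
  · have h1 := Subgroup.index_map_dvd C (QuotientGroup.mk'_surjective N)
    rw [hk] at h1
    obtain ⟨j, -, hj⟩ := (Nat.dvd_prime_pow Nat.prime_two).1 h1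
    exact ⟨j, hj⟩

theorem HasAbelianOddHall.isSolvable_aux : ∀ (n : ℕ) (G : Type u) [Group G] [Finite G],
    Nat.card G = n → HasAbelianOddHall G → Group.IsSolvable G := by
  intro n
  induction n using Nat.strong_induction_on with
  | _ n ih =>
  intro G _ _ hcard hA
  have hF2 : Fact (Nat.Prime 2) := ⟨Nat.prime_two⟩
  by_cases hsimple : ∃ N : Subgroup G, N.Normal ∧ N ≠ ⊥ ∧ N ≠ ⊤
  · obtain ⟨N, hNn, hNbot, hNtop⟩ := hsimple
    haveI := hNn
    have hmul : Nat.card (G ⧸ N) * Nat.card N = Nat.card G :=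
      (Subgroup.card_eq_card_quotient_mul_card_subgroup N).symm
    have hN1 : 1 < Nat.card N := by
      rw [Subgroup.one_lt_card_iff_ne_bot]; exact hNbot
    have hQ1 : 1 < Nat.card (G ⧸ N) := by
      rw [← Subgroup.index_eq_card]
      have h0 : N.index ≠ 0 := Subgroup.index_ne_zero_of_finite
      have h1 : N.index ≠ 1 := fun h => hNtop (Subgroup.index_eq_one.1 h)
      omega
    have h1 : Nat.card N < n := by
      rw [← hcard, ← hmul]
      nlinarith
    have h2 : Nat.card (G ⧸ N) < n := by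
      rw [← hcard, ← hmul]
      nlinarith
    haveI := ih _ h1 N rfl (hA.normal_subgroup N)
    haveI := ih _ h2 (G ⧸ N) rfl (hA.quotient N)
    exact Group.isSolvable_of_ker_le_range N.subtype (QuotientGroup.mk' N) (by simp)
  · push Not at hsimple
    by_cases hsub : Subsingleton G
    · infer_instance
    · haveI : Nontrivial G := not_subsingleton_iff_nontrivial.1 hsub
      haveI : IsSimpleGroup G := ⟨fun N hN => by
        by_contra h
        push Not at h
        exact h.2 (hsimple N hN h.1)⟩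
      obtain ⟨C, hCc, hCodd, k, hk⟩ := hA
      by_cases hCbot : C = ⊥
      · have hcardG : Nat.card G = 2 ^ k := by
          rw [← hk, hCbot, Subgroup.index_bot]
        haveI := (IsPGroup.of_card hcardG).isNilpotent
        exact IsNilpotent.to_isSolvable
      · obtain ⟨c, hcC⟩ := (Subgroup.ne_bot_iff_exists_ne_one).1 hCbot
        have hc1' : (c : G) ≠ 1 := fun h => hcC (Subtype.ext h)
        have hle : C ≤ Subgroup.centralizer ({(c : G)} : Set G) := by
          intro x hx
          rw [Subgroup.mem_centralizer_iff]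
          intro z hz
          rw [Set.mem_singleton_iff] at hz
          rw [hz]
          exact hCc c c.2 x hx
        have hidx : (Subgroup.centralizer ({(c : G)} : Set G)).index ∣ 2 ^ k :=
          hk ▸ Subgroup.index_dvd_of_le hle
        obtain ⟨j, -, hj⟩ := (Nat.dvd_prime_pow Nat.prime_two).1 hidx
        have hprime := Cfsg.Agent.S0143.result 2 j Nat.prime_two (c : G) hc1' hj
        haveI : Fact (Nat.card G).Prime := ⟨hprime⟩
        haveI : IsCyclic G := isCyclic_of_prime_card rfl
        letI : CommGroup G := IsCyclic.commGroup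
        exact Group.isSolvable_of_comm (fun a b => mul_comm a b)

theorem HasAbelianOddHall.isSolvable {H : Type*} [Group H] [Finite H]
    (h : HasAbelianOddHall H) : Group.IsSolvable H :=
  HasAbelianOddHall.isSolvable_aux (Nat.card H) H rfl h

theorem HasAbelianOddHall.subgroup {H : Type*} [Group H] [Finite H]
    (h : HasAbelianOddHall H) (L : Subgroup H) : HasAbelianOddHall ↥L := by
  haveI hsol : Group.IsSolvable H := h.isSolvable
  obtain ⟨C, hc, hodd, k, hk⟩ := h
  have hcardH : Nat.card H = Nat.card C * 2 ^ k := by rw [← hk]; exact C.card_mul_index.symm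
  have hcopH : (Nat.card C).Coprime (2 ^ k) :=
    Nat.Coprime.pow_right k (Nat.Coprime.symm (Nat.coprime_two_left.2 hodd))
  obtain ⟨j, m, hm, hL⟩ := Nat.exists_eq_two_pow_mul_odd (Nat.card_pos (α := L)).ne'
  have hcardL : Nat.card L = m * 2 ^ j := by rw [hL, mul_comm]
  have hcopL : m.Coprime (2 ^ j) :=
    Nat.Coprime.pow_right j (Nat.Coprime.symm (Nat.coprime_two_left.2 hm))
  obtain ⟨D, hD⟩ := Cfsg.Agent.Helper1.hall_exists (G := L) m (2 ^ j) hcardL hcopL
  have hD' : Nat.card (D.map L.subtype) = m := by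
    rw [Subgroup.card_map_of_injective L.subtype_injective, hD]
  obtain ⟨K, hK, hDK⟩ := Cfsg.Agent.Helper1.hall_contain (G := H) (Nat.card C) (2 ^ k) hcardH hcopH
    (D.map L.subtype) (by
      rw [hD']
      exact Nat.Coprime.pow_right k (Nat.Coprime.symm (Nat.coprime_two_left.2 hm)))
  obtain ⟨g, hg⟩ := Cfsg.Agent.Helper1.hall_conj (G := H) (Nat.card C) (2 ^ k) hcardH hcopH K C hK rfl
  have hKc : ∀ a ∈ K, ∀ b ∈ K, a * b = b * a := by
    intro a ha b hb
    have ha' : g * a * g⁻¹ ∈ C := by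
      rw [← hg]
      exact Subgroup.smul_mem_pointwise_smul a (MulAut.conj g) K ha
    have hb' : g * b * g⁻¹ ∈ C := by
      rw [← hg]
      exact Subgroup.smul_mem_pointwise_smul b (MulAut.conj g) K hb
    have h1 := hc _ ha' _ hb'
    have h2 : g * (a * b) * g⁻¹ = g * (b * a) * g⁻¹ := by
      calc g * (a * b) * g⁻¹ = (g * a * g⁻¹) * (g * b * g⁻¹) := by group
        _ = (g * b * g⁻¹) * (g * a * g⁻¹) := h1
        _ = g * (b * a) * g⁻¹ := by group
    exact mul_left_cancel (mul_right_cancel h2)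
  refine ⟨D, ?_, hD ▸ hm, j, ?_⟩
  · intro a ha b hb
    have h1 := hKc _ (hDK ⟨a, ha, rfl⟩) _ (hDK ⟨b, hb, rfl⟩)
    exact Subtype.ext h1
  · have h1 : Nat.card D * D.index = Nat.card L := D.card_mul_index
    rw [hD, hcardL] at h1
    exact Nat.eq_of_mul_eq_mul_left hm.pos h1

end Cfsg.Agent.Helper16
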