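import Mathlib

/-!
# Centralizers of double transpositions in `A₆` (helper16's library)
-/

set_option autoImplicit false

namespace Cfsg.Agent.Helper16

namespace AltSix

open Equiv Equiv.Perm

/-- The standard double transposition. -/
def sigma0 : Perm (Fin 6) := swap 0 1 * swap 2 3
/-- An element of order four squaring to `sigma0`. -/
def rho0 : Perm (Fin 6) := swap 0 3 * swap 0 1 * swap 0 2 * swap 4 5
/-- An involution inverting `rho0`. -/
def tau0 : Perm (Fin 6) := swap 0 1 * swap 4 5

/-- The underlying function of the embedding of the dihedral group. -/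
def dihFun : DihedralGroup 4 → Perm (Fin 6)
  | DihedralGroup.r i => rho0 ^ i.val
  | DihedralGroup.sr i => tau0 * rho0 ^ i.val

theorem dihFun_one : dihFun 1 = 1 := by decide

theorem dihFun_mul : ∀ x y : DihedralGroup 4, dihFun (x * y) = dihFun x * dihFun y := by
  decide

theorem dihFun_injective : ∀ x y : DihedralGroup 4, dihFun x = dihFun y → x = y := by decide

theorem dihFun_sign : ∀ x : DihedralGroup 4, sign (dihFun x) = 1 := by decide

theorem dihFun_comm : ∀ x : DihedralGroup 4, dihFun x * sigma0 = sigma0 * dihFun x := by decide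

theorem sigma0_sign : sign sigma0 = 1 := by decide

theorem sigma0_orderOf : orderOf sigma0 = 2 :=
  orderOf_eq_prime (by decide) (by decide)

theorem sigma0_support : sigma0.support.card = 4 := by decide

theorem card_filter :
    (Finset.univ.filter fun g : Perm (Fin 6) => sign g = 1 ∧ g * sigma0 = sigma0 * g).card = 8 := by
  decide +kernel

/-- `sigma0` as an element of `A₆`. -/
def alpha0 : alternatingGroup (Fin 6) := ⟨sigma0, mem_alternatingGroup.2 sigma0_sign⟩

/-- The embedding of the dihedral group into the centralizer. -/
def dihHom : DihedralGroup 4 →* Subgroup.centralizer ({alpha0} : Set (alternatingGroup (Fin 6))) where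
  toFun x := ⟨⟨dihFun x, mem_alternatingGroup.2 (dihFun_sign x)⟩, by
    rw [Subgroup.mem_centralizer_singleton_iff]
    apply Subtype.ext
    exact dihFun_comm x⟩
  map_one' := by
    apply Subtype.ext; apply Subtype.ext
    exact dihFun_one
  map_mul' x y := by
    apply Subtype.ext; apply Subtype.ext
    exact dihFun_mul x y

theorem dihHom_injective : Function.Injective dihHom := by
  intro x y hxy
  apply dihFun_injective
  have := congrArg (fun z : Subgroup.centralizer ({alpha0} : Set (alternatingGroup (Fin 6))) =>
    ((z : alternatingGroup (Fin 6)) : Perm (Fin 6))) hxy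
  exact this

theorem card_centralizer_le :
    Nat.card (Subgroup.centralizer ({alpha0} : Set (alternatingGroup (Fin 6)))) ≤ 8 := by
  classical
  set F : Finset (Perm (Fin 6)) :=
    Finset.univ.filter fun g : Perm (Fin 6) => sign g = 1 ∧ g * sigma0 = sigma0 * g with hF
  have h1 : Nat.card {g // g ∈ F} = 8 := by
    rw [Nat.card_eq_fintype_card, Fintype.card_coe, hF]
    convert card_filter
  rw [← h1]
  refine Nat.card_le_card_of_injective
    (fun z : Subgroup.centralizer ({alpha0} : Set (alternatingGroup (Fin 6))) =>
      (⟨((z : alternatingGroup (Fin 6)) : Perm (Fin 6)), ?_⟩ : {g // g ∈ F})) ?_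
  · rw [hF, Finset.mem_filter]
    refine ⟨Finset.mem_univ _, mem_alternatingGroup.1 z.1.2, ?_⟩
    have := Subgroup.mem_centralizer_singleton_iff.1 z.2
    exact congrArg (fun w : alternatingGroup (Fin 6) => (w : Perm (Fin 6))) this
  · intro z w hzw
    apply Subtype.ext; apply Subtype.ext
    exact congrArg (fun u : {g // g ∈ F} => (u : Perm (Fin 6))) hzw

/-- The centralizer of the standard double transposition in `A₆` is dihedral of order eight. -/
noncomputable def dihEquiv :
    DihedralGroup 4 ≃* Subgroup.centralizer ({alpha0} : Set (alternatingGroup (Fin 6))) := by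
  refine MulEquiv.ofBijective dihHom ?_
  rw [Nat.bijective_iff_injective_and_card]
  refine ⟨dihHom_injective, ?_⟩
  have h1 := Nat.card_le_card_of_injective dihHom dihHom_injective
  have h2 := card_centralizer_le
  rw [DihedralGroup.nat_card] at h1 ⊢
  omega

/-- Centralizers correspond under isomorphisms. -/
def centEquiv {A B : Type*} [Group A] [Group B] (φ : A ≃* B) (x : A) :
    Subgroup.centralizer ({x} : Set A) ≃* Subgroup.centralizer ({φ x} : Set B) where
  toFun g := ⟨φ g, by
    rw [Subgroup.mem_centralizer_singleton_iff, ← map_mul,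
      Subgroup.mem_centralizer_singleton_iff.1 g.2, map_mul]⟩
  invFun g := ⟨φ.symm g, by
    rw [Subgroup.mem_centralizer_singleton_iff]
    apply φ.injective
    rw [map_mul, map_mul, φ.apply_symm_apply]
    exact Subgroup.mem_centralizer_singleton_iff.1 g.2⟩
  left_inv g := by apply Subtype.ext; simp
  right_inv g := by apply Subtype.ext; simp
  map_mul' g k := by apply Subtype.ext; simp

/-- A permutation of order two moving four points has cycle type `{2, 2}`. -/
theorem cycleType_eq {σ : Perm (Fin 6)} (ho : orderOf σ = 2) (hs : σ.support.card = 4) :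
    σ.cycleType = Multiset.replicate 2 2 := by
  have h1 : ∀ n ∈ σ.cycleType, n = 2 := by
    intro n hn
    have h2 := two_le_of_mem_cycleType hn
    have h3 : n ∣ 2 := by
      rw [← ho, ← lcm_cycleType]
      exact Multiset.dvd_lcm hn
    have h4 := Nat.le_of_dvd two_pos h3
    omega
  have h5 : σ.cycleType = Multiset.replicate (Multiset.card σ.cycleType) 2 :=
    Multiset.eq_replicate.2 ⟨rfl, h1⟩
  have h6 := sum_cycleType σ
  rw [hs, h5, Multiset.sum_replicate] at h6
  have h7 : Multiset.card σ.cycleType = 2 := by
    simp only [smul_eq_mul] at h6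
    omega
  rw [h5, h7]

/-- The centralizer in `A₆` of any double transposition is dihedral of order eight. -/
theorem centralizer_equiv_dihedral (αt : alternatingGroup (Fin 6)) (hαt : orderOf αt = 2)
    (hsupp : (αt : Perm (Fin 6)).support.card = 4) :
    Nonempty (Subgroup.centralizer ({αt} : Set (alternatingGroup (Fin 6))) ≃* DihedralGroup 4) := by
  have ho : orderOf (αt : Perm (Fin 6)) = 2 := by rw [Subgroup.orderOf_coe]; exact hαt
  have hct : (αt : Perm (Fin 6)).cycleType = sigma0.cycleType := by
    rw [cycleType_eq ho hsupp, cycleType_eq sigma0_orderOf sigma0_support]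
  obtain ⟨π, hπ⟩ := isConj_iff.1 ((isConj_iff_cycleType_eq).2 hct)
  let c : alternatingGroup (Fin 6) ≃* alternatingGroup (Fin 6) := MulAut.conjNormal π
  have hc : c αt = alpha0 := by
    apply Subtype.ext
    rw [MulAut.conjNormal_apply]
    exact hπ
  have e1 := centEquiv c αt
  rw [hc] at e1
  exact ⟨e1.trans dihEquiv.symm⟩

end AltSix

end Cfsg.Agent.Helper16
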