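import Mathlib

/-! Local fusion graph of involutions in symmetric groups: basic lemmas. -/

namespace Cfsg.Agent.Helper16.Lfg

open Equiv

variable {α : Type*}

/-- `g` has odd order. -/
def OddOrd (g : Perm α) : Prop := ∃ N : ℕ, Odd N ∧ g ^ N = 1

theorem oddOrd_iff [Finite α] (g : Perm α) : OddOrd g ↔ Odd (orderOf g) := by
  constructor
  · rintro ⟨N, hN, h⟩
    exact Odd.of_dvd_nat hN (orderOf_dvd_of_pow_eq_one h)
  · intro h
    exact ⟨orderOf g, h, pow_orderOf_eq_one g⟩

theorem oddOrd_one : OddOrd (1 : Perm α) := ⟨1, odd_one, by simp⟩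

theorem OddOrd.conj {g : Perm α} (h : OddOrd g) (k : Perm α) : OddOrd (k * g * k⁻¹) := by
  obtain ⟨N, hN, hg⟩ := h
  refine ⟨N, hN, ?_⟩
  rw [conj_pow, hg]; simp

theorem oddOrd_mul_comm {g h : Perm α} (H : OddOrd (g * h)) : OddOrd (h * g) := by
  have := H.conj g⁻¹
  simpa [mul_assoc] using this

theorem OddOrd.mul_of_commute {g h : Perm α} (hg : OddOrd g) (hh : OddOrd h) (c : Commute g h) :
    OddOrd (g * h) := by
  obtain ⟨N, hN, hgN⟩ := hg
  obtain ⟨M, hM, hhM⟩ := hh
  refine ⟨N * M, hN.mul hM, ?_⟩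
  rw [c.mul_pow, pow_mul, hgN, one_pow, mul_comm N M, pow_mul, hhM, one_pow, one_mul]

/-- pointwise criterion -/
theorem oddOrd_of_pointwise [Finite α] (g : Perm α)
    (h : ∀ a, ∃ N : ℕ, Odd N ∧ (g ^ N) a = a) : OddOrd g := by
  classical
  have := Fintype.ofFinite α
  choose N hN hg using h
  refine ⟨∏ a, N a, ?_, ?_⟩
  · exact Finset.prod_induction N Odd (fun a b ha hb => ha.mul hb) odd_one (fun a _ => hN a)
  · ext a
    have hd : N a ∣ ∏ b, N b := Finset.dvd_prod_of_mem N (Finset.mem_univ a)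
    obtain ⟨k, hk⟩ := hd
    rw [hk, pow_mul]
    have : ∀ j : ℕ, ((g ^ N a) ^ j) a = a := by
      intro j
      induction j with
      | zero => simp
      | succ j ih => rw [pow_succ, Perm.mul_apply, hg a, ih]
    simpa using this k

end Cfsg.Agent.Helper16.Lfg
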