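import Mathlib
import Cfsg.Agent.Lib.Helper16.LfgA

/-! Transport of swap identities from `Fin k`. -/

namespace Cfsg.Agent.Helper16.Lfg

open Equiv

variable {α : Type*} [DecidableEq α]

theorem viaEmbedding_swap {β : Type*} [DecidableEq β] (ι : β ↪ α) (i j : β) :
    (swap i j).viaEmbedding ι = swap (ι i) (ι j) := by
  ext v
  by_cases hv : v ∈ Set.range ι
  · obtain ⟨u, rfl⟩ := hv
    rw [Perm.viaEmbedding_apply, ι.injective.swap_apply]
  · rw [Perm.viaEmbedding_apply_of_notMem _ _ _ hv, swap_apply_of_ne_of_ne]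
    · rintro rfl; exact hv ⟨i, rfl⟩
    · rintro rfl; exact hv ⟨j, rfl⟩

/-- product of swaps from a list of pairs -/
def swapsProd {β : Type*} [DecidableEq β] (l : List (β × β)) : Perm β :=
  (l.map fun ij => swap ij.1 ij.2).prod

theorem swapsProd_nil {β : Type*} [DecidableEq β] : swapsProd ([] : List (β × β)) = 1 := rfl

theorem swapsProd_cons {β : Type*} [DecidableEq β] (a : β × β) (l : List (β × β)) :
    swapsProd (a :: l) = swap a.1 a.2 * swapsProd l := by
  simp [swapsProd]

theorem swapsProd_map {β : Type*} [DecidableEq β] (ι : β ↪ α) (l : List (β × β)) :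
    swapsProd (l.map fun ij => (ι ij.1, ι ij.2)) = (swapsProd l).viaEmbedding ι := by
  induction l with
  | nil =>
    simp only [List.map_nil, swapsProd_nil]
    rw [← Perm.viaEmbeddingHom_apply, map_one]
  | cons a l ih =>
    rw [List.map_cons, swapsProd_cons, swapsProd_cons, ih, ← Perm.viaEmbeddingHom_apply,
      ← Perm.viaEmbeddingHom_apply, map_mul, Perm.viaEmbeddingHom_apply,
      Perm.viaEmbeddingHom_apply, viaEmbedding_swap]

theorem model_eq {k : ℕ} (p : Fin k → α) (hp : Function.Injective p)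
    (l₁ l₂ : List (Fin k × Fin k)) (h : swapsProd l₁ = swapsProd l₂) :
    swapsProd (l₁.map fun ij => (p ij.1, p ij.2)) = swapsProd (l₂.map fun ij => (p ij.1, p ij.2)) := by
  have h1 := swapsProd_map (α := α) ⟨p, hp⟩ l₁
  have h2 := swapsProd_map (α := α) ⟨p, hp⟩ l₂
  simp only [Function.Embedding.coeFn_mk] at h1 h2
  rw [h1, h2, h]

theorem model_eq' (k : ℕ) (l : List α) (hk : l.length = k) (hl : l.Nodup)
    (l₁ l₂ : List (Fin k × Fin k)) (h : swapsProd l₁ = swapsProd l₂) :
    swapsProd (l₁.map fun ij => (l.get (Fin.cast hk.symm ij.1), l.get (Fin.cast hk.symm ij.2)))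
      = swapsProd (l₂.map fun ij => (l.get (Fin.cast hk.symm ij.1), l.get (Fin.cast hk.symm ij.2))) := by
  refine model_eq (fun i : Fin k => l.get (Fin.cast hk.symm i)) ?_ l₁ l₂ h
  intro i j hij
  have := List.nodup_iff_injective_get.mp hl hij
  exact Fin.cast_injective _ this

end Cfsg.Agent.Helper16.Lfg
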