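import Mathlib
import Cfsg.Agent.Lib.Helper29.Wreath
import Cfsg.Agent.Lib.Helper16.LfgC

set_option autoImplicit false
set_option linter.unusedSectionVars false

/-! Even part of the partition stabilizer: one mixed three-cycle generates the alternating group. -/

namespace Cfsg.Agent.Helper16.AltWreath

open Equiv Cfsg.Agent.Helper29 Cfsg.Agent.Helper16.Lfg

section basic
variable {Ω : Type*} [DecidableEq Ω]

/-- the 3-cycle a → b → c → a -/
def c3 (a b c : Ω) : Perm Ω := swap a b * swap b c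

theorem c3_rot {a b c : Ω} (hab : a ≠ b) (hac : a ≠ c) (hbc : b ≠ c) : c3 a b c = c3 b c a := by
  have hl : [a, b, c].Nodup := by simp [*]
  have := model_eq' 3 [a, b, c] rfl hl [(0,1),(1,2)] [(1,2),(2,0)] (by decide)
  simpa [swapsProd, mul_assoc, c3] using this

theorem c3_inv (a b c : Ω) : (c3 a b c)⁻¹ = c3 c b a := by
  unfold c3
  rw [mul_inv_rev, swap_inv, swap_inv, swap_comm b c, swap_comm a b]

theorem c3_conj (g : Perm Ω) (a b c : Ω) : g * c3 a b c * g⁻¹ = c3 (g a) (g b) (g c) := by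
  unfold c3
  rw [swap_apply_apply, swap_apply_apply]
  group

theorem app_inv (h : Perm Ω) (z : Ω) : h (h⁻¹ z) = z := h.apply_symm_apply z

theorem inv_app (h : Perm Ω) (z : Ω) : h⁻¹ (h z) = z := h.symm_apply_apply z

theorem c3_apply_fst {a b c : Ω} (hab : a ≠ b) (hac : a ≠ c) : c3 a b c a = b := by
  unfold c3
  rw [Perm.mul_apply, swap_apply_of_ne_of_ne hab hac, swap_apply_left]

theorem c3_apply_thd {a b c : Ω} : c3 a b c c = a := by
  unfold c3
  rw [Perm.mul_apply, swap_apply_right, swap_apply_right]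

variable [Fintype Ω] {b : ℕ} (f : Ω → Fin b)

/-- even part of the partition stabilizer -/
def H : Subgroup (Perm Ω) := partitionStabilizer f ⊓ alternatingGroup Ω

theorem mem_W_of_perm {g : Perm Ω} (π : Perm (Fin b)) (h : ∀ z, f (g z) = π (f z)) :
    g ∈ partitionStabilizer f := by
  intro x y
  rw [h x, h y]
  exact π.injective.eq_iff.symm

theorem f_swap {s t : Ω} (h : f s = f t) (z : Ω) : f (swap s t z) = f z := by
  by_cases hzs : z = s
  · rw [hzs, swap_apply_left, h]
  by_cases hzt : z = t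
  · rw [hzt, swap_apply_right, h]
  rw [swap_apply_of_ne_of_ne hzs hzt]

theorem swap2_mem_H {x y z w : Ω} (hxy : f x = f y) (hne : x ≠ y) (hzw : f z = f w)
    (hne' : z ≠ w) : swap x y * swap z w ∈ H f := by
  refine Subgroup.mem_inf.mpr
    ⟨mul_mem (swap_mem_partitionStabilizer f hxy) (swap_mem_partitionStabilizer f hzw), ?_⟩
  rw [Perm.mem_alternatingGroup, map_mul, Perm.sign_swap hne, Perm.sign_swap hne']
  simp

theorem c3_mem_alt {x y z : Ω} (hxy : x ≠ y) (hyz : y ≠ z) : c3 x y z ∈ alternatingGroup Ω := by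
  unfold c3
  rw [Perm.mem_alternatingGroup, map_mul, Perm.sign_swap hxy, Perm.sign_swap hyz]
  simp

theorem even_adjust {h0 : Perm Ω} (hh0 : h0 ∈ partitionStabilizer f) {w w' : Ω} (hww : w ≠ w')
    (hfw : f w = f w') :
    ∃ h ∈ H f, (∀ z, z ≠ w → z ≠ w' → h z = h0 z) ∧ ∀ z, f (h z) = f (h0 z) := by
  rcases Int.units_eq_one_or (Perm.sign h0) with hs | hs
  · exact ⟨h0, Subgroup.mem_inf.mpr ⟨hh0, Perm.mem_alternatingGroup.mpr hs⟩,
      fun _ _ _ => rfl, fun _ => rfl⟩
  · refine ⟨h0 * swap w w', Subgroup.mem_inf.mpr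
      ⟨mul_mem hh0 (swap_mem_partitionStabilizer f hfw), ?_⟩, ?_, ?_⟩
    · rw [Perm.mem_alternatingGroup, map_mul, hs, Perm.sign_swap hww]; simp
    · intro z hz hz'
      rw [Perm.mul_apply, swap_apply_of_ne_of_ne hz hz']
    · intro z
      rw [Perm.mul_apply]
      exact ((mem_partitionStabilizer f h0).mp hh0 _ _).mp (f_swap f hfw z)

theorem card_fibre (a : ℕ) (hf : ∀ i : Fin b, Nat.card {x : Ω // f x = i} = a) (i : Fin b) :
    (Finset.univ.filter fun x => f x = i).card = a := by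
  rw [← hf i, Nat.card_eq_fintype_card, Fintype.card_subtype]

theorem exists_mate {a : ℕ} (ha : 2 ≤ a) (hf : ∀ i : Fin b, Nat.card {x : Ω // f x = i} = a)
    (x : Ω) : ∃ x', x' ≠ x ∧ f x' = f x := by
  have hc := card_fibre f a hf (f x)
  have h1 : 1 < (Finset.univ.filter fun y => f y = f x).card := by omega
  obtain ⟨y, hy, hne⟩ := Finset.exists_mem_ne h1 x
  exact ⟨y, hne, (Finset.mem_filter.mp hy).2⟩

theorem exists_third {a : ℕ} (ha : 3 ≤ a) (hf : ∀ i : Fin b, Nat.card {x : Ω // f x = i} = a)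
    (x x' : Ω) : ∃ x'', x'' ≠ x ∧ x'' ≠ x' ∧ f x'' = f x := by
  have hc := card_fibre f a hf (f x)
  have h1 : ({x, x'} : Finset Ω).card < (Finset.univ.filter fun y => f y = f x).card := by
    have := Finset.card_le_two (a := x) (b := x'); omega
  obtain ⟨y, hy, hny⟩ := Finset.exists_mem_notMem_of_card_lt_card h1
  simp only [Finset.mem_insert, Finset.mem_singleton, not_or] at hny
  exact ⟨y, hny.1, hny.2, (Finset.mem_filter.mp hy).2⟩

theorem exists_label {a : ℕ} (ha : 2 ≤ a) (hf : ∀ i : Fin b, Nat.card {x : Ω // f x = i} = a)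
    (i : Fin b) : ∃ x, f x = i := by
  have hc := card_fibre f a hf i
  have h1 : 0 < (Finset.univ.filter fun y => f y = i).card := by omega
  obtain ⟨y, hy⟩ := Finset.card_pos.mp h1
  exact ⟨y, (Finset.mem_filter.mp hy).2⟩

end basic

section lemmaA
variable {Ω : Type*} [DecidableEq Ω] [Fintype Ω] {b : ℕ} (f : Ω → Fin b)
variable (M : Subgroup (Perm Ω))

/-- base flip -/
theorem P_flip {x y z : Ω} (hxy : x ≠ y) (hxz : x ≠ z) (hyz : y ≠ z) (h : c3 x y z ∈ M) :
    c3 y x z ∈ M := by
  have := M.inv_mem h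
  rw [c3_inv, c3_rot hyz.symm hxz.symm hxy.symm] at this
  exact this

theorem P_conj {h : Perm Ω} (hh : h ∈ M) {x y z : Ω} (hP : c3 x y z ∈ M) :
    c3 (h x) (h y) (h z) ∈ M := by
  rw [← c3_conj]; exact M.mul_mem (M.mul_mem hh hP) (M.inv_mem hh)

theorem P_conj' {h : Perm Ω} (hh : h ∈ M) {x y z : Ω}
    (hP : c3 (h⁻¹ x) (h⁻¹ y) (h⁻¹ z) ∈ M) : c3 x y z ∈ M := by
  have := P_conj M hh hP
  simpa using this

/-- all mixed three-cycles with base in block `i` and apex in block `j` lie in `M` -/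
def Good (i j : Fin b) : Prop :=
  ∀ x y z : Ω, f x = i → f y = i → x ≠ y → f z = j → c3 x y z ∈ M

variable {a : ℕ} (ha : 2 ≤ a) (hf : ∀ i : Fin b, Nat.card {x : Ω // f x = i} = a)
  (hHM : H f ≤ M)

include hHM in
theorem apex_move {u u' w w' : Ω} (huu : u ≠ u') (hfu : f u = f u') (hfw : f w ≠ f u)
    (hfw' : f w' = f w) (hT : c3 u u' w ∈ M) : c3 u u' w' ∈ M := by
  by_cases hww : w' = w
  · rw [hww]; exact hT
  have huw : u ≠ w := fun h => hfw (by rw [h])
  have hu'w : u' ≠ w := fun h => hfw (by rw [← h, hfu])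
  have huw' : u ≠ w' := fun h => hfw (by rw [← hfw', ← h])
  have hu'w' : u' ≠ w' := fun h => hfw (by rw [← hfw', ← h, hfu])
  have hh : swap w w' * swap u u' ∈ H f := swap2_mem_H f hfw'.symm (Ne.symm hww) hfu huu
  have h1 := P_conj M (hHM hh) hT
  have e1 : (swap w w' * swap u u') u = u' := by
    rw [Perm.mul_apply, swap_apply_left, swap_apply_of_ne_of_ne hu'w hu'w']
  have e2 : (swap w w' * swap u u') u' = u := by
    rw [Perm.mul_apply, swap_apply_right, swap_apply_of_ne_of_ne huw huw']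
  have e3 : (swap w w' * swap u u') w = w' := by
    rw [Perm.mul_apply, swap_apply_of_ne_of_ne huw.symm hu'w.symm, swap_apply_left]
  rw [e1, e2, e3] at h1
  exact P_flip M huu.symm hu'w' huw' h1

include ha hf hHM in
theorem good_of_T2 {u u' w : Ω} (huu : u ≠ u') (hfu : f u = f u') (hfw : f w ≠ f u)
    (hT : c3 u u' w ∈ M) : Good f M (f u) (f w) := by
  intro x y z hx hy hxy hz
  obtain ⟨w', hw'w, hfw'⟩ := exists_mate f ha hf w
  have huw : u ≠ w := fun h => hfw (by rw [h])
  have hu'w : u' ≠ w := fun h => hfw (by rw [← h, hfu])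
  have huw' : u ≠ w' := fun h => hfw (by rw [← hfw', ← h])
  have hu'w' : u' ≠ w' := fun h => hfw (by rw [← hfw', ← h, hfu])
  have hft : f (swap u x u') = f u := by rw [f_swap f hx.symm, hfu]
  have hty : f (swap u x u') = f y := hft.trans hy.symm
  have h0W : swap (swap u x u') y * swap u x ∈ partitionStabilizer f :=
    mul_mem (swap_mem_partitionStabilizer f hty) (swap_mem_partitionStabilizer f hx.symm)
  obtain ⟨h, hhH, hagree, hlab⟩ := even_adjust f h0W (Ne.symm hw'w) hfw'.symm
  have hlab' : ∀ z, f (h z) = f z := by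
    intro z; rw [hlab, Perm.mul_apply, f_swap f hty, f_swap f hx.symm]
  have hhu : h u = x := by
    rw [hagree u huw huw', Perm.mul_apply, swap_apply_left]
    apply swap_apply_of_ne_of_ne
    · intro hxt
      have h2 : swap u x x = swap u x (swap u x u') := by rw [← hxt]
      rw [swap_apply_right, swap_apply_self] at h2
      exact huu h2
    · exact hxy
  have hhu' : h u' = y := by
    rw [hagree u' hu'w hu'w', Perm.mul_apply]; exact swap_apply_left _ _
  have hz0 : f (h⁻¹ z) = f w := by rw [← hlab' (h⁻¹ z), app_inv, hz]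
  have h1 := apex_move f M hHM huu hfu hfw hz0 hT
  have h2 := P_conj M (hHM hhH) h1
  rwa [hhu, hhu', app_inv] at h2

include ha hf in
theorem good_symm {i j : Fin b} (hij : i ≠ j) (hG : Good f M i j) : Good f M j i := by
  intro x y z hx hy hxy hz
  obtain ⟨z', hz'z, hfz'⟩ := exists_mate f ha hf z
  have h1 : c3 z z' y ∈ M := hG z z' y hz (hfz'.trans hz) (Ne.symm hz'z) hy
  have h2 : c3 z z' x ∈ M := hG z z' x hz (hfz'.trans hz) (Ne.symm hz'z) hx
  have hzx : z ≠ x := fun h => hij (by rw [← hz, h, hx])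
  have hzy : z ≠ y := fun h => hij (by rw [← hz, h, hy])
  have hz'x : z' ≠ x := fun h => hij (by rw [← hz, ← hfz', h, hx])
  have hz'y : z' ≠ y := fun h => hij (by rw [← hz, ← hfz', h, hy])
  have e : c3 x y z = c3 z z' y * (c3 z z' x)⁻¹ := by
    rw [c3_inv]
    have hl : [z, z', x, y].Nodup := by simp [*, Ne.symm hz'z]
    have := model_eq' 4 [z, z', x, y] rfl hl [(2,3),(3,0)] [(0,1),(1,3),(2,1),(1,0)] (by decide)
    simpa [swapsProd, mul_assoc, c3] using this
  rw [e]
  exact M.mul_mem h1 (M.inv_mem h2)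

include ha hf hHM in
theorem good_transport {i j i' j' : Fin b} (hij : i ≠ j) (hij' : i' ≠ j')
    (E : Ω ≃ Fin b × Fin a) (hE : ∀ x, (E x).1 = f x) (hG : Good f M i j) : Good f M i' j' := by
  intro x y z hx hy hxy hz
  obtain ⟨π, hπ1, hπ2⟩ := exists_perm_two hij hij'
  obtain ⟨w', hw'w, hfw'⟩ := exists_mate f ha hf x
  obtain ⟨h, hhH, -, hlab⟩ := even_adjust f (fibrePerm_mem f E hE π) (Ne.symm hw'w) hfw'.symm
  have hlab' : ∀ z, f (h z) = π (f z) := fun z => by rw [hlab, apply_fibrePerm f E hE]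
  have key : ∀ t l, f t = π l → f (h⁻¹ t) = l := by
    intro t l ht
    apply π.injective
    rw [← hlab', app_inv, ht]
  apply P_conj' M (hHM hhH)
  exact hG _ _ _ (key x i (by rw [hx, hπ1])) (key y i (by rw [hy, hπ1]))
    (fun h' => hxy (h⁻¹.injective h')) (key z j (by rw [hz, hπ2]))

include ha hf hHM in
/-- one mixed three-cycle in `M ≥ H` forces `M` to contain the alternating group -/
theorem alt_le_of_T2 {u u' w : Ω} (huu : u ≠ u') (hfu : f u = f u') (hfw : f w ≠ f u)
    (hT : c3 u u' w ∈ M) : alternatingGroup Ω ≤ M := by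
  obtain ⟨E, hE⟩ := exists_labelling a f hf
  have hG0 := good_of_T2 f M ha hf hHM huu hfu hfw hT
  have hG : ∀ i j, i ≠ j → Good f M i j := fun i j hij =>
    good_transport f M ha hf hHM (Ne.symm hfw) hij E hE hG0
  have hall : ∀ x y z : Ω, x ≠ y → x ≠ z → y ≠ z → c3 x y z ∈ M := by
    intro x y z hxy hxz hyz
    by_cases h1 : f x = f y
    · by_cases h2 : f y = f z
      · exact hHM (swap2_mem_H f h1 hxy h2 hyz)
      · exact hG (f x) (f z) (fun h => h2 (h1 ▸ h)) x y z rfl h1.symm hxy rfl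
    · by_cases h2 : f y = f z
      · rw [c3_rot hxy hxz hyz]
        exact hG (f y) (f x) (Ne.symm h1) y z x rfl h2.symm hyz rfl
      · by_cases h3 : f z = f x
        · rw [c3_rot hxy hxz hyz, c3_rot hyz hxy.symm hxz.symm]
          exact hG (f z) (f y) (fun h => h2 h.symm) z x y rfl h3.symm hxz.symm rfl
        · obtain ⟨x', hx'x, hfx'⟩ := exists_mate f ha hf x
          have hx'y : x' ≠ y := fun h => h1 (by rw [← hfx', h])
          have hx'z : x' ≠ z := fun h => h3 (by rw [← hfx', h])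
          have e : c3 x y z = c3 x x' z * c3 x y x' := by
            have hl : [x, y, z, x'].Nodup := by simp [*, Ne.symm hx'x, Ne.symm hx'y, Ne.symm hx'z]
            have := model_eq' 4 [x, y, z, x'] rfl hl [(0,1),(1,2)] [(0,3),(3,2),(0,1),(1,3)]
              (by decide)
            simpa [swapsProd, mul_assoc, c3] using this
          rw [e]
          refine M.mul_mem (hG (f x) (f z) (Ne.symm h3) x x' z rfl hfx' hx'x.symm rfl) ?_
          rw [c3_rot hxy hx'x.symm hx'y.symm, c3_rot hx'y.symm hxy.symm hx'x]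
          exact hG (f x) (f y) h1 x' x y hfx' rfl hx'x rfl
  rw [← Perm.closure_three_cycles_eq_alternating, Subgroup.closure_le]
  intro σ hσ
  have hσ3 : σ.IsThreeCycle := hσ
  have hne : σ.support.Nonempty := by
    rw [← Finset.card_pos, hσ3.card_support]; norm_num
  obtain ⟨x, hx⟩ := hne
  have hnd := hσ3.nodup_iff_mem_support.mpr hx
  have heq := hσ3.eq_swap_mul_swap_iff_mem_support.mpr hx
  simp only [List.nodup_cons, List.mem_cons, List.not_mem_nil, or_false, not_or,
    List.nodup_nil, and_true, not_false_eq_true] at hnd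
  have := hall x (σ x) (σ (σ x)) hnd.1.1 hnd.1.2 hnd.2
  rw [SetLike.mem_coe, heq]
  exact this

end lemmaA

end Cfsg.Agent.Helper16.AltWreath
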