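import Mathlib
import Cfsg.Agent.Lib.Helper29.Wreath
import Cfsg.Agent.Lib.Helper16.LfgC
import Cfsg.Agent.Lib.Helper16.AltWreathA

set_option autoImplicit false
set_option linter.unusedSectionVars false

/-! Even part of the partition stabilizer: any even permutation outside it produces,
together with it, a mixed three-cycle. -/

namespace Cfsg.Agent.Helper16.AltWreath

open Equiv Cfsg.Agent.Helper29 Cfsg.Agent.Helper16.Lfg

variable {Ω : Type*} [DecidableEq Ω] [Fintype Ω] {b : ℕ} (f : Ω → Fin b)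

theorem exists_split {M : Subgroup (Perm Ω)} {g : Perm Ω} (hgM : g ∈ M)
    (hgW : g ∉ partitionStabilizer f) :
    ∃ g' ∈ M, ∃ x y, f x = f y ∧ f (g' x) ≠ f (g' y) := by
  rw [mem_partitionStabilizer] at hgW
  push Not at hgW
  obtain ⟨x, y, hxy⟩ := hgW
  rcases hxy with ⟨h1, h2⟩ | ⟨h1, h2⟩
  · exact ⟨g, hgM, x, y, h1, h2⟩
  · refine ⟨g⁻¹, M.inv_mem hgM, g x, g y, h2, ?_⟩
    rwa [inv_app, inv_app]

theorem c3_apply_of_ne {a b c z : Ω} (ha : z ≠ a) (hb : z ≠ b) (hc : z ≠ c) : c3 a b c z = z := by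
  unfold c3
  rw [Perm.mul_apply, swap_apply_of_ne_of_ne hb hc, swap_apply_of_ne_of_ne ha hb]

theorem conj_swap2 (g : Perm Ω) (a b c d : Ω) :
    g * (swap a b * swap c d) * g⁻¹ = swap (g a) (g b) * swap (g c) (g d) := by
  rw [swap_apply_apply, swap_apply_apply]
  group

theorem ne_of_label {x y : Ω} (h : f x ≠ f y) : x ≠ y := fun h' => h (by rw [h'])

/-- blocks of size at least three -/
theorem exists_T2_of_three_le {a : ℕ} (ha : 3 ≤ a)
    (hf : ∀ i : Fin b, Nat.card {x : Ω // f x = i} = a) (M : Subgroup (Perm Ω))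
    (hHM : H f ≤ M) {g : Perm Ω} (hgM : g ∈ M) {x y : Ω} (hxy : f x = f y)
    (hpq : f (g x) ≠ f (g y)) :
    ∃ u u' w, u ≠ u' ∧ f u = f u' ∧ f w ≠ f u ∧ c3 u u' w ∈ M := by
  have hxney : x ≠ y := fun h => hpq (by rw [h])
  obtain ⟨z, hzx, hzy, hfz⟩ := exists_third f ha hf x y
  have hc : c3 x y z ∈ M :=
    hHM (swap2_mem_H f hxy hxney (hxy.symm.trans hfz.symm) hzy.symm)
  have hc' : c3 (g x) (g y) (g z) ∈ M := P_conj M hgM hc
  have hpq' : g x ≠ g y := g.injective.ne hxney
  have hpr : g x ≠ g z := g.injective.ne hzx.symm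
  have hqr : g y ≠ g z := g.injective.ne hzy.symm
  generalize g x = p at *
  generalize g y = q at *
  generalize g z = r at *
  by_cases h1 : f r = f p
  · refine ⟨r, p, q, hpr.symm, h1, fun h => hpq (h1 ▸ h).symm, ?_⟩
    rw [c3_rot hpr.symm hqr.symm hpq']
    exact hc'
  by_cases h2 : f r = f q
  · refine ⟨q, r, p, hqr, h2.symm, hpq, ?_⟩
    rw [← c3_rot hpq' hpr hqr]
    exact hc'
  obtain ⟨p', hp'p, hfp'⟩ := exists_mate f (by omega) hf p
  obtain ⟨p'', hp''p, hp''p', hfp''⟩ := exists_third f ha hf p p'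
  have hh : c3 p p' p'' ∈ H f :=
    swap2_mem_H f hfp'.symm hp'p.symm (hfp'.trans hfp''.symm) hp''p'.symm
  have h3 := P_conj M (hHM hh) hc'
  have hqp : q ≠ p := hpq'.symm
  have hqp' : q ≠ p' := ne_of_label f (fun h => hpq (by rw [h, hfp']))
  have hqp'' : q ≠ p'' := ne_of_label f (fun h => hpq (by rw [h, hfp'']))
  have hrp : r ≠ p := hpr.symm
  have hrp' : r ≠ p' := ne_of_label f (fun h => h1 (by rw [h, hfp']))
  have hrp'' : r ≠ p'' := ne_of_label f (fun h => h1 (by rw [h, hfp'']))
  rw [c3_apply_fst hp'p.symm hp''p.symm, c3_apply_of_ne hqp hqp' hqp'',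
    c3_apply_of_ne hrp hrp' hrp''] at h3
  refine ⟨p', p, q, hp'p, hfp', fun h => hpq (by rw [h, hfp']), ?_⟩
  have e : c3 p' p q = c3 p q r * (c3 p' q r)⁻¹ := by
    rw [c3_inv]
    have hl : [p, q, r, p'].Nodup := by
      simp [hpq', hpr, hqr, Ne.symm hp'p, hqp', hrp']
    have := model_eq' 4 [p, q, r, p'] rfl hl [(3,0),(0,1)] [(0,1),(1,2),(2,1),(1,3)] (by decide)
    simpa [swapsProd, mul_assoc, c3] using this
  rw [e]
  exact M.mul_mem hc' (M.inv_mem h3)

section two
variable (hf2 : ∀ i : Fin b, Nat.card {x : Ω // f x = i} = 2)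

include hf2 in
theorem exists_mateFun : ∃ m : Ω → Ω, (∀ x, m x ≠ x) ∧ (∀ x, f (m x) = f x) ∧
    (∀ x y, f y = f x → y = x ∨ y = m x) := by
  have : ∀ x, ∃ x', x' ≠ x ∧ f x' = f x ∧ ∀ y, f y = f x → y = x ∨ y = x' := by
    intro x
    have hc := card_fibre f 2 hf2 (f x)
    obtain ⟨c, d, hcd, hs⟩ := Finset.card_eq_two.mp hc
    have hmem : ∀ y, f y = f x ↔ y = c ∨ y = d := by
      intro y
      have : y ∈ (Finset.univ.filter fun y => f y = f x) ↔ y ∈ ({c, d} : Finset Ω) := by rw [hs]
      simpa using this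
    rcases (hmem x).mp rfl with hx | hx
    · refine ⟨d, fun h => hcd (by rw [← hx, h]), (hmem d).mpr (Or.inr rfl), fun y hy => ?_⟩
      rw [hx]; exact (hmem y).mp hy
    · refine ⟨c, fun h => hcd (by rw [← hx, h]), (hmem c).mpr (Or.inl rfl), fun y hy => ?_⟩
      rw [hx]; exact ((hmem y).mp hy).symm
  choose m h1 h2 h3 using this
  exact ⟨m, h1, h2, h3⟩

theorem blockSwap_mem_H (m : Ω → Ω) (hm1 : ∀ x, m x ≠ x) (hm2 : ∀ x, f (m x) = f x)
    (hm3 : ∀ x y, f y = f x → y = x ∨ y = m x) {q v : Ω} (hqv : f q ≠ f v) :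
    swap q v * swap (m q) (m v) ∈ H f := by
  have hne1 : q ≠ v := ne_of_label f hqv
  have hne2 : m q ≠ m v := ne_of_label f (by rw [hm2, hm2]; exact hqv)
  have hqmv : q ≠ m v := ne_of_label f (by rw [hm2]; exact hqv)
  have hvmq : v ≠ m q := ne_of_label f (by rw [hm2]; exact Ne.symm hqv)
  refine Subgroup.mem_inf.mpr ⟨?_, ?_⟩
  · apply mem_W_of_perm f (swap (f q) (f v))
    intro z
    rw [Perm.mul_apply]
    by_cases hzq : f z = f q
    · rcases hm3 q z hzq with h | h
      · rw [h, swap_apply_of_ne_of_ne (hm1 q).symm hqmv, swap_apply_left, swap_apply_left]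
      · rw [h, swap_apply_left, swap_apply_of_ne_of_ne hqmv.symm (hm1 v), hm2, hm2,
          swap_apply_left]
    by_cases hzv : f z = f v
    · rcases hm3 v z hzv with h | h
      · rw [h, swap_apply_of_ne_of_ne hvmq (hm1 v).symm, swap_apply_right, swap_apply_right]
      · rw [h, swap_apply_right, swap_apply_of_ne_of_ne (hm1 q) hvmq.symm, hm2, hm2,
          swap_apply_right]
    have z1 : z ≠ q := ne_of_label f hzq
    have z2 : z ≠ v := ne_of_label f hzv
    have z3 : z ≠ m q := ne_of_label f (by rw [hm2]; exact hzq)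
    have z4 : z ≠ m v := ne_of_label f (by rw [hm2]; exact hzv)
    rw [swap_apply_of_ne_of_ne z3 z4, swap_apply_of_ne_of_ne z1 z2,
      swap_apply_of_ne_of_ne hzq hzv]
  · rw [Perm.mem_alternatingGroup, map_mul, Perm.sign_swap hne1, Perm.sign_swap hne2]
    simp

theorem fin3_eq {b : ℕ} (hb : b = 3) {i j c c' : Fin b} (hij : i ≠ j) (h1 : c ≠ i) (h2 : c ≠ j)
    (h3 : c' ≠ i) (h4 : c' ≠ j) : c = c' := by
  subst hb
  revert i j c c'
  decide

theorem fin3_cases {b : ℕ} (hb : b = 3) {i j l : Fin b} (hij : i ≠ j) (hil : i ≠ l) (hjl : j ≠ l)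
    (c : Fin b) : c = i ∨ c = j ∨ c = l := by
  subst hb
  revert i j l c
  decide

theorem exists_notMem_of_card_lt {b : ℕ} (s : Finset (Fin b)) (hs : s.card < b) :
    ∃ κ, κ ∉ s := by
  by_contra h
  push Not at h
  have : s = Finset.univ := Finset.eq_univ_iff_forall.mpr h
  rw [this, Finset.card_univ, Fintype.card_fin] at hs
  exact lt_irrefl _ hs

include hf2 in
/-- blocks of size two, at least three and not four blocks -/
theorem exists_T2_of_two (hb3 : 3 ≤ b) (hb4 : b ≠ 4) (M : Subgroup (Perm Ω))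
    (hHM : H f ≤ M) {g : Perm Ω} (hgM : g ∈ M) {x y : Ω} (hxy : f x = f y)
    (hpq : f (g x) ≠ f (g y)) :
    ∃ u u' w, u ≠ u' ∧ f u = f u' ∧ f w ≠ f u ∧ c3 u u' w ∈ M := by
  obtain ⟨m, hm1, hm2, hm3⟩ := exists_mateFun f hf2
  have hxney : x ≠ y := fun h => hpq (by rw [h])
  have block_x : ∀ z, f z = f x → z = x ∨ z = y := by
    intro z hz
    have hy : y = m x := by
      rcases hm3 x y hxy.symm with h | h
      · exact absurd h.symm hxney
      · exact h
    rw [hy]; exact hm3 x z hz
  -- the points p, q, pb and the preimage w of pb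
  have hgw : g (g⁻¹ (m (g x))) = m (g x) := app_inv g _
  have hpb_q : m (g x) ≠ g y := ne_of_label f (by rw [hm2]; exact hpq)
  have hwx : g⁻¹ (m (g x)) ≠ x := fun h => hm1 (g x) (by rw [← hgw, h])
  have hwy : g⁻¹ (m (g x)) ≠ y := fun h => hpb_q (by rw [← hgw, h])
  have hfw : f (g⁻¹ (m (g x))) ≠ f x := fun h => by
    rcases block_x _ h with h' | h'
    · exact hwx h'
    · exact hwy h'
  generalize g⁻¹ (m (g x)) = w at *
  -- a third label
  obtain ⟨κ, hκ⟩ := exists_notMem_of_card_lt ({f x, f w} : Finset (Fin b)) (by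
    have := Finset.card_le_two (a := f x) (b := f w); omega)
  simp only [Finset.mem_insert, Finset.mem_singleton, not_or] at hκ
  obtain ⟨k, hk⟩ := exists_label f (le_refl 2) hf2 κ
  have hkx : k ≠ x := ne_of_label f (by rw [hk]; exact hκ.1)
  have hky : k ≠ y := ne_of_label f (by rw [hk, ← hxy]; exact hκ.1)
  have hkw : k ≠ w := ne_of_label f (by rw [hk]; exact hκ.2)
  have hkbx : m k ≠ x := ne_of_label f (by rw [hm2, hk]; exact hκ.1)
  have hkby : m k ≠ y := ne_of_label f (by rw [hm2, hk, ← hxy]; exact hκ.1)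
  have hkbw : m k ≠ w := ne_of_label f (by rw [hm2, hk]; exact hκ.2)
  have hd : swap (g x) (g y) * swap (g k) (g (m k)) ∈ M := by
    have h1 : swap x y * swap k (m k) ∈ H f := swap2_mem_H f hxy hxney (hm2 k).symm (hm1 k).symm
    have h2 := M.mul_mem (M.mul_mem hgM (hHM h1)) (M.inv_mem hgM)
    rwa [conj_swap2] at h2
  have hpq' : g x ≠ g y := g.injective.ne hxney
  have hrs : g k ≠ g (m k) := g.injective.ne (hm1 k).symm
  have hrp : g k ≠ g x := g.injective.ne hkx
  have hrq : g k ≠ g y := g.injective.ne hky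
  have hsp : g (m k) ≠ g x := g.injective.ne hkbx
  have hsq : g (m k) ≠ g y := g.injective.ne hkby
  have hrpb : g k ≠ m (g x) := by rw [← hgw]; exact g.injective.ne hkw
  have hspb : g (m k) ≠ m (g x) := by rw [← hgw]; exact g.injective.ne hkbw
  by_cases hA : f (g k) = f (g (m k))
  · -- the image of the block of `k` is a block
    refine ⟨g x, m (g x), g y, (hm1 _).symm, (hm2 _).symm, Ne.symm hpq, ?_⟩
    have hh : swap (g x) (m (g x)) * swap (g k) (g (m k)) ∈ H f :=
      swap2_mem_H f (hm2 _).symm (hm1 _).symm hA hrs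
    have e : c3 (g x) (m (g x)) (g y)
        = swap (g x) (g y) * swap (g k) (g (m k)) *
          (swap (g x) (m (g x)) * swap (g k) (g (m k))) := by
      have hl : [g x, g y, g k, g (m k), m (g x)].Nodup := by
        simp [hpq', hrs, Ne.symm hrp, Ne.symm hrq, Ne.symm hsp, Ne.symm hsq, hrpb, hspb,
          Ne.symm (hm1 (g x)), Ne.symm hpb_q]
      have := model_eq' 5 [g x, g y, g k, g (m k), m (g x)] rfl hl [(0,4),(4,1)]
        [(0,1),(2,3),(0,4),(2,3)] (by decide)
      simpa [swapsProd, mul_assoc, c3] using this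
    rw [e]
    exact M.mul_mem hd (hHM hh)
  rcases Nat.lt_or_ge b 5 with hb5 | hb5
  · -- three blocks
    have hb : b = 3 := by omega
    have hgwb : g (m w) ≠ g x := g.injective.ne (ne_of_label f (by rw [hm2]; exact hfw))
    have hgwb' : g (m w) ≠ g y :=
      g.injective.ne (ne_of_label f (by rw [hm2, ← hxy]; exact hfw))
    have hgwb'' : g (m w) ≠ m (g x) := by rw [← hgw]; exact g.injective.ne (hm1 w)
    have hvr : g (m w) ≠ g k :=
      g.injective.ne (ne_of_label f (by rw [hm2, hk]; exact Ne.symm hκ.2))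
    have hvs : g (m w) ≠ g (m k) :=
      g.injective.ne (ne_of_label f (by rw [hm2, hm2, hk]; exact Ne.symm hκ.2))
    have hd1 : swap (g x) (g y) * swap (m (g x)) (g (m w)) ∈ M := by
      have h1 : swap x y * swap w (m w) ∈ H f :=
        swap2_mem_H f hxy hxney (hm2 w).symm (hm1 w).symm
      have h2 := M.mul_mem (M.mul_mem hgM (hHM h1)) (M.inv_mem hgM)
      rwa [conj_swap2, hgw] at h2
    have hfvp : f (g (m w)) ≠ f (g x) := fun h => by
      rcases hm3 _ _ h with h' | h'
      · exact hgwb h'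
      · exact hgwb'' h'
    have hfrp : f (g k) ≠ f (g x) := fun h => by
      rcases hm3 _ _ h with h' | h'
      · exact hrp h'
      · exact hrpb h'
    have hfsp : f (g (m k)) ≠ f (g x) := fun h => by
      rcases hm3 _ _ h with h' | h'
      · exact hsp h'
      · exact hspb h'
    have hfvq : f (g (m w)) ≠ f (g y) := fun h => by
      have hv : g (m w) = m (g y) := by
        rcases hm3 _ _ h with h' | h'
        · exact absurd h' hgwb'
        · exact h'
      have hfrq : f (g k) ≠ f (g y) := fun h => by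
        rcases hm3 _ _ h with h' | h'
        · exact hrq h'
        · exact hvr (by rw [hv, h'])
      have hfsq : f (g (m k)) ≠ f (g y) := fun h => by
        rcases hm3 _ _ h with h' | h'
        · exact hsq h'
        · exact hvs (by rw [hv, h'])
      exact hA (fin3_eq hb hpq hfrp hfrq hfsp hfsq)
    generalize hv : g (m w) = v at *
    generalize hp : g x = p at *
    generalize hq : g y = q at *
    generalize hr : g k = r at *
    generalize hs : g (m k) = s at *
    have hr' : r = m q ∨ r = m v := by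
      rcases fin3_cases hb hpq (Ne.symm hfvp) (Ne.symm hfvq) (f r) with h | h | h
      · exact absurd h hfrp
      · rcases hm3 _ _ h with h' | h'
        · exact absurd h' hrq
        · exact Or.inl h'
      · rcases hm3 _ _ h with h' | h'
        · exact absurd h'.symm hvr
        · exact Or.inr h'
    have hs' : s = m q ∨ s = m v := by
      rcases fin3_cases hb hpq (Ne.symm hfvp) (Ne.symm hfvq) (f s) with h | h | h
      · exact absurd h hfsp
      · rcases hm3 _ _ h with h' | h'
        · exact absurd h' hsq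
        · exact Or.inl h'
      · rcases hm3 _ _ h with h' | h'
        · exact absurd h'.symm hvs
        · exact Or.inr h'
    have hd2 : swap p q * swap (m q) (m v) ∈ M := by
      rcases hr' with h1 | h1 <;> rcases hs' with h2 | h2
      · exact absurd (h1.trans h2.symm) hrs
      · rw [← h1, ← h2]; exact hd
      · rw [swap_comm (m q) (m v), ← h1, ← h2]; exact hd
      · exact absurd (h1.trans h2.symm) hrs
    have hs0 : swap q v * swap (m q) (m v) ∈ H f :=
      blockSwap_mem_H f m hm1 hm2 hm3 (Ne.symm hfvq)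
    refine ⟨m p, p, v, hm1 p, hm2 p, by rw [hm2]; exact hfvp, ?_⟩
    have e : c3 (m p) p v = swap p q * swap (m q) (m v) * (swap q v * swap (m q) (m v)) *
        (swap p q * swap (m p) v) := by
      have n1 : p ≠ q := hpq'
      have n2 : p ≠ v := Ne.symm hgwb
      have n3 : p ≠ m p := (hm1 p).symm
      have n4 : p ≠ m q := ne_of_label f (by rw [hm2]; exact hpq)
      have n5 : p ≠ m v := ne_of_label f (by rw [hm2]; exact Ne.symm hfvp)
      have n6 : q ≠ v := Ne.symm hgwb'
      have n7 : q ≠ m p := Ne.symm hpb_q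
      have n8 : q ≠ m q := (hm1 q).symm
      have n9 : q ≠ m v := ne_of_label f (by rw [hm2]; exact Ne.symm hfvq)
      have n10 : v ≠ m p := hgwb''
      have n11 : v ≠ m q := ne_of_label f (by rw [hm2]; exact hfvq)
      have n12 : v ≠ m v := (hm1 v).symm
      have n13 : m p ≠ m q := ne_of_label f (by rw [hm2, hm2]; exact hpq)
      have n14 : m p ≠ m v := ne_of_label f (by rw [hm2, hm2]; exact Ne.symm hfvp)
      have n15 : m q ≠ m v := ne_of_label f (by rw [hm2, hm2]; exact Ne.symm hfvq)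
      have hl : [p, q, v, m p, m q, m v].Nodup := by
        simp [n1, n2, n3, n4, n5, n6, n7, n8, n9, n10, n11, n12, n13, n14, n15]
      have := model_eq' 6 [p, q, v, m p, m q, m v] rfl hl [(3,0),(0,2)]
        [(0,1),(4,5),(1,2),(4,5),(0,1),(3,2)] (by decide)
      simpa [swapsProd, mul_assoc, c3] using this
    rw [e]
    exact M.mul_mem (M.mul_mem hd2 (hHM hs0)) hd1
  · -- at least five blocks
    obtain ⟨lam, hlam⟩ := exists_notMem_of_card_lt
      ({f (g x), f (g y), f (g k), f (g (m k))} : Finset (Fin b)) (by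
        have := Finset.card_le_four (a := f (g x)) (b := f (g y)) (c := f (g k))
          (d := f (g (m k))); omega)
    simp only [Finset.mem_insert, Finset.mem_singleton, not_or] at hlam
    obtain ⟨l, hl⟩ := exists_label f (le_refl 2) hf2 lam
    generalize hp : g x = p at *
    generalize hq : g y = q at *
    generalize hr : g k = r at *
    generalize hs : g (m k) = s at *
    have hh : swap p (m p) * swap l (m l) ∈ H f :=
      swap2_mem_H f (hm2 _).symm (hm1 _).symm (hm2 _).symm (hm1 _).symm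
    refine ⟨m p, p, q, hm1 p, hm2 p, by rw [hm2]; exact Ne.symm hpq, ?_⟩
    have e : c3 (m p) p q = swap p q * swap r s * (swap p (m p) * swap l (m l)) *
        (swap p q * swap r s)⁻¹ * (swap p (m p) * swap l (m l))⁻¹ := by
      rw [mul_inv_rev, mul_inv_rev, swap_inv, swap_inv, swap_inv, swap_inv]
      have n1 : p ≠ q := hpq'
      have n2 : p ≠ r := Ne.symm hrp
      have n3 : p ≠ s := Ne.symm hsp
      have n4 : p ≠ m p := (hm1 p).symm
      have n5 : p ≠ l := ne_of_label f (by rw [hl]; exact Ne.symm hlam.1)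
      have n6 : p ≠ m l := ne_of_label f (by rw [hm2, hl]; exact Ne.symm hlam.1)
      have n7 : q ≠ r := Ne.symm hrq
      have n8 : q ≠ s := Ne.symm hsq
      have n9 : q ≠ m p := Ne.symm hpb_q
      have n10 : q ≠ l := ne_of_label f (by rw [hl]; exact Ne.symm hlam.2.1)
      have n11 : q ≠ m l := ne_of_label f (by rw [hm2, hl]; exact Ne.symm hlam.2.1)
      have n12 : r ≠ s := hrs
      have n13 : r ≠ m p := hrpb
      have n14 : r ≠ l := ne_of_label f (by rw [hl]; exact Ne.symm hlam.2.2.1)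
      have n15 : r ≠ m l := ne_of_label f (by rw [hm2, hl]; exact Ne.symm hlam.2.2.1)
      have n16 : s ≠ m p := hspb
      have n17 : s ≠ l := ne_of_label f (by rw [hl]; exact Ne.symm hlam.2.2.2)
      have n18 : s ≠ m l := ne_of_label f (by rw [hm2, hl]; exact Ne.symm hlam.2.2.2)
      have n19 : m p ≠ l := ne_of_label f (by rw [hm2, hl]; exact Ne.symm hlam.1)
      have n20 : m p ≠ m l := ne_of_label f (by rw [hm2, hm2, hl]; exact Ne.symm hlam.1)
      have n21 : l ≠ m l := (hm1 l).symm
      have hl' : [p, q, r, s, m p, l, m l].Nodup := by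
        simp [n1, n2, n3, n4, n5, n6, n7, n8, n9, n10, n11, n12, n13, n14, n15, n16, n17, n18,
          n19, n20, n21]
      have := model_eq' 7 [p, q, r, s, m p, l, m l] rfl hl' [(4,0),(0,1)]
        [(0,1),(2,3),(0,4),(5,6),(2,3),(0,1),(5,6),(0,4)] (by decide)
      simpa [swapsProd, mul_assoc, c3] using this
    rw [e]
    exact M.mul_mem (M.mul_mem (M.mul_mem hd (hHM hh)) (M.inv_mem hd)) (M.inv_mem (hHM hh))

end two

end Cfsg.Agent.Helper16.AltWreath
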