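import Mathlib
import Cfsg.Agent.Lib.Helper29.Wreath
import Cfsg.Agent.Lib.Helper16.LfgC
import Cfsg.Agent.Lib.Helper16.AltWreathA
import Cfsg.Agent.Lib.Helper16.AltWreathB

set_option autoImplicit false
set_option linter.unusedSectionVars false

/-! Even part of the partition stabilizer is maximal in the alternating group
(degree different from eight). -/

namespace Cfsg.Agent.Helper16.AltWreath

open Equiv Cfsg.Agent.Helper29 Cfsg.Agent.Helper16.Lfg

variable {Ω : Type*} [DecidableEq Ω] [Fintype Ω]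

theorem fin2_eq {c c' i : Fin 2} (h1 : c ≠ i) (h2 : c' ≠ i) : c = c' := by
  revert c c' i
  decide

/-- degree four -/
theorem alt_le_of_four (f : Ω → Fin 2) (hf2 : ∀ i : Fin 2, Nat.card {x : Ω // f x = i} = 2)
    (M : Subgroup (Perm Ω)) (hHM : H f ≤ M) (hMA : M ≤ alternatingGroup Ω)
    {g : Perm Ω} (hgM : g ∈ M) (hgW : g ∉ partitionStabilizer f) : alternatingGroup Ω ≤ M := by
  obtain ⟨m, hm1, hm2, hm3⟩ := exists_mateFun f hf2
  obtain ⟨E, hE⟩ := exists_labelling 2 f hf2
  have hcard : Fintype.card Ω = 4 := by rw [Fintype.card_congr E]; simp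
  have : Nontrivial Ω := Fintype.one_lt_card_iff_nontrivial.mp (by omega)
  have hA : Nat.card (alternatingGroup Ω) = 12 := by
    have h := two_mul_nat_card_alternatingGroup (α := Ω)
    have hc : Nat.card Ω = 4 := by rw [Nat.card_eq_fintype_card, hcard]
    rw [Nat.card_perm, hc] at h
    have : Nat.factorial 4 = 24 := by decide
    omega
  have hpos : 0 < Fintype.card Ω := by omega
  obtain ⟨x⟩ := Fintype.card_pos_iff.mp hpos
  obtain ⟨κ, hκ⟩ := exists_notMem_of_card_lt ({f x} : Finset (Fin 2)) (by simp)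
  rw [Finset.mem_singleton] at hκ
  obtain ⟨k, hk⟩ := exists_label f (le_refl 2) hf2 κ
  have hfkx : f k ≠ f x := by rw [hk]; exact hκ
  have hall : ∀ z, z = x ∨ z = m x ∨ z = k ∨ z = m k := by
    intro z
    by_cases hz : f z = f x
    · rcases hm3 x z hz with h | h
      · exact Or.inl h
      · exact Or.inr (Or.inl h)
    · have hz' : f z = f k := fin2_eq hz hfkx
      rcases hm3 k z hz' with h | h
      · exact Or.inr (Or.inr (Or.inl h))
      · exact Or.inr (Or.inr (Or.inr h))
  have hxk : x ≠ k := ne_of_label f (Ne.symm hfkx)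
  have hxmk : x ≠ m k := ne_of_label f (by rw [hm2]; exact Ne.symm hfkx)
  have hxmmk : x ≠ m (m k) := ne_of_label f (by rw [hm2, hm2]; exact Ne.symm hfkx)
  have hsurj : Function.Surjective (fun h : H f => (h : Perm Ω) x) := by
    intro z
    rcases hall z with h | h | h | h
    · exact ⟨1, by rw [h]; rfl⟩
    · refine ⟨⟨swap x (m x) * swap k (m k),
        swap2_mem_H f (hm2 x).symm (hm1 x).symm (hm2 k).symm (hm1 k).symm⟩, ?_⟩
      show (swap x (m x) * swap k (m k)) x = z
      rw [Perm.mul_apply, swap_apply_of_ne_of_ne hxk hxmk, swap_apply_left, h]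
    · refine ⟨⟨swap x k * swap (m x) (m k),
        blockSwap_mem_H f m hm1 hm2 hm3 (Ne.symm hfkx)⟩, ?_⟩
      show (swap x k * swap (m x) (m k)) x = z
      rw [Perm.mul_apply, swap_apply_of_ne_of_ne (hm1 x).symm hxmk, swap_apply_left, h]
    · refine ⟨⟨swap x (m k) * swap (m x) (m (m k)),
        blockSwap_mem_H f m hm1 hm2 hm3 (by rw [hm2]; exact Ne.symm hfkx)⟩, ?_⟩
      show (swap x (m k) * swap (m x) (m (m k))) x = z
      rw [Perm.mul_apply, swap_apply_of_ne_of_ne (hm1 x).symm hxmmk, swap_apply_left, h]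
  have h3 : 4 ≤ Nat.card (H f) := by
    have := Nat.card_le_card_of_surjective _ hsurj
    rwa [Nat.card_eq_fintype_card, hcard] at this
  have hne : Nat.card (H f) ≠ Nat.card M := by
    intro h
    have : H f = M := Subgroup.eq_of_le_of_card_ge hHM (le_of_eq h.symm)
    rw [← this] at hgM
    exact hgW (Subgroup.mem_inf.mp hgM).1
  have h1 : Nat.card (H f) ∣ Nat.card M := Subgroup.card_dvd_of_le hHM
  have h2 : Nat.card M ∣ 12 := hA ▸ Subgroup.card_dvd_of_le hMA
  have hM12 : Nat.card M ≤ 12 := Nat.le_of_dvd (by norm_num) h2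
  have hHM' : Nat.card (H f) ≤ Nat.card M := Nat.le_of_dvd Nat.card_pos h1
  have hM : Nat.card M = 12 := by
    generalize Nat.card M = cM at *
    generalize Nat.card (H f) = cH at *
    interval_cases cM <;> interval_cases cH <;> omega
  exact (Subgroup.eq_of_le_of_card_ge hMA (by rw [hA, hM])).ge

/-- the main theorem on subgroups of `Perm Ω` -/
theorem alt_le_of_not_le (h8 : Fintype.card Ω ≠ 8) (a b : ℕ) (ha : 2 ≤ a) (hb : 2 ≤ b)
    (f : Ω → Fin b) (hf : ∀ i : Fin b, Nat.card {x : Ω // f x = i} = a)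
    (M : Subgroup (Perm Ω)) (hHM : H f ≤ M) (hMA : M ≤ alternatingGroup Ω)
    {g : Perm Ω} (hgM : g ∈ M) (hgW : g ∉ partitionStabilizer f) : alternatingGroup Ω ≤ M := by
  obtain ⟨g', hg'M, x, y, hxy, hpq⟩ := exists_split f hgM hgW
  rcases Nat.lt_or_ge a 3 with ha3 | ha3
  · have ha2 : a = 2 := by omega
    subst ha2
    obtain ⟨E, hE⟩ := exists_labelling 2 f hf
    have hcard : Fintype.card Ω = b * 2 := by rw [Fintype.card_congr E]; simp
    have hb4 : b ≠ 4 := by omega
    rcases Nat.lt_or_ge b 3 with hb3 | hb3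
    · have hb2 : b = 2 := by omega
      subst hb2
      exact alt_le_of_four f hf M hHM hMA hgM hgW
    · obtain ⟨u, u', w, h1, h2, h3, h4⟩ := exists_T2_of_two f hf hb3 hb4 M hHM hg'M hxy hpq
      exact alt_le_of_T2 f M ha hf hHM h1 h2 h3 h4
  · obtain ⟨u, u', w, h1, h2, h3, h4⟩ := exists_T2_of_three_le f ha3 hf M hHM hg'M hxy hpq
    exact alt_le_of_T2 f M ha hf hHM h1 h2 h3 h4

/-- the even part of the partition stabilizer is a proper subgroup of the alternating group -/
theorem not_alt_le (a b : ℕ) (ha : 2 ≤ a) (hb : 2 ≤ b)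
    (f : Ω → Fin b) (hf : ∀ i : Fin b, Nat.card {x : Ω // f x = i} = a) :
    ¬ alternatingGroup Ω ≤ partitionStabilizer f ⊓ alternatingGroup Ω := by
  intro hle
  obtain ⟨u, hu⟩ := exists_label f ha hf ⟨0, by omega⟩
  obtain ⟨w, hw⟩ := exists_label f ha hf ⟨1, by omega⟩
  obtain ⟨u', hu'u, hfu'⟩ := exists_mate f ha hf u
  have hfuw : f u ≠ f w := by
    rw [hu, hw]; intro h; exact absurd (Fin.mk.inj_iff.mp h) (by norm_num)
  have huw : u ≠ w := ne_of_label f hfuw
  have hu'w : u' ≠ w := ne_of_label f (by rw [hfu']; exact hfuw)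
  have hc : c3 u u' w ∈ alternatingGroup Ω := c3_mem_alt hu'u.symm hu'w
  have hW := (Subgroup.mem_inf.mp (hle hc)).1
  have := (mem_partitionStabilizer f _).mp hW u w
  rw [c3_apply_fst hu'u.symm huw, c3_apply_thd] at this
  exact hfuw (this.mpr hfu')

/-- coatom form -/
theorem isCoatom_subgroupOf (h8 : Fintype.card Ω ≠ 8) (a b : ℕ) (ha : 2 ≤ a) (hb : 2 ≤ b)
    (f : Ω → Fin b) (hf : ∀ i : Fin b, Nat.card {x : Ω // f x = i} = a) :
    IsCoatom ((partitionStabilizer f ⊓ alternatingGroup Ω).subgroupOf (alternatingGroup Ω)) := by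
  constructor
  · intro htop
    rw [Subgroup.subgroupOf_eq_top] at htop
    exact not_alt_le a b ha hb f hf htop
  · intro K hK
    have hle : (partitionStabilizer f ⊓ alternatingGroup Ω).subgroupOf (alternatingGroup Ω) ≤ K :=
      hK.le
    obtain ⟨k, hkK, hkH⟩ := SetLike.exists_of_lt hK
    have hM : alternatingGroup Ω ≤ K.map (alternatingGroup Ω).subtype := by
      apply alt_le_of_not_le h8 a b ha hb f hf (K.map (alternatingGroup Ω).subtype) ?_
        (Subgroup.map_subtype_le K) (g := (k : Perm Ω))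
      · exact ⟨k, hkK, rfl⟩
      · intro hW
        exact hkH (Subgroup.mem_subgroupOf.mpr (Subgroup.mem_inf.mpr ⟨hW, k.2⟩))
      · intro h hh
        have hhA : h ∈ alternatingGroup Ω := (Subgroup.mem_inf.mp hh).2
        exact ⟨⟨h, hhA⟩, hle (Subgroup.mem_subgroupOf.mpr hh), rfl⟩
    rw [eq_top_iff]
    intro a' _
    obtain ⟨k', hk'K, hk'⟩ := hM a'.2
    have : k' = a' := Subtype.ext hk'
    rw [← this]; exact hk'K

end Cfsg.Agent.Helper16.AltWreath
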