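import Mathlib
import Cfsg.Prelude.Def_Blocks
import Cfsg.Agent.S4701
import Cfsg.Agent.Lib.Helper2.CardSL

/-!
# S4705 piece GID (helper16): `G / Z(G) ≅ SL(2, 2^a)`, `p = 2^a + 1`
-/

set_option autoImplicit false
set_option linter.unusedSectionVars false
set_option linter.unusedVariables false

namespace Cfsg.Agent.Helper23.B2

open Cfsg

universe u

section Grp

variable {H : Type u} [Group H] [Finite H]

namespace GID

/-- `p` does not divide the order of the centre -/
theorem not_dvd_center (p : ℕ) [Fact p.Prime] (P : Sylow p H)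
    (hP : Nat.card (P : Subgroup H) = p)
    (hcard : Nat.card H = p * (p - 1) * (p - 2) * Nat.card (Subgroup.center H)) :
    ¬ p ∣ Nat.card (Subgroup.center H) := by
  have hpp : p.Prime := Fact.out
  rintro ⟨k, hk⟩
  have h1 : p ^ 2 ∣ Nat.card H := by
    rw [hcard, hk]
    exact ⟨(p - 1) * (p - 2) * k, by ring⟩
  have h2 := P.pow_dvd_card_of_pow_dvd_card h1
  rw [hP] at h2
  have h3 : p ^ 2 ≤ p := Nat.le_of_dvd hpp.pos h2
  have h4 : p * 2 ≤ p * p := Nat.mul_le_mul_left p hpp.two_le
  have h5 : p ^ 2 = p * p := sq p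
  have := hpp.pos
  omega

/-- a central element of `p`-power-one is trivial -/
theorem center_pow_eq_one (p : ℕ) [Fact p.Prime]
    (hpZ : ¬ p ∣ Nat.card (Subgroup.center H)) {z : H} (hz : z ∈ Subgroup.center H)
    (hzp : z ^ p = 1) : z = 1 := by
  have hpp : p.Prime := Fact.out
  have h1 : orderOf z ∣ p := orderOf_dvd_of_pow_eq_one hzp
  have h2 : orderOf z ∣ Nat.card (Subgroup.center H) := Subgroup.orderOf_dvd_natCard _ hz
  rcases (Nat.dvd_prime hpp).mp h1 with h | h
  · exact orderOf_eq_one_iff.mp h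
  · rw [h] at h2
    exact absurd h2 hpZ

end GID

/-- PIECE GID. -/
theorem exists_iso_quotient (p : ℕ) [Fact p.Prime] (hp : 5 < p) (P : Sylow p H)
    (hP : Nat.card (P : Subgroup H) = p) (hnn : ¬ (P : Subgroup H).Normal)
    (hcent : ∀ c ∈ Subgroup.centralizer ((P : Subgroup H) : Set H),
      ∃ a ∈ (P : Subgroup H), ∃ z ∈ Subgroup.center H, c = a * z)
    (hcard : Nat.card H = p * (p - 1) * (p - 2) * Nat.card (Subgroup.center H))
    (hperf : commutator H ⊔ Subgroup.center H = ⊤) :
    ∃ (a : ℕ) (F : Type) (_ : Field F) (_ : Fintype F), p = 2 ^ a + 1 ∧ Fintype.card F = 2 ^ a ∧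
      Nonempty (H ⧸ Subgroup.center H ≃* Matrix.SpecialLinearGroup (Fin 2) F) := by
  classical
  have hpp : p.Prime := Fact.out
  have hpZ := GID.not_dvd_center p P hP hcard
  have hzp : ∀ z ∈ Subgroup.center H, z ^ p = 1 → z = 1 :=
    fun z hz h => GID.center_pow_eq_one p hpZ hz h
  have hPpow : ∀ a ∈ (P : Subgroup H), a ^ p = 1 := by
    intro a ha
    have h1 := pow_card_eq_one' (G := ↥(P : Subgroup H)) (x := ⟨a, ha⟩)
    rw [hP] at h1
    exact congrArg Subtype.val h1
  -- the order of the quotient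
  have hQ : Nat.card (H ⧸ Subgroup.center H) = p * (p - 1) * (p - 2) := by
    have h1 := Subgroup.card_eq_card_quotient_mul_card_subgroup (Subgroup.center H)
    rw [hcard] at h1
    exact (Nat.eq_of_mul_eq_mul_right Nat.card_pos h1).symm
  -- the quotient is perfect
  have hsurj : Function.Surjective (QuotientGroup.mk' (Subgroup.center H)) :=
    QuotientGroup.mk'_surjective _
  have hperfQ : commutator (H ⧸ Subgroup.center H) = ⊤ := by
    have h1 : (commutator H).map (QuotientGroup.mk' (Subgroup.center H)) =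
        commutator (H ⧸ Subgroup.center H) := by
      rw [commutator_def, commutator_def, Subgroup.map_commutator,
        Subgroup.map_top_of_surjective _ hsurj]
    have h2 : (commutator H ⊔ Subgroup.center H).map (QuotientGroup.mk' (Subgroup.center H)) =
        ⊤ := by
      rw [hperf, Subgroup.map_top_of_surjective _ hsurj]
    rw [Subgroup.map_sup, h1, QuotientGroup.map_mk'_self, sup_bot_eq] at h2
    exact h2
  have hdvd : p ∣ Nat.card (H ⧸ Subgroup.center H) := by
    rw [hQ]; exact ⟨(p - 1) * (p - 2), by ring⟩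
  have hbig : Nat.card (H ⧸ Subgroup.center H) < p ^ 3 := by
    rw [hQ]
    have h1 : p - 1 < p := by omega
    have h2 : p - 2 < p := by omega
    have h3 : (p - 1) * (p - 2) < p * p := Nat.mul_lt_mul'' h1 h2
    calc p * (p - 1) * (p - 2) = p * ((p - 1) * (p - 2)) := by ring
      _ < p * (p * p) := Nat.mul_lt_mul_of_pos_left h3 hpp.pos
      _ = p ^ 3 := by ring
  -- a Sylow subgroup of the quotient containing the image of `P`
  obtain ⟨P', hP'⟩ := (IsPGroup.map P.2 (QuotientGroup.mk' (Subgroup.center H))).exists_le_sylow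
  -- membership in the image of `P`
  have hmemP : ∀ x : H, (QuotientGroup.mk' (Subgroup.center H) x) ∈
      (P : Subgroup H).map (QuotientGroup.mk' (Subgroup.center H)) →
      ∃ a ∈ (P : Subgroup H), ∃ z ∈ Subgroup.center H, x = a * z := by
    intro x hx
    obtain ⟨a, ha, hax⟩ := Subgroup.mem_map.mp hx
    refine ⟨a, ha, a⁻¹ * x, ?_, by group⟩
    have h1 : (QuotientGroup.mk' (Subgroup.center H)) (a⁻¹ * x) = 1 := by
      rw [map_mul, map_inv, hax, inv_mul_cancel]
    exact (QuotientGroup.eq_one_iff _).mp h1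
  -- the image of `P` has order `p`
  have hcardim : Nat.card ((P : Subgroup H).map (QuotientGroup.mk' (Subgroup.center H))) = p := by
    have hinj : Function.Injective
        ((QuotientGroup.mk' (Subgroup.center H)).comp (P : Subgroup H).subtype) := by
      rw [injective_iff_map_eq_one]
      intro a ha
      have h1 : (a : H) ∈ Subgroup.center H := (QuotientGroup.eq_one_iff _).mp ha
      have h2 := hzp (a : H) h1 (hPpow a a.2)
      exact Subtype.ext h2
    have h1 : Nat.card ((QuotientGroup.mk' (Subgroup.center H)).comp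
        (P : Subgroup H).subtype).range = Nat.card (P : Subgroup H) :=
      (Nat.card_congr (MonoidHom.ofInjective hinj).toEquiv).symm
    rw [← MonoidHom.map_range, Subgroup.range_subtype] at h1
    rw [h1, hP]
  -- the order of `P'`
  have hcardP' : Nat.card (P' : Subgroup (H ⧸ Subgroup.center H)) = p := by
    obtain ⟨k, hk⟩ := (IsPGroup.iff_card).mp P'.2
    have h1 : p ∣ p ^ k := by
      have h1' := Subgroup.card_dvd_of_le hP'
      rwa [hcardim, hk] at h1'
    have h2 : p ^ k ∣ p * ((p - 1) * (p - 2)) := by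
      have h2' := Subgroup.card_subgroup_dvd_card (P' : Subgroup (H ⧸ Subgroup.center H))
      rwa [hk, hQ, mul_assoc] at h2'
    have hk1 : k ≠ 0 := by
      rintro rfl
      rw [pow_zero, Nat.dvd_one] at h1
      exact hpp.one_lt.ne' h1
    have hk2 : k < 2 := by
      by_contra hge
      push Not at hge
      have h3 : p ^ 2 ∣ p * ((p - 1) * (p - 2)) := (pow_dvd_pow p hge).trans h2
      rw [sq] at h3
      have h4 : p ∣ (p - 1) * (p - 2) := Nat.dvd_of_mul_dvd_mul_left hpp.pos h3
      rcases (Nat.Prime.dvd_mul hpp).mp h4 with h5 | h5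
      · have := Nat.le_of_dvd (by omega) h5
        omega
      · have := Nat.le_of_dvd (by omega) h5
        omega
    have hk3 : k = 1 := by omega
    rw [hk, hk3, pow_one]
  have himeq : (P : Subgroup H).map (QuotientGroup.mk' (Subgroup.center H)) =
      (P' : Subgroup (H ⧸ Subgroup.center H)) :=
    Subgroup.eq_of_le_of_card_ge hP' (by rw [hcardP', hcardim])
  -- `P'` is not normal
  have hP'nn : ¬ (P' : Subgroup (H ⧸ Subgroup.center H)).Normal := by
    intro hn
    apply hnn
    constructor
    intro a ha h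
    have h1 : (QuotientGroup.mk' (Subgroup.center H)) (h * a * h⁻¹) ∈
        (P : Subgroup H).map (QuotientGroup.mk' (Subgroup.center H)) := by
      rw [himeq, map_mul, map_mul, map_inv]
      apply hn.conj_mem
      rw [← himeq]
      exact Subgroup.mem_map_of_mem _ ha
    obtain ⟨a', ha', z, hz, hx⟩ := hmemP _ h1
    have h2 : (h * a * h⁻¹) ^ p = 1 := by
      rw [conj_pow, hPpow a ha, mul_one, mul_inv_cancel]
    have hza : z * a' = a' * z := (Subgroup.mem_center_iff.mp hz a').symm
    have h3 : z ^ p = 1 := by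
      rw [hx, (Commute.mul_pow (show Commute a' z from hza.symm) p), hPpow a' ha', one_mul] at h2
      exact h2
    rw [hx, hzp z hz h3, mul_one]
    exact ha'
  -- no normal subgroup of order `2`
  have h2 : ∀ N : Subgroup (H ⧸ Subgroup.center H), N.Normal → Nat.card N ≠ 2 := by
    intro N hN hc
    obtain ⟨⟨tb, htb⟩, htb1, huniq⟩ := (Nat.card_eq_two_iff' (1 : N)).mp hc
    have htb1' : tb ≠ 1 := fun h => htb1 (Subtype.ext h)
    obtain ⟨t, rfl⟩ := hsurj tb
    -- `t` centralizes `P`
    have htC : t ∈ Subgroup.centralizer ((P : Subgroup H) : Set H) := by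
      rw [Subgroup.mem_centralizer_iff]
      intro a ha
      -- conjugating `t̄` by `ā` gives `t̄`
      have h1 : (QuotientGroup.mk' (Subgroup.center H)) (a * t * a⁻¹) ∈ N := by
        rw [map_mul, map_mul, map_inv]
        exact hN.conj_mem _ htb _
      have h2 : (QuotientGroup.mk' (Subgroup.center H)) (a * t * a⁻¹) ≠ 1 := by
        rw [map_mul, map_mul, map_inv]
        intro h
        apply htb1'
        have := congrArg (fun x => ((QuotientGroup.mk' (Subgroup.center H)) a)⁻¹ * x *
          (QuotientGroup.mk' (Subgroup.center H)) a) h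
        simpa [mul_assoc] using this
      have h3 : (⟨_, h1⟩ : N) = ⟨_, htb⟩ := huniq _ (fun h => h2 (congrArg Subtype.val h))
      have h4 : (QuotientGroup.mk' (Subgroup.center H)) (a * t * a⁻¹) =
          (QuotientGroup.mk' (Subgroup.center H)) t := congrArg Subtype.val h3
      -- so `a t a⁻¹ t⁻¹ = z` is central
      have h5 : (a * t * a⁻¹) * t⁻¹ ∈ Subgroup.center H := by
        apply (QuotientGroup.eq_one_iff _).mp
        show (QuotientGroup.mk' (Subgroup.center H)) ((a * t * a⁻¹) * t⁻¹) = 1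
        rw [map_mul, h4, map_inv, mul_inv_cancel]
      -- `t⁻¹ a t = z' a` ... use the element `w := t⁻¹ * a * t * a⁻¹`
      set z := (a * t * a⁻¹) * t⁻¹ with hzdef
      -- `t a⁻¹ t⁻¹ = a⁻¹ z`
      have h6 : t * a⁻¹ * t⁻¹ = a⁻¹ * z := by
        rw [hzdef]; group
      have h7 : (t * a⁻¹ * t⁻¹) ^ p = 1 := by
        rw [conj_pow, inv_pow, hPpow a ha, inv_one, mul_one, mul_inv_cancel]
      have hza : z * a⁻¹ = a⁻¹ * z := (Subgroup.mem_center_iff.mp h5 a⁻¹).symm
      have h8 : z ^ p = 1 := by
        rw [h6, (Commute.mul_pow (show Commute a⁻¹ z from hza.symm) p), inv_pow, hPpow a ha,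
          inv_one, one_mul] at h7
        exact h7
      have h9 : z = 1 := hzp z h5 h8
      -- conclude `a * t = t * a`
      have h10 : a * t * a⁻¹ = t := by
        have := h9
        rw [hzdef] at this
        exact mul_inv_eq_one.mp this
      calc a * t = (a * t * a⁻¹) * a := by group
        _ = t * a := by rw [h10]
    obtain ⟨a₀, ha₀, z₀, hz₀, ht⟩ := hcent t htC
    -- the image of `t` has order dividing `p` and `2`
    have h1 : ((QuotientGroup.mk' (Subgroup.center H)) t) ^ p = 1 := by
      have hz1 : (QuotientGroup.mk' (Subgroup.center H)) z₀ = 1 :=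
        (QuotientGroup.eq_one_iff _).mpr hz₀
      rw [ht, map_mul, hz1, mul_one, ← map_pow, hPpow a₀ ha₀, map_one]
    have h2 : ((QuotientGroup.mk' (Subgroup.center H)) t) ^ 2 = 1 := by
      have h3 : (⟨_, htb⟩ : N) ^ 2 = 1 := by
        rw [← hc]; exact pow_card_eq_one'
      exact congrArg Subtype.val h3
    have h3 : orderOf ((QuotientGroup.mk' (Subgroup.center H)) t) ∣ Nat.gcd p 2 :=
      Nat.dvd_gcd (orderOf_dvd_of_pow_eq_one h1) (orderOf_dvd_of_pow_eq_one h2)
    have h4 : Nat.gcd p 2 = 1 := by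
      rw [(Nat.coprime_primes hpp Nat.prime_two).mpr (by omega)]
    rw [h4, Nat.dvd_one, orderOf_eq_one_iff] at h3
    exact htb1' h3
  rcases Cfsg.Agent.S4701.result hperfQ p hdvd hbig P' hP'nn h2 with
    ⟨F, _, _, hF, -, ⟨e⟩⟩ | ⟨m, F, _, _, hF, hpm, -, ⟨e⟩⟩
  · exfalso
    have h1 : Nat.card (Matrix.ProjectiveSpecialLinearGroup (Fin 2) F) = p * (p - 1) * (p - 2) := by
      rw [← hQ]; exact (Nat.card_congr e.toEquiv).symm
    have h3 := Cfsg.Agent.Helper2.card_PSL_mul (F := F) 2 (by norm_num)
    rw [h1, hF, Fin.prod_univ_two] at h3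
    have hodd : p % 2 = 1 := by
      rcases hpp.eq_two_or_odd with h | h
      · omega
      · exact h
    obtain ⟨k, rfl⟩ : ∃ k, p = k + 6 := ⟨p - 6, by omega⟩
    have hg : Nat.gcd 2 (k + 6 - 1) = 2 := Nat.gcd_eq_left (by omega)
    rw [hg] at h3
    have e1 : (k + 6) ^ 2 - (k + 6) ^ ((0 : Fin 2) : ℕ) = (k + 5) * (k + 7) := by
      apply Nat.sub_eq_of_eq_add
      simp only [Fin.val_zero, pow_zero]
      ring
    have e2 : (k + 6) ^ 2 - (k + 6) ^ ((1 : Fin 2) : ℕ) = (k + 6) * (k + 5) := by
      apply Nat.sub_eq_of_eq_add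
      simp only [Fin.val_one, pow_one]
      ring
    have e3 : k + 6 - 1 = k + 5 := by omega
    have e4 : k + 6 - 2 = k + 4 := by omega
    rw [e1, e2, e3, e4] at h3
    have h4 : 2 * ((k + 5) * ((k + 6) * (k + 5) * (k + 4))) =
        (k + 5) * (k + 7) * ((k + 6) * (k + 5)) + (k + 5) ^ 2 * (k + 6) * (k + 1) := by ring
    have h5 : 0 < (k + 5) ^ 2 * (k + 6) * (k + 1) := by positivity
    omega
  · exact ⟨m, F, inferInstance, inferInstance, hpm, hF, ⟨e⟩⟩

end Grp

end Cfsg.Agent.Helper23.B2
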