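import Mathlib
import Cfsg.Prelude.Def_BaumannBlocks
import Cfsg.Agent.Lib.Helper4.ZJElementary

set_option autoImplicit false
open scoped commutatorElement Pointwise

/-! Basic facts on the Baumann subgroup and on blocks relative to it: equivariance, the Baumann subgroup of a
Sylow subgroup is determined by any Sylow subgroup containing it, and a `p`-subgroup normalized by `B(T)` and
by a block `E` normalizes `E`. -/

namespace Cfsg.Agent.Helper16.BB

open Cfsg Cfsg.Agent.Helper4.ZJ

universe u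

variable {G : Type u} [Group G]

theorem le_normalizer_of_conj_mem (K H : Subgroup G)
    (h : ∀ k ∈ K, ∀ x ∈ H, k * x * k⁻¹ ∈ H) : K ≤ Subgroup.normalizer (H : Set G) := by
  intro k hk
  rw [Subgroup.mem_normalizer_iff]
  intro x
  constructor
  · exact h k hk x
  · intro hx
    have := h k⁻¹ (K.inv_mem hk) _ hx
    simpa [mul_assoc] using this

theorem conj_mem_of_mem_normalizer {K H : Subgroup G} (hK : K ≤ Subgroup.normalizer (H : Set G))
    {k x : G} (hk : k ∈ K) (hx : x ∈ H) : k * x * k⁻¹ ∈ H :=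
  (Subgroup.mem_normalizer_iff.1 (hK hk) x).1 hx

theorem baumann_eq (p : ℕ) (P : Subgroup G) :
    Cfsg.baumannSubgroupOf p P = P ⊓ Subgroup.centralizer (ZE p P : Set G) := by
  have : Cfsg.omegaOne p (Cfsg.centerThompsonOf p P) = ZE p P := by
    unfold Cfsg.omegaOne Cfsg.centerThompsonOf ZE
    congr 1
    ext x
    simp only [Set.mem_ofPred_eq, Subgroup.mem_inf, and_assoc]
  unfold Cfsg.baumannSubgroupOf
  rw [this]

theorem baumann_le (p : ℕ) (P : Subgroup G) : Cfsg.baumannSubgroupOf p P ≤ P := by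
  rw [baumann_eq]; exact inf_le_left

theorem centralizer_map_equiv (φ : G ≃* G) (S : Subgroup G) :
    Subgroup.centralizer ((S.map φ.toMonoidHom : Subgroup G) : Set G) =
      (Subgroup.centralizer (S : Set G)).map φ.toMonoidHom := by
  ext x
  constructor
  · intro hx
    refine ⟨φ.symm x, ?_, by simp⟩
    rw [Subgroup.mem_centralizer_iff] at hx
    show φ.symm x ∈ Subgroup.centralizer (S : Set G)
    rw [Subgroup.mem_centralizer_iff]
    intro s hs
    have := hx (φ s) ⟨s, hs, rfl⟩
    apply φ.injective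
    simpa using this
  · rintro ⟨y, hy, rfl⟩
    have hy : y ∈ Subgroup.centralizer (S : Set G) := hy
    rw [Subgroup.mem_centralizer_iff] at hy
    rw [Subgroup.mem_centralizer_iff]
    rintro _ ⟨s, hs, rfl⟩
    have := hy s hs
    simp only [MulEquiv.coe_toMonoidHom, ← map_mul, this]

variable [Finite G]

theorem baumann_map {p : ℕ} (φ : G ≃* G) (P : Subgroup G) :
    Cfsg.baumannSubgroupOf p (P.map φ.toMonoidHom) =
      (Cfsg.baumannSubgroupOf p P).map φ.toMonoidHom := by
  rw [baumann_eq, baumann_eq, ZE_map, Subgroup.map_inf _ _ _ φ.injective, centralizer_map_equiv]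

theorem thompson_le_baumann {p : ℕ} (P : Subgroup G) :
    Cfsg.thompsonSubgroupOf p P ≤ Cfsg.baumannSubgroupOf p P := by
  rw [baumann_eq]
  refine le_inf (thompsonSubgroupOf_le_self P) ?_
  intro x hx
  rw [Subgroup.mem_centralizer_iff]
  intro z hz
  have := (Subgroup.mem_inf.1 (ZE_le_center P hz)).2
  rw [Subgroup.mem_centralizer_iff] at this
  exact (this x hx).symm

omit [Finite G] in
theorem map_map_symm (φ : G ≃* G) (P : Subgroup G) :
    (P.map φ.toMonoidHom).map φ.symm.toMonoidHom = P := by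
  rw [Subgroup.map_map, show φ.symm.toMonoidHom.comp φ.toMonoidHom = MonoidHom.id G from by
    ext x; simp, Subgroup.map_id]

/-- If `P' = φ(P)` for an automorphism `φ` and `B(P) ≤ P'`, then `B(P') = B(P)`. -/
theorem baumann_eq_of_le_map {p : ℕ} (φ : G ≃* G) (P : Subgroup G)
    (h : Cfsg.baumannSubgroupOf p P ≤ P.map φ.toMonoidHom) :
    Cfsg.baumannSubgroupOf p (P.map φ.toMonoidHom) = Cfsg.baumannSubgroupOf p P := by
  have hsub : ∀ A ∈ famE p P, A ∈ famE p (P.map φ.toMonoidHom) := by
    intro A hA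
    obtain ⟨hAP, hAe, hmax⟩ := mem_famE.1 hA
    refine mem_famE.2 ⟨((le_thompsonSubgroupOf hA).trans (thompson_le_baumann P)).trans h, hAe, ?_⟩
    intro A' hA'P hA'e
    obtain ⟨hA'c, hA'exp⟩ := hA'e
    have h1 : A'.map φ.symm.toMonoidHom ≤ P := by
      have := Subgroup.map_mono (f := φ.symm.toMonoidHom) hA'P
      rwa [map_map_symm] at this
    have h2 := hmax _ h1 ⟨Subgroup.map_isMulCommutative A' _, by
      rintro _ ⟨a, ha, rfl⟩
      rw [← map_pow, hA'exp a ha, map_one]⟩
    rwa [Subgroup.card_map_of_injective φ.symm.injective] at h2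
  have hJle : Cfsg.thompsonSubgroupOf p P ≤ Cfsg.thompsonSubgroupOf p (P.map φ.toMonoidHom) :=
    thompsonSubgroupOf_le fun A hA => le_thompsonSubgroupOf (hsub A hA)
  have hJ : Cfsg.thompsonSubgroupOf p P = Cfsg.thompsonSubgroupOf p (P.map φ.toMonoidHom) := by
    apply Subgroup.eq_of_le_of_card_ge hJle
    rw [thompsonSubgroupOf_map, Subgroup.card_map_of_injective φ.injective]
  have hZ : ZE p P = ZE p (P.map φ.toMonoidHom) := by
    unfold ZE
    rw [hJ]
  symm
  apply Subgroup.eq_of_le_of_card_ge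
  · have h0 : Cfsg.baumannSubgroupOf p P ≤ Subgroup.centralizer (ZE p P : Set G) := by
      rw [baumann_eq]; exact inf_le_right
    rw [baumann_eq p (P.map φ.toMonoidHom), ← hZ]
    exact le_inf h h0
  · rw [baumann_map, Subgroup.card_map_of_injective φ.injective]

theorem baumann_eq_of_le {p : ℕ} [Fact p.Prime] (T T' : Sylow p G)
    (h : Cfsg.baumannSubgroupOf p (T : Subgroup G) ≤ (T' : Subgroup G)) :
    Cfsg.baumannSubgroupOf p (T' : Subgroup G) = Cfsg.baumannSubgroupOf p (T : Subgroup G) := by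
  obtain ⟨g, hg⟩ := MulAction.exists_smul_eq G T T'
  have hT' : (T' : Subgroup G) = (T : Subgroup G).map (MulAut.conj g).toMonoidHom := by
    rw [← hg]
    rfl
  rw [hT'] at h ⊢
  exact baumann_eq_of_le_map _ _ h

/-- A `p`-subgroup normalized by `B(T)` normalizes `B(T)`. -/
theorem normalizes_baumann {p : ℕ} [Fact p.Prime] (T : Sylow p G) (R : Subgroup G)
    (hR : IsPGroup p ↥R)
    (hBR : Cfsg.baumannSubgroupOf p (T : Subgroup G) ≤ Subgroup.normalizer (R : Set G)) :
    R ≤ Subgroup.normalizer (Cfsg.baumannSubgroupOf p (T : Subgroup G) : Set G) := by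
  set B := Cfsg.baumannSubgroupOf p (T : Subgroup G) with hBdef
  have hBp : IsPGroup p ↥B := T.isPGroup'.to_le (baumann_le p _)
  have hsup : IsPGroup p ↥(B ⊔ R) := IsPGroup.to_sup_of_normal_right' hBp hR hBR
  obtain ⟨T'', hT''⟩ := hsup.exists_le_sylow
  have hB'' : Cfsg.baumannSubgroupOf p (T'' : Subgroup G) = B :=
    baumann_eq_of_le T T'' (le_sup_left.trans hT'')
  have key : ∀ r ∈ R, B.map (MulAut.conj r).toMonoidHom = B := by
    intro r hr
    have h1 : B.map (MulAut.conj r).toMonoidHom =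
        Cfsg.baumannSubgroupOf p ((r • T : Sylow p G) : Subgroup G) := by
      rw [hBdef]
      exact (baumann_map (MulAut.conj r) _).symm
    have h2 : B.map (MulAut.conj r).toMonoidHom ≤ (T'' : Subgroup G) := by
      rintro _ ⟨b, hb, rfl⟩
      have hbT : b ∈ (T'' : Subgroup G) := hT'' (Subgroup.mem_sup_left hb)
      have hrT : r ∈ (T'' : Subgroup G) := hT'' (Subgroup.mem_sup_right hr)
      simp only [MulEquiv.coe_toMonoidHom, MulAut.conj_apply]
      exact Subgroup.mul_mem _ (Subgroup.mul_mem _ hrT hbT) (Subgroup.inv_mem _ hrT)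
    rw [h1] at h2
    have h3 := baumann_eq_of_le (r • T) T'' h2
    rw [h1, ← h3, hB'']
  apply le_normalizer_of_conj_mem
  intro r hr b hb
  rw [← key r hr]
  exact ⟨b, hb, by simp [MulAut.conj_apply]⟩


omit [Finite G] in
/-- A subgroup with `O^p(E) = E` is generated by its elements of order prime to `p`. -/
theorem eq_closure_of_pResidualOf {p : ℕ} (E : Subgroup G) (hE : Cfsg.pResidualOf p E = E) :
    E = Subgroup.closure {x : G | x ∈ E ∧ (orderOf x).Coprime p} := by
  conv_lhs => rw [← hE]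
  unfold Cfsg.pResidualOf Cfsg.pResidual
  rw [MonoidHom.map_closure]
  congr 1
  ext x
  constructor
  · rintro ⟨y, hy, rfl⟩
    refine ⟨y.2, ?_⟩
    have : orderOf ((E.subtype y : G)) = orderOf y := Subgroup.orderOf_coe y
    rw [this]
    exact hy
  · rintro ⟨hx, hxo⟩
    refine ⟨⟨x, hx⟩, ?_, rfl⟩
    have : orderOf ((⟨x, hx⟩ : ↥E) : G) = orderOf (⟨x, hx⟩ : ↥E) := Subgroup.orderOf_coe _
    show (orderOf (⟨x, hx⟩ : ↥E)).Coprime p
    rw [← this]
    exact hxo

omit [Finite G] in
/-- In `E·B` with `B` a `p`-group normalizing `E`, the elements of order prime to `p` lie in `E`. -/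
theorem mul_mem_of_coprime {p : ℕ} [Fact p.Prime] (E B : Subgroup G)
    (hBE : B ≤ Subgroup.normalizer (E : Set G)) (hB : IsPGroup p ↥B)
    {e b : G} (he : e ∈ E) (hb : b ∈ B) (hx : (orderOf (e * b)).Coprime p) : e * b ∈ E := by
  have key : ∀ k : ℕ, (e * b) ^ k * (b ^ k)⁻¹ ∈ E := by
    intro k
    induction k with
    | zero => simp
    | succ k ih =>
      have hbk : b ^ k ∈ B := Subgroup.pow_mem _ hb k
      have h1 : b ^ k * e * (b ^ k)⁻¹ ∈ E := conj_mem_of_mem_normalizer hBE hbk he
      have h2 : (e * b) ^ (k + 1) * (b ^ (k + 1))⁻¹ =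
          ((e * b) ^ k * (b ^ k)⁻¹) * (b ^ k * e * (b ^ k)⁻¹) := by
        rw [pow_succ, pow_succ]
        generalize (e * b) ^ k = u
        generalize b ^ k = v
        group
      rw [h2]
      exact Subgroup.mul_mem _ ih h1
  have h3 := key (orderOf (e * b))
  rw [pow_orderOf_eq_one, one_mul] at h3
  have h4 : b ^ orderOf (e * b) ∈ E := by
    have := Subgroup.inv_mem _ h3
    rwa [inv_inv] at this
  obtain ⟨j, hj⟩ := hB ⟨b, hb⟩
  have hbj : b ^ (p ^ j) = 1 := by
    have := congrArg Subtype.val hj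
    simpa using this
  have hdvd : orderOf b ∣ p ^ j := orderOf_dvd_of_pow_eq_one hbj
  obtain ⟨i, _, hi⟩ := (Nat.dvd_prime_pow (Fact.out : p.Prime)).1 hdvd
  have hcop : (orderOf (e * b)).Coprime (orderOf b) := by
    rw [hi]; exact Nat.Coprime.pow_right i hx
  obtain ⟨m, hm⟩ := exists_pow_eq_self_of_coprime hcop
  have hbE : b ∈ E := by
    rw [← hm]; exact Subgroup.pow_mem _ h4 m
  exact Subgroup.mul_mem _ he hbE

omit [Finite G] in
/-- Let `E = O^p(E) = [E, B]` with `B` a `p`-group, and let `R` be a subgroup normalizing `B` and normalized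
by `E`. Then `R` normalizes `E`. -/
theorem block_normalized {p : ℕ} [Fact p.Prime] (E B R : Subgroup G)
    (hE1 : Cfsg.pResidualOf p E = E) (hE2 : ⁅E, B⁆ = E) (hB : IsPGroup p ↥B)
    (hRB : R ≤ Subgroup.normalizer (B : Set G)) (hER : E ≤ Subgroup.normalizer (R : Set G)) :
    R ≤ Subgroup.normalizer (E : Set G) := by
  -- `B` normalizes `E`
  have hBE : B ≤ Subgroup.normalizer (E : Set G) := by
    apply le_normalizer_of_conj_mem
    intro b hb e he
    have h1 : ⁅b, e⁆ ∈ E := by
      have : ⁅b, e⁆ ∈ ⁅B, E⁆ := Subgroup.commutator_mem_commutator hb he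
      rwa [Subgroup.commutator_comm, hE2] at this
    have h2 : b * e * b⁻¹ = ⁅b, e⁆ * e := by
      rw [commutatorElement_def]; group
    rw [h2]
    exact Subgroup.mul_mem _ h1 he
  -- conjugates of `E` under `R` lie in `E ⊔ B`
  have hconj : ∀ r ∈ R, ∀ x ∈ E, r * x * r⁻¹ ∈ E ⊔ B := by
    intro r hr
    have hle : ⁅E, B⁆ ≤ (E ⊔ B).comap (MulAut.conj r).toMonoidHom := by
      rw [Subgroup.commutator_le]
      intro e he b hb
      rw [Subgroup.mem_comap]
      simp only [MulEquiv.coe_toMonoidHom, MulAut.conj_apply]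
      have hr2 : e⁻¹ * r * e ∈ R := by
        have := conj_mem_of_mem_normalizer hER (E.inv_mem he) hr
        rwa [inv_inv] at this
      have hb2 : (e⁻¹ * r * e) * b * (e⁻¹ * r * e)⁻¹ ∈ B := conj_mem_of_mem_normalizer hRB hr2 hb
      have hb3 : r * b * r⁻¹ ∈ B := conj_mem_of_mem_normalizer hRB hr hb
      have h2 : r * ⁅e, b⁆ * r⁻¹ =
          e * ((e⁻¹ * r * e) * b * (e⁻¹ * r * e)⁻¹) * e⁻¹ * (r * b * r⁻¹)⁻¹ := by
        rw [commutatorElement_def]; group
      rw [h2]
      refine Subgroup.mul_mem _ (Subgroup.mul_mem _ (Subgroup.mul_mem _ ?_ ?_) ?_) ?_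
      · exact Subgroup.mem_sup_left he
      · exact Subgroup.mem_sup_right hb2
      · exact Subgroup.mem_sup_left (E.inv_mem he)
      · exact Subgroup.mem_sup_right (B.inv_mem hb3)
    intro x hx
    rw [← hE2] at hx
    have := hle hx
    rw [Subgroup.mem_comap] at this
    simpa only [MulEquiv.coe_toMonoidHom, MulAut.conj_apply] using this
  -- the generators of `E` of order prime to `p` are sent into `E`
  have hgen : ∀ r ∈ R, ∀ x ∈ E, (orderOf x).Coprime p → r * x * r⁻¹ ∈ E := by
    intro r hr x hx hxo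
    have h1 := hconj r hr x hx
    have h2 : (r * x * r⁻¹ : G) ∈ ((E ⊔ B : Subgroup G) : Set G) := h1
    rw [Subgroup.coe_mul_of_right_le_normalizer_left E B hBE] at h2
    obtain ⟨e, he, b, hb, heb⟩ := Set.mem_mul.1 h2
    have ho : orderOf (r * x * r⁻¹) = orderOf x := by
      have := (MulAut.conj r).orderOf_eq x
      rwa [MulAut.conj_apply] at this
    rw [← heb]
    apply mul_mem_of_coprime E B hBE hB he hb
    rw [heb, ho]
    exact hxo
  apply le_normalizer_of_conj_mem
  intro r hr
  have hle : E ≤ E.comap (MulAut.conj r).toMonoidHom := by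
    conv_lhs => rw [eq_closure_of_pResidualOf E hE1]
    rw [Subgroup.closure_le]
    rintro x ⟨hx, hxo⟩
    show (MulAut.conj r).toMonoidHom x ∈ E
    simp only [MulEquiv.coe_toMonoidHom, MulAut.conj_apply]
    exact hgen r hr x hx hxo
  intro x hx
  have := hle hx
  rw [Subgroup.mem_comap] at this
  simpa only [MulEquiv.coe_toMonoidHom, MulAut.conj_apply] using this

end Cfsg.Agent.Helper16.BB
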