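import Mathlib
import Cfsg.Prelude.Def_BaumannBlocks
import Cfsg.Agent.Lib.Helper4.ZJElementary
import Cfsg.Agent.Lib.Helper9.PCoreSub
import Cfsg.Agent.Lib.Helper16.BBlockBasic

set_option autoImplicit false
open scoped commutatorElement Pointwise

/-! The module `W_E = [Ω₁(Z(O_p(E))), E]` of a block `E` relative to the Baumann subgroup, in a group of
characteristic `p`: `O^p(E·O_p(G)) = E`, `W_E ≤ Ω₁(Z(O_p(G)))` and `[W_E, J(T)] ≠ 1`. The irreducibility of the
section `W / C_W(E)` enters as a hypothesis. -/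

namespace Cfsg.Agent.Helper16.BB

open Cfsg Cfsg.Agent.Helper4.ZJ Cfsg.Agent.Helper4.GR Cfsg.Agent.Helper9

universe u

variable {G : Type u} [Group G]

/-! ### Generalities -/

theorem pResidualOf_eq_closure (p : ℕ) (H : Subgroup G) :
    Cfsg.pResidualOf p H = Subgroup.closure {x : G | x ∈ H ∧ (orderOf x).Coprime p} := by
  unfold Cfsg.pResidualOf Cfsg.pResidual
  rw [MonoidHom.map_closure]
  congr 1
  ext x
  constructor
  · rintro ⟨y, hy, rfl⟩
    refine ⟨y.2, ?_⟩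
    have : orderOf ((H.subtype y : G)) = orderOf y := Subgroup.orderOf_coe y
    rw [this]
    exact hy
  · rintro ⟨hx, hxo⟩
    refine ⟨⟨x, hx⟩, ?_, rfl⟩
    have : orderOf ((⟨x, hx⟩ : ↥H) : G) = orderOf (⟨x, hx⟩ : ↥H) := Subgroup.orderOf_coe _
    show (orderOf (⟨x, hx⟩ : ↥H)).Coprime p
    rw [← this]
    exact hxo

/-- `O^p(E·O) = E` when `E = O^p(E)` and `O` is a `p`-group normalizing `E`. -/
theorem pResidualOf_sup_eq {p : ℕ} [Fact p.Prime] (E O : Subgroup G)
    (hE : Cfsg.pResidualOf p E = E) (hO : IsPGroup p ↥O)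
    (hOE : O ≤ Subgroup.normalizer (E : Set G)) : Cfsg.pResidualOf p (E ⊔ O) = E := by
  apply le_antisymm
  · rw [pResidualOf_eq_closure, Subgroup.closure_le]
    rintro x ⟨hx, hxo⟩
    have h2 : x ∈ ((E ⊔ O : Subgroup G) : Set G) := hx
    rw [Subgroup.coe_mul_of_right_le_normalizer_left E O hOE] at h2
    obtain ⟨e, he, o, ho, rfl⟩ := Set.mem_mul.1 h2
    exact mul_mem_of_coprime E O hOE hO he ho hxo
  · conv_lhs => rw [← hE]
    rw [pResidualOf_eq_closure, pResidualOf_eq_closure]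
    apply Subgroup.closure_mono
    rintro x ⟨hx, hxo⟩
    exact ⟨Subgroup.mem_sup_left hx, hxo⟩

theorem pCoreOf_isPGroup (p : ℕ) (E : Subgroup G) : IsPGroup p ↥(Cfsg.pCoreOf p E) :=
  (pCore_isPGroup' p ↥E).map _

theorem pCoreOf_le (p : ℕ) (E : Subgroup G) : Cfsg.pCoreOf p E ≤ E := by
  unfold Cfsg.pCoreOf
  exact Subgroup.map_subtype_le _

/-- A `p`-subgroup of `E` normalized by `E` lies in `O_p(E)`. -/
theorem le_pCoreOf {p : ℕ} {E N : Subgroup G} (hNE : N ≤ E) (hN : IsPGroup p ↥N)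
    (hEN : E ≤ Subgroup.normalizer (N : Set G)) : N ≤ Cfsg.pCoreOf p E := by
  have h1 : (N.subgroupOf E).Normal := (Subgroup.normal_subgroupOf_iff_le_normalizer hNE).2 hEN
  have h2 : IsPGroup p ↥(N.subgroupOf E) := hN.comap_subtype
  have h3 : N.subgroupOf E ≤ Cfsg.pCore p ↥E := le_pCore' h1 h2
  have h4 := Subgroup.map_mono (f := E.subtype) h3
  rwa [Subgroup.map_subgroupOf_eq_of_le hNE] at h4

theorem le_normalizer_pCoreOf (p : ℕ) (E : Subgroup G) :
    E ≤ Subgroup.normalizer (Cfsg.pCoreOf p E : Set G) := by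
  apply le_normalizer_of_conj_mem
  rintro e he _ ⟨y, hy, rfl⟩
  have hchar : (Cfsg.pCore p ↥E).Characteristic := pCore_characteristic p
  have hn : (Cfsg.pCore p ↥E).Normal := Subgroup.normal_of_characteristic _
  refine ⟨⟨e, he⟩ * y * ⟨e, he⟩⁻¹, hn.conj_mem y hy ⟨e, he⟩, ?_⟩
  simp

/-- `N_G(E)` normalizes `O_p(E)`. -/
theorem normalizer_le_normalizer_pCoreOf (p : ℕ) (E : Subgroup G) :
    Subgroup.normalizer (E : Set G) ≤ Subgroup.normalizer (Cfsg.pCoreOf p E : Set G) := by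
  apply le_normalizer_of_conj_mem
  intro g hg x hx
  have hQ := le_normalizer_pCoreOf p E
  -- the conjugate of `O_p(E)` by `g` is a `p`-subgroup of `E` normalized by `E`
  have hle : (Cfsg.pCoreOf p E).map (MulAut.conj g).toMonoidHom ≤ Cfsg.pCoreOf p E := by
    apply le_pCoreOf
    · rintro _ ⟨q, hq, rfl⟩
      simp only [MulEquiv.coe_toMonoidHom, MulAut.conj_apply]
      exact (Subgroup.mem_normalizer_iff.1 hg q).1 (pCoreOf_le p E hq)
    · exact (pCoreOf_isPGroup p E).map _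
    · apply le_normalizer_of_conj_mem
      rintro e he _ ⟨q, hq, rfl⟩
      have he2 : g⁻¹ * e * g ∈ E := by
        have := (Subgroup.mem_normalizer_iff.1 (Subgroup.inv_mem _ hg) e).1 he
        rwa [inv_inv] at this
      have hq2 : (g⁻¹ * e * g) * q * (g⁻¹ * e * g)⁻¹ ∈ Cfsg.pCoreOf p E :=
        conj_mem_of_mem_normalizer hQ he2 hq
      refine ⟨_, hq2, ?_⟩
      simp only [MulEquiv.coe_toMonoidHom, MulAut.conj_apply]
      group
  have := hle ⟨x, hx, rfl⟩
  simpa only [MulEquiv.coe_toMonoidHom, MulAut.conj_apply] using this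

/-! ### `Ω₁(Z(Q))` -/

theorem mem_omegaOneCenter {p : ℕ} {Q : Subgroup G} {x : G} :
    x ∈ Cfsg.omegaOneCenter p Q ↔
      (x ∈ Q ∧ x ∈ Subgroup.centralizer (Q : Set G)) ∧ x ^ p = 1 := by
  let K : Subgroup G :=
    { carrier := {x | (x ∈ Q ∧ x ∈ Subgroup.centralizer (Q : Set G)) ∧ x ^ p = 1}
      one_mem' := ⟨⟨Q.one_mem, Subgroup.one_mem _⟩, one_pow p⟩
      mul_mem' := by
        rintro x y ⟨⟨hx1, hx2⟩, hx3⟩ ⟨⟨hy1, hy2⟩, hy3⟩
        refine ⟨⟨Q.mul_mem hx1 hy1, Subgroup.mul_mem _ hx2 hy2⟩, ?_⟩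
        have hc : Commute x y := by
          rw [Subgroup.mem_centralizer_iff] at hy2
          exact hy2 x hx1
        rw [hc.mul_pow, hx3, hy3, one_mul]
      inv_mem' := by
        rintro x ⟨⟨hx1, hx2⟩, hx3⟩
        exact ⟨⟨Q.inv_mem hx1, Subgroup.inv_mem _ hx2⟩, by rw [inv_pow, hx3, inv_one]⟩ }
  have hK : Cfsg.omegaOneCenter p Q = K := by
    unfold Cfsg.omegaOneCenter Cfsg.omegaOne
    have : {x : G | x ∈ Q ⊓ Subgroup.centralizer (Q : Set G) ∧ x ^ p = 1} = (K : Set G) := by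
      ext x
      simp only [Subgroup.mem_inf]
      rfl
    rw [this, Subgroup.closure_eq]
  rw [hK]
  rfl

theorem omegaOneCenter_le (p : ℕ) (Q : Subgroup G) : Cfsg.omegaOneCenter p Q ≤ Q :=
  fun _ hx => (mem_omegaOneCenter.1 hx).1.1

theorem omegaOneCenter_le_centralizer (p : ℕ) (Q : Subgroup G) :
    Cfsg.omegaOneCenter p Q ≤ Subgroup.centralizer (Q : Set G) :=
  fun _ hx => (mem_omegaOneCenter.1 hx).1.2

theorem omegaOneCenter_pow {p : ℕ} {Q : Subgroup G} {x : G} (hx : x ∈ Cfsg.omegaOneCenter p Q) :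
    x ^ p = 1 := (mem_omegaOneCenter.1 hx).2

theorem omegaOneCenter_comm {p : ℕ} {Q : Subgroup G} {x y : G} (hx : x ∈ Cfsg.omegaOneCenter p Q)
    (hy : y ∈ Cfsg.omegaOneCenter p Q) : x * y = y * x := by
  have h1 := omegaOneCenter_le_centralizer p Q hy
  rw [Subgroup.mem_centralizer_iff] at h1
  exact h1 x (omegaOneCenter_le p Q hx)

theorem omegaOneCenter_isPGroup (p : ℕ) (Q : Subgroup G) : IsPGroup p ↥(Cfsg.omegaOneCenter p Q) := by
  intro x
  refine ⟨1, ?_⟩
  apply Subtype.ext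
  rw [pow_one]
  simpa using omegaOneCenter_pow x.2

/-- `N_G(Q)` normalizes `Ω₁(Z(Q))`. -/
theorem normalizer_le_normalizer_omegaOneCenter (p : ℕ) (Q : Subgroup G) :
    Subgroup.normalizer (Q : Set G) ≤ Subgroup.normalizer (Cfsg.omegaOneCenter p Q : Set G) := by
  apply le_normalizer_of_conj_mem
  intro g hg x hx
  obtain ⟨⟨hx1, hx2⟩, hx3⟩ := mem_omegaOneCenter.1 hx
  refine mem_omegaOneCenter.2 ⟨⟨(Subgroup.mem_normalizer_iff.1 hg x).1 hx1, ?_⟩, ?_⟩
  · rw [Subgroup.mem_centralizer_iff] at hx2 ⊢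
    intro q hq
    have hq2 : g⁻¹ * q * g ∈ Q := by
      have := (Subgroup.mem_normalizer_iff.1 (Subgroup.inv_mem _ hg) q).1 hq
      rwa [inv_inv] at this
    have h3 := hx2 _ hq2
    calc q * (g * x * g⁻¹) = g * ((g⁻¹ * q * g) * x) * g⁻¹ := by group
      _ = g * (x * (g⁻¹ * q * g)) * g⁻¹ := by rw [h3]
      _ = g * x * g⁻¹ * q := by group
  · rw [conj_pow, hx3, mul_one, mul_inv_cancel]

/-- An element normalizing `H₁` and `H₂` normalizes `[H₁, H₂]`. -/
theorem normalizer_inf_le_normalizer_commutator (H₁ H₂ : Subgroup G) :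
    Subgroup.normalizer (H₁ : Set G) ⊓ Subgroup.normalizer (H₂ : Set G) ≤
      Subgroup.normalizer ((⁅H₁, H₂⁆ : Subgroup G) : Set G) := by
  apply le_normalizer_of_conj_mem
  intro g hg
  obtain ⟨hg1, hg2⟩ := Subgroup.mem_inf.1 hg
  have hle : ⁅H₁, H₂⁆ ≤ (⁅H₁, H₂⁆).comap (MulAut.conj g).toMonoidHom := by
    rw [Subgroup.commutator_le]
    intro a ha b hb
    rw [Subgroup.mem_comap, map_commutatorElement]
    apply Subgroup.commutator_mem_commutator
    · simp only [MulEquiv.coe_toMonoidHom, MulAut.conj_apply]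
      exact (Subgroup.mem_normalizer_iff.1 hg1 a).1 ha
    · simp only [MulEquiv.coe_toMonoidHom, MulAut.conj_apply]
      exact (Subgroup.mem_normalizer_iff.1 hg2 b).1 hb
  intro x hx
  have := hle hx
  rw [Subgroup.mem_comap] at this
  simpa only [MulEquiv.coe_toMonoidHom, MulAut.conj_apply] using this

/-- `N_G(E)` normalizes `C_G(E)`. -/
theorem normalizer_le_normalizer_centralizer (E : Subgroup G) :
    Subgroup.normalizer (E : Set G) ≤ Subgroup.normalizer (Subgroup.centralizer (E : Set G) : Set G) := by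
  apply le_normalizer_of_conj_mem
  intro g hg x hx
  rw [Subgroup.mem_centralizer_iff] at hx ⊢
  intro q hq
  have hq2 : g⁻¹ * q * g ∈ E := by
    have := (Subgroup.mem_normalizer_iff.1 (Subgroup.inv_mem _ hg) q).1 hq
    rwa [inv_inv] at this
  have h3 := hx _ hq2
  calc q * (g * x * g⁻¹) = g * ((g⁻¹ * q * g) * x) * g⁻¹ := by group
    _ = g * (x * (g⁻¹ * q * g)) * g⁻¹ := by rw [h3]
    _ = g * x * g⁻¹ * q := by group

/-- If `H₂` normalizes `H₁` then `[H₁, H₂] ≤ H₁`. -/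
theorem commutator_le_left_of_le_normalizer {H₁ H₂ : Subgroup G}
    (h : H₂ ≤ Subgroup.normalizer (H₁ : Set G)) : ⁅H₁, H₂⁆ ≤ H₁ := by
  rw [Subgroup.commutator_le]
  intro a ha b hb
  rw [commutatorElement_def]
  have h1 : b * a⁻¹ * b⁻¹ ∈ H₁ := conj_mem_of_mem_normalizer h hb (H₁.inv_mem ha)
  have h2 : a * b * a⁻¹ * b⁻¹ = a * (b * a⁻¹ * b⁻¹) := by group
  rw [h2]
  exact H₁.mul_mem ha h1

/-- A normal `p`-subgroup lies in every Sylow `p`-subgroup. -/
theorem normal_pGroup_le_sylow {p : ℕ} (N : Subgroup G) [N.Normal] (hN : IsPGroup p ↥N)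
    (T : Sylow p G) : N ≤ (T : Subgroup G) := by
  have h1 : IsPGroup p ↥((T : Subgroup G) ⊔ N) :=
    IsPGroup.to_sup_of_normal_right' T.isPGroup' hN (by
      rw [Subgroup.normalizer_eq_top]; exact le_top)
  have h2 := T.is_maximal' h1 le_sup_left
  rw [← h2]
  exact le_sup_right


/-! ### The block -/

section core

variable [Finite G] {p : ℕ} [Fact p.Prime]

theorem pCore_normal' (p : ℕ) (G : Type u) [Group G] : (Cfsg.pCore p G).Normal := by
  have : (Cfsg.pCore p G).Characteristic := pCore_characteristic p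
  exact Subgroup.normal_of_characteristic _

/-- `O_p(G)` normalizes every block. -/
theorem pCore_normalizes_block (T : Sylow p G) (E : Subgroup G)
    (hE1 : Cfsg.pResidualOf p E = E) (hE2 : ⁅E, Cfsg.baumannSubgroupOf p (T : Subgroup G)⁆ = E) :
    Cfsg.pCore p G ≤ Subgroup.normalizer (E : Set G) := by
  have hn : (Cfsg.pCore p G).Normal := pCore_normal' p G
  have hBp : IsPGroup p ↥(Cfsg.baumannSubgroupOf p (T : Subgroup G)) :=
    T.isPGroup'.to_le (baumann_le p _)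
  have htop : Subgroup.normalizer ((Cfsg.pCore p G : Subgroup G) : Set G) = ⊤ :=
    Subgroup.normalizer_eq_top _
  refine block_normalized E _ _ hE1 hE2 hBp
    (normalizes_baumann T _ (pCore_isPGroup' p G) ?_) ?_
  · rw [htop]; exact le_top
  · rw [htop]; exact le_top

/-- `[W, O_p(G)] ≤ C_W(E)` when `W / C_W(E)` is an irreducible section. -/
theorem commutator_W_pCore_le (T : Sylow p G) (E : Subgroup G)
    (hE1 : Cfsg.pResidualOf p E = E) (hE2 : ⁅E, Cfsg.baumannSubgroupOf p (T : Subgroup G)⁆ = E)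
    (hne : Cfsg.omegaOneCenter p (Cfsg.pCoreOf p E) ⊓ Subgroup.centralizer (E : Set G) ≠
      Cfsg.omegaOneCenter p (Cfsg.pCoreOf p E))
    (hirr : ∀ X : Subgroup G,
      Cfsg.omegaOneCenter p (Cfsg.pCoreOf p E) ⊓ Subgroup.centralizer (E : Set G) ≤ X →
      X ≤ Cfsg.omegaOneCenter p (Cfsg.pCoreOf p E) → E ≤ Subgroup.normalizer (X : Set G) →
      X = Cfsg.omegaOneCenter p (Cfsg.pCoreOf p E) ⊓ Subgroup.centralizer (E : Set G) ∨
        X = Cfsg.omegaOneCenter p (Cfsg.pCoreOf p E))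
    (hfix : ∀ O U U₀ : Subgroup G, IsPGroup p ↥O → IsPGroup p ↥U →
      O ≤ Subgroup.normalizer (U : Set G) → O ≤ Subgroup.normalizer (U₀ : Set G) → U₀ ≤ U → U₀ ≠ U →
      ∃ u ∈ U, u ∉ U₀ ∧ ∀ o ∈ O, u⁻¹ * (o * u * o⁻¹) ∈ U₀) :
    ⁅Cfsg.omegaOneCenter p (Cfsg.pCoreOf p E), Cfsg.pCore p G⁆ ≤
      Cfsg.omegaOneCenter p (Cfsg.pCoreOf p E) ⊓ Subgroup.centralizer (E : Set G) := by
  set Q := Cfsg.pCoreOf p E with hQdef
  set W := Cfsg.omegaOneCenter p Q with hWdef
  set Z := W ⊓ Subgroup.centralizer (E : Set G) with hZdef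
  set O := Cfsg.pCore p G with hOdef
  have hOn : O.Normal := pCore_normal' p G
  have hOp : IsPGroup p ↥O := pCore_isPGroup' p G
  have hOE : O ≤ Subgroup.normalizer (E : Set G) := pCore_normalizes_block T E hE1 hE2
  have hNEW : Subgroup.normalizer (E : Set G) ≤ Subgroup.normalizer (W : Set G) :=
    (normalizer_le_normalizer_pCoreOf p E).trans (normalizer_le_normalizer_omegaOneCenter p Q)
  have hNEZ : Subgroup.normalizer (E : Set G) ≤ Subgroup.normalizer (Z : Set G) := by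
    apply le_normalizer_of_conj_mem
    intro g hg x hx
    obtain ⟨hx1, hx2⟩ := Subgroup.mem_inf.1 hx
    exact Subgroup.mem_inf.2 ⟨conj_mem_of_mem_normalizer hNEW hg hx1,
      conj_mem_of_mem_normalizer (normalizer_le_normalizer_centralizer E) hg hx2⟩
  have hEE : E ≤ Subgroup.normalizer (E : Set G) := Subgroup.le_normalizer
  have hOW : O ≤ Subgroup.normalizer (W : Set G) := hOE.trans hNEW
  have hOZ : O ≤ Subgroup.normalizer (Z : Set G) := hOE.trans hNEZ
  have hEW : E ≤ Subgroup.normalizer (W : Set G) := hEE.trans hNEW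
  have hEZ : E ≤ Subgroup.normalizer (Z : Set G) := hEE.trans hNEZ
  have hWp : IsPGroup p ↥W := omegaOneCenter_isPGroup p Q
  obtain ⟨u₀, hu₀W, hu₀Z, hu₀⟩ := hfix O W Z hOp hWp hOW hOZ inf_le_left hne
  -- the subgroup of `W` of elements fixed by `O` modulo `Z`
  let Fx : Subgroup G :=
    { carrier := {u | u ∈ W ∧ ∀ o ∈ O, u⁻¹ * (o * u * o⁻¹) ∈ Z}
      one_mem' := ⟨W.one_mem, fun o _ => by simp [Z.one_mem]⟩
      mul_mem' := by
        rintro a b ⟨ha, ha2⟩ ⟨hb, hb2⟩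
        refine ⟨W.mul_mem ha hb, fun o ho => ?_⟩
        have h1 : o * a * o⁻¹ ∈ W := conj_mem_of_mem_normalizer hOW ho ha
        have h2 : o * b * o⁻¹ ∈ W := conj_mem_of_mem_normalizer hOW ho hb
        have hc : b⁻¹ * (a⁻¹ * (o * a * o⁻¹)) = (a⁻¹ * (o * a * o⁻¹)) * b⁻¹ :=
          omegaOneCenter_comm (W.inv_mem hb) (W.mul_mem (W.inv_mem ha) h1)
        have h3 : (a * b)⁻¹ * (o * (a * b) * o⁻¹) =
            (a⁻¹ * (o * a * o⁻¹)) * (b⁻¹ * (o * b * o⁻¹)) := by
          calc (a * b)⁻¹ * (o * (a * b) * o⁻¹)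
              = (b⁻¹ * (a⁻¹ * (o * a * o⁻¹))) * (o * b * o⁻¹) := by group
            _ = ((a⁻¹ * (o * a * o⁻¹)) * b⁻¹) * (o * b * o⁻¹) := by rw [hc]
            _ = (a⁻¹ * (o * a * o⁻¹)) * (b⁻¹ * (o * b * o⁻¹)) := by group
        rw [h3]
        exact Z.mul_mem (ha2 o ho) (hb2 o ho)
      inv_mem' := by
        rintro a ⟨ha, ha2⟩
        refine ⟨W.inv_mem ha, fun o ho => ?_⟩
        have h1 : o * a * o⁻¹ ∈ W := conj_mem_of_mem_normalizer hOW ho ha
        have hc : a * (o * a * o⁻¹)⁻¹ = (o * a * o⁻¹)⁻¹ * a :=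
          omegaOneCenter_comm ha (W.inv_mem h1)
        have h3 : a⁻¹⁻¹ * (o * a⁻¹ * o⁻¹) = (a⁻¹ * (o * a * o⁻¹))⁻¹ := by
          calc a⁻¹⁻¹ * (o * a⁻¹ * o⁻¹) = a * (o * a * o⁻¹)⁻¹ := by group
            _ = (o * a * o⁻¹)⁻¹ * a := hc
            _ = (a⁻¹ * (o * a * o⁻¹))⁻¹ := by group
        rw [h3]
        exact Z.inv_mem (ha2 o ho) }
  have hFxW : Fx ≤ W := fun _ hx => hx.1
  have hZFx : Z ≤ Fx := by
    intro z hz
    refine ⟨inf_le_left (a := W) hz, fun o ho => ?_⟩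
    exact Z.mul_mem (Z.inv_mem hz) (conj_mem_of_mem_normalizer hOZ ho hz)
  have hEFx : E ≤ Subgroup.normalizer (Fx : Set G) := by
    apply le_normalizer_of_conj_mem
    rintro e he a ⟨ha, ha2⟩
    refine ⟨conj_mem_of_mem_normalizer hEW he ha, fun o ho => ?_⟩
    have ho2 : e⁻¹ * o * e ∈ O := by
      have := hOn.conj_mem o ho e⁻¹
      rwa [inv_inv] at this
    have h1 := ha2 _ ho2
    have h2 := conj_mem_of_mem_normalizer hEZ he h1
    have h3 : e * (a⁻¹ * ((e⁻¹ * o * e) * a * (e⁻¹ * o * e)⁻¹)) * e⁻¹ =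
        (e * a * e⁻¹)⁻¹ * (o * (e * a * e⁻¹) * o⁻¹) := by group
    rwa [h3] at h2
  have hFx : Fx = W := by
    rcases hirr Fx hZFx hFxW hEFx with h | h
    · exfalso
      apply hu₀Z
      rw [← h]
      exact ⟨hu₀W, hu₀⟩
    · exact h
  rw [Subgroup.commutator_le]
  intro w hw o ho
  have hw' : w⁻¹ ∈ Fx := by rw [hFx]; exact W.inv_mem hw
  have h1 := hw'.2 o ho
  have h2 : ⁅w, o⁆ = w⁻¹⁻¹ * (o * w⁻¹ * o⁻¹) := by
    rw [commutatorElement_def]; group
  rw [h2]
  exact h1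


/-- `W_E = [W, E]` is centralized by `O_p(G)` once `[W, O_p(G)] ≤ C_W(E)`. -/
theorem commutator_WE_pCore_eq_bot (T : Sylow p G) (E : Subgroup G)
    (hE1 : Cfsg.pResidualOf p E = E) (hE2 : ⁅E, Cfsg.baumannSubgroupOf p (T : Subgroup G)⁆ = E)
    (hWO : ⁅Cfsg.omegaOneCenter p (Cfsg.pCoreOf p E), Cfsg.pCore p G⁆ ≤
      Cfsg.omegaOneCenter p (Cfsg.pCoreOf p E) ⊓ Subgroup.centralizer (E : Set G)) :
    ⁅⁅Cfsg.omegaOneCenter p (Cfsg.pCoreOf p E), E⁆, Cfsg.pCore p G⁆ = ⊥ := by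
  set Q := Cfsg.pCoreOf p E with hQdef
  set W := Cfsg.omegaOneCenter p Q with hWdef
  set O := Cfsg.pCore p G with hOdef
  have hOn : O.Normal := pCore_normal' p G
  have hOp : IsPGroup p ↥O := pCore_isPGroup' p G
  have hOE : O ≤ Subgroup.normalizer (E : Set G) := pCore_normalizes_block T E hE1 hE2
  apply Subgroup.commutator_commutator_eq_bot_of_rotate
  · -- `[[E, O], W] = 1`
    have h1 : ⁅E, O⁆ ≤ Q := by
      have h2 : ⁅E, O⁆ ≤ O ⊓ E := by
        apply le_inf
        · exact Subgroup.commutator_le_right E O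
        · exact commutator_le_left_of_le_normalizer hOE
      apply h2.trans
      apply le_pCoreOf inf_le_right (hOp.to_le inf_le_left)
      apply le_normalizer_of_conj_mem
      intro e he x hx
      obtain ⟨hx1, hx2⟩ := Subgroup.mem_inf.1 hx
      exact Subgroup.mem_inf.2 ⟨hOn.conj_mem x hx1 e,
        E.mul_mem (E.mul_mem he hx2) (E.inv_mem he)⟩
    have h3 : ⁅Q, W⁆ = ⊥ := by
      rw [Subgroup.commutator_comm, Subgroup.commutator_eq_bot_iff_le_centralizer]
      exact omegaOneCenter_le_centralizer p Q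
    rw [eq_bot_iff, ← h3]
    exact Subgroup.commutator_mono h1 le_rfl
  · -- `[[O, W], E] = 1`
    rw [Subgroup.commutator_eq_bot_iff_le_centralizer, Subgroup.commutator_comm]
    exact hWO.trans inf_le_right

omit [Finite G] [Fact (Nat.Prime p)] in
/-- `W_E ≤ Ω₁(Z(O_p(G)))` in a group of characteristic `p`. -/
theorem WE_le_omegaOneCenter_pCore
    (hG : Subgroup.centralizer (Cfsg.pCore p G : Set G) ≤ Cfsg.pCore p G) (E : Subgroup G)
    (hc : ⁅⁅Cfsg.omegaOneCenter p (Cfsg.pCoreOf p E), E⁆, Cfsg.pCore p G⁆ = ⊥) :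
    ⁅Cfsg.omegaOneCenter p (Cfsg.pCoreOf p E), E⁆ ≤ Cfsg.omegaOneCenter p (Cfsg.pCore p G) := by
  set Q := Cfsg.pCoreOf p E with hQdef
  set W := Cfsg.omegaOneCenter p Q with hWdef
  have hEW : E ≤ Subgroup.normalizer (W : Set G) :=
    (Subgroup.le_normalizer.trans (normalizer_le_normalizer_pCoreOf p E)).trans
      (normalizer_le_normalizer_omegaOneCenter p Q)
  have h1 : ⁅W, E⁆ ≤ W := commutator_le_left_of_le_normalizer hEW
  have h2 : ⁅W, E⁆ ≤ Subgroup.centralizer (Cfsg.pCore p G : Set G) :=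
    Subgroup.commutator_eq_bot_iff_le_centralizer.1 hc
  intro x hx
  exact mem_omegaOneCenter.2 ⟨⟨hG (h2 hx), h2 hx⟩, omegaOneCenter_pow (h1 hx)⟩

omit [Finite G] [Fact (Nat.Prime p)] in
/-- Coprime action: if `E = O^p(E)` normalizes the elementary abelian group `W` and `[W, E, E] = 1`,
then `[W, E] = 1`. -/
theorem W_le_centralizer_of_quadratic (E : Subgroup G) (hE1 : Cfsg.pResidualOf p E = E)
    (Q : Subgroup G) (hEW : E ≤ Subgroup.normalizer (Cfsg.omegaOneCenter p Q : Set G))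
    (h : ⁅E, ⁅Cfsg.omegaOneCenter p Q, E⁆⁆ = ⊥) :
    Cfsg.omegaOneCenter p Q ≤ Subgroup.centralizer (E : Set G) := by
  set W := Cfsg.omegaOneCenter p Q with hWdef
  have hcent : E ≤ Subgroup.centralizer (W : Set G) := by
    conv_lhs => rw [eq_closure_of_pResidualOf E hE1]
    rw [Subgroup.closure_le]
    rintro x ⟨hx, hxo⟩
    rw [SetLike.mem_coe, Subgroup.mem_centralizer_iff]
    intro w hw
    -- `c = [x, w]` commutes with `x`
    set c := ⁅x, w⁆ with hcdef
    have hcWE : c ∈ ⁅W, E⁆ := by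
      rw [Subgroup.commutator_comm]
      exact Subgroup.commutator_mem_commutator hx hw
    have hcW : c ∈ W := commutator_le_left_of_le_normalizer hEW hcWE
    have hxc : x * c = c * x := by
      have h1 : E ≤ Subgroup.centralizer ((⁅W, E⁆ : Subgroup G) : Set G) :=
        Subgroup.commutator_eq_bot_iff_le_centralizer.1 h
      have h2 := h1 hx
      rw [Subgroup.mem_centralizer_iff] at h2
      exact (h2 c hcWE).symm
    have hconj : x * w * x⁻¹ = c * w := by
      rw [hcdef, commutatorElement_def]; group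
    have key : ∀ k : ℕ, x ^ k * w * (x ^ k)⁻¹ = c ^ k * w := by
      intro k
      induction k with
      | zero => simp
      | succ k ih =>
        have hck : x * c ^ k = c ^ k * x := (Commute.pow_right hxc k).eq
        calc x ^ (k + 1) * w * (x ^ (k + 1))⁻¹
            = x * (x ^ k * w * (x ^ k)⁻¹) * x⁻¹ := by rw [pow_succ']; group
          _ = x * (c ^ k * w) * x⁻¹ := by rw [ih]
          _ = (x * c ^ k) * w * x⁻¹ := by group
          _ = (c ^ k * x) * w * x⁻¹ := by rw [hck]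
          _ = c ^ k * (x * w * x⁻¹) := by group
          _ = c ^ k * (c * w) := by rw [hconj]
          _ = c ^ (k + 1) * w := by rw [pow_succ]; group
    have h3 := key (orderOf x)
    rw [pow_orderOf_eq_one, one_mul, inv_one, mul_one] at h3
    have h4 : c ^ orderOf x = 1 := by
      have : c ^ orderOf x * w = 1 * w := by rw [one_mul]; exact h3.symm
      exact mul_right_cancel this
    have h5 : c ^ p = 1 := omegaOneCenter_pow hcW
    have h6 : orderOf c ∣ Nat.gcd (orderOf x) p :=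
      Nat.dvd_gcd (orderOf_dvd_of_pow_eq_one h4) (orderOf_dvd_of_pow_eq_one h5)
    have h7 : c = 1 := by
      rw [← orderOf_eq_one_iff]
      have : Nat.gcd (orderOf x) p = 1 := hxo
      rw [this] at h6
      exact Nat.dvd_one.1 h6
    rw [h7, one_mul] at hconj
    calc w * x = (x * w * x⁻¹) * x := by rw [hconj]
      _ = x * w := by group
  intro w hw
  rw [Subgroup.mem_centralizer_iff]
  intro e he
  have := hcent he
  rw [Subgroup.mem_centralizer_iff] at this
  exact (this w hw).symm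


omit [Fact (Nat.Prime p)] in
/-- `[W_E, J(T)] ≠ 1`. -/
theorem commutator_WE_thompson_ne_bot (T : Sylow p G) (E : Subgroup G)
    (hE1 : Cfsg.pResidualOf p E = E) (hE2 : ⁅E, Cfsg.baumannSubgroupOf p (T : Subgroup G)⁆ = E)
    (hne : Cfsg.omegaOneCenter p (Cfsg.pCoreOf p E) ⊓ Subgroup.centralizer (E : Set G) ≠
      Cfsg.omegaOneCenter p (Cfsg.pCoreOf p E))
    (hWEO : ⁅Cfsg.omegaOneCenter p (Cfsg.pCoreOf p E), E⁆ ≤ Cfsg.pCore p G) :
    ⁅⁅Cfsg.omegaOneCenter p (Cfsg.pCoreOf p E), E⁆,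
      Cfsg.thompsonSubgroupOf p (T : Subgroup G)⁆ ≠ ⊥ := by
  intro hJ
  set Q := Cfsg.pCoreOf p E with hQdef
  set W := Cfsg.omegaOneCenter p Q with hWdef
  set WE := ⁅W, E⁆ with hWEdef
  set B := Cfsg.baumannSubgroupOf p (T : Subgroup G) with hBdef
  have hOn : (Cfsg.pCore p G).Normal := pCore_normal' p G
  have hEW : E ≤ Subgroup.normalizer (W : Set G) :=
    (Subgroup.le_normalizer.trans (normalizer_le_normalizer_pCoreOf p E)).trans
      (normalizer_le_normalizer_omegaOneCenter p Q)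
  have hWEW : WE ≤ W := commutator_le_left_of_le_normalizer hEW
  have hWET : WE ≤ (T : Subgroup G) :=
    hWEO.trans (normal_pGroup_le_sylow _ (pCore_isPGroup' p G) T)
  have hEWE : E ≤ Subgroup.normalizer (WE : Set G) :=
    (le_inf hEW Subgroup.le_normalizer).trans (normalizer_inf_le_normalizer_commutator W E)
  -- `W_E` lies in every elementary abelian subgroup of `T` of largest order
  have hJc : WE ≤ Subgroup.centralizer (Cfsg.thompsonSubgroupOf p (T : Subgroup G) : Set G) :=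
    Subgroup.commutator_eq_bot_iff_le_centralizer.1 hJ
  have hA : ∀ A ∈ famE p (T : Subgroup G), WE ≤ A := by
    intro A hA
    obtain ⟨hAT, ⟨hAc, hAexp⟩, hmax⟩ := mem_famE.1 hA
    have hcomm : IsMulCommutative (A ⊔ WE : Subgroup G) := by
      apply sup_comm_of A WE (comm_of_mem_famE hA)
      · intro x hx y hy
        exact omegaOneCenter_comm (hWEW hx) (hWEW hy)
      · intro a ha y hy
        have := hJc hy
        rw [Subgroup.mem_centralizer_iff] at this
        exact this a (le_thompsonSubgroupOf hA ha)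
    have hexp : ∀ y ∈ A ⊔ WE, y ^ p = 1 :=
      pow_eq_one_of_sup A WE hcomm p hAexp (fun z hz => omegaOneCenter_pow (hWEW hz))
    have hcard := hmax _ (sup_le hAT hWET) ⟨hcomm, hexp⟩
    have heq : A = A ⊔ WE := Subgroup.eq_of_le_of_card_ge le_sup_left hcard
    rw [heq]
    exact le_sup_right
  have hZE : WE ≤ ZE p (T : Subgroup G) := le_ZE hWET hA
  -- `B(T)` centralizes `W_E`
  have hBW : ⁅WE, B⁆ = ⊥ := by
    rw [Subgroup.commutator_comm, Subgroup.commutator_eq_bot_iff_le_centralizer]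
    have h1 : B ≤ Subgroup.centralizer (ZE p (T : Subgroup G) : Set G) := by
      rw [hBdef, baumann_eq]; exact inf_le_right
    exact h1.trans (Subgroup.centralizer_le hZE)
  -- three subgroups: `E = [B, E]` centralizes `W_E`
  have h3 : ⁅⁅B, E⁆, WE⁆ = ⊥ := by
    apply Subgroup.commutator_commutator_eq_bot_of_rotate
    · have h4 : ⁅E, WE⁆ ≤ WE := by
        rw [Subgroup.commutator_comm]
        exact commutator_le_left_of_le_normalizer hEWE
      rw [eq_bot_iff, ← hBW]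
      exact Subgroup.commutator_mono h4 le_rfl
    · rw [hBW, Subgroup.commutator_bot_left]
  rw [Subgroup.commutator_comm B E, hE2] at h3
  have h5 : W ≤ Subgroup.centralizer (E : Set G) :=
    W_le_centralizer_of_quadratic E hE1 Q hEW h3
  exact hne (inf_eq_left.2 h5)


omit [Finite G] [Fact (Nat.Prime p)] in
/-- A block whose quotient by `O_p` is trivial does not exist. -/
theorem block_quotient_not_subsingleton (T : Sylow p G) (E : Subgroup G)
    (hE : Cfsg.IsBaumannBlock p (T : Subgroup G) E) :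
    ¬ Subsingleton (↥E ⧸ Cfsg.pCore p ↥E) := by
  intro hs
  have htop : Cfsg.pCore p ↥E = ⊤ := QuotientGroup.subgroup_eq_top_of_subsingleton _ hs
  have hEp : IsPGroup p ↥E := by
    have h1 := pCore_isPGroup' p ↥E
    rw [htop] at h1
    intro g
    obtain ⟨k, hk⟩ := h1 ⟨g, Subgroup.mem_top g⟩
    exact ⟨k, by simpa using congrArg Subtype.val hk⟩
  have hbot : E = ⊥ := by
    rw [eq_closure_of_pResidualOf E hE.1, eq_bot_iff, Subgroup.closure_le]
    rintro x ⟨hx, hxo⟩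
    obtain ⟨k, hk⟩ := hEp ⟨x, hx⟩
    have hk' : x ^ (p ^ k) = 1 := by simpa using congrArg Subtype.val hk
    have h1 : orderOf x ∣ p ^ k := orderOf_dvd_of_pow_eq_one hk'
    have h2 : (orderOf x).Coprime (p ^ k) := Nat.Coprime.pow_right k hxo
    have h3 : orderOf x = 1 := Nat.Coprime.eq_one_of_dvd h2 h1
    rw [SetLike.mem_coe, Subgroup.mem_bot]
    exact orderOf_eq_one_iff.1 h3
  apply hE.2.2.2.1
  rw [hbot, Subgroup.commutator_bot_left]

omit [Finite G] [Fact (Nat.Prime p)] in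
/-- The section `W / C_W(E)` of a block is nontrivial and irreducible, given the irreducibility of the
natural `SL₂(F)'`-module and of the even-weight `A_{2m+1}`-module (as transferred to sections). -/
theorem block_section_irred (T : Sylow p G) (E : Subgroup G)
    (hE : Cfsg.IsBaumannBlock p (T : Subgroup G) E)
    (hsl2 : ∀ (F : Type) [Field F] [Fintype F] (U U₀ : Subgroup G),
      Cfsg.ActsAsSL2OnSection F (commutator (Matrix.SpecialLinearGroup (Fin 2) F)) E U U₀ →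
      U₀ ≠ U ∧ ∀ X : Subgroup G, U₀ ≤ X → X ≤ U → E ≤ Subgroup.normalizer (X : Set G) →
        X = U₀ ∨ X = U)
    (halt : ∀ (m : ℕ), 1 ≤ m → ∀ (U U₀ : Subgroup G),
      Cfsg.ActsAsOddPermModuleOnSection (2 * m + 1) (alternatingGroup (Fin (2 * m + 1))) E U U₀ →
      U₀ ≠ U ∧ ∀ X : Subgroup G, U₀ ≤ X → X ≤ U → E ≤ Subgroup.normalizer (X : Set G) →
        X = U₀ ∨ X = U) :
    Cfsg.omegaOneCenter p (Cfsg.pCoreOf p E) ⊓ Subgroup.centralizer (E : Set G) ≠
        Cfsg.omegaOneCenter p (Cfsg.pCoreOf p E) ∧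
      ∀ X : Subgroup G,
        Cfsg.omegaOneCenter p (Cfsg.pCoreOf p E) ⊓ Subgroup.centralizer (E : Set G) ≤ X →
        X ≤ Cfsg.omegaOneCenter p (Cfsg.pCoreOf p E) → E ≤ Subgroup.normalizer (X : Set G) →
        X = Cfsg.omegaOneCenter p (Cfsg.pCoreOf p E) ⊓ Subgroup.centralizer (E : Set G) ∨
          X = Cfsg.omegaOneCenter p (Cfsg.pCoreOf p E) := by
  rcases hE.2.2.2.2 with ⟨F, instF, instFin, n, _, _, hact, _⟩ | ⟨_, m, hiso, hact, _⟩
  · exact @hsl2 F instF instFin _ _ hact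
  · rcases Nat.eq_zero_or_pos m with hm | hm
    · exfalso
      subst hm
      obtain ⟨φ⟩ := hiso
      apply block_quotient_not_subsingleton T E hE
      have : Subsingleton ↥(alternatingGroup (Fin (2 * 0 + 1))) := by
        have : Subsingleton (Equiv.Perm (Fin (2 * 0 + 1))) := by
          show Subsingleton (Equiv.Perm (Fin 1))
          infer_instance
        infer_instance
      exact φ.toEquiv.subsingleton
    · exact halt m hm _ _ hact

/-- The three assertions on `W_E` for a block in a group of characteristic `p`, given the auxiliary facts. -/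
theorem block_W_main (hG : Subgroup.centralizer (Cfsg.pCore p G : Set G) ≤ Cfsg.pCore p G)
    (T : Sylow p G) (E : Subgroup G) (hE : Cfsg.IsBaumannBlock p (T : Subgroup G) E)
    (hsl2 : ∀ (F : Type) [Field F] [Fintype F] (U U₀ : Subgroup G),
      Cfsg.ActsAsSL2OnSection F (commutator (Matrix.SpecialLinearGroup (Fin 2) F)) E U U₀ →
      U₀ ≠ U ∧ ∀ X : Subgroup G, U₀ ≤ X → X ≤ U → E ≤ Subgroup.normalizer (X : Set G) →
        X = U₀ ∨ X = U)
    (halt : ∀ (m : ℕ), 1 ≤ m → ∀ (U U₀ : Subgroup G),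
      Cfsg.ActsAsOddPermModuleOnSection (2 * m + 1) (alternatingGroup (Fin (2 * m + 1))) E U U₀ →
      U₀ ≠ U ∧ ∀ X : Subgroup G, U₀ ≤ X → X ≤ U → E ≤ Subgroup.normalizer (X : Set G) →
        X = U₀ ∨ X = U)
    (hfix : ∀ O U U₀ : Subgroup G, IsPGroup p ↥O → IsPGroup p ↥U →
      O ≤ Subgroup.normalizer (U : Set G) → O ≤ Subgroup.normalizer (U₀ : Set G) → U₀ ≤ U → U₀ ≠ U →
      ∃ u ∈ U, u ∉ U₀ ∧ ∀ o ∈ O, u⁻¹ * (o * u * o⁻¹) ∈ U₀) :
    Cfsg.pResidualOf p (E ⊔ Cfsg.pCore p G) = E ∧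
      ⁅Cfsg.omegaOneCenter p (Cfsg.pCoreOf p E), E⁆ ≤ Cfsg.omegaOneCenter p (Cfsg.pCore p G) ∧
      ⁅⁅Cfsg.omegaOneCenter p (Cfsg.pCoreOf p E), E⁆,
        Cfsg.thompsonSubgroupOf p (T : Subgroup G)⁆ ≠ ⊥ := by
  obtain ⟨hne, hirr⟩ := block_section_irred T E hE hsl2 halt
  have h1 := commutator_W_pCore_le T E hE.1 hE.2.1 hne hirr hfix
  have h2 := commutator_WE_pCore_eq_bot T E hE.1 hE.2.1 h1
  have h3 := WE_le_omegaOneCenter_pCore hG E h2
  refine ⟨?_, h3, ?_⟩
  · exact pResidualOf_sup_eq E _ hE.1 (pCore_isPGroup' p G)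
      (pCore_normalizes_block T E hE.1 hE.2.1)
  · apply commutator_WE_thompson_ne_bot T E hE.1 hE.2.1 hne
    intro x hx
    exact (mem_omegaOneCenter.1 (h3 hx)).1.1

end core

end Cfsg.Agent.Helper16.BB
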