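import Mathlib
import Cfsg.Prelude.Def_OddOrder
import Cfsg.Prelude.Def_OddOrderLocal
import Cfsg.Agent.Lib.Lead.BG129
import Cfsg.Agent.Lib.Helper5.BG1222
import Cfsg.Agent.Lib.Helper22.BG13A
import Cfsg.Agent.Lib.Helper21.BG143D
import Cfsg.Agent.Lib.Helper14.BGTransB
import Cfsg.Agent.Lib.Helper14.BGUniqH

/-!
# S1421 (BG 12.16), piece C: the irreducible case is impossible (helper16), part 1

Definitions of the hypotheses and general lemmas.
-/

set_option autoImplicit false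

namespace Cfsg.Agent.Helper16.BG1221

open Cfsg Subgroup
open scoped commutatorElement
open Cfsg.Agent.Lead.BG129 (Hyps Ctx)
open Cfsg.Agent.Helper5.BG1222 (H1423)

universe u

/-- statement of S1409 -/
def Hyp1409 (G : Type u) [Group G] : Prop :=
  ∀ (M : Subgroup G), IsCoatom M → ∀ (p : ℕ) [Fact p.Prime], p ∉ sigma M → ∀ (X : Subgroup G),
    Nat.card X = p → normalizer (X : Set G) ≤ M →
    (PRankLE p 2 M ∧ ¬ PRankLE p 1 M) ∧ ¬ IsIdealPrime p G ∧
      ∃ A : Subgroup G, IsElementaryAbelian p A ∧ Nat.card A = p ^ 2 ∧ X ≤ A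

/-- statement of piece A (the norm identity lemma) -/
def PieceA (G : Type u) [Group G] : Prop :=
  ∀ {A : Subgroup G} [Finite A] {r : ℕ} [Fact r.Prime]
    (_ : ∀ a ∈ A, ∀ b ∈ A, a * b = b * a) (_ : (Nat.card A).Coprime r) {t b x : G}
    (_ : t ∈ normalizer (A : Set G)) (_ : b ∈ normalizer (A : Set G))
    (_ : x ∈ normalizer (A : Set G)) (_ : ⁅b, x⁆ ∈ centralizer (A : Set G))
    (_ : ⁅b, t⁆ ∈ centralizer (A : Set G)) (_ : ⁅x, t⁆ ∈ centralizer (A : Set G))
    (_ : b ^ r ∈ centralizer (A : Set G)) (_ : x ^ r ∈ centralizer (A : Set G))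
    (_ : x ∉ centralizer (A : Set G))
    (_ : ∀ W : Subgroup G, W ≤ A → t ∈ normalizer (W : Set G) → W = ⊥ ∨ W = A),
    ∃ i : ℕ, b * x ^ i ∈ centralizer (A : Set G)

variable {G : Type u} [Group G]

/-- the last power of `y` not in `C` -/
theorem exists_last_pow {C : Subgroup G} {y : G} {r k : ℕ} (hyC : y ∉ C)
    (hx0 : y ^ r ^ (k - 1) ∈ C) : ∃ j : ℕ, y ^ r ^ j ∉ C ∧ (y ^ r ^ j) ^ r ∈ C := by
  classical
  have hex : ∃ j : ℕ, y ^ r ^ j ∈ C := ⟨k - 1, hx0⟩
  have hmin : ∀ {m : ℕ}, m < Nat.find hex → ¬ y ^ r ^ m ∈ C := fun hm => Nat.find_min hex hm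
  have hspec := Nat.find_spec hex
  have h0 : Nat.find hex ≠ 0 := by
    intro h
    rw [h, pow_zero, pow_one] at hspec
    exact hyC hspec
  obtain ⟨j, hj⟩ := Nat.exists_eq_succ_of_ne_zero h0
  refine ⟨j, hmin (by omega), ?_⟩
  rw [← pow_mul, ← pow_succ]
  rw [hj] at hspec
  exact hspec

/-- elements of a cyclic group commute -/
theorem commute_of_mem_zpowers {t a b : G} (ha : a ∈ zpowers t) (hb : b ∈ zpowers t) :
    a * b = b * a := by
  obtain ⟨i, rfl⟩ := mem_zpowers_iff.mp ha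
  obtain ⟨j, rfl⟩ := mem_zpowers_iff.mp hb
  rw [← zpow_add, ← zpow_add, add_comm]

/-- `a` commutes with `z`, hence with the cyclic group generated by `z` -/
theorem mem_centralizer_zpowers {a z : G} (h : a * z = z * a) :
    a ∈ centralizer ((zpowers z : Subgroup G) : Set G) := by
  rw [mem_centralizer_iff]
  intro w hw
  obtain ⟨j, rfl⟩ := mem_zpowers_iff.mp hw
  have hc : Commute z a := h.symm
  exact (hc.zpow_left j).eq

variable [Finite G]

/-- an element of prime power order `q ^ k`, `q ∈ σ(L)`, of `L` lies in `L_σ` -/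
theorem mem_sigmaCore_of_orderOf (h : Hyps G) {L : Subgroup G} (hL : IsCoatom L) {z : G}
    (hz : z ∈ L) {q k : ℕ} (hq : q.Prime) (hzo : orderOf z = q ^ k) (hqL : q ∈ sigma L) :
    z ∈ sigmaCore L := by
  have hle : zpowers z ≤ L := by rw [zpowers_le]; exact hz
  have h1 := Cfsg.Agent.Helper22.BG13.le_sigmaCore_of_isPiNum (fun M hM => h.h1350 M hM) hL hle
    (by
      intro s hs hd
      rw [Nat.card_zpowers, hzo] at hd
      rw [(Nat.prime_dvd_prime_iff_eq hs hq).mp (hs.dvd_of_dvd_pow hd)]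
      exact hqL)
  exact h1 (mem_zpowers z)

/-- a subgroup of `L` of order `q ^ 2`, `q ∈ σ(L)`, lies in `L_σ` -/
theorem le_sigmaCore_of_card (h : Hyps G) {L : Subgroup G} (hL : IsCoatom L) {B : Subgroup G}
    (hB : B ≤ L) {q k : ℕ} (hq : q.Prime) (hBc : Nat.card B = q ^ k) (hqL : q ∈ sigma L) :
    B ≤ sigmaCore L := by
  apply Cfsg.Agent.Helper22.BG13.le_sigmaCore_of_isPiNum (fun M hM => h.h1350 M hM) hL hB
  intro s hs hd
  rw [hBc] at hd
  rw [(Nat.prime_dvd_prime_iff_eq hs hq).mp (hs.dvd_of_dvd_pow hd)]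
  exact hqL

omit [Finite G] in
/-- `q ∉ σ(L)` and an `E_{q²}` in `L` give `q ∈ τ₂(L)` -/
theorem mem_tau2_of_elemAb (h : Hyps G) {L : Subgroup G} (hL : IsCoatom L) {q : ℕ} (hq : q.Prime)
    (hqL : q ∉ sigma L) {B : Subgroup G} (hBL : B ≤ L) (hBe : IsElementaryAbelian q B)
    (hBc : Nat.card B = q ^ 2) : q ∈ tau2 L := by
  refine ⟨hq, hqL, ?_, Cfsg.Agent.Helper21.BG143.not_pRankLE_one_of_elemAb_sq hq hBL hBe hBc⟩
  by_contra hr
  exact hqL (h.hασ L hL ⟨hq, hr⟩)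

end Cfsg.Agent.Helper16.BG1221
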