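import Mathlib
import Cfsg.Prelude.Def_OddOrder
import Cfsg.Prelude.Def_OddOrderLocal
import Cfsg.Agent.Lib.Helper16.BG1221C1
import Cfsg.Agent.Lib.Helper1.PiHall
import Cfsg.Agent.Lib.Helper1.CommutatorBasic
import Cfsg.Agent.Lib.Helper5.BG124A
import Cfsg.Agent.Lib.Helper7.Signalizer

/-!
# S1421 (BG 12.16), piece C: the irreducible case is impossible (helper16), part 2

The setting: `Ctx M E A S p` (lead's BG129), `t ∈ E` irreducible on `A`, `y ∈ ⟨t⟩` an `r`-element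
not centralizing `A` whose power `x₀` of order `r` centralizes `A`, `r ∉ σ(M)`, `M` of `r`-rank `1`.
`L` is a maximal subgroup over `N_G(⟨x₀⟩)`.
-/

set_option autoImplicit false
set_option linter.unusedSectionVars false

namespace Cfsg.Agent.Helper16.BG1221

open Cfsg Subgroup
open scoped commutatorElement
open Cfsg.Agent.Lead.BG129 (Hyps Ctx)
open Cfsg.Agent.Helper5.BG1222 (H1423)
open Cfsg.Agent.Helper15 (IsSylowIn)

universe u

variable {G : Type u} [Group G] [Finite G] {M E A S : Subgroup G} {p : ℕ} [Fact p.Prime]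

/-- the situation of piece C, with the maximal subgroup `L` -/
structure CC (M E A S : Subgroup G) (p : ℕ) (t y : G) (r : ℕ) (L : Subgroup G) : Prop where
  c : Ctx M E A S p
  hr : r.Prime
  hrM : r ∉ sigma M
  hr1 : PRankLE r 1 M
  htE : t ∈ E
  hy : y ∈ zpowers t
  hyA : y ∉ centralizer (A : Set G)
  hirr : ∀ W : Subgroup G, W ≤ A → t ∈ normalizer (W : Set G) → W = ⊥ ∨ W = A
  hL : IsCoatom L
  hLM : L ≠ M
  hAL : A ≤ L
  htL : t ∈ L

namespace CC

variable {t y : G} {r : ℕ} {L : Subgroup G}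

theorem hEA (h : Hyps G) (d : CC M E A S p t y r L) : E ≤ normalizer (A : Set G) :=
  (d.c.h18 h).1.1

theorem hyE (d : CC M E A S p t y r L) : y ∈ E := by
  have : zpowers t ≤ E := by rw [zpowers_le]; exact d.htE
  exact this d.hy

theorem hyL (d : CC M E A S p t y r L) : y ∈ L := by
  have : zpowers t ≤ L := by rw [zpowers_le]; exact d.htL
  exact this d.hy

theorem p_ne_r (d : CC M E A S p t y r L) : p ≠ r := by
  intro hpr
  apply d.c.hp.2.2.2
  rw [hpr]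
  exact d.hr1

theorem not_rank_two (d : CC M E A S p t y r L) {B : Subgroup G} (hBM : B ≤ M)
    (hBe : IsElementaryAbelian r B) (hBc : Nat.card B = r ^ 2) : False :=
  Cfsg.Agent.Helper21.BG143.not_pRankLE_one_of_elemAb_sq d.hr hBM hBe hBc d.hr1

/-- case (i-a): `r, p ∈ σ(L)` -/
theorem case_ia (h : Hyps G) (h1423 : H1423 G) (d : CC M E A S p t y r L)
    (hnonreg : ∃ X : Subgroup G, X ≤ A ∧ Nat.card X = p ∧
      sigmaCore M ⊓ centralizer (X : Set G) ≠ ⊥)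
    {k : ℕ} (hyo : orderOf y = r ^ k) (hrL : r ∈ sigma L) (hpL : p ∈ sigma L) : False := by
  have hpp : p.Prime := Fact.out
  have hyσ : y ∈ sigmaCore L := mem_sigmaCore_of_orderOf h d.hL d.hyL d.hr hyo hrL
  have hAσ : A ≤ sigmaCore L := le_sigmaCore_of_card h d.hL d.hAL hpp d.c.hA.2.2 hpL
  have hYA : zpowers y ≤ normalizer (A : Set G) := by
    rw [zpowers_le]; exact d.hEA h d.hyE
  have hWA : ⁅A, zpowers y⁆ ≤ A := Cfsg.Agent.Helper1.commutator_le_of_le_normalizer hYA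
  have htW : t ∈ normalizer ((⁅A, zpowers y⁆ : Subgroup G) : Set G) := by
    apply Cfsg.Agent.Helper1.normalizer_inf_normalizer_le_normalizer_commutator
    refine Subgroup.mem_inf.mpr ⟨d.hEA h d.htE, ?_⟩
    apply centralizer_le_normalizer
    apply mem_centralizer_zpowers
    exact commute_of_mem_zpowers (mem_zpowers t) d.hy
  have hW1 : ⁅A, zpowers y⁆ ≠ ⊥ := by
    intro hbot
    rw [Subgroup.commutator_eq_bot_iff_le_centralizer] at hbot
    apply d.hyA
    rw [mem_centralizer_iff]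
    intro a ha
    have := (mem_centralizer_iff.mp (hbot ha)) y (mem_zpowers y)
    exact this.symm
  have hWeq : ⁅A, zpowers y⁆ = A := by
    rcases d.hirr _ hWA htW with h1 | h1
    · exact absurd h1 hW1
    · exact h1
  have hAcomm : A ≤ ⁅sigmaCore L, sigmaCore L⁆ := by
    conv_lhs => rw [← hWeq]
    apply Subgroup.commutator_mono hAσ
    rw [zpowers_le]; exact hyσ
  obtain ⟨X, hXA, hXc, hXne⟩ := hnonreg
  have h1 := h1423 L d.hL p hpL X (hXA.trans d.hAL) hXc (hXA.trans hAcomm)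
  have h2 := (d.c.h18 h).2.2 X hXA hXc hXne
  exact d.hLM (h2.2 L d.hL h1.1)

/-- case (i-b): `r ∈ σ(L)`, `p ∉ σ(L)` -/
theorem case_ib (h : Hyps G) (d : CC M E A S p t y r L) {x₀ : G} (hx₀L : x₀ ∈ L)
    (hx₀o : orderOf x₀ = r) (hx₀A : x₀ ∈ centralizer (A : Set G)) (hrL : r ∈ sigma L)
    (hpL : p ∉ sigma L) : False := by
  have hpp : p.Prime := Fact.out
  have hpτ : p ∈ tau2 L := mem_tau2_of_elemAb h d.hL hpp hpL d.hAL d.c.hA.2.1 d.c.hA.2.2
  have h17d : sigmaCore L ⊓ centralizer (A : Set G) = ⊥ :=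
    (h.h1417 L d.hL p hpτ A ⟨d.hAL, d.c.hA.2.1, d.c.hA.2.2⟩).2.2.2.1
  have hx₀σ : x₀ ∈ sigmaCore L :=
    mem_sigmaCore_of_orderOf h d.hL hx₀L d.hr (k := 1) (by rw [hx₀o, pow_one]) hrL
  have : x₀ ∈ sigmaCore L ⊓ centralizer (A : Set G) := Subgroup.mem_inf.mpr ⟨hx₀σ, hx₀A⟩
  rw [h17d, mem_bot] at this
  rw [this, orderOf_one] at hx₀o
  exact d.hr.one_lt.ne hx₀o

/-- case (ii-a): `r ∉ σ(L)`, `p ∉ σ(L)`, `r ∈ τ₂(L)` -/
theorem case_iia (h : Hyps G) (d : CC M E A S p t y r L) (hrτ : r ∈ tau2 L)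
    (hpL : p ∉ sigma L) : False := by
  have hpp : p.Prime := Fact.out
  have : Fact r.Prime := ⟨d.hr⟩
  have hpτ : p ∈ tau2 L := mem_tau2_of_elemAb h d.hL hpp hpL d.hAL d.c.hA.2.1 d.c.hA.2.2
  have hhall := (h.h1350 L d.hL).1
  have hsolv : Group.IsSolvable ↥L := h.hG.2.2.2 L d.hL.1
  obtain ⟨F, hF, hAF, -, -⟩ := Cfsg.Agent.Helper1.PiHall.exists_isComplIn_ge hhall
    (Cfsg.Agent.Helper22.BG13.le_normalizer_sigmaCore L) d.hAL
    (fun q hq hd => by
      rw [d.c.hA.2.2] at hd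
      rw [(Nat.prime_dvd_prime_iff_eq hq hpp).mp (hq.dvd_of_dvd_pow hd)]
      exact hpL)
  obtain ⟨B, hBF, hBe, hBc⟩ := Cfsg.Agent.Helper20.BG12.exists_elemAb_sq_le_compl hhall hF hrτ
  have hFB : F ≤ normalizer (B : Set G) := (h.h1418 L d.hL F hF r hrτ B ⟨hBF, hBe, hBc⟩).1.1
  have hFA : F ≤ normalizer (A : Set G) :=
    (h.h1418 L d.hL F hF p hpτ A ⟨hAF, d.c.hA.2.1, d.c.hA.2.2⟩).1.1
  have hdisj : A ⊓ B = ⊥ := by
    apply Cfsg.Agent.Helper1.PiHall.inf_eq_bot_of_coprime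
    rw [d.c.hA.2.2, hBc]
    apply Nat.Coprime.pow
    rw [Nat.coprime_primes hpp d.hr]
    exact d.p_ne_r
  have hBC : B ≤ centralizer (A : Set G) :=
    Cfsg.Agent.Lead.BG129.le_centralizer_of_normal_of_disjoint hAF hBF hFA hFB hdisj
  exact d.not_rank_two ((hBC.trans (d.c.centralizer_A_le h)).trans d.c.hE.1) hBe hBc

end CC

end Cfsg.Agent.Helper16.BG1221
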