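import Mathlib
import Cfsg.Prelude.Def_OddOrder
import Cfsg.Prelude.Def_OddOrderLocal
import Cfsg.Agent.Lib.Helper16.BG1221C2

/-!
# S1421 (BG 12.16), piece C: the irreducible case is impossible (helper16), part 3

Case (ii-b) and the assembly (with piece A as a hypothesis).
-/

set_option autoImplicit false
set_option linter.unusedSectionVars false

namespace Cfsg.Agent.Helper16.BG1221

open Cfsg Subgroup
open scoped commutatorElement
open Cfsg.Agent.Lead.BG129 (Hyps Ctx)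
open Cfsg.Agent.Helper5.BG1222 (H1423)
open Cfsg.Agent.Helper15 (IsSylowIn)

universe u

variable {G : Type u} [Group G] [Finite G] {M E A S : Subgroup G} {p : ℕ} [Fact p.Prime]

namespace CC

variable {t y : G} {r : ℕ} {L : Subgroup G}

/-- case (ii-b): `r ∉ σ(L)`, `p ∈ σ(L)`, `r ∈ τ₂(L)` -/
theorem case_iib (hPA : PieceA G) (h : Hyps G) (d : CC M E A S p t y r L)
    (hNab : ⁅normalizer (A : Set G), normalizer (A : Set G)⁆ ≤ centralizer (A : Set G))
    {k : ℕ} (hyo : orderOf y = r ^ k) (hx0 : y ^ r ^ (k - 1) ∈ centralizer (A : Set G))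
    (hrL : r ∉ sigma L) (hrτ : r ∈ tau2 L) (hpL : p ∈ sigma L) : False := by
  have hpp : p.Prime := Fact.out
  have : Fact r.Prime := ⟨d.hr⟩
  have hhall := (h.h1350 L d.hL).1
  have hsolv : Group.IsSolvable ↥L := h.hG.2.2.2 L d.hL.1
  have hnσ := Cfsg.Agent.Helper22.BG13.le_normalizer_sigmaCore L
  -- a complement `F` of `L_σ` containing `⟨y⟩`
  have hYL : zpowers y ≤ L := by rw [zpowers_le]; exact d.hyL
  obtain ⟨F, hF, hYF, -, -⟩ := Cfsg.Agent.Helper1.PiHall.exists_isComplIn_ge hhall hnσ hYL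
    (fun q hq hd => by
      rw [Nat.card_zpowers, hyo] at hd
      rw [(Nat.prime_dvd_prime_iff_eq hq d.hr).mp (hq.dvd_of_dvd_pow hd)]
      exact hrL)
  obtain ⟨B, hBF, hBe, hBc⟩ := Cfsg.Agent.Helper20.BG12.exists_elemAb_sq_le_compl hhall hF hrτ
  have hFB : F ≤ normalizer (B : Set G) := (h.h1418 L d.hL F hF r hrτ B ⟨hBF, hBe, hBc⟩).1.1
  have hBL : B ≤ L := hBF.trans hF.1
  -- `L_σ` is nilpotent
  have hnil : Group.IsNilpotent ↥(sigmaCore L) :=
    (h.h1417 L d.hL r hrτ B ⟨hBL, hBe, hBc⟩).1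
  -- the Sylow `p`-subgroup `T` of `L_σ` over `A`
  obtain ⟨T, hAT, hT⟩ := Cfsg.Agent.Helper15.exists_isSylowIn_ge d.c.A_isPGroup d.hAL
  have hTtop := Cfsg.Agent.Helper22.BG13.isSylowIn_top_of_mem_sigma hpL hT
  have hTσ : T ≤ sigmaCore L :=
    Cfsg.Agent.Helper22.BG13.le_sigmaCore_of_isPiNum (fun M hM => h.h1350 M hM) d.hL hT.le
      (Cfsg.Agent.Helper22.BG13.isPiNum_of_isPGroup hpL hT.isPGroup)
  have hLT : L ≤ normalizer (T : Set G) :=
    Cfsg.Agent.Helper5.BG124.le_normalizer_of_sylow_le_nilpotent hTtop.sylowOfTop hTσ hnil hnσ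
  -- `T` is abelian, so `T ≤ C(A) ≤ E` and `T = S`
  obtain ⟨g, -, hg⟩ := d.c.hSG.exists_conj hTtop
  have hTab : ∀ a ∈ T, ∀ b ∈ T, a * b = b * a := by
    intro a ha b hb
    rw [← hg] at ha hb
    obtain ⟨a', ha', rfl⟩ := ha
    obtain ⟨b', hb', rfl⟩ := hb
    rw [← map_mul, ← map_mul, d.c.S_comm h a' ha' b' hb']
  have hTCA : T ≤ centralizer (A : Set G) := by
    intro s hs
    rw [mem_centralizer_iff]
    intro a ha
    exact hTab a (hAT ha) s hs
  have hTE : T ≤ E := hTCA.trans (d.c.centralizer_A_le h)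
  have hTE' : IsSylowIn p T E := hTtop.of_le hTE le_top
  have hST : S ≤ T :=
    Cfsg.Agent.Lead.BG129.le_of_normal_isPGroup hTE' d.c.hS.le d.c.hS.isPGroup (d.c.main h)
  have hTS : T = S := d.c.hS.eq_of_le hT.isPGroup hST hTE
  have hLA : L ≤ normalizer (A : Set G) := by
    rw [hTS] at hLT
    exact hLT.trans (d.c.normalizer_S_le h)
  -- `B ⊔ ⟨y⟩` is abelian
  have hYB : zpowers y ≤ normalizer (B : Set G) := hYF.trans hFB
  have hQcard : Nat.card ↥(B ⊔ zpowers y : Subgroup G) ∣ r ^ 2 * r ^ k := by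
    have := Cfsg.Agent.Helper7.card_sup_dvd_mul_of_le_normalizer hYB
    rwa [hBc, Nat.card_zpowers, hyo] at this
  have hQp : IsPGroup r ↥(B ⊔ zpowers y : Subgroup G) := by
    rw [← pow_add] at hQcard
    obtain ⟨m, -, hm⟩ := (Nat.dvd_prime_pow d.hr).mp hQcard
    exact IsPGroup.of_card hm
  have hQL : B ⊔ zpowers y ≤ L := sup_le hBL hYL
  have hQab := Cfsg.Agent.Helper20.BG12.comm_of_pgroup_not_sigma h.hG d.hL (h.hασ L d.hL)
    h.h1417 hrL hQp hQL
  -- the last power `x` of `y` outside `C(A)`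
  obtain ⟨j, hxA, hxr⟩ := exists_last_pow d.hyA hx0
  have hxY : y ^ r ^ j ∈ zpowers y := Subgroup.pow_mem _ (mem_zpowers y) _
  have hxt : y ^ r ^ j ∈ zpowers t := Subgroup.pow_mem _ d.hy _
  have hxE : y ^ r ^ j ∈ E := by
    have : zpowers t ≤ E := by rw [zpowers_le]; exact d.htE
    exact this hxt
  have hAab : ∀ a ∈ A, ∀ b ∈ A, a * b = b * a := by
    intro a ha b hb
    have := d.c.hA.2.1.1.is_comm.comm ⟨a, ha⟩ ⟨b, hb⟩
    exact congrArg Subtype.val this
  have hco : (Nat.card A).Coprime r := by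
    rw [d.c.hA.2.2]
    exact Nat.Coprime.pow_left 2 ((Nat.coprime_primes hpp d.hr).mpr d.p_ne_r)
  have htN : t ∈ normalizer (A : Set G) := d.hEA h d.htE
  -- `B ≤ E`
  have hBE : B ≤ E := by
    intro b hb
    have hbN : b ∈ normalizer (A : Set G) := hLA (hBL hb)
    have hbx : b * y ^ r ^ j = y ^ r ^ j * b :=
      hQab b (mem_sup_left hb) _ (mem_sup_right hxY)
    have h1 : ⁅b, y ^ r ^ j⁆ ∈ centralizer (A : Set G) := by
      have : ⁅b, y ^ r ^ j⁆ = 1 := commutatorElement_eq_one_iff_commute.mpr hbx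
      rw [this]; exact one_mem _
    have h2 : ⁅b, t⁆ ∈ centralizer (A : Set G) :=
      hNab (Subgroup.commutator_mem_commutator hbN htN)
    have h3 : ⁅y ^ r ^ j, t⁆ ∈ centralizer (A : Set G) := by
      have : ⁅y ^ r ^ j, t⁆ = 1 :=
        commutatorElement_eq_one_iff_commute.mpr (commute_of_mem_zpowers hxt (mem_zpowers t))
      rw [this]; exact one_mem _
    have h4 : b ^ r ∈ centralizer (A : Set G) := by
      rw [hBe.2 b hb]; exact one_mem _
    obtain ⟨i, hi⟩ := hPA hAab hco htN hbN (d.hEA h hxE) h1 h2 h3 h4 hxr hxA d.hirr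
    have e : b = (b * (y ^ r ^ j) ^ i) * ((y ^ r ^ j) ^ i)⁻¹ := by group
    rw [e]
    exact mul_mem (d.c.centralizer_A_le h hi) (inv_mem (Subgroup.pow_mem _ hxE i))
  exact d.not_rank_two (hBE.trans d.c.hE.1) hBe hBc

end CC

/-- piece C, with piece A as a hypothesis -/
theorem false_of_irreducible_of_pieceA (hPA : PieceA G) (h : Hyps G) (h1409 : Hyp1409 G)
    (h1423 : H1423 G) (c : Ctx M E A S p)
    (hNab : ⁅normalizer (A : Set G), normalizer (A : Set G)⁆ ≤ centralizer (A : Set G))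
    (hnonreg : ∃ X : Subgroup G, X ≤ A ∧ Nat.card X = p ∧
      sigmaCore M ⊓ centralizer (X : Set G) ≠ ⊥)
    {t y : G} {r k : ℕ} (hr : r.Prime) (hrM : r ∉ sigma M) (hr1 : PRankLE r 1 M) (htE : t ∈ E)
    (hy : y ∈ zpowers t) (hyo : orderOf y = r ^ k) (hyA : y ∉ centralizer (A : Set G))
    (hx0 : y ^ r ^ (k - 1) ∈ centralizer (A : Set G))
    (hirr : ∀ W : Subgroup G, W ≤ A → t ∈ normalizer (W : Set G) → W = ⊥ ∨ W = A) : False := by
  have : Fact r.Prime := ⟨hr⟩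
  have hy1 : y ≠ 1 := fun h1 => hyA (h1 ▸ one_mem _)
  have hk : 1 ≤ k := by
    by_contra hk
    have hk0 : k = 0 := by omega
    rw [hk0, pow_zero, orderOf_eq_one_iff] at hyo
    exact hy1 hyo
  have hx₀o : orderOf (y ^ r ^ (k - 1)) = r := by
    have hdvd : r ^ (k - 1) ∣ orderOf y := by
      rw [hyo]; exact pow_dvd_pow r (by omega)
    rw [orderOf_pow_of_dvd (pow_ne_zero _ hr.ne_zero) hdvd, hyo,
      Nat.pow_div (by omega) hr.pos]
    have : k - (k - 1) = 1 := by omega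
    rw [this, pow_one]
  have hX0c : Nat.card (zpowers (y ^ r ^ (k - 1))) = r := by rw [Nat.card_zpowers, hx₀o]
  have hX0p : IsPGroup r ↥(zpowers (y ^ r ^ (k - 1))) :=
    IsPGroup.of_card (n := 1) (by rw [hX0c, pow_one])
  have hX01 : zpowers (y ^ r ^ (k - 1)) ≠ ⊥ := by
    intro hb
    rw [zpowers_eq_bot] at hb
    rw [hb, orderOf_one] at hx₀o
    exact hr.one_lt.ne hx₀o
  have hne := Cfsg.Agent.Helper14.BGTrans.normalizer_ne_top_of_isPGroup h.hG hX0p hX01
  obtain ⟨L, hL, hNL⟩ := Cfsg.Agent.Helper14.BGUniq.exists_isCoatom_ge hne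
  have hCL : centralizer ((zpowers (y ^ r ^ (k - 1)) : Subgroup G) : Set G) ≤ L :=
    (centralizer_le_normalizer _).trans hNL
  have hAL : A ≤ L := fun a ha =>
    hCL (mem_centralizer_zpowers ((mem_centralizer_iff.mp hx0) a ha))
  have htx : t * y ^ r ^ (k - 1) = y ^ r ^ (k - 1) * t :=
    commute_of_mem_zpowers (mem_zpowers t) (Subgroup.pow_mem _ hy _)
  have htL : t ∈ L := hCL (mem_centralizer_zpowers htx)
  have hLM : L ≠ M := by
    intro hLM
    rw [hLM] at hNL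
    exact (h1409 M c.hM r hrM _ hX0c hNL).1.2 hr1
  have d : CC M E A S p t y r L := ⟨c, hr, hrM, hr1, htE, hy, hyA, hirr, hL, hLM, hAL, htL⟩
  by_cases hrL : r ∈ sigma L
  · by_cases hpL : p ∈ sigma L
    · exact d.case_ia h h1423 hnonreg hyo hrL hpL
    · exact d.case_ib h (hNL (le_normalizer (mem_zpowers _))) hx₀o hx0 hrL hpL
  · have hrτ : r ∈ tau2 L := by
      have := (h1409 L hL r hrL _ hX0c hNL).1
      exact ⟨hr, hrL, this.1, this.2⟩
    by_cases hpL : p ∈ sigma L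
    · exact d.case_iib hPA h hNab hyo hx0 hrL hrτ hpL
    · exact d.case_iia h hrτ hpL

end Cfsg.Agent.Helper16.BG1221
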