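import Mathlib
import Cfsg.Prelude.Def_OddOrder
import Cfsg.Prelude.Def_OddOrderLocal
import Cfsg.Agent.Lib.Helper16.BG1221C3
import Cfsg.Agent.Lib.Helper6.NormId

/-!
# S1421 (BG 12.16), piece C: the irreducible case is impossible (helper16), final form
-/

set_option autoImplicit false

namespace Cfsg.Agent.Helper16.BG1221

open Cfsg Subgroup
open scoped commutatorElement
open Cfsg.Agent.Lead.BG129 (Hyps Ctx)
open Cfsg.Agent.Helper5.BG1222 (H1423)

universe u

variable {G : Type u} [Group G]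

/-- piece A holds (helper6) -/
theorem pieceA : PieceA G := fun hAab hco _ _ _ ht hb hx hbx hbt hxt hbr hxr hxA hirr =>
  Cfsg.Agent.Helper6.NormId.exists_mul_pow_mem_centralizer hAab hco ht hb hx hbx hbt hxt hbr hxr
    hxA hirr

/-- piece C of S1421: the irreducible case is impossible -/
theorem false_of_irreducible [Finite G] (h : Hyps G) (h1409 : Hyp1409 G) (h1423 : H1423 G)
    {M E A S : Subgroup G} {p : ℕ} [Fact p.Prime] (c : Ctx M E A S p)
    (hNab : ⁅normalizer (A : Set G), normalizer (A : Set G)⁆ ≤ centralizer (A : Set G))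
    (hnonreg : ∃ X : Subgroup G, X ≤ A ∧ Nat.card X = p ∧
      sigmaCore M ⊓ centralizer (X : Set G) ≠ ⊥)
    {t y : G} {r k : ℕ} (hr : r.Prime) (hrM : r ∉ sigma M) (hr1 : PRankLE r 1 M) (htE : t ∈ E)
    (hy : y ∈ zpowers t) (hyo : orderOf y = r ^ k) (hyA : y ∉ centralizer (A : Set G))
    (hx0 : y ^ r ^ (k - 1) ∈ centralizer (A : Set G))
    (hirr : ∀ W : Subgroup G, W ≤ A → t ∈ normalizer (W : Set G) → W = ⊥ ∨ W = A) : False :=
  false_of_irreducible_of_pieceA pieceA h h1409 h1423 c hNab hnonreg hr hrM hr1 htE hy hyo hyA hx0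
    hirr

end Cfsg.Agent.Helper16.BG1221
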