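import Mathlib

/-!
# Towards S1360 (helper16), part A: a cyclic subgroup of full exponent with prescribed socle

`exists_cyclic_regular`: in a finite commutative group `H` of exponent `e`, if for every prime
`s ∣ e` there is an element `c` with `c ^ (s ^ v_s(e)) = 1`, `c ^ (e / s) ≠ 1` and `c ^ (e / s)`
"regular" (an arbitrary predicate `R` inherited by the non-identity elements of a subgroup of prime
order), then there is `u` of order `e` all of whose powers of prime order are regular.
-/

set_option autoImplicit false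

namespace Cfsg.Agent.Helper16.BG1360

open Subgroup

theorem eq_of_dvd_of_forall_prime {d e : ℕ} (hde : d ∣ e)
    (h : ∀ s : ℕ, s.Prime → s ∣ e → ¬ d ∣ e / s) : d = e := by
  obtain ⟨k, rfl⟩ := hde
  by_cases hk : k = 1
  · simp [hk]
  · exfalso
    have hs := Nat.minFac_prime hk
    have hsk := Nat.minFac_dvd k
    apply h _ hs (hsk.trans (dvd_mul_left k d))
    rw [Nat.mul_div_assoc d hsk]
    exact dvd_mul_right d _

theorem exists_cyclic_regular {H : Type*} [CommGroup H] [Finite H] (R : H → Prop)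
    (hR : ∀ z v : H, (orderOf z).Prime → R z → v ∈ zpowers z → v ≠ 1 → R v)
    (hex : ∀ s : ℕ, s.Prime → s ∣ Monoid.exponent H →
      ∃ c : H, c ^ (s ^ (Monoid.exponent H).factorization s) = 1 ∧
        c ^ (Monoid.exponent H / s) ≠ 1 ∧ R (c ^ (Monoid.exponent H / s))) :
    ∃ u : H, orderOf u = Monoid.exponent H ∧ ∀ v ∈ zpowers u, (orderOf v).Prime → R v := by
  classical
  set e := Monoid.exponent H with he
  have he0 : e ≠ 0 := Monoid.exponent_ne_zero_of_finite
  choose! c hc using hex
  set u := ∏ s ∈ e.primeFactors, c s with hu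
  have hpow : ∀ s : ℕ, s.Prime → s ∣ e → u ^ (e / s) = c s ^ (e / s) := by
    intro s hs hse
    rw [hu, ← Finset.prod_pow]
    apply Finset.prod_eq_single s
    · intro t ht hts
      have htp := Nat.prime_of_mem_primeFactors ht
      have hte := Nat.dvd_of_mem_primeFactors ht
      have h1 := (hc t htp hte).1
      have hcop : (t ^ e.factorization t).Coprime s :=
        Nat.Coprime.pow_left _ ((Nat.coprime_primes htp hs).mpr hts)
      have hdvd : t ^ e.factorization t ∣ e / s := by
        apply hcop.dvd_of_dvd_mul_left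
        rw [Nat.mul_div_cancel' hse]
        exact Nat.ordProj_dvd e t
      obtain ⟨k, hk⟩ := hdvd
      rw [hk, pow_mul, h1, one_pow]
    · intro hs'
      exact absurd (Nat.mem_primeFactors.mpr ⟨hs, hse, he0⟩) hs'
  have hue : u ^ e = 1 := Monoid.pow_exponent_eq_one u
  have horder : orderOf u = e := by
    apply eq_of_dvd_of_forall_prime (orderOf_dvd_of_pow_eq_one hue)
    intro s hs hse hd
    have h1 := orderOf_dvd_iff_pow_eq_one.mp hd
    rw [hpow s hs hse] at h1
    exact (hc s hs hse).2.1 h1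
  refine ⟨u, horder, ?_⟩
  intro v hv hvp
  obtain ⟨s, hs⟩ : ∃ s, orderOf v = s := ⟨_, rfl⟩
  rw [hs] at hvp
  have hse : s ∣ e := hs ▸ Monoid.order_dvd_exponent v
  have hs0 : 0 < s := hvp.pos
  obtain ⟨j, hj⟩ := (Submonoid.mem_powers_iff v u).mp (mem_powers_iff_mem_zpowers.mpr hv)
  have h1 : u ^ (j * s) = 1 := by rw [pow_mul, hj, ← hs]; exact pow_orderOf_eq_one _
  have h2 : e ∣ j * s := horder ▸ orderOf_dvd_of_pow_eq_one h1
  have h3 : e / s ∣ j := by
    obtain ⟨k, hk⟩ := hse
    rw [hk, Nat.mul_div_cancel_left _ hs0]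
    rw [hk, mul_comm s k] at h2
    exact Nat.dvd_of_mul_dvd_mul_right hs0 h2
  obtain ⟨i, hi⟩ := h3
  have hv1 : v ≠ 1 := by
    intro h
    rw [h, orderOf_one] at hs
    rw [← hs] at hvp
    exact Nat.not_prime_one hvp
  have hz1 := (hc s hvp hse).2.1
  have hzs : (c s ^ (e / s)) ^ s = 1 := by
    rw [← pow_mul, Nat.div_mul_cancel hse]
    exact Monoid.pow_exponent_eq_one _
  have hzo : orderOf (c s ^ (e / s)) = s := by
    have : Fact s.Prime := ⟨hvp⟩
    exact orderOf_eq_prime hzs hz1
  have hmem : v ∈ zpowers (c s ^ (e / s)) := by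
    rw [← hj, hi, pow_mul, hpow s hvp hse]
    exact Subgroup.pow_mem (zpowers (c s ^ (e / s))) (mem_zpowers _) i
  exact hR (c s ^ (e / s)) v (by rw [hzo]; exact hvp) (hc s hvp hse).2.2 hmem hv1

end Cfsg.Agent.Helper16.BG1360
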