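import Mathlib
import Cfsg.Prelude.Def_OddOrder
import Cfsg.Prelude.Def_OddOrderLocal
import Cfsg.Agent.Lib.Helper20.BG12C

/-!
# Towards BG Theorem 14.4 (S1361/S1362), part A (helper16): coprime action on `Z_p × Z_p`

* `exists_fixed_ne_one`: an `r`-element (`r > p`, `p` odd) normalizing a group `A` of order `p ^ 2`
  centralizes a non-identity element of `A`;
* `centralizes_of_prime_gt`: it then centralizes `A` (when `A` is elementary abelian);
* `le_centralizer_of_minprime`: a subgroup `X` normalizing `A`, all of whose prime divisors are at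
  least `p` and whose `p`-elements centralize `A`, centralizes `A`.
-/

set_option autoImplicit false

namespace Cfsg.Agent.Helper16.BG1361

open Cfsg Subgroup

universe u

variable {G : Type u} [Group G]

/-- the conjugation action of a subgroup `R ≤ N_G(A)` on `A` -/
@[reducible] def conjAct (R A : Subgroup G) (h : R ≤ normalizer (A : Set G)) : MulAction R A where
  smul r a := ⟨(r : G) * (a : G) * (r : G)⁻¹, ((mem_normalizer_iff.mp (h r.2)) a).mp a.2⟩
  one_smul a := by
    apply Subtype.ext
    show ((1 : R) : G) * (a : G) * ((1 : R) : G)⁻¹ = a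
    simp
  mul_smul r s a := by
    apply Subtype.ext
    show ((r * s : R) : G) * (a : G) * ((r * s : R) : G)⁻¹ = (r : G) * ((s : G) * (a : G) * (s : G)⁻¹) * (r : G)⁻¹
    simp [mul_assoc]

variable [Finite G]

theorem exists_fixed_ne_one {p r : ℕ} [hp : Fact p.Prime] [hr : Fact r.Prime] (hpodd : Odd p)
    (hpr : p < r) {A : Subgroup G} (hAc : Nat.card A = p ^ 2) {h : G}
    (hh : h ∈ normalizer (A : Set G)) (hhr : IsPGroup r (zpowers h)) :
    ∃ a ∈ A, a ≠ 1 ∧ h * a = a * h := by
  by_contra hcon
  push Not at hcon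
  have hR : zpowers h ≤ normalizer (A : Set G) := by
    rw [zpowers_le]; exact hh
  let _ : MulAction (zpowers h) A := conjAct (zpowers h) A hR
  have hmod := hhr.card_modEq_card_fixedPoints (↥A)
  have hfix : MulAction.fixedPoints (zpowers h) (↥A) = {1} := by
    ext a
    rw [MulAction.mem_fixedPoints, Set.mem_singleton_iff]
    constructor
    · intro ha
      have h1 := ha ⟨h, mem_zpowers h⟩
      have h2 : h * (a : G) * h⁻¹ = (a : G) := congrArg Subtype.val h1
      have h3 : h * (a : G) = (a : G) * h := by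
        calc h * (a : G) = h * (a : G) * h⁻¹ * h := by group
          _ = (a : G) * h := by rw [h2]
      by_contra hne
      have hne' : (a : G) ≠ 1 := fun h0 => hne (Subtype.ext h0)
      exact hcon a a.2 hne' h3
    · rintro rfl m
      apply Subtype.ext
      show (m : G) * ((1 : A) : G) * (m : G)⁻¹ = ((1 : A) : G)
      simp
  rw [hfix, hAc] at hmod
  have hc1 : Nat.card ↑({1} : Set ↥A) = 1 := by simp
  rw [hc1] at hmod
  have hp1 : 1 ≤ p ^ 2 := Nat.one_le_pow _ _ hp.out.pos
  have hdvd : r ∣ p ^ 2 - 1 := (Nat.modEq_iff_dvd' hp1).mp hmod.symm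
  have hfac : p ^ 2 - 1 = (p - 1) * (p + 1) := by
    obtain ⟨k, rfl⟩ : ∃ k, p = k + 1 := ⟨p - 1, (Nat.succ_pred_eq_of_pos hp.out.pos).symm⟩
    simp only [Nat.add_sub_cancel]
    have : (k + 1) ^ 2 = k * (k + 1 + 1) + 1 := by ring
    rw [this, Nat.add_sub_cancel]
  rw [hfac] at hdvd
  have hp2 : 2 ≤ p := hp.out.two_le
  rcases (Nat.Prime.dvd_mul hr.out).mp hdvd with h1 | h1
  · have := Nat.le_of_dvd (by omega) h1
    omega
  · have h2 := Nat.le_of_dvd (by omega) h1
    have h3 : r = p + 1 := by omega
    have h4 : Even r := by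
      rw [h3]
      exact hpodd.add_one
    have h5 : r = 2 := (Nat.Prime.even_iff hr.out).mp h4
    omega

theorem centralizes_of_prime_gt {p r : ℕ} [hp : Fact p.Prime] [hr : Fact r.Prime] (hpodd : Odd p)
    (hpr : p < r) {A : Subgroup G} (hAe : IsElementaryAbelian p A) (hAc : Nat.card A = p ^ 2)
    {h : G} (hh : h ∈ normalizer (A : Set G)) (hhr : IsPGroup r (zpowers h)) :
    ∀ a ∈ A, h * a = a * h := by
  obtain ⟨a, haA, ha1, hha⟩ := exists_fixed_ne_one hpodd hpr hAc hh hhr
  have hoa : orderOf a = p := orderOf_eq_prime (hAe.2 a haA) ha1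
  have hXA : zpowers a ≤ A := by rw [zpowers_le]; exact haA
  have hXc : Nat.card (zpowers a) = p := by rw [Nat.card_zpowers, hoa]
  have hX : ∀ z ∈ zpowers a, h * z = z * h := by
    intro z hz
    obtain ⟨j, rfl⟩ := mem_zpowers_iff.mp hz
    have : Commute h a := hha
    exact this.zpow_right j
  obtain ⟨k, hk⟩ := hhr.exists_card_eq
  rw [Nat.card_zpowers] at hk
  have hp2 : 2 ≤ p := hp.out.two_le
  have hcp : (orderOf h).Coprime p := by
    rw [hk]
    apply Nat.Coprime.pow_left
    rw [Nat.coprime_primes hr.out hp.out]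
    omega
  have hcp1 : (orderOf h).Coprime (p - 1) := by
    rw [hk]
    apply Nat.Coprime.pow_left
    rw [Nat.Prime.coprime_iff_not_dvd hr.out]
    intro hd
    have := Nat.le_of_dvd (by omega) hd
    omega
  exact Cfsg.Agent.Helper20.BG12.centralizes_of_coprime hAe hAc hXA hXc hh hX hcp hcp1

theorem le_centralizer_of_minprime {p : ℕ} [hp : Fact p.Prime] (hpodd : Odd p)
    {A X : Subgroup G} (hAe : IsElementaryAbelian p A) (hAc : Nat.card A = p ^ 2)
    (hXN : X ≤ normalizer (A : Set G))
    (hmin : ∀ r : ℕ, r.Prime → r ∣ Nat.card X → p ≤ r)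
    (hpX : ∀ x ∈ X, IsPGroup p (zpowers x) → ∀ a ∈ A, x * a = a * x) :
    X ≤ centralizer (A : Set G) := by
  have key : ∀ n : ℕ, ∀ x ∈ X, orderOf x = n → x ∈ centralizer (A : Set G) := by
    intro n
    induction n using Nat.strong_induction_on with
    | _ n ih =>
      intro x hx hxn
      by_cases hn1 : n = 1
      · rw [hn1, orderOf_eq_one_iff] at hxn
        rw [hxn]; exact one_mem _
      have hn0 : n ≠ 0 := by rw [← hxn]; exact (orderOf_pos x).ne'
      set r := n.minFac with hr
      have hrp : r.Prime := Nat.minFac_prime hn1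
      have : Fact r.Prime := ⟨hrp⟩
      have hrn : r ∣ n := Nat.minFac_dvd n
      have hnX : n ∣ Nat.card X := by
        rw [← hxn]; exact Subgroup.orderOf_dvd_natCard X hx
      have hpr : p ≤ r := hmin r hrp (hrn.trans hnX)
      obtain ⟨k, n', hn'r, hnk⟩ := Nat.exists_eq_pow_mul_and_not_dvd hn0 r hrp.ne_one
      have hk0 : k ≠ 0 := by
        rintro rfl
        rw [pow_zero, one_mul] at hnk
        exact hn'r (hnk ▸ hrn)
      have hn'0 : 0 < n' := by
        rcases Nat.eq_zero_or_pos n' with h | h
        · rw [h, mul_zero] at hnk; exact absurd hnk hn0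
        · exact h
      have hcop : n'.Coprime (r ^ k) :=
        Nat.Coprime.pow_right k ((Nat.Prime.coprime_iff_not_dvd hrp).mpr hn'r).symm
      apply Cfsg.Agent.Helper20.BG12.mem_of_pow_mem_of_coprime hcop
      · -- the `r`-part
        set u := x ^ n' with hu
        have huX : u ∈ X := X.pow_mem hx _
        have hur : IsPGroup r (zpowers u) := by
          have h1 : u ^ (r ^ k) = 1 := by
            rw [hu, ← pow_mul, mul_comm, ← hnk, ← hxn, pow_orderOf_eq_one]
          obtain ⟨j, -, hj⟩ := (Nat.dvd_prime_pow hrp).mp (orderOf_dvd_of_pow_eq_one h1)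
          apply IsPGroup.of_card (n := j)
          rw [Nat.card_zpowers, hj]
        rw [mem_centralizer_iff]
        intro a ha
        rcases eq_or_lt_of_le hpr with heq | hlt
        · have hur' : IsPGroup p (zpowers u) := by rw [heq]; exact hur
          exact (hpX u huX hur' a ha).symm
        · exact (centralizes_of_prime_gt hpodd hlt hAe hAc (hXN huX) hur a ha).symm
      · -- the `r'`-part
        set w := x ^ (r ^ k) with hw
        have hwX : w ∈ X := X.pow_mem hx _
        have hwo : orderOf w ∣ n' := by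
          apply orderOf_dvd_of_pow_eq_one
          rw [hw, ← pow_mul, ← hnk, ← hxn, pow_orderOf_eq_one]
        have hlt : orderOf w < n := by
          have h1 : orderOf w ≤ n' := Nat.le_of_dvd hn'0 hwo
          have h2 : n' < n := by
            rw [hnk]
            have : 2 ≤ r ^ k := by
              calc 2 ≤ r := hrp.two_le
                _ = r ^ 1 := (pow_one r).symm
                _ ≤ r ^ k := Nat.pow_le_pow_right hrp.pos (Nat.one_le_iff_ne_zero.mpr hk0)
            nlinarith
          omega
        exact ih (orderOf w) hlt w hwX rfl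
  intro x hx
  exact key (orderOf x) x hx rfl

end Cfsg.Agent.Helper16.BG1361
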