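import Mathlib
import Cfsg.Prelude.Def_OddOrder
import Cfsg.Prelude.Def_OddOrderLocal
import Cfsg.Agent.Lib.Helper20.BG126
import Cfsg.Agent.Lib.Helper1.PiHall
import Cfsg.Agent.Lib.Helper19.BG16A
import Cfsg.Agent.Lib.Helper16.BG1361A

/-!
# BG Theorem 14.4 type facts (S1361), part B (helper16)

`main61`: for a maximal subgroup `M` of a minimal simple group of odd order and a non-identity
subgroup `X ≤ M` whose order involves no prime of `σ(M) ∪ κ(M)` and with `C_{M_σ}(X) ≠ 1`: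
`C_G(X) ≤ M` and `M` is the only maximal subgroup containing `C_G(X)`.
Hypotheses (for the fixed `G`): the Uniqueness Theorem (S1403), S1350, S1417, S1418.
-/

set_option autoImplicit false

namespace Cfsg.Agent.Helper16.BG1361

open Cfsg Subgroup
open Cfsg.Agent.Helper20.BG12 (H1350 H1417 H1418)

universe u

variable {G : Type u} [Group G] [Finite G]

theorem main61 (hG : IsMinSimpleOddOrder G) (hU : Cfsg.Agent.Helper23.BG10.UniqThm G)
    (h1350 : H1350 G) (h1417 : H1417 G) (h1418 : H1418 G)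
    {M : Subgroup G} (hM : IsCoatom M) {X : Subgroup G} (hXM : X ≤ M) (hX : X ≠ ⊥)
    (hXπ : ∀ p : ℕ, p.Prime → p ∣ Nat.card X → p ∉ sigma M ∧ p ∉ kappa M)
    (hXc : sigmaCore M ⊓ centralizer (X : Set G) ≠ ⊥) :
    centralizer (X : Set G) ≤ M ∧
      ∀ L : Subgroup G, IsCoatom L → centralizer (X : Set G) ≤ L → L = M := by
  have hασ : alpha M ⊆ sigma M := Cfsg.Agent.Helper23.BG10.alpha_subset_sigma hG hU hM
  have hhall := (h1350 M hM).1
  have hsolv : Group.IsSolvable ↥M := Cfsg.Agent.Helper20.BG12.isSolvable_coatom hG hM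
  obtain ⟨y, hy, hy1⟩ := (Subgroup.ne_bot_iff_exists_ne_one.mp hXc |> fun ⟨⟨y, hy⟩, h⟩ => (⟨y, hy, fun h0 => h (Subtype.ext h0)⟩ : ∃ y ∈ sigmaCore M ⊓ centralizer (X : Set G), y ≠ 1))
  have hyσ : y ∈ sigmaCore M := hy.1
  have hyX : y ∈ centralizer (X : Set G) := hy.2
  -- a complement containing `X`
  obtain ⟨E', hE', hXE', -, -⟩ := Cfsg.Agent.Helper1.PiHall.exists_isComplIn_ge hhall
    (Cfsg.Agent.Helper20.BG12.le_normalizer_sigmaCore' M) hXM (fun p hp hd => (hXπ p hp hd).1)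
  -- the least prime divisor of `|X|`
  have hn1 : Nat.card X ≠ 1 := fun h => hX (Subgroup.card_eq_one.mp h)
  set p := (Nat.card X).minFac with hp
  have hpp : p.Prime := Nat.minFac_prime hn1
  have : Fact p.Prime := ⟨hpp⟩
  have hpX : p ∣ Nat.card X := Nat.minFac_dvd _
  have hpM : p ∣ Nat.card M := hpX.trans (Subgroup.card_dvd_of_le hXM)
  have hpodd : Odd p := Cfsg.Agent.Helper20.BG12.odd_of_dvd_card hG hpp hpX
  obtain ⟨x₀, hx₀⟩ := exists_prime_orderOf_dvd_card' p hpX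
  have hx₀o : orderOf (x₀ : G) = p := by rw [Subgroup.orderOf_coe, hx₀]
  have hx₀y : (x₀ : G) * y = y * (x₀ : G) := (mem_centralizer_iff.mp hyX) x₀ x₀.2
  -- `p ∈ τ₂(M)`
  have hpσ : p ∉ sigma M := (hXπ p hpp hpX).1
  have hpκ : p ∉ kappa M := (hXπ p hpp hpX).2
  have hr2 : PRankLE p 2 ↥M := by
    by_contra h
    exact hpσ (hασ ⟨hpp, h⟩)
  have hr1 : ¬ PRankLE p 1 ↥M := by
    intro h
    apply hpκ
    have h13 : p ∈ tau1 M ∪ tau3 M := by
      by_cases hd : p ∣ Nat.card ↥⁅M, M⁆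
      · exact Or.inr ⟨hpp, hpσ, hd, h⟩
      · exact Or.inl ⟨hpp, hpσ, hpM, hd, h⟩
    exact Cfsg.Agent.Helper19.BG16.mem_kappa_of_commute hG.1 h13 (hXM x₀.2) hx₀o hyσ hy1 hx₀y
  have hpτ : p ∈ tau2 M := ⟨hpp, hpσ, hr2, hr1⟩
  obtain ⟨A, hAE, hAe, hAc⟩ :=
    Cfsg.Agent.Helper20.BG12.exists_elemAb_sq_le_compl hhall hE' hpτ
  have hAM : A ≤ M := hAE.trans hE'.1
  obtain ⟨⟨hEN, hXA⟩, -, h18c⟩ := h1418 M hM E' hE' p hpτ A ⟨hAE, hAe, hAc⟩
  obtain ⟨-, -, -, -, h17e, -⟩ := h1417 M hM p hpτ A ⟨hAM, hAe, hAc⟩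
  -- the subgroup of order `p`
  set Z := zpowers (x₀ : G) with hZ
  have hZc : Nat.card Z = p := by rw [hZ, Nat.card_zpowers, hx₀o]
  have hZX : Z ≤ X := by rw [hZ, zpowers_le]; exact x₀.2
  have hZA : Z ≤ A := hXA Z (hZX.trans hXE') hZc
  have hCle : centralizer (X : Set G) ≤ centralizer (Z : Set G) :=
    centralizer_le (by exact_mod_cast hZX)
  have hne : sigmaCore M ⊓ centralizer (Z : Set G) ≠ ⊥ := by
    intro h
    have hy' : y ∈ sigmaCore M ⊓ centralizer (Z : Set G) := ⟨hyσ, hCle hyX⟩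
    rw [h, mem_bot] at hy'
    exact hy1 hy'
  obtain ⟨hCZM, -⟩ := h18c Z hZA hZc hne
  refine ⟨hCle.trans hCZM, ?_⟩
  -- `X` centralizes `A`
  have hXCA : X ≤ centralizer (A : Set G) := by
    apply le_centralizer_of_minprime hpodd hAe hAc (hXE'.trans hEN)
    · intro r hr hd
      exact Nat.minFac_le_of_dvd hr.two_le hd
    · intro x hx hxp a ha
      have hAp : IsPGroup p ↥A := Cfsg.Agent.Helper14.BGUniq.isPGroup_of_isElementaryAbelian hAe
      have hsup : IsPGroup p ↥(zpowers x ⊔ A) := by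
        apply IsPGroup.to_sup_of_normal_right' hxp hAp
        rw [zpowers_le]
        exact hEN (hXE' hx)
      have hsupM : zpowers x ⊔ A ≤ M := by
        apply sup_le _ hAM
        rw [zpowers_le]
        exact hXM hx
      have hcomm := Cfsg.Agent.Helper20.BG12.comm_of_pgroup_not_sigma hG hM hασ h1417 hpσ hsup hsupM
      exact hcomm x (le_sup_left (b := A) (mem_zpowers x)) a (le_sup_right (a := zpowers x) ha)
  intro L hL hCL
  by_contra hLM
  have hAL : A ≤ L := (le_centralizer_iff.mp hXCA).trans hCL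
  have h := h17e L hL hLM hAL
  have hy' : y ∈ sigmaCore M ⊓ L := ⟨hyσ, hCL hyX⟩
  rw [h, mem_bot] at hy'
  exact hy1 hy'

end Cfsg.Agent.Helper16.BG1361
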