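import Mathlib
import Cfsg.Prelude.Def_OddOrder
import Cfsg.Prelude.Def_OddOrderLocal
import Cfsg.Agent.Lib.Lead.BGThmC
import Cfsg.Agent.Lib.Lead.BGThmC2
import Cfsg.Agent.Lib.Helper7.BG16a
import Cfsg.Agent.Lib.Helper4.BG144B
import Cfsg.Agent.Lib.Helper14.BGUniqL
import Cfsg.Agent.Lib.Helper16.BG1361B

/-!
# BG Theorem 14.4 type facts (S1361, S1362), part C (helper16)

* `main61U`: `main61` for subgroups whose order involves only primes dividing `|U|`
  (in particular subgroups of `U`): the statement of S1361;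
* `main62`: `A(M) - M_σ` is a TI-subset: the statement of S1362.
Hypotheses (for the fixed `G`): the Uniqueness Theorem (S1403), S1350, S1417, S1418.
-/

set_option autoImplicit false

namespace Cfsg.Agent.Helper16.BG1361

open Cfsg Subgroup
open Cfsg.Agent.Helper20.BG12 (H1350 H1417 H1418)

universe u

variable {G : Type u} [Group G] [Finite G]

theorem main61U (hG : IsMinSimpleOddOrder G) (hU : Cfsg.Agent.Helper23.BG10.UniqThm G)
    (h1350 : H1350 G) (h1417 : H1417 G) (h1418 : H1418 G)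
    {M K U : Subgroup G} (hM : IsCoatom M) (hKU : IsSigmaDecomposition M K U)
    {X : Subgroup G} (hXM : X ≤ M) (hX : X ≠ ⊥)
    (hXU : ∀ p : ℕ, p.Prime → p ∣ Nat.card X → p ∣ Nat.card U)
    (hXc : sigmaCore M ⊓ centralizer (X : Set G) ≠ ⊥) :
    centralizer (X : Set G) ≤ M ∧
      ∀ L : Subgroup G, IsCoatom L → centralizer (X : Set G) ≤ L → L = M :=
  main61 hG hU h1350 h1417 h1418 hM hXM hX
    (fun p hp hd =>
      ⟨Cfsg.Agent.Lead.BGThmC.not_mem_sigma_of_dvd_card M K U hKU (h1350 M hM).1 hp (hXU p hp hd),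
        Cfsg.Agent.Lead.BGThmC2.not_mem_kappa_of_dvd_card M K U hKU hp (hXU p hp hd)⟩) hXc

theorem main62 (hG : IsMinSimpleOddOrder G) (hU : Cfsg.Agent.Helper23.BG10.UniqThm G)
    (h1350 : H1350 G) (h1417 : H1417 G) (h1418 : H1418 G)
    {M K U : Subgroup G} (hM : IsCoatom M) (hKU : IsSigmaDecomposition M K U) :
    IsTISubset (sigmaA M U \ (sigmaCore M : Set G)) := by
  set d := Nat.card (sigmaCore M) with hd
  have hhall := (h1350 M hM).1
  have hnσ : M ≤ normalizer (sigmaCore M : Set G) :=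
    Cfsg.Agent.Helper20.BG12.le_normalizer_sigmaCore' M
  have key : ∀ x ∈ sigmaA M U \ (sigmaCore M : Set G), x ∈ M ∧
      (centralizer (zpowers (x ^ d) : Set G) ≤ M ∧
        ∀ L : Subgroup G, IsCoatom L → centralizer (zpowers (x ^ d) : Set G) ≤ L → L = M) := by
    rintro x ⟨⟨⟨hxM, y, hyσ, hy1, hxy⟩, hxH⟩, hxσ⟩
    refine ⟨hxM, ?_⟩
    have hz1 : x ^ d ≠ 1 := by
      intro h
      apply hxσ
      have hle : zpowers x ≤ sigmaCore M := by
        apply Cfsg.Agent.Helper1.PiHall.le_of_isPiHallOf_of_le_normalizer hhall hnσ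
          (by rw [zpowers_le]; exact hxM)
        intro p hp hpd
        rw [Nat.card_zpowers] at hpd
        have h1 : orderOf x ∣ d := orderOf_dvd_of_pow_eq_one h
        exact hhall.2.1 p hp (hpd.trans h1)
      exact hle (mem_zpowers x)
    have hzU : (x ^ d) ^ Nat.card U = 1 := by
      have h1 : Nat.card (sigmaCore M ⊔ U : Subgroup G) ∣ d * Nat.card U :=
        Cfsg.Agent.Helper7.card_sup_dvd_mul_of_le_normalizer (hKU.compl.1.trans hnσ)
      have hxH' : x ∈ sigmaCore M ⊔ U := by rw [sup_comm]; exact hxH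
      have h2 : orderOf x ∣ Nat.card (sigmaCore M ⊔ U : Subgroup G) :=
        Subgroup.orderOf_dvd_natCard _ hxH'
      rw [← pow_mul]
      exact orderOf_dvd_iff_pow_eq_one.mp (h2.trans h1)
    apply main61U hG hU h1350 h1417 h1418 hM hKU
    · rw [zpowers_le]; exact M.pow_mem hxM _
    · rw [Ne, zpowers_eq_bot]; exact hz1
    · intro p hp hpd
      rw [Nat.card_zpowers] at hpd
      exact hpd.trans (orderOf_dvd_of_pow_eq_one hzU)
    · intro h
      have hy' : y ∈ sigmaCore M ⊓ centralizer (zpowers (x ^ d) : Set G) := by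
        refine Subgroup.mem_inf.mpr ⟨hyσ, ?_⟩
        rw [mem_centralizer_iff]
        intro w hw
        obtain ⟨j, rfl⟩ := mem_zpowers_iff.mp hw
        have : Commute x y := hxy
        exact (this.pow_left d).zpow_left j
      rw [h, mem_bot] at hy'
      exact hy1 hy'
  intro g hg x hx hgx
  exfalso
  apply hg
  obtain ⟨hxM, hCx, -⟩ := key x hx
  obtain ⟨-, -, huniq⟩ := key (g * x * g⁻¹) hgx
  have hL := Cfsg.Agent.Helper14.BGUniq.isCoatom_map_conj hM g
  have hle : centralizer (zpowers ((g * x * g⁻¹) ^ d) : Set G) ≤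
      M.map (MulAut.conj g).toMonoidHom := by
    intro c hc
    rw [conj_pow] at hc
    have hc' : g⁻¹ * c * g ∈ centralizer (zpowers (x ^ d) : Set G) := by
      rw [mem_centralizer_iff]
      intro w hw
      obtain ⟨j, rfl⟩ := mem_zpowers_iff.mp hw
      have h1 := (mem_centralizer_iff.mp hc) (g * (x ^ d) ^ j * g⁻¹)
        (by rw [← conj_zpow]; exact zpow_mem_zpowers _ j)
      have h2 := congrArg (fun w => g⁻¹ * w * g) h1
      simp only [mul_assoc, inv_mul_cancel_left] at h2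
      simp only [mul_assoc]
      rw [h2]
      simp
    refine ⟨g⁻¹ * c * g, hCx hc', ?_⟩
    simp only [MulEquiv.coe_toMonoidHom, MulAut.conj_apply]
    group
  have hLM := huniq _ hL hle
  have hgN : g ∈ normalizer (M : Set G) :=
    Cfsg.Agent.Helper14.BGUniq.mem_normalizer_of_map_conj_eq hLM
  rw [Cfsg.Agent.Helper4.BG144.normalizer_coatom hG hM] at hgN
  -- `M` normalizes the set
  apply mem_normalizer_fintype
  rintro t ⟨⟨⟨htM, y, hyσ, hy1, hty⟩, htH⟩, htσ⟩
  have hgσ := mem_normalizer_iff.mp (hnσ hgN)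
  have hgH := mem_normalizer_iff.mp
    (Cfsg.Agent.Helper7.BG16.le_normalizer_sup_sigmaCore hKU hgN)
  refine ⟨⟨⟨M.mul_mem (M.mul_mem hgN htM) (M.inv_mem hgN), g * y * g⁻¹, (hgσ y).mp hyσ, ?_, ?_⟩,
    (hgH t).mp htH⟩, fun h => htσ ((hgσ t).mpr h)⟩
  · intro h
    apply hy1
    have : y = g⁻¹ * (g * y * g⁻¹) * g := by group
    rw [this, h]; group
  · calc g * t * g⁻¹ * (g * y * g⁻¹) = g * (t * y) * g⁻¹ := by group
      _ = g * (y * t) * g⁻¹ := by rw [hty]
      _ = g * y * g⁻¹ * (g * t * g⁻¹) := by group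

end Cfsg.Agent.Helper16.BG1361
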