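import Mathlib
import Cfsg.Prelude.Def_OddOrder
import Cfsg.Prelude.Def_OddOrderLocal
import Cfsg.Agent.Lib.Helper16.BG1361C
import Cfsg.Agent.Lib.Helper16.BG1360A
import Cfsg.Agent.Lib.Helper16.BG147D

/-!
# S1360 (helper16), part B

`main60`: the statement of S1360, from (for the fixed `G`) the Uniqueness Theorem (S1403) and the
statements S1350, S1417, S1418, S1421, S1430.
-/

set_option autoImplicit false

namespace Cfsg.Agent.Helper16.BG1360

open Cfsg Subgroup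
open Cfsg.Agent.Helper20.BG12 (H1350 H1417 H1418)
open Cfsg.Agent.Helper15 (IsSylowIn exists_isSylowIn_ge isSylowIn_of_not_dvd_relIndex)
open scoped IsMulCommutative

universe u

variable {G : Type u} [Group G] [Finite G]

omit [Finite G] in
theorem sigmaHat_ne_bot {M : Subgroup G} {x : G} (hx : x ∈ sigmaHat M) :
    sigmaCore M ⊓ centralizer (zpowers x : Set G) ≠ ⊥ := by
  obtain ⟨-, y, hyσ, hy1, hxy⟩ := hx
  intro h
  have hy' : y ∈ sigmaCore M ⊓ centralizer (zpowers x : Set G) := by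
    refine Subgroup.mem_inf.mpr ⟨hyσ, ?_⟩
    rw [mem_centralizer_iff]
    intro w hw
    obtain ⟨j, rfl⟩ := mem_zpowers_iff.mp hw
    have : Commute x y := hxy
    exact this.zpow_left j
  rw [h, mem_bot] at hy'
  exact hy1 hy'

theorem mem_of_conj_uniq (hG : IsMinSimpleOddOrder G) {M : Subgroup G} (hM : IsCoatom M)
    {z g : G} (h1 : centralizer (zpowers z : Set G) ≤ M)
    (h2 : ∀ L : Subgroup G, IsCoatom L → centralizer (zpowers (g * z * g⁻¹) : Set G) ≤ L → L = M) :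
    g ∈ M := by
  have hL := Cfsg.Agent.Helper14.BGUniq.isCoatom_map_conj hM g
  have hle : centralizer (zpowers (g * z * g⁻¹) : Set G) ≤ M.map (MulAut.conj g).toMonoidHom := by
    intro c hc
    have hc' : g⁻¹ * c * g ∈ centralizer (zpowers z : Set G) := by
      rw [mem_centralizer_iff]
      intro w hw
      obtain ⟨j, rfl⟩ := mem_zpowers_iff.mp hw
      have h3 := (mem_centralizer_iff.mp hc) (g * z ^ j * g⁻¹)
        (by rw [← conj_zpow]; exact zpow_mem_zpowers _ j)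
      have h4 := congrArg (fun w => g⁻¹ * w * g) h3
      simp only [mul_assoc, inv_mul_cancel_left] at h4
      simp only [mul_assoc]
      rw [h4]
      simp
    refine ⟨g⁻¹ * c * g, h1 hc', ?_⟩
    simp only [MulEquiv.coe_toMonoidHom, MulAut.conj_apply]
    group
  have hLM := h2 _ hL hle
  have hgN : g ∈ normalizer (M : Set G) :=
    Cfsg.Agent.Helper14.BGUniq.mem_normalizer_of_map_conj_eq hLM
  rwa [Cfsg.Agent.Helper4.BG144.normalizer_coatom hG hM] at hgN

theorem not_sigmaHat_conj (hG : IsMinSimpleOddOrder G) (hU : Cfsg.Agent.Helper23.BG10.UniqThm G)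
    (h1350 : H1350 G) (h1417 : H1417 G) (h1418 : H1418 G)
    {M K U : Subgroup G} (hM : IsCoatom M) (hKU : IsSigmaDecomposition M K U)
    {z g : G} (hzU : z ∈ U) (hz1 : z ≠ 1) (hgz : g * z * g⁻¹ ∈ U) (hg : g ∉ M)
    (hz : z ∈ sigmaHat M) : g * z * g⁻¹ ∉ sigmaHat M := by
  intro h'
  have hUM : U ≤ M := hKU.compl.1
  have hgz1 : g * z * g⁻¹ ≠ 1 := by
    intro h
    apply hz1
    have : z = g⁻¹ * (g * z * g⁻¹) * g := by group
    rw [this, h]; group
  have key : ∀ w ∈ U, w ≠ 1 → w ∈ sigmaHat M →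
      centralizer (zpowers w : Set G) ≤ M ∧
        ∀ L : Subgroup G, IsCoatom L → centralizer (zpowers w : Set G) ≤ L → L = M := by
    intro w hwU hw1 hw
    apply Cfsg.Agent.Helper16.BG1361.main61U hG hU h1350 h1417 h1418 hM hKU
    · rw [zpowers_le]; exact hUM hwU
    · rw [Ne, zpowers_eq_bot]; exact hw1
    · intro p _ hpd
      rw [Nat.card_zpowers] at hpd
      exact hpd.trans (Subgroup.orderOf_dvd_natCard U hwU)
    · exact sigmaHat_ne_bot hw
  exact hg (mem_of_conj_uniq hG hM (key z hzU hz1 hz).1 (key _ hgz hgz1 h').2)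

theorem exists_regular_top (hG : IsMinSimpleOddOrder G)
    (hU : Cfsg.Agent.Helper23.BG10.UniqThm G)
    (h1350 : H1350 G) (h1417 : H1417 G) (h1418 : H1418 G)
    {M K U : Subgroup G} (hM : IsCoatom M) (hKU : IsSigmaDecomposition M K U)
    [hUab : IsMulCommutative U] {s : ℕ} (hs : s.Prime) (hse : s ∣ Monoid.exponent U) :
    ∃ c ∈ U, c ^ (s ^ (Monoid.exponent U).factorization s) = 1 ∧
      c ^ (Monoid.exponent U / s) ≠ 1 ∧ c ^ (Monoid.exponent U / s) ∉ sigmaHat M := by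
  have hsF : Fact s.Prime := ⟨hs⟩
  have hUM : U ≤ M := hKU.compl.1
  have hασ : alpha M ⊆ sigma M := Cfsg.Agent.Helper23.BG10.alpha_subset_sigma hG hU hM
  have hhall := (h1350 M hM).1
  set e := Monoid.exponent U with he
  have he0 : e ≠ 0 := Monoid.exponent_ne_zero_of_finite
  obtain ⟨u₁, hu₁⟩ := Monoid.exists_orderOf_eq_exponent (G := ↥U) Monoid.ExponentExists.of_finite
  have ho : orderOf (u₁ : G) = e := by rw [Subgroup.orderOf_coe]; exact hu₁
  set a := e.factorization s with ha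
  set m := e / s ^ a with hm
  have hme : s ^ a * m = e := Nat.ordProj_mul_ordCompl_eq_self e s
  have hesd : s * (e / s) = e := Nat.mul_div_cancel' hse
  have hes0 : 0 < e / s := Nat.div_pos (Nat.le_of_dvd (Nat.pos_of_ne_zero he0) hse) hs.pos
  set c₀ := (u₁ : G) ^ m with hc₀
  have hc₀U : c₀ ∈ U := U.pow_mem u₁.2 m
  have hue : (u₁ : G) ^ e = 1 := by rw [← ho]; exact pow_orderOf_eq_one _
  have hc₀a : c₀ ^ (s ^ a) = 1 := by
    rw [hc₀, ← pow_mul, mul_comm, hme]; exact hue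
  have hc₀e : c₀ ^ e = 1 := by
    rw [hc₀, ← pow_mul, mul_comm, pow_mul, hue, one_pow]
  have hz₀1 : c₀ ^ (e / s) ≠ 1 := by
    intro h
    rw [hc₀, ← pow_mul] at h
    have h1 : orderOf (u₁ : G) ∣ m * (e / s) := orderOf_dvd_of_pow_eq_one h
    rw [ho] at h1
    have h2 : s * (e / s) ∣ m * (e / s) := by rw [hesd]; exact h1
    have h3 : s ∣ m := Nat.dvd_of_mul_dvd_mul_right hes0 h2
    exact Nat.not_dvd_ordCompl hs he0 h3
  by_cases hreg : c₀ ^ (e / s) ∈ sigmaHat M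
  swap
  · exact ⟨c₀, hc₀U, hc₀a, hz₀1, hreg⟩
  -- the bad case: conjugate by an element of `N_G(T) - M`
  have hreg' := hreg
  obtain ⟨hz₀M, y, hyσ, hy1, hz₀y⟩ := hreg
  have hsU : s ∣ Nat.card U := hse.trans Group.exponent_dvd_nat_card
  have hsσ : s ∉ sigma M :=
    Cfsg.Agent.Lead.BGThmC.not_mem_sigma_of_dvd_card M K U hKU hhall hs hsU
  have hsκ : s ∉ kappa M :=
    Cfsg.Agent.Lead.BGThmC2.not_mem_kappa_of_dvd_card M K U hKU hs hsU
  have hsM : s ∣ Nat.card M := hsU.trans (Subgroup.card_dvd_of_le hUM)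
  have hz₀s : (c₀ ^ (e / s)) ^ s = 1 := by
    rw [← pow_mul, mul_comm, hesd]; exact hc₀e
  have hz₀o : orderOf (c₀ ^ (e / s)) = s := orderOf_eq_prime hz₀s hz₀1
  have hr2 : PRankLE s 2 ↥M := by
    by_contra h
    exact hsσ (hασ ⟨hs, h⟩)
  have hr1 : ¬ PRankLE s 1 ↥M := by
    intro h
    apply hsκ
    have h13 : s ∈ tau1 M ∪ tau3 M := by
      by_cases hd : s ∣ Nat.card ↥⁅M, M⁆
      · exact Or.inr ⟨hs, hsσ, hd, h⟩
      · exact Or.inl ⟨hs, hsσ, hsM, hd, h⟩
    exact Cfsg.Agent.Helper19.BG16.mem_kappa_of_commute hG.1 h13 hz₀M hz₀o hyσ hy1 hz₀y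
  have hsτ : s ∈ tau2 M := ⟨hs, hsσ, hr2, hr1⟩
  -- a Sylow `s`-subgroup `T` of `U` containing `c₀`
  have hQ : IsPGroup s (zpowers c₀) := by
    obtain ⟨j, -, hj⟩ := (Nat.dvd_prime_pow hs).mp (orderOf_dvd_of_pow_eq_one hc₀a)
    apply IsPGroup.of_card (n := j)
    rw [Nat.card_zpowers, hj]
  have hQU : zpowers c₀ ≤ U := by rw [zpowers_le]; exact hc₀U
  obtain ⟨T, hQT, hT⟩ := exists_isSylowIn_ge hQ hQU
  have hTM : IsSylowIn s T M := by
    apply isSylowIn_of_not_dvd_relIndex hT.isPGroup (hT.le.trans hUM)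
    rw [← Subgroup.relIndex_mul_relIndex T U M hT.le hUM]
    intro hdvd
    rcases (Nat.Prime.dvd_mul hs).mp hdvd with h | h
    · exact hT.not_dvd_relIndex h
    · have hidx : U.relIndex M = Nat.card ↥(K ⊔ sigmaCore M) := by
        have h1 := Cfsg.Agent.Helper20.BG12.card_mul_of_isComplIn hKU.compl
        have h2 : (⊥ : Subgroup G).relIndex U * U.relIndex M = (⊥ : Subgroup G).relIndex M :=
          Subgroup.relIndex_mul_relIndex ⊥ U M bot_le hUM
        rw [Subgroup.relIndex_bot_left, Subgroup.relIndex_bot_left, ← h1] at h2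
        exact Nat.eq_of_mul_eq_mul_left Nat.card_pos h2
      rw [hidx] at h
      rcases Cfsg.Agent.Lead.BGThmC2.prime_dvd_card_sup M K U hKU hs h with h' | h'
      · exact hsκ h'
      · exact hsσ h'
  -- an elementary abelian subgroup of order `s ^ 2` of `T`
  obtain ⟨A₀, hA₀M, hA₀e, hA₀c⟩ := Cfsg.Agent.Helper23.BG10.exists_elemAb_sq hr2 hr1
  have hA₀p : IsPGroup s ↥A₀ := Cfsg.Agent.Helper14.BGUniq.isPGroup_of_isElementaryAbelian hA₀e
  obtain ⟨T₀, hA₀T₀, hT₀⟩ := exists_isSylowIn_ge hA₀p hA₀M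
  obtain ⟨k, hk, hkT⟩ := hT₀.exists_conj hTM
  have hAT : A₀.map (MulAut.conj k).toMonoidHom ≤ T := by
    rw [← hkT]; exact Subgroup.map_mono hA₀T₀
  have hAe := Cfsg.Agent.Helper20.BG12.isElementaryAbelian_map_conj hA₀e k
  have hAc : Nat.card (A₀.map (MulAut.conj k).toMonoidHom) = s ^ 2 := by
    rw [Cfsg.Agent.Helper15.card_map_conj]; exact hA₀c
  have h17 := ((h1417 M hM s hsτ _ ⟨hAT.trans hTM.le, hAe, hAc⟩).2.1 hTM.toSylow).2
  rw [hTM.map_toSylow] at h17
  obtain ⟨g, hgN, hgM⟩ := SetLike.not_le_iff_exists.mp (h17 hAT).2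
  have hgc : g * c₀ * g⁻¹ ∈ T :=
    ((mem_normalizer_iff.mp hgN) c₀).mp (hQT (mem_zpowers c₀))
  refine ⟨g * c₀ * g⁻¹, hT.le hgc, ?_, ?_, ?_⟩
  · rw [conj_pow, hc₀a]; group
  · rw [conj_pow]
    intro h
    apply hz₀1
    have : c₀ ^ (e / s) = g⁻¹ * (g * c₀ ^ (e / s) * g⁻¹) * g := by group
    rw [this, h]; group
  · rw [conj_pow]
    apply not_sigmaHat_conj hG hU h1350 h1417 h1418 hM hKU (U.pow_mem hc₀U _) hz₀1 _ hgM hreg'
    rw [← conj_pow]
    exact U.pow_mem (hT.le hgc) _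

end Cfsg.Agent.Helper16.BG1360
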