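import Mathlib
import Cfsg.Prelude.Def_OddOrder
import Cfsg.Prelude.Def_OddOrderLocal
import Cfsg.Agent.Lib.Helper16.BG1360B

/-!
# S1360 (helper16), part C: assembly

`main60`: the statement of S1360, from (for the fixed `G`) the Uniqueness Theorem (S1403) and the
statements S1350, S1417, S1418, S1421, S1430.
-/

set_option autoImplicit false

namespace Cfsg.Agent.Helper16.BG1360

open Cfsg Subgroup
open Cfsg.Agent.Helper20.BG12 (H1350 H1417 H1418)
open Cfsg.Agent.Helper19.BG16 (H1421)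
open Cfsg.Agent.Helper16.BG147 (St1430)
open scoped IsMulCommutative

universe u

variable {G : Type u} [Group G] [Finite G]

/-- the case `K = 1` -/
theorem main60_bot (hG : IsMinSimpleOddOrder G) (h1421 : H1421 G)
    {M K U : Subgroup G} (hM : IsCoatom M) (hKU : IsSigmaDecomposition M K U) (hK1 : K = ⊥) :
    ∃ U₀ : Subgroup G, U₀ ≤ U ∧ Monoid.exponent U₀ = Monoid.exponent U ∧
      ∀ u ∈ U₀, u ∈ sigmaHat M → u = 1 := by
  have hcompl : IsComplIn U (sigmaCore M) M := by
    have := hKU.compl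
    rwa [hK1, bot_sup_eq] at this
  have hκ : ∀ p : ℕ, p ∉ kappa M := by
    intro p hp
    have h1 := hKU.hall.2.2 p hp.1 hp
    rw [hK1, Subgroup.relIndex_bot_left] at h1
    exact h1 hp.2.1
  have hyp : ∀ e ∈ U, e ≠ 1 →
      (∀ p : ℕ, p.Prime → p ∣ orderOf e → p ∈ tau1 M ∪ tau3 M) →
      sigmaCore M ⊓ centralizer ({e} : Set G) = ⊥ := by
    intro e heU he1 hτ
    by_contra hne
    obtain ⟨⟨y, hy⟩, hy1⟩ := Subgroup.ne_bot_iff_exists_ne_one.mp hne
    have hy1' : y ≠ 1 := fun h0 => hy1 (Subtype.ext h0)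
    have hyσ : y ∈ sigmaCore M := hy.1
    have hey : e * y = y * e := (mem_centralizer_iff.mp hy.2) e (Set.mem_singleton e)
    have hn1 : orderOf e ≠ 1 := fun h => he1 (orderOf_eq_one_iff.mp h)
    have hn0 : orderOf e ≠ 0 := (orderOf_pos e).ne'
    have hpp := Nat.minFac_prime hn1
    have hpn := Nat.minFac_dvd (orderOf e)
    have hxo : orderOf (e ^ (orderOf e / (orderOf e).minFac)) = (orderOf e).minFac :=
      orderOf_pow_orderOf_div hn0 hpn
    have hxy : e ^ (orderOf e / (orderOf e).minFac) * y = y * e ^ (orderOf e / (orderOf e).minFac) := by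
      have : Commute e y := hey
      exact this.pow_left _
    exact hκ _ (Cfsg.Agent.Helper19.BG16.mem_kappa_of_commute hG.1 (hτ _ hpp hpn)
      (M.pow_mem (hcompl.1 heU) _) hxo hyσ hy1' hxy)
  obtain ⟨-, E₀, hE₀U, hexp, hreg⟩ := h1421 M hM U hcompl hyp
  refine ⟨E₀, hE₀U, hexp, ?_⟩
  intro u hu hσ
  by_contra hu1
  obtain ⟨-, y, hyσ, hy1, huy⟩ := hσ
  have hy' : y ∈ sigmaCore M ⊓ centralizer ({u} : Set G) := by
    refine Subgroup.mem_inf.mpr ⟨hyσ, ?_⟩
    rw [mem_centralizer_iff]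
    rintro _ rfl
    exact huy
  rw [hreg u hu hu1, mem_bot] at hy'
  exact hy1 hy'

/-- the case `U` abelian -/
theorem main60_ab (hG : IsMinSimpleOddOrder G) (hU : Cfsg.Agent.Helper23.BG10.UniqThm G)
    (h1350 : H1350 G) (h1417 : H1417 G) (h1418 : H1418 G)
    {M K U : Subgroup G} (hM : IsCoatom M) (hKU : IsSigmaDecomposition M K U)
    [hUab : IsMulCommutative U] :
    ∃ U₀ : Subgroup G, U₀ ≤ U ∧ Monoid.exponent U₀ = Monoid.exponent U ∧
      ∀ u ∈ U₀, u ∈ sigmaHat M → u = 1 := by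
  have hUM : U ≤ M := hKU.compl.1
  obtain ⟨u, hu, hreg⟩ := exists_cyclic_regular (H := ↥U)
    (fun v : ↥U => (v : G) ∉ sigmaHat M)
    (by
      intro z v hzp hz hv hv1 hvσ
      apply hz
      obtain ⟨-, y, hyσ, hy1, hvy⟩ := hvσ
      refine ⟨hUM z.2, y, hyσ, hy1, ?_⟩
      -- `z` is a power of `v`
      have hle : zpowers v ≤ zpowers z := by rw [zpowers_le]; exact hv
      have hcard : Nat.card (zpowers z) ≤ Nat.card (zpowers v) := by
        rw [Nat.card_zpowers, Nat.card_zpowers]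
        have h1 : orderOf v ∣ orderOf z := by
          rw [← Nat.card_zpowers, ← Nat.card_zpowers]
          exact Subgroup.card_dvd_of_le hle
        rcases (Nat.dvd_prime hzp).mp h1 with h | h
        · exact absurd (orderOf_eq_one_iff.mp h) hv1
        · exact h.ge
      have heq : zpowers v = zpowers z := Subgroup.eq_of_le_of_card_ge hle hcard
      have hzv : z ∈ zpowers v := heq ▸ mem_zpowers z
      obtain ⟨j, rfl⟩ := mem_zpowers_iff.mp hzv
      have : Commute (v : G) y := hvy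
      have h2 : (v : G) ^ j * y = y * (v : G) ^ j := this.zpow_left j
      simpa using h2)
    (by
      intro s hs hse
      obtain ⟨c, hcU, h1, h2, h3⟩ := exists_regular_top hG hU h1350 h1417 h1418 hM hKU hs hse
      refine ⟨⟨c, hcU⟩, ?_, ?_, ?_⟩
      · apply Subtype.ext
        simpa using h1
      · intro h
        apply h2
        have := congrArg Subtype.val h
        simpa using this
      · simpa using h3)
  refine ⟨zpowers (u : G), ?_, ?_, ?_⟩
  · rw [zpowers_le]; exact u.2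
  · rw [IsCyclic.exponent_eq_card, Nat.card_zpowers, Subgroup.orderOf_coe, hu]
  · intro w hw hwσ
    by_contra hw1
    obtain ⟨hwM, y, hyσ, hy1, hwy⟩ := hwσ
    have hn1 : orderOf w ≠ 1 := fun h => hw1 (orderOf_eq_one_iff.mp h)
    have hn0 : orderOf w ≠ 0 := (orderOf_pos w).ne'
    have hpp := Nat.minFac_prime hn1
    have hpn := Nat.minFac_dvd (orderOf w)
    have hxo : orderOf (w ^ (orderOf w / (orderOf w).minFac)) = (orderOf w).minFac :=
      orderOf_pow_orderOf_div hn0 hpn
    obtain ⟨j, hj⟩ := mem_zpowers_iff.mp hw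
    set t := orderOf w / (orderOf w).minFac with ht
    have hv : (u ^ j) ^ t ∈ zpowers u := Subgroup.pow_mem _ (Subgroup.zpow_mem _ (mem_zpowers u) j) t
    have hvc : (((u ^ j) ^ t : ↥U) : G) = w ^ t := by
      rw [← hj]; simp
    have hvo : orderOf ((u ^ j) ^ t : ↥U) = (orderOf w).minFac := by
      rw [← Subgroup.orderOf_coe, hvc]; exact hxo
    have h1 := hreg _ hv (by rw [hvo]; exact hpp)
    apply h1
    rw [hvc]
    refine ⟨M.pow_mem hwM _, y, hyσ, hy1, ?_⟩
    have : Commute w y := hwy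
    exact this.pow_left _

theorem main60 (hG : IsMinSimpleOddOrder G) (hU : Cfsg.Agent.Helper23.BG10.UniqThm G)
    (h1350 : H1350 G) (h1417 : H1417 G) (h1418 : H1418 G) (h1421 : H1421 G)
    (h1430 : St1430 G)
    {M K U : Subgroup G} (hM : IsCoatom M) (hKU : IsSigmaDecomposition M K U) :
    ∃ U₀ : Subgroup G, U₀ ≤ U ∧ Monoid.exponent U₀ = Monoid.exponent U ∧
      ∀ u ∈ U₀, u ∈ sigmaHat M → u = 1 := by
  by_cases hK1 : K = ⊥
  · exact main60_bot hG h1421 hM hKU hK1
  · obtain ⟨-, ⟨U', hU'c, hU'h, -, -⟩, -⟩ := h1430 M hM K hKU.hall hK1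
    have hUab : IsMulCommutative U :=
      Cfsg.Agent.Lead.BGThmC2.U_abelian hG M K U hM hKU (h1350 M hM).1 U' hU'c hU'h
    exact main60_ab hG hU h1350 h1417 h1418 hM hKU

end Cfsg.Agent.Helper16.BG1360
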