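import Mathlib
import Cfsg.Prelude.Def_OddOrder
import Cfsg.Prelude.Def_OddOrderLocal
import Cfsg.Agent.Lib.Helper20.BG126
import Cfsg.Agent.Lib.Helper1.PiHall
import Cfsg.Agent.Lib.Helper8.BG149A
import Cfsg.Agent.Lib.Helper16.BG147A
import Cfsg.Agent.Lib.Helper22.BG13A

/-!
# BG 14.9-type statement S1435, steps (7)+(8) (helper16), part 1

The situation: `H` a maximal subgroup containing `K` of prime order `p ∉ σ(H)`, `K ≤ M*_σ`,
`N_G(K) ≤ M*`, `K` acts without fixed points on `H_σ`, `σ(H) ∩ σ(M*) = ∅`.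
Goal of the series: `H ∩ M*` is a complement of `H_σ` in `H`.
Here: `H_σ ∩ M* = 1`, reduction to finding a complement inside `M*`, existence of a complement
containing `K`, and the Frobenius trick in this context.
-/

set_option autoImplicit false
set_option linter.unusedSectionVars false

namespace Cfsg.Agent.Helper16.BG149

open Cfsg Subgroup
open Cfsg.Agent.Helper20.BG12 (H1350 H1415 H1417 H1418)
open Cfsg.Agent.Helper10 (IsPiNum)

universe u

variable {G : Type u} [Group G] [Finite G]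

/-- the standing hypotheses of steps (7), (8) -/
structure P7 (H K Ms : Subgroup G) : Prop where
  hG : IsMinSimpleOddOrder G
  hUT : Cfsg.Agent.Helper23.BG10.UniqThm G
  h50 : H1350 G
  h15 : H1415 G
  h17 : H1417 G
  h18 : H1418 G
  hH : IsCoatom H
  hMs : IsCoatom Ms
  hKH : K ≤ H
  hKp : (Nat.card K).Prime
  hKσ : K ≤ sigmaCore Ms
  hNK : normalizer (K : Set G) ≤ Ms
  hpσ : Nat.card K ∉ sigma H
  hfree : ∀ k ∈ K, k ≠ 1 → sigmaCore H ⊓ centralizer ({k} : Set G) = ⊥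
  hσσ : ∀ q, q ∈ sigma H → q ∉ sigma Ms

namespace P7

variable {H K Ms : Subgroup G} (c : P7 H K Ms)
include c

theorem hhall : IsPiHallOf (sigma H) (sigmaCore H) H := (c.h50 H c.hH).1

theorem hnσ : H ≤ normalizer (sigmaCore H : Set G) :=
  Cfsg.Agent.Helper20.BG12.le_normalizer_sigmaCore' H

theorem hsolv : Group.IsSolvable ↥H := c.hG.2.2.2 H c.hH.1

theorem K_le_Ms : K ≤ Ms := c.hKσ.trans (Cfsg.Agent.Helper22.BG13.sigmaCore_le Ms)

theorem K_ne_bot : K ≠ ⊥ := by
  intro h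
  have := c.hKp
  rw [h, Subgroup.card_bot] at this
  exact Nat.not_prime_one this

theorem exists_ne_one : ∃ k ∈ K, k ≠ 1 := by
  obtain ⟨⟨k, hk⟩, hk1⟩ := Subgroup.ne_bot_iff_exists_ne_one.mp c.K_ne_bot
  exact ⟨k, hk, fun h => hk1 (Subtype.ext h)⟩

/-- a non-identity element of `K` generates `K` -/
theorem le_zpowers {k : G} (hk : k ∈ K) (hk1 : k ≠ 1) : K ≤ zpowers k := by
  have hle : zpowers k ≤ K := by rw [zpowers_le]; exact hk
  have hcard : Nat.card (zpowers k) ∣ Nat.card K := Subgroup.card_dvd_of_le hle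
  rcases (Nat.dvd_prime c.hKp).mp hcard with h | h
  · exfalso
    apply hk1
    have := Subgroup.card_eq_one.mp h
    rw [zpowers_eq_bot] at this
    exact this
  · exact (Subgroup.eq_of_le_of_card_ge hle h.ge).ge

/-- what commutes with a non-identity element of `K` centralizes `K` -/
theorem mem_centralizer_of_commute {k u : G} (hk : k ∈ K) (hk1 : k ≠ 1) (h : k * u = u * k) :
    u ∈ centralizer (K : Set G) := by
  rw [mem_centralizer_iff]
  intro w hw
  obtain ⟨j, rfl⟩ := mem_zpowers_iff.mp (c.le_zpowers hk hk1 hw)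
  have : Commute k u := h
  exact this.zpow_left j

theorem sigmaCore_inf_centralizer : sigmaCore H ⊓ centralizer (K : Set G) = ⊥ := by
  obtain ⟨k, hk, hk1⟩ := c.exists_ne_one
  rw [eq_bot_iff, ← c.hfree k hk hk1]
  refine inf_le_inf le_rfl (centralizer_le ?_)
  intro x hx
  rw [Set.mem_singleton_iff] at hx
  rw [hx]; exact hk

/-- `p ∈ σ(M*)` -/
theorem p_mem_sigma_Ms : Nat.card K ∈ sigma Ms := by
  have h1 : Nat.card K ∣ Nat.card ↥(sigmaCore Ms) := Subgroup.card_dvd_of_le c.hKσ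
  exact Cfsg.Agent.Helper22.BG13.isPiNum_card_sigmaCore Ms _ c.hKp h1

/-- step (7), first part: `H_σ ∩ M* = 1` -/
theorem sigmaCore_inf_Ms : sigmaCore H ⊓ Ms = ⊥ := by
  have hdisj : sigmaCore H ⊓ sigmaCore Ms = ⊥ := by
    apply (Subgroup.disjoint_of_coprime_natCard _).eq_bot
    exact Cfsg.Agent.Helper16.BG147.coprime_of_isPiNum c.hσσ
      (Cfsg.Agent.Helper22.BG13.isPiNum_card_sigmaCore H)
      (Cfsg.Agent.Helper22.BG13.isPiNum_card_sigmaCore Ms)
  obtain ⟨k, hk, hk1⟩ := c.exists_ne_one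
  rw [eq_bot_iff]
  intro d hd
  obtain ⟨hdσ, hdM⟩ := Subgroup.mem_inf.mp hd
  have hkH : k ∈ H := c.hKH hk
  have hnMs := Cfsg.Agent.Helper20.BG12.le_normalizer_sigmaCore' Ms
  have h1 : d * k * d⁻¹ * k⁻¹ ∈ sigmaCore H := by
    have h2 : k * d⁻¹ * k⁻¹ ∈ sigmaCore H :=
      ((mem_normalizer_iff.mp (c.hnσ hkH)) d⁻¹).mp (inv_mem hdσ)
    have : d * k * d⁻¹ * k⁻¹ = d * (k * d⁻¹ * k⁻¹) := by group
    rw [this]
    exact mul_mem hdσ h2
  have h2 : d * k * d⁻¹ * k⁻¹ ∈ sigmaCore Ms := by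
    have h3 : d * k * d⁻¹ ∈ sigmaCore Ms :=
      ((mem_normalizer_iff.mp (hnMs hdM)) k).mp (c.hKσ hk)
    exact mul_mem h3 (inv_mem (c.hKσ hk))
  have h3 : d * k * d⁻¹ * k⁻¹ ∈ sigmaCore H ⊓ sigmaCore Ms := Subgroup.mem_inf.mpr ⟨h1, h2⟩
  rw [hdisj, mem_bot] at h3
  have h4 : d * k = k * d := by
    calc d * k = (d * k * d⁻¹ * k⁻¹) * (k * d) := by group
      _ = k * d := by rw [h3, one_mul]
  have h5 : d ∈ sigmaCore H ⊓ centralizer ({k} : Set G) := by
    refine Subgroup.mem_inf.mpr ⟨hdσ, ?_⟩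
    rw [mem_centralizer_iff]
    intro w hw
    rw [Set.mem_singleton_iff] at hw
    rw [hw]; exact h4.symm
  rw [c.hfree k hk hk1] at h5
  exact h5

/-- step (7), reduction: a complement of `H_σ` inside `M*` gives the result -/
theorem isComplIn_of_le {E : Subgroup G} (hE : IsComplIn E (sigmaCore H) H) (hEM : E ≤ Ms) :
    IsComplIn (H ⊓ Ms) (sigmaCore H) H := by
  refine ⟨inf_le_left, hE.2.1, ?_, ?_⟩
  · rw [inf_comm, ← inf_assoc, inf_eq_left.mpr hE.2.1, c.sigmaCore_inf_Ms]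
  · intro h hh
    obtain ⟨a, ha, b, hb, rfl⟩ := hE.2.2.2 h hh
    exact ⟨a, Subgroup.mem_inf.mpr ⟨hE.1 ha, hEM ha⟩, b, hb, rfl⟩

/-- a complement of `H_σ` in `H` containing `K` -/
theorem exists_compl : ∃ E : Subgroup G, IsComplIn E (sigmaCore H) H ∧ K ≤ E := by
  have := c.hsolv
  obtain ⟨E, hE, hKE, -, -⟩ := Cfsg.Agent.Helper1.PiHall.exists_isComplIn_ge c.hhall c.hnσ c.hKH
    (fun q hq hd => by
      rcases (Nat.dvd_prime c.hKp).mp hd with h | h
      · exact absurd h hq.one_lt.ne'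
      · rw [h]; exact c.hpσ)
  exact ⟨E, hE, hKE⟩

/-- the Frobenius trick: a nilpotent `σ(H)'`-subgroup `V` of `H`, normalized by `K`, on which `K`
acts without fixed points, centralizes `H_σ` -/
theorem trick {V : Subgroup G} (hVH : V ≤ H) (hKV : K ≤ normalizer (V : Set G))
    (hVσ : ∀ q : ℕ, q.Prime → q ∣ Nat.card V → q ∉ sigma H) (hnil : Group.IsNilpotent ↥V)
    (hfreeV : V ⊓ centralizer (K : Set G) = ⊥) : sigmaCore H ≤ centralizer (V : Set G) := by
  have hsolvσ : Group.IsSolvable ↥(sigmaCore H) := by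
    have := c.hsolv
    exact Group.isSolvable_of_isSolvable_injective
      (Subgroup.inclusion_injective (Cfsg.Agent.Helper22.BG13.sigmaCore_le H))
  apply Cfsg.Agent.Helper8.BG149.frob_centralizes V K (sigmaCore H)
  · intro e he u hu
    exact ((mem_normalizer_iff.mp (hKV he)) u).mp hu
  · intro e he he1 u hu heu
    have h1 : u ∈ V ⊓ centralizer (K : Set G) :=
      Subgroup.mem_inf.mpr ⟨hu, c.mem_centralizer_of_commute he he1 heu⟩
    rw [hfreeV, mem_bot] at h1
    exact h1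
  · exact hnil
  · exact hsolvσ
  · exact sup_le (hVH.trans c.hnσ) (c.hKH.trans c.hnσ)
  · have h1 : Nat.card ↥(V ⊔ K) ∣ Nat.card V * Nat.card K :=
      Cfsg.Agent.Helper7.card_sup_dvd_mul_of_le_normalizer hKV
    apply Nat.Coprime.coprime_dvd_right h1
    apply Nat.coprime_of_dvd
    intro q hq hq1 hq2
    have hqσ : q ∈ sigma H := Cfsg.Agent.Helper22.BG13.isPiNum_card_sigmaCore H q hq hq1
    rcases (Nat.Prime.dvd_mul hq).mp hq2 with h | h
    · exact hVσ q hq h hqσ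
    · rcases (Nat.dvd_prime c.hKp).mp h with h' | h'
      · exact hq.one_lt.ne' h'
      · rw [h'] at hqσ; exact c.hpσ hqσ
  · exact c.sigmaCore_inf_centralizer

end P7

end Cfsg.Agent.Helper16.BG149
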