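import Mathlib
import Cfsg.Prelude.Def_OddOrder
import Cfsg.Prelude.Def_OddOrderLocal
import Cfsg.Agent.Lib.Helper16.BG149P1
import Cfsg.Agent.Lib.Helper23.CyclicAutFix
import Cfsg.Agent.Lib.Helper14.BGUniqL

/-!
# S1435, steps (7)+(8) (helper16), part 2: the cases `p ∈ τ₃(H)` and `p ∈ τ₂(H)`
-/

set_option autoImplicit false
set_option linter.unusedSectionVars false

namespace Cfsg.Agent.Helper16.BG149

open Cfsg Subgroup
open Cfsg.Agent.Helper20.BG12 (H1350 H1415 H1417 H1418)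

universe u

variable {G : Type u} [Group G] [Finite G]

namespace P7

variable {H K Ms : Subgroup G} (c : P7 H K Ms)
include c

/-- case (7a): `p ∈ τ₃(H)` -/
theorem le_of_tau3 (hp : Nat.card K ∈ tau3 H) {E : Subgroup G}
    (hE : IsComplIn E (sigmaCore H) H) (hKE : K ≤ E) : E ≤ Ms := by
  have hEsolv : Group.IsSolvable ↥E := by
    have := c.hsolv
    exact Group.isSolvable_of_isSolvable_injective (Subgroup.inclusion_injective hE.1)
  obtain ⟨E₃, hE₃, hKE₃⟩ := Cfsg.Agent.Helper1.PiHall.exists_isPiHallOf_ge (tau3 H) E hKE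
    (fun q hq hd => by
      rcases (Nat.dvd_prime c.hKp).mp hd with h | h
      · exact absurd h hq.one_lt.ne'
      · rw [h]; exact hp)
  obtain ⟨hcyc, -, hEN⟩ := (c.h15 H c.hH E hE).2.2 E₃ hE₃
  refine le_trans ?_ c.hNK
  intro e he
  have heN := hEN he
  apply Cfsg.Agent.Helper1.PiHall.mem_normalizer_of_map_conj_le
  apply le_of_eq
  apply Cfsg.Agent.Helper23.subgroup_eq_of_card_eq_of_le_cyclic E₃ hcyc _ hKE₃
    (Cfsg.Agent.Helper1.PiHall.card_map_conj K e)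
  rintro _ ⟨k, hk, rfl⟩
  exact ((mem_normalizer_iff.mp heN) k).mp (hKE₃ hk)

/-- case (7b): `p ∈ τ₂(H)` -/
theorem le_of_tau2
    (h20c : ∀ (p : ℕ) (P : Subgroup G), p ∈ sigma Ms → IsPGroup p P → P ≤ Ms → ¬ IsCyclic P →
      normalizer (P : Set G) ≤ Ms)
    (hp : Nat.card K ∈ tau2 H) {E : Subgroup G}
    (hE : IsComplIn E (sigmaCore H) H) (hKE : K ≤ E) : E ≤ Ms := by
  have : Fact (Nat.card K).Prime := ⟨c.hKp⟩
  obtain ⟨A, hAE, hAe, hAc⟩ :=
    Cfsg.Agent.Helper20.BG12.exists_elemAb_sq_le_compl c.hhall hE hp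
  obtain ⟨⟨hEN, hXA⟩, -, -⟩ := c.h18 H c.hH E hE (Nat.card K) hp A ⟨hAE, hAe, hAc⟩
  have hKA : K ≤ A := hXA K hKE rfl
  have hAK : A ≤ centralizer (K : Set G) := by
    intro a ha
    rw [mem_centralizer_iff]
    intro k hk
    have := hAe.1
    have h2 := mul_comm' (⟨k, hKA hk⟩ : A) ⟨a, ha⟩
    exact congrArg Subtype.val h2
  have hAMs : A ≤ Ms := (hAK.trans (centralizer_le_normalizer _)).trans c.hNK
  have hAp : IsPGroup (Nat.card K) ↥A :=
    Cfsg.Agent.Helper14.BGUniq.isPGroup_of_isElementaryAbelian hAe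
  have hnc : ¬ IsCyclic ↥A := by
    apply Cfsg.Agent.Helper14.BGUniq.not_isCyclic_of_isElementaryAbelian hAe
    rw [hAc]
    have := c.hKp.one_lt
    nlinarith
  exact hEN.trans (h20c (Nat.card K) A c.p_mem_sigma_Ms hAp hAMs hnc)

end P7

end Cfsg.Agent.Helper16.BG149
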