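import Mathlib
import Cfsg.Prelude.Def_OddOrder
import Cfsg.Prelude.Def_OddOrderLocal
import Cfsg.Agent.Lib.Helper16.BG149P2
import Cfsg.Agent.Lib.Helper1.Coprime
import Cfsg.Agent.Lib.Helper1.CoprimeAbelian

/-!
# S1435, steps (7)+(8) (helper16), part 3: the case `p ∈ τ₁(H)`, main line

For a complement `E ⊇ K` of `H_σ` with `E'` abelian: `E = C_E(K) [E', K]`, and `[E', K]`
centralizes `H_σ` by the Frobenius trick.  So either `E ≤ N_G(K) ≤ M*` or some element of prime
order of `E` centralizes `H_σ`.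
-/

set_option autoImplicit false
set_option linter.unusedSectionVars false

namespace Cfsg.Agent.Helper16.BG149

open Cfsg Subgroup
open Cfsg.Agent.Helper20.BG12 (H1350 H1415 H1417 H1418)

universe u

variable {G : Type u} [Group G] [Finite G]

namespace P7

variable {H K Ms : Subgroup G} (c : P7 H K Ms)
include c

/-- primes of a complement are outside `σ(H)` -/
theorem compl_not_sigma {E V : Subgroup G} (hE : IsComplIn E (sigmaCore H) H) (hVE : V ≤ E) :
    ∀ q : ℕ, q.Prime → q ∣ Nat.card V → q ∉ sigma H := fun _ hq hd =>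
  Cfsg.Agent.Helper20.BG12.not_mem_sigma_of_dvd_card_compl c.hhall hE hq
    (hd.trans (Subgroup.card_dvd_of_le hVE))

/-- case (7c), main line -/
theorem tau1_dichotomy (hp : Nat.card K ∈ tau1 H) {E : Subgroup G}
    (hE : IsComplIn E (sigmaCore H) H) (hKE : K ≤ E) (hDab : IsMulCommutative ↥⁅E, E⁆) :
    E ≤ Ms ∨ ∃ x ∈ E, (orderOf x).Prime ∧ ∀ y ∈ sigmaCore H, x * y = y * x := by
  have hDE : ⁅E, E⁆ ≤ E := Cfsg.Agent.Helper1.commutator_le_of_le_normalizer le_normalizer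
  have hKD : K ≤ normalizer ((⁅E, E⁆ : Subgroup G) : Set G) :=
    hKE.trans (Cfsg.Agent.Helper1.le_normalizer_commutator_right E E)
  have hcop : (Nat.card K).Coprime (Nat.card ↥⁅E, E⁆) := by
    rw [Nat.Prime.coprime_iff_not_dvd c.hKp]
    intro h
    apply hp.2.2.2.1
    exact h.trans (Subgroup.card_dvd_of_le (Subgroup.commutator_mono hE.1 hE.1))
  have hKV : K ≤ normalizer ((⁅⁅E, E⁆, K⁆ : Subgroup G) : Set G) :=
    Cfsg.Agent.Helper1.le_normalizer_commutator_right _ K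
  have hVD : ⁅⁅E, E⁆, K⁆ ≤ ⁅E, E⁆ := Cfsg.Agent.Helper1.commutator_le_of_le_normalizer hKD
  have hVfree : ⁅⁅E, E⁆, K⁆ ⊓ centralizer (K : Set G) = ⊥ :=
    Cfsg.Agent.Helper1.commutator_inf_centralizer_eq_bot K ⁅E, E⁆ hKD hcop
  by_cases hV : ⁅⁅E, E⁆, K⁆ = ⊥
  · left
    rw [Subgroup.commutator_eq_bot_iff_le_centralizer] at hV
    refine le_trans ?_ c.hNK
    refine le_trans ?_ (centralizer_le_normalizer _)
    intro e he
    have hx : ∀ a ∈ K, e⁻¹ * a * e * a⁻¹ ∈ ⁅E, E⁆ := by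
      intro a ha
      have h1 := Subgroup.commutator_mem_commutator (inv_mem he) (hKE ha)
      rw [commutatorElement_def, inv_inv] at h1
      exact h1
    have hsolvD : Group.IsSolvable ↥⁅E, E⁆ := by
      have := c.hsolv
      exact Group.isSolvable_of_isSolvable_injective
        (Subgroup.inclusion_injective (hDE.trans hE.1))
    obtain ⟨z, hz, hzD⟩ := Cfsg.Agent.Helper1.exists_centralizer_mem_coset ⁅E, E⁆ K hKD hcop
      (Or.inr hsolvD) e hx
    have h2 : e = z * (e⁻¹ * z)⁻¹ := by group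
    rw [h2]
    exact mul_mem hz (inv_mem (hV hzD))
  · right
    have hVE : ⁅⁅E, E⁆, K⁆ ≤ E := hVD.trans hDE
    have hnil : Group.IsNilpotent ↥⁅⁅E, E⁆, K⁆ := by
      have hcomm : IsMulCommutative ↥⁅⁅E, E⁆, K⁆ := by
        refine ⟨⟨fun a b => ?_⟩⟩
        apply Subtype.ext
        have := hDab.is_comm.comm ⟨a.1, hVD a.2⟩ ⟨b.1, hVD b.2⟩
        exact congrArg (fun z : ↥⁅E, E⁆ => (z : G)) this
      let _ : CommGroup ↥⁅⁅E, E⁆, K⁆ :=
        { (inferInstance : Group ↥⁅⁅E, E⁆, K⁆) with mul_comm := hcomm.is_comm.comm }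
      exact CommGroup.isNilpotent
    have hcent := c.trick (hVE.trans hE.1) hKV (c.compl_not_sigma hE hVE) hnil hVfree
    have hne : Nat.card ↥⁅⁅E, E⁆, K⁆ ≠ 1 := fun h => hV (Subgroup.card_eq_one.mp h)
    obtain ⟨q, hq, hqd⟩ := Nat.exists_prime_and_dvd hne
    have : Fact q.Prime := ⟨hq⟩
    obtain ⟨x, hx⟩ := exists_prime_orderOf_dvd_card' q hqd
    refine ⟨x.1, hVE x.2, ?_, ?_⟩
    · rw [Subgroup.orderOf_coe, hx]; exact hq
    · intro y hy
      have := hcent hy
      rw [mem_centralizer_iff] at this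
      exact this x.1 x.2

end P7

end Cfsg.Agent.Helper16.BG149
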