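import Mathlib
import Cfsg.Prelude.Def_OddOrder
import Cfsg.Prelude.Def_OddOrderLocal
import Cfsg.Agent.Lib.Helper16.BG149P3
import Cfsg.Agent.Lib.Helper16.BG145B
import Cfsg.Agent.Lib.Helper16.BG147D
import Cfsg.Agent.Lib.Helper18.BG107A
import Cfsg.Agent.Lib.Helper14.BG1369C
import Cfsg.Agent.Lib.Helper14.BGUniqL
import Cfsg.Agent.Lib.Helper17.BG11X

/-!
# S1435, steps (7)+(8) (helper16), part 4: an element of prime order centralizing `H_σ`

Such an element `x` (of order `t ∉ σ(H)`) has `t ∈ τ₂(H)` and `H` is the only maximal subgroup over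
`C_G(x)` (S1432); `x ∈ L_σ` for some maximal `L`, and `L ∩ H` is a complement of `H_σ` in `H`
(S1375); after conjugating inside `H` we may assume `K ≤ L`.
-/

set_option autoImplicit false
set_option linter.unusedSectionVars false

namespace Cfsg.Agent.Helper16.BG149

open Cfsg Subgroup
open Cfsg.Agent.Helper20.BG12 (H1350 H1415 H1417 H1418)
open Cfsg.Agent.Helper16.BG145 (St1375)
open Cfsg.Agent.Helper16.BG147 (St1432)
open Cfsg.Agent.Helper15 (mem_map_conj_iff)

universe u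

variable {G : Type u} [Group G] [Finite G]

/-- (A) an element of prime order lies in `L_σ` for some maximal subgroup `L` -/
theorem exists_coatom_mem_sigmaCore (hG : IsMinSimpleOddOrder G) (h50 : H1350 G) {x : G}
    (hx : (orderOf x).Prime) : ∃ L : Subgroup G, IsCoatom L ∧ x ∈ sigmaCore L := by
  have : Fact (orderOf x).Prime := ⟨hx⟩
  have hxp : IsPGroup (orderOf x) ↥(zpowers x) :=
    IsPGroup.of_card (n := 1) (by rw [Nat.card_zpowers, pow_one])
  obtain ⟨P, hP⟩ := hxp.exists_le_sylow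
  have hxP : x ∈ (P : Subgroup G) := hP (mem_zpowers x)
  have hP1 : (P : Subgroup G) ≠ ⊥ := by
    intro h
    rw [h, mem_bot] at hxP
    rw [hxP, orderOf_one] at hx
    exact Nat.not_prime_one hx
  obtain ⟨L₀, hL₀, -, hσ⟩ := Cfsg.Agent.Helper18.BG107.exists_coatom_sigma hG P hP1
  obtain ⟨g, hg⟩ := Cfsg.Agent.Helper22.BG13.exists_conj_le_sigmaCore_of_isPGroup h50 hL₀ hσ hxp
  have h1 : g * x * g⁻¹ ∈ sigmaCore L₀ := hg ⟨x, mem_zpowers x, rfl⟩
  refine ⟨L₀.map (MulAut.conj g⁻¹).toMonoidHom,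
    Cfsg.Agent.Helper14.BGUniq.isCoatom_map_conj hL₀ g⁻¹, ?_⟩
  have h2 := Cfsg.Agent.Helper14.BG1369.conj_mem_sigmaCore h1 g⁻¹
  have h3 : g⁻¹ * (g * x * g⁻¹) * g⁻¹⁻¹ = x := by group
  rw [h3] at h2
  exact h2

/-- (B) S1432 for an element of prime order of `H` centralizing `H_σ`, when `κ(H) = ∅` -/
theorem tau2_of_centralizes {H : Subgroup G} (hH : IsCoatom H) (h32 : St1432 G)
    (hκ : kappa H = ∅) (hHσ : sigmaCore H ≠ ⊥) {x : G} (hxH : x ∈ H) (hxo : (orderOf x).Prime)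
    (hxσ : orderOf x ∉ sigma H) (hxc : ∀ y ∈ sigmaCore H, x * y = y * x) :
    orderOf x ∈ tau2 H ∧ centralizer ({x} : Set G) ≤ H ∧
      ∀ L : Subgroup G, IsCoatom L → centralizer ({x} : Set G) ≤ L → L = H := by
  obtain ⟨⟨y, hy⟩, hy1⟩ := Subgroup.ne_bot_iff_exists_ne_one.mp hHσ
  have hy1' : y ≠ 1 := fun h => hy1 (Subtype.ext h)
  have hx1 : x ≠ 1 := by
    intro h
    rw [h, orderOf_one] at hxo
    exact Nat.not_prime_one hxo
  have hxm : x ∈ H ⊓ centralizer ({y} : Set G) := by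
    refine Subgroup.mem_inf.mpr ⟨hxH, ?_⟩
    rw [mem_centralizer_iff]
    intro w hw
    rw [Set.mem_singleton_iff] at hw
    rw [hw]
    exact (hxc y hy).symm
  have hprime : ∀ p : ℕ, p.Prime → p ∣ orderOf x → p = orderOf x := fun p hp hd =>
    (Nat.prime_dvd_prime_iff_eq hp hxo).mp hd
  rcases h32 H hH y hy hy1' x hxm hx1 (fun p hp hd => by rw [hprime p hp hd]; exact hxσ) with h | h
  · exfalso
    have := h.1 (orderOf x) hxo dvd_rfl
    rw [hκ] at this
    exact this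
  · exact ⟨h.1 (orderOf x) hxo dvd_rfl, h.2.2.1, h.2.2.2⟩

/-- (B') S1375 for `x ∈ L_σ` when `H` is the unique maximal subgroup over `C_G(x)` -/
theorem compl_of_mem_sigmaCore {H L : Subgroup G} (h75 : St1375 G) (hL : IsCoatom L) {x : G}
    (hxL : x ∈ sigmaCore L) (hxo : (orderOf x).Prime) (hxσ : orderOf x ∉ sigma H)
    (huniq : ∀ L' : Subgroup G, IsCoatom L' → centralizer ({x} : Set G) ≤ L' → L' = H) :
    IsComplIn (L ⊓ H) (sigmaCore H) H := by
  have hx1 : x ≠ 1 := by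
    intro h
    rw [h, orderOf_one] at hxo
    exact Nat.not_prime_one hxo
  have hnot : ¬ centralizer ({x} : Set G) ≤ L := by
    intro h
    have hLH := huniq L hL h
    apply hxσ
    rw [hLH] at hxL
    exact Cfsg.Agent.Helper16.BG145.prime_mem_sigma_of_mem_sigmaCore hxL _ hxo dvd_rfl
  obtain ⟨N, ⟨hN, hCN⟩, -, -, -, -, hcompl, -⟩ := h75 L hL x hxL hx1 hnot
  have hNH := huniq N hN hCN
  rw [hNH] at hcompl
  exact hcompl

/-- a complement of a normal Hall subgroup is a Hall subgroup for the complementary primes -/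
theorem isPiHallOf_compl {π : Set ℕ} {E N M : Subgroup G} (hN : IsPiHallOf π N M)
    (hE : IsComplIn E N M) : IsPiHallOf {q | q ∉ π} E M := by
  have h1 := Cfsg.Agent.Helper20.BG12.card_mul_of_isComplIn hE
  have h2 := Cfsg.Agent.Helper20.BG12.relIndex_eq_card_of_isComplIn hE
  have h3 : Nat.card ↥M = Nat.card ↥E * E.relIndex M :=
    Cfsg.Agent.Helper1.PiHall.card_eq_card_mul_relIndex hE.1
  have h4 : E.relIndex M = Nat.card ↥N := by
    rw [← h1] at h3
    exact (Nat.eq_of_mul_eq_mul_left Nat.card_pos h3).symm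
  refine ⟨hE.1, ?_, ?_⟩
  · intro p hp hd hpπ
    rw [← h2] at hd
    exact hN.2.2 p hp hpπ hd
  · intro p hp hpπ hd
    rw [h4] at hd
    exact hpπ (hN.2.1 p hp hd)

namespace P7

variable {H K Ms : Subgroup G} (c : P7 H K Ms)
include c

theorem sigmaCore_ne_bot : sigmaCore H ≠ ⊥ :=
  Cfsg.Agent.Helper17.BG11.sigmaCore_ne_bot' c.hG c.hH

/-- (C) the maximal subgroup `L` attached to an element of prime order of a complement that
centralizes `H_σ` -/
theorem exists_L (h32 : St1432 G) (h75 : St1375 G) (hκ : kappa H = ∅) {E : Subgroup G} {x : G}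
    (hE : IsComplIn E (sigmaCore H) H) (hxE : x ∈ E) (hxo : (orderOf x).Prime)
    (hxc : ∀ y ∈ sigmaCore H, x * y = y * x) :
    ∃ (L : Subgroup G) (t : ℕ), IsCoatom L ∧ K ≤ L ∧ IsComplIn (L ⊓ H) (sigmaCore H) H ∧
      t ∈ tau2 H ∧ t ∈ sigma L := by
  have hxH : x ∈ H := hE.1 hxE
  have hxσ : orderOf x ∉ sigma H := by
    apply Cfsg.Agent.Helper20.BG12.not_mem_sigma_of_dvd_card_compl c.hhall hE hxo
    exact Subgroup.orderOf_dvd_natCard E hxE
  obtain ⟨-, -, huniq⟩ := tau2_of_centralizes c.hH h32 hκ c.sigmaCore_ne_bot hxH hxo hxσ hxc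
  obtain ⟨L₁, hL₁, hxL₁⟩ := exists_coatom_mem_sigmaCore c.hG c.h50 hxo
  have hcompl₁ := compl_of_mem_sigmaCore h75 hL₁ hxL₁ hxo hxσ huniq
  have hhall₁ := isPiHallOf_compl c.hhall hcompl₁
  have := c.hsolv
  obtain ⟨m, hm, hKm⟩ := Cfsg.Agent.Helper1.PiHall.exists_conj_le_of_isPiHallOf hhall₁ c.hKH
    (fun q hq hd => by
      show q ∉ sigma H
      rcases (Nat.dvd_prime c.hKp).mp hd with h | h
      · exact absurd h hq.one_lt.ne'
      · rw [h]; exact c.hpσ)
  -- the conjugates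
  set x' := m⁻¹ * x * m with hx'
  have hx'L : x' ∈ sigmaCore (L₁.map (MulAut.conj m⁻¹).toMonoidHom) := by
    have h2 := Cfsg.Agent.Helper14.BG1369.conj_mem_sigmaCore hxL₁ m⁻¹
    rw [inv_inv] at h2
    exact h2
  have hx'o : orderOf x' = orderOf x := by
    have := (MulAut.conj m⁻¹).orderOf_eq x
    rw [MulAut.conj_apply, inv_inv] at this
    exact this
  have hx'H : x' ∈ H := mul_mem (mul_mem (inv_mem hm) hxH) hm
  have hx'c : ∀ y ∈ sigmaCore H, x' * y = y * x' := by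
    intro y hy
    have h1 : m * y * m⁻¹ ∈ sigmaCore H := ((mem_normalizer_iff.mp (c.hnσ hm)) y).mp hy
    have h2 := hxc _ h1
    calc x' * y = m⁻¹ * (x * (m * y * m⁻¹)) * m := by rw [hx']; group
      _ = m⁻¹ * ((m * y * m⁻¹) * x) * m := by rw [h2]
      _ = y * x' := by rw [hx']; group
  have hL : IsCoatom (L₁.map (MulAut.conj m⁻¹).toMonoidHom) :=
    Cfsg.Agent.Helper14.BGUniq.isCoatom_map_conj hL₁ m⁻¹
  have hx'o' : (orderOf x').Prime := by rw [hx'o]; exact hxo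
  have hx'σ : orderOf x' ∉ sigma H := by rw [hx'o]; exact hxσ
  obtain ⟨hτ, -, huniq'⟩ :=
    tau2_of_centralizes c.hH h32 hκ c.sigmaCore_ne_bot hx'H hx'o' hx'σ hx'c
  have hcompl := compl_of_mem_sigmaCore h75 hL hx'L hx'o' hx'σ huniq'
  refine ⟨L₁.map (MulAut.conj m⁻¹).toMonoidHom, orderOf x', hL, ?_, hcompl, hτ, ?_⟩
  · intro k hk
    rw [mem_map_conj_iff, inv_inv]
    have : m * k * m⁻¹ ∈ L₁ ⊓ H := hKm ⟨k, hk, rfl⟩
    exact (Subgroup.mem_inf.mp this).1
  · exact Cfsg.Agent.Helper16.BG145.prime_mem_sigma_of_mem_sigmaCore hx'L _ hx'o' dvd_rfl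

end P7

end Cfsg.Agent.Helper16.BG149
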