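import Mathlib
import Cfsg.Prelude.Def_OddOrder
import Cfsg.Prelude.Def_OddOrderLocal
import Cfsg.Agent.Lib.Helper16.BG149P4
import Cfsg.Agent.Lib.Helper7.Coprime

/-!
# S1435, steps (7)+(8) (helper16), part 5: the maximal subgroup `L`, cases `L ~ M*` and
`L` not conjugate to `M`, `M*`
-/

set_option autoImplicit false
set_option linter.unusedSectionVars false

namespace Cfsg.Agent.Helper16.BG149

open Cfsg Subgroup
open Cfsg.Agent.Helper20.BG12 (H1350 H1415 H1417 H1418)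
open Cfsg.Agent.Helper16.BG145 (St1375)
open Cfsg.Agent.Helper16.BG147 (St1432)
open Cfsg.Agent.Helper15 (mem_map_conj_iff)

universe u

variable {G : Type u} [Group G] [Finite G]

namespace P7

variable {H K Ms : Subgroup G} (c : P7 H K Ms)
include c

/-- `K` acts without fixed points on `L_σ` for a maximal `L ≠ M*` over `K` with `κ(L) = ∅` and
`p ∉ σ(L)` -/
theorem free_on {L : Subgroup G} (h32 : St1432 G) (hL : IsCoatom L) (hKL : K ≤ L)
    (hκL : kappa L = ∅) (hpL : Nat.card K ∉ sigma L) (hLMs : L ≠ Ms) :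
    sigmaCore L ⊓ centralizer (K : Set G) = ⊥ := by
  obtain ⟨k, hk, hk1⟩ := c.exists_ne_one
  rw [eq_bot_iff]
  intro y hy
  rw [mem_bot]
  by_contra hy1
  obtain ⟨hyσ, hyc⟩ := Subgroup.mem_inf.mp hy
  have hky : k * y = y * k := (mem_centralizer_iff.mp hyc) k hk
  have hkm : k ∈ L ⊓ centralizer ({y} : Set G) := by
    refine Subgroup.mem_inf.mpr ⟨hKL hk, ?_⟩
    rw [mem_centralizer_iff]
    intro w hw
    rw [Set.mem_singleton_iff] at hw
    rw [hw]
    exact hky.symm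
  have hok : orderOf k ∣ Nat.card K := Subgroup.orderOf_dvd_natCard K hk
  have hprime : ∀ q : ℕ, q.Prime → q ∣ orderOf k → q = Nat.card K := fun q hq hd =>
    (Nat.prime_dvd_prime_iff_eq hq c.hKp).mp (hd.trans hok)
  have hne : orderOf k ≠ 1 := by
    rw [Ne, orderOf_eq_one_iff]; exact hk1
  obtain ⟨q, hq, hqd⟩ := Nat.exists_prime_and_dvd hne
  rcases h32 L hL y hyσ hy1 k hkm hk1 (fun q hq hd => by rw [hprime q hq hd]; exact hpL) with h | h
  · have := h.1 q hq hqd
    rw [hκL] at this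
    exact this
  · apply hLMs
    refine (h.2.2.2 Ms c.hMs ?_).symm
    refine le_trans ?_ c.hNK
    refine le_trans ?_ (centralizer_le_normalizer _)
    intro u hu
    apply c.mem_centralizer_of_commute hk hk1
    rw [mem_centralizer_iff] at hu
    exact hu k (Set.mem_singleton k)

/-- case `L` not conjugate to `M`, `M*` -/
theorem case_other {L : Subgroup G} {t : ℕ} (h32 : St1432 G) (hL : IsCoatom L) (hKL : K ≤ L)
    (hcompl : IsComplIn (L ⊓ H) (sigmaCore H) H) (ht2 : t ∈ tau2 H) (htL : t ∈ sigma L)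
    (hκL : kappa L = ∅) (hpL : Nat.card K ∉ sigma L) (hLMs : L ≠ Ms)
    (hnilL : Group.IsNilpotent ↥(sigmaCore L)) : False := by
  have : Fact t.Prime := ⟨ht2.1⟩
  obtain ⟨A, hAE, hAe, hAc⟩ :=
    Cfsg.Agent.Helper20.BG12.exists_elemAb_sq_le_compl c.hhall hcompl ht2
  have hAH : A ≤ H := hAE.trans inf_le_right
  have hAL : A ≤ L := hAE.trans inf_le_left
  have h17d : sigmaCore H ⊓ centralizer (A : Set G) = ⊥ :=
    (c.h17 H c.hH t ht2 A ⟨hAH, hAe, hAc⟩).2.2.2.1
  have hfreeL := c.free_on h32 hL hKL hκL hpL hLMs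
  have hnL := Cfsg.Agent.Helper20.BG12.le_normalizer_sigmaCore' L
  -- `D_L`
  have hDH : sigmaCore L ⊓ H ≤ H := inf_le_right
  have hDE : sigmaCore L ⊓ H ≤ L ⊓ H := inf_le_inf (Cfsg.Agent.Helper22.BG13.sigmaCore_le L) le_rfl
  have hKD : K ≤ normalizer ((sigmaCore L ⊓ H : Subgroup G) : Set G) := by
    intro k hk
    rw [mem_normalizer_iff]
    intro y
    have h1 := mem_normalizer_iff.mp (hnL (hKL hk)) y
    have hkH : k ∈ H := c.hKH hk
    constructor
    · intro hy
      obtain ⟨hy1, hy2⟩ := Subgroup.mem_inf.mp hy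
      exact Subgroup.mem_inf.mpr ⟨h1.mp hy1, mul_mem (mul_mem hkH hy2) (inv_mem hkH)⟩
    · intro hy
      obtain ⟨hy1, hy2⟩ := Subgroup.mem_inf.mp hy
      refine Subgroup.mem_inf.mpr ⟨h1.mpr hy1, ?_⟩
      have : y = k⁻¹ * (k * y * k⁻¹) * k := by group
      rw [this]
      exact mul_mem (mul_mem (inv_mem hkH) hy2) hkH
  have hnilD : Group.IsNilpotent ↥(sigmaCore L ⊓ H : Subgroup G) :=
    Cfsg.Agent.Helper7.isNilpotent_of_le inf_le_left hnilL
  have hfreeD : (sigmaCore L ⊓ H) ⊓ centralizer (K : Set G) = ⊥ := by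
    rw [eq_bot_iff, ← hfreeL]
    exact inf_le_inf inf_le_left le_rfl
  have hcent := c.trick hDH hKD (c.compl_not_sigma hcompl hDE) hnilD hfreeD
  have hAσ : A ≤ sigmaCore L := by
    apply Cfsg.Agent.Helper22.BG13.le_sigmaCore_of_isPiNum c.h50 hL hAL
    intro q hq hd
    rw [hAc] at hd
    rw [(Nat.prime_dvd_prime_iff_eq hq ht2.1).mp (hq.dvd_of_dvd_pow hd)]
    exact htL
  have hAD : A ≤ sigmaCore L ⊓ H := le_inf hAσ hAH
  apply c.sigmaCore_ne_bot
  rw [eq_bot_iff, ← h17d]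
  exact le_inf le_rfl (hcent.trans (centralizer_le (by exact_mod_cast hAD)))

/-- case `L` conjugate to `M*` -/
theorem case_Ms {L : Subgroup G} {g : G}
    (hTI : ∀ g : G, g ∉ Ms → K ⊓ Ms.map (MulAut.conj g).toMonoidHom = ⊥)
    (hLg : L = Ms.map (MulAut.conj g).toMonoidHom) (hKL : K ≤ L) : L = Ms := by
  have hg : g ∈ Ms := by
    by_contra hg
    apply c.K_ne_bot
    rw [eq_bot_iff, ← hTI g hg]
    exact le_inf le_rfl (hLg ▸ hKL)
  rw [hLg]
  ext y
  rw [mem_map_conj_iff]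
  constructor
  · intro h
    have : y = g * (g⁻¹ * y * g) * g⁻¹ := by group
    rw [this]
    exact mul_mem (mul_mem hg h) (inv_mem hg)
  · intro h
    exact mul_mem (mul_mem (inv_mem hg) h) hg

end P7

end Cfsg.Agent.Helper16.BG149
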