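import Mathlib
import Cfsg.Prelude.Def_OddOrder
import Cfsg.Prelude.Def_OddOrderLocal
import Cfsg.Agent.Lib.Helper16.BG149P5
import Cfsg.Agent.Lib.Helper16.BG145A
import Cfsg.Agent.Lib.Helper5.BG124A
import Cfsg.Agent.Lib.Helper4.BGSigA
import Cfsg.Agent.Lib.Helper19.BG16E
import Cfsg.Agent.Lib.Helper7.BG121a
import Cfsg.Agent.Lib.Lead.BGThmC2

/-!
# S1435, steps (7)+(8) (helper16), part 6: the case `L` conjugate to `M`

`M = K U M_σ` with `U ≠ 1` abelian, `K` acting without fixed points on `U`, `M_σ` nilpotent and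
`C_{M_σ}(U) = 1`.  If `t ∈ σ(M)` and `A ≤ M_σ` is a nontrivial `t`-subgroup whose centralizer has
only `t`-subgroups of rank at most `2`, then `Z(O_t(M_σ))` has rank at most `2`, so
`U = [U, K] ≤ (U K)'` centralizes it: a contradiction.
-/

set_option autoImplicit false
set_option linter.unusedSectionVars false

namespace Cfsg.Agent.Helper16.BG149

open Cfsg Subgroup
open Cfsg.Agent.Helper20.BG12 (H1350 H1415 H1417 H1418)
open Cfsg.Agent.Helper15 (mem_map_conj_iff)

universe u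

variable {G : Type u} [Group G] [Finite G]

/-- the contradiction inside `M` -/
theorem case_M_core (hG : IsMinSimpleOddOrder G) (h50 : H1350 G) {M K U : Subgroup G}
    (hM : IsCoatom M) (hKU : IsSigmaDecomposition M K U)
    (hUfree : U ⊓ centralizer (K : Set G) = ⊥)
    (hnil : Group.IsNilpotent ↥(sigmaCore M))
    (hCU : sigmaCore M ⊓ centralizer (U : Set G) = ⊥)
    {t : ℕ} [Fact t.Prime] (ht : t ∈ sigma M) {A : Subgroup G} (hAσ : A ≤ sigmaCore M)
    (hA1 : A ≠ ⊥) (hAt : IsPGroup t ↥A)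
    (hrank : ∀ Z : Subgroup G, Z ≤ centralizer (A : Set G) → IsPGroup t ↥Z → PRankLE t 2 ↥Z) :
    False := by
  have htp : t.Prime := Fact.out
  have hhall : IsPiHallOf (sigma M) (sigmaCore M) M := (h50 M hM).1
  have hσM : sigmaCore M ≤ M := Cfsg.Agent.Helper22.BG13.sigmaCore_le M
  have hsolvM : Group.IsSolvable ↥M := hG.2.2.2 M hM.1
  -- the Sylow `t`-subgroup of `M_σ`
  obtain ⟨T, hAT, hT⟩ := Cfsg.Agent.Helper15.exists_isSylowIn_ge hAt (hAσ.trans hσM)
  have hTtop := Cfsg.Agent.Helper22.BG13.isSylowIn_top_of_mem_sigma ht hT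
  have hTσ : T ≤ sigmaCore M :=
    Cfsg.Agent.Helper22.BG13.le_sigmaCore_of_isPiNum h50 hM hT.le
      (Cfsg.Agent.Helper22.BG13.isPiNum_of_isPGroup ht hT.isPGroup)
  have hMT : M ≤ normalizer (T : Set G) :=
    Cfsg.Agent.Helper5.BG124.le_normalizer_of_sylow_le_nilpotent hTtop.sylowOfTop hTσ hnil
      (Cfsg.Agent.Helper20.BG12.le_normalizer_sigmaCore' M)
  -- the centre of `T`
  have hT1 : T ≠ ⊥ := fun h => hA1 (eq_bot_iff.mpr (h ▸ hAT))
  have hZ1 : T ⊓ centralizer (T : Set G) ≠ ⊥ := by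
    have : Nontrivial ↥T := (Subgroup.nontrivial_iff_ne_bot T).mpr hT1
    have hc := hT.isPGroup.center_nontrivial
    obtain ⟨⟨z, hz⟩, hz1⟩ := exists_ne (1 : Subgroup.center ↥T)
    intro hbot
    apply hz1
    have hzc : (z : G) ∈ T ⊓ centralizer (T : Set G) := by
      refine Subgroup.mem_inf.mpr ⟨z.2, ?_⟩
      rw [mem_centralizer_iff]
      intro w hw
      have := (Subgroup.mem_center_iff.mp hz) ⟨w, hw⟩
      exact congrArg Subtype.val this
    rw [hbot, mem_bot] at hzc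
    exact Subtype.ext (Subtype.ext hzc)
  have hZt : IsPGroup t ↥(T ⊓ centralizer (T : Set G) : Subgroup G) :=
    hT.isPGroup.to_le inf_le_left
  have hZA : T ⊓ centralizer (T : Set G) ≤ centralizer (A : Set G) :=
    inf_le_right.trans (centralizer_le (by exact_mod_cast hAT))
  have hZr := hrank _ hZA hZt
  have hMZ : M ≤ normalizer ((T ⊓ centralizer (T : Set G) : Subgroup G) : Set G) := by
    apply Cfsg.Agent.Helper1.le_normalizer_of_forall_conj_mem
    intro m hm y hy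
    obtain ⟨hy1, hy2⟩ := Subgroup.mem_inf.mp hy
    have hmT := mem_normalizer_iff.mp (hMT hm)
    refine Subgroup.mem_inf.mpr ⟨(hmT y).mp hy1, ?_⟩
    rw [mem_centralizer_iff]
    intro w hw
    have hw' : m⁻¹ * w * m ∈ T := by
      have := (hmT (m⁻¹ * w * m)).mpr
      apply this
      have e : m * (m⁻¹ * w * m) * m⁻¹ = w := by group
      rw [e]; exact hw
    have h1 := (mem_centralizer_iff.mp hy2) _ hw'
    calc w * (m * y * m⁻¹) = m * ((m⁻¹ * w * m) * y) * m⁻¹ := by group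
      _ = m * (y * (m⁻¹ * w * m)) * m⁻¹ := by rw [h1]
      _ = m * y * m⁻¹ * w := by group
  -- the group `U K`
  have hUM : U ≤ M := hKU.compl.1
  have hKM : K ≤ M := hKU.hall.1
  have hUKM : U ⊔ K ≤ M := sup_le hUM hKM
  have hUKsolv : Group.IsSolvable ↥(U ⊔ K : Subgroup G) :=
    Group.isSolvable_of_isSolvable_injective (Subgroup.inclusion_injective hUKM)
  have hUKodd : Odd (Nat.card ↥(U ⊔ K : Subgroup G)) :=
    Odd.of_dvd_nat hG.1 (Subgroup.card_subgroup_dvd_card _)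
  have ht2 : t ≠ 2 := by
    intro h
    have h1 : t ∣ Nat.card G := ht.2.1.trans (Subgroup.card_subgroup_dvd_card M)
    rw [h] at h1
    have := hG.1
    rw [Nat.odd_iff] at this
    omega
  have hUt : ¬ t ∣ Nat.card U := fun h =>
    Cfsg.Agent.Lead.BGThmC.not_mem_sigma_of_dvd_card M K U hKU hhall htp h ht
  have hKt : ¬ t ∣ Nat.card K := fun h => (hKU.hall.2.1 t htp h).2.2.1 ht
  have hcop : (Nat.card ↥(U ⊔ K : Subgroup G)).Coprime t := by
    apply Nat.Coprime.symm
    rw [Nat.Prime.coprime_iff_not_dvd htp]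
    intro h
    have h1 : Nat.card ↥(U ⊔ K : Subgroup G) ∣ Nat.card U * Nat.card K :=
      Cfsg.Agent.Helper7.card_sup_dvd_mul_of_le_normalizer hKU.normal
    rcases (Nat.Prime.dvd_mul htp).mp (h.trans h1) with h2 | h2
    · exact hUt h2
    · exact hKt h2
  have hcomm := Cfsg.Agent.Helper4.BGSig.commutator_le_centralizer_of_rank_two ht2 hZt hZr
    (hUKM.trans hMZ) hUKsolv hUKodd hcop
  -- `U = [U, K]`
  have hcopKU : (Nat.card K).Coprime (Nat.card U) := by
    apply Nat.coprime_of_dvd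
    intro q hq h1 h2
    exact Cfsg.Agent.Lead.BGThmC2.not_mem_kappa_of_dvd_card M K U hKU hq h2 (hKU.hall.2.1 q hq h1)
  have hKsolv : Group.IsSolvable ↥K :=
    Group.isSolvable_of_isSolvable_injective (Subgroup.inclusion_injective hKM)
  have hU1 := Cfsg.Agent.Helper19.BG16.le_commutator_sup_centralizer hKU.normal hcopKU
    (Or.inl hKsolv)
  rw [hUfree, sup_bot_eq] at hU1
  have hU2 : U ≤ centralizer ((T ⊓ centralizer (T : Set G) : Subgroup G) : Set G) :=
    (hU1.trans (Subgroup.commutator_mono le_sup_left le_sup_right)).trans hcomm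
  apply hZ1
  rw [eq_bot_iff, ← hCU]
  refine le_inf (inf_le_left.trans hTσ) ?_
  intro z hz
  rw [mem_centralizer_iff]
  intro w hw
  exact ((mem_centralizer_iff.mp (hU2 hw)) z hz).symm

namespace P7

variable {H K Ms : Subgroup G} (c : P7 H K Ms)
include c

/-- case `L` conjugate to `M` -/
theorem case_M {M U L : Subgroup G} {t : ℕ} {g : G} (hM : IsCoatom M)
    (hKU : IsSigmaDecomposition M K U)
    (hUfree : U ⊓ centralizer (K : Set G) = ⊥)
    (hnil : Group.IsNilpotent ↥(sigmaCore M))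
    (hCU : sigmaCore M ⊓ centralizer (U : Set G) = ⊥)
    (hLg : L = M.map (MulAut.conj g).toMonoidHom)
    (hcompl : IsComplIn (L ⊓ H) (sigmaCore H) H) (ht2 : t ∈ tau2 H) (htL : t ∈ sigma L) :
    False := by
  have : Fact t.Prime := ⟨ht2.1⟩
  have htp : t.Prime := ht2.1
  have hL : IsCoatom L := hLg ▸ Cfsg.Agent.Helper14.BGUniq.isCoatom_map_conj hM g
  obtain ⟨A, hAE, hAe, hAc⟩ :=
    Cfsg.Agent.Helper20.BG12.exists_elemAb_sq_le_compl c.hhall hcompl ht2
  have hAH : A ≤ H := hAE.trans inf_le_right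
  have hAL : A ≤ L := hAE.trans inf_le_left
  have hCA : centralizer (A : Set G) ≤ H :=
    (c.h18 H c.hH (L ⊓ H) hcompl t ht2 A ⟨hAE, hAe, hAc⟩).2.1.1.trans inf_le_left
  have hAσ : A ≤ sigmaCore L := by
    apply Cfsg.Agent.Helper22.BG13.le_sigmaCore_of_isPiNum c.h50 hL hAL
    intro q hq hd
    rw [hAc] at hd
    rw [(Nat.prime_dvd_prime_iff_eq hq htp).mp (hq.dvd_of_dvd_pow hd)]
    exact htL
  have htM : t ∈ sigma M := by
    rw [hLg, Cfsg.Agent.Helper16.BG145.sigma_map_conj] at htL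
    exact htL
  have hAp : IsPGroup t ↥A := Cfsg.Agent.Helper14.BGUniq.isPGroup_of_isElementaryAbelian hAe
  -- conjugate back into `M`
  have hA'σ : A.map (MulAut.conj g⁻¹).toMonoidHom ≤ sigmaCore M := by
    rintro _ ⟨a, ha, rfl⟩
    have h1 : a ∈ sigmaCore (M.map (MulAut.conj g).toMonoidHom) := hLg ▸ hAσ ha
    have h2 := Cfsg.Agent.Helper14.BG1369.conj_mem_sigmaCore h1 g⁻¹
    rw [Cfsg.Agent.Helper15.map_conj_inv_map_conj] at h2
    exact h2
  have hA'1 : A.map (MulAut.conj g⁻¹).toMonoidHom ≠ ⊥ := by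
    intro h
    have h1 := Cfsg.Agent.Helper1.PiHall.card_map_conj A g⁻¹
    rw [h, Subgroup.card_bot, hAc] at h1
    have := htp.one_lt
    have h2 : 1 < t ^ 2 := Nat.one_lt_pow (by norm_num) this
    omega
  have hA't : IsPGroup t ↥(A.map (MulAut.conj g⁻¹).toMonoidHom) :=
    Cfsg.Agent.Helper15.isPGroup_map_conj hAp g⁻¹
  refine case_M_core c.hG c.h50 hM hKU hUfree hnil hCU htM hA'σ hA'1 hA't ?_
  intro Z hZ _
  have hmem : ∀ z : ↥Z, (MulAut.conj g).toMonoidHom ((Z.subtype) z) ∈ H := by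
    intro z
    apply hCA
    rw [mem_centralizer_iff]
    intro a ha
    have ha' : g⁻¹ * a * g ∈ A.map (MulAut.conj g⁻¹).toMonoidHom := by
      rw [mem_map_conj_iff, inv_inv]
      have e : g * (g⁻¹ * a * g) * g⁻¹ = a := by group
      rw [e]; exact ha
    have h1 := (mem_centralizer_iff.mp (hZ z.2)) _ ha'
    show a * (g * (z : G) * g⁻¹) = g * (z : G) * g⁻¹ * a
    calc a * (g * (z : G) * g⁻¹) = g * ((g⁻¹ * a * g) * (z : G)) * g⁻¹ := by group
      _ = g * ((z : G) * (g⁻¹ * a * g)) * g⁻¹ := by rw [h1]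
      _ = g * (z : G) * g⁻¹ * a := by group
  let f : ↥Z →* ↥H := ((MulAut.conj g).toMonoidHom.comp Z.subtype).codRestrict H hmem
  have hf : Function.Injective f := by
    intro z₁ z₂ h
    have h1 : (MulAut.conj g) (z₁ : G) = (MulAut.conj g) (z₂ : G) := congrArg Subtype.val h
    exact Subtype.ext ((MulAut.conj g).injective h1)
  exact Cfsg.Agent.Helper7.BG12.pRankLE_of_injective f hf ht2.2.2.1

end P7

end Cfsg.Agent.Helper16.BG149
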