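import Mathlib
import Cfsg.Prelude.Def_OddOrder
import Cfsg.Prelude.Def_OddOrderLocal
import Cfsg.Agent.Lib.Helper16.BG149P6
import Cfsg.Agent.Lib.Helper8.BG149E
import Cfsg.Agent.Lib.Helper23.BG10A
import Cfsg.Agent.Lib.Helper21.BG143A
import Cfsg.Agent.Lib.Helper1.BG152
import Cfsg.Agent.Lib.Helper7.TypeP

/-!
# S1435, steps (7)+(8) (helper16), part 7: assembly

`compl_of_cfg`: in helper8's configuration `Cfg M K Ms U H` with `|K|` prime,
`H ∩ M*` is a complement of `H_σ` in `H` and `K ≤ F(H ∩ M*)`.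
-/

set_option autoImplicit false
set_option linter.unusedSectionVars false

namespace Cfsg.Agent.Helper16.BG149

open Cfsg Subgroup
open Cfsg.Agent.Helper20.BG12 (H1350 H1415 H1417 H1418)
open Cfsg.Agent.Helper16.BG145 (St1375)
open Cfsg.Agent.Helper16.BG147 (St1432 St1378b Ctx Kst)
open Cfsg.Agent.Helper15 (mem_map_conj_iff)
open Cfsg.Agent.Helper8.BG149 (Cfg Hyp1429)
open Cfsg.Agent.Helper21.BG143 (Hyp1420)

universe u

variable {G : Type u} [Group G] [Finite G]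

/-- statement of S1352 -/
def Hyp1352 (G : Type u) [Group G] [Finite G] : Prop :=
  ∀ (M : Subgroup G) (_ : IsCoatom M) (K : Subgroup G) (_ : IsCyclic K)
    (_ : Cfsg.IsPiHallOf (Cfsg.kappa M) K M),
    (∃ U : Subgroup G, Cfsg.IsSigmaDecomposition M K U) ∧
      ∀ U : Subgroup G, Cfsg.IsSigmaDecomposition M K U →
        M ≤ Subgroup.normalizer ((U ⊔ Cfsg.sigmaCore M : Subgroup G) : Set G)

/-- statement of S1364 -/
def Hyp1364 (G : Type u) [Group G] [Finite G] : Prop :=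
  ∀ (M : Subgroup G) (_ : IsCoatom M) (K U : Subgroup G) (_ : Cfsg.IsSigmaDecomposition M K U)
    (_ : K ≠ ⊥),
    IsCyclic ↥(Cfsg.sigmaCore M ⊓ Subgroup.centralizer (K : Set G)) ∧
      (Cfsg.sigmaCore M ⊓ Subgroup.centralizer (K : Set G)) ≠ ⊥ ∧
      (Cfsg.sigmaCore M ⊓ Subgroup.centralizer (K : Set G)) ≤ Cfsg.fittingHallOf M ∧
      ¬ IsCyclic (Cfsg.fittingHallOf M)

namespace P7

variable {H K Ms : Subgroup G} (c : P7 H K Ms)
include c

/-- step (7): `H ∩ M*` is a complement of `H_σ` in `H` -/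
theorem compl (h32 : St1432 G) (h75 : St1375 G) (h78 : St1378b G) (hκ : kappa H = ∅)
    (h20b : ∀ E : Subgroup G, IsComplIn E (sigmaCore H) H → IsMulCommutative ↥⁅E, E⁆)
    (h20c : ∀ (p : ℕ) (P : Subgroup G), p ∈ sigma Ms → IsPGroup p P → P ≤ Ms → ¬ IsCyclic P →
      normalizer (P : Set G) ≤ Ms)
    (hTI : ∀ g : G, g ∉ Ms → K ⊓ Ms.map (MulAut.conj g).toMonoidHom = ⊥)
    {M U : Subgroup G} (hM : IsCoatom M) (hKU : IsSigmaDecomposition M K U)
    (hUfree : U ⊓ centralizer (K : Set G) = ⊥)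
    (hnilM : Group.IsNilpotent ↥(sigmaCore M))
    (hCU : sigmaCore M ⊓ centralizer (U : Set G) = ⊥)
    (hpart2 : ∀ L : Subgroup G, IsCoatom L → (kappa L).Nonempty →
      ∃ g : G, L = M.map (MulAut.conj g).toMonoidHom ∨ L = Ms.map (MulAut.conj g).toMonoidHom)
    (hnilL : ∀ L : Subgroup G, IsCoatom L → K ≤ L → kappa L = ∅ → Nat.card K ∉ sigma L →
      Group.IsNilpotent ↥(sigmaCore L)) :
    IsComplIn (H ⊓ Ms) (sigmaCore H) H := by
  obtain ⟨E, hE, hKE⟩ := c.exists_compl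
  have hpH : Nat.card K ∣ Nat.card H := Subgroup.card_dvd_of_le c.hKH
  have hr2 : PRankLE (Nat.card K) 2 ↥H := by
    by_contra h
    exact c.hpσ (Cfsg.Agent.Helper23.BG10.alpha_subset_sigma c.hG c.hUT c.hH ⟨c.hKp, h⟩)
  -- the main alternative
  have key : E ≤ Ms ∨ ∃ x ∈ E, (orderOf x).Prime ∧ ∀ y ∈ sigmaCore H, x * y = y * x := by
    by_cases hr1 : PRankLE (Nat.card K) 1 ↥H
    · by_cases hd : Nat.card K ∣ Nat.card ↥⁅H, H⁆
      · left
        exact c.le_of_tau3 ⟨c.hKp, c.hpσ, hd, hr1⟩ hE hKE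
      · exact c.tau1_dichotomy ⟨c.hKp, c.hpσ, hpH, hd, hr1⟩ hE hKE (h20b E hE)
    · left
      exact c.le_of_tau2 h20c ⟨c.hKp, c.hpσ, hr2, hr1⟩ hE hKE
  rcases key with hEMs | ⟨x, hxE, hxo, hxc⟩
  · exact c.isComplIn_of_le hE hEMs
  · obtain ⟨L, t, hL, hKL, hcompl, ht2, htL⟩ := c.exists_L h32 h75 hκ hE hxE hxo hxc
    by_cases h1 : ∃ g : G, L = Ms.map (MulAut.conj g).toMonoidHom
    · obtain ⟨g, hg⟩ := h1
      have hLMs := c.case_Ms hTI hg hKL
      rw [hLMs, inf_comm] at hcompl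
      exact hcompl
    · exfalso
      by_cases h2 : ∃ g : G, L = M.map (MulAut.conj g).toMonoidHom
      · obtain ⟨g, hg⟩ := h2
        exact c.case_M hM hKU hUfree hnilM hCU hg hcompl ht2 htL
      · have hκL : kappa L = ∅ := by
          by_contra hne
          obtain ⟨g, hg | hg⟩ := hpart2 L hL (Set.nonempty_iff_ne_empty.mpr hne)
          · exact h2 ⟨g, hg⟩
          · exact h1 ⟨g, hg⟩
        have hpL : Nat.card K ∉ sigma L := by
          intro h
          exact h1 (h78 Ms L c.hMs hL ⟨Nat.card K, c.p_mem_sigma_Ms, h⟩)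
        have hLMs : L ≠ Ms := by
          intro h
          apply h1
          refine ⟨1, ?_⟩
          rw [h, Cfsg.Agent.Helper15.map_conj_one]
        exact c.case_other h32 hL hKL hcompl ht2 htL hκL hpL hLMs (hnilL L hL hKL hκL hpL)

end P7

/-- `M_F` is nilpotent, as a subgroup of `G` -/
theorem isNilpotent_fittingHallOf (M : Subgroup G) : Group.IsNilpotent ↥(fittingHallOf M) := by
  have h := Cfsg.Agent.Helper7.fittingHall_isNilpotent ↥M
  unfold fittingHallOf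
  exact Group.nilpotent_of_mulEquiv
    ((fittingHall ↥M).equivMapOfInjective M.subtype M.subtype_injective)

/-- normalizing two subgroups normalizes their intersection -/
theorem le_normalizer_inf {A B C : Subgroup G} (hB : A ≤ normalizer (B : Set G))
    (hC : A ≤ normalizer (C : Set G)) : A ≤ normalizer ((B ⊓ C : Subgroup G) : Set G) := by
  apply Cfsg.Agent.Helper1.le_normalizer_of_forall_conj_mem
  intro a ha y hy
  obtain ⟨hy1, hy2⟩ := Subgroup.mem_inf.mp hy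
  exact Subgroup.mem_inf.mpr ⟨((mem_normalizer_iff.mp (hB ha)) y).mp hy1,
    ((mem_normalizer_iff.mp (hC ha)) y).mp hy2⟩

/-- step (8): `K ≤ F(H ∩ M*)` -/
theorem le_fittingOf_inf {H K Ms : Subgroup G} (hKH : K ≤ H) (hKF : K ≤ fittingHallOf Ms) :
    K ≤ fittingOf (H ⊓ Ms) := by
  have hFMs : fittingHallOf Ms ≤ Ms := Cfsg.Agent.Helper7.fittingHallOf_le Ms
  have hKX : K ≤ fittingHallOf Ms ⊓ (H ⊓ Ms) := le_inf hKF (le_inf hKH (hKF.trans hFMs))
  refine hKX.trans (Cfsg.Agent.Helper1.BG152.le_fittingOf inf_le_right ?_ ?_)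
  · apply le_normalizer_inf
    · exact inf_le_right.trans (Cfsg.Agent.Helper7.le_normalizer_fittingHallOf Ms)
    · exact le_normalizer
  · exact Cfsg.Agent.Helper7.isNilpotent_of_le inf_le_left (isNilpotent_fittingHallOf Ms)

/-- `K ≤ M*_F`, from S1352 and S1364 for `M*` -/
theorem K_le_fittingHallOf {M K Ms : Subgroup G} (c : Ctx M K Ms) (h52 : Hyp1352 G)
    (h64 : Hyp1364 G) : K ≤ fittingHallOf Ms := by
  obtain ⟨Us, hUs⟩ := (h52 Ms c.hMs (Kst M K) c.symm.cyc c.hKstH).1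
  have h := (h64 Ms c.hMs (Kst M K) Us hUs c.Kst_ne_bot).2.2.1
  have h2 : K = sigmaCore Ms ⊓ centralizer ((Kst M K : Subgroup G) : Set G) := c.hKst
  rw [h2]
  exact h

/-- steps (7) and (8) of BG 14.9 in helper8's configuration -/
theorem compl_of_cfg {M K Ms U H : Subgroup G} (d : Cfg M K Ms U H)
    (hpK : (Nat.card K).Prime) (hUT : Cfsg.Agent.Helper23.BG10.UniqThm G) (h15 : H1415 G)
    (h20 : Hyp1420 G) (h29 : Hyp1429 G) (h75 : St1375 G) (hKF : K ≤ fittingHallOf Ms) :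
    IsComplIn (H ⊓ Ms) (sigmaCore H) H ∧ K ≤ fittingOf (H ⊓ Ms) := by
  refine ⟨?_, le_fittingOf_inf d.hKH hKF⟩
  have hTI : ∀ g : G, g ∉ Ms → K ⊓ Ms.map (MulAut.conj g).toMonoidHom = ⊥ := by
    intro g hg
    have h1 := (d.c.h31 Ms d.c.hMs (Kst M K) d.c.hKstH d.c.Kst_ne_bot).1 g hg
    have h2 : sigmaCore Ms ⊓ centralizer ((Kst M K : Subgroup G) : Set G) = K := d.c.hKst.symm
    rw [h2] at h1
    exact h1
  have hK1 : K ≠ ⊥ := d.c.hK1
  have hNK : normalizer (K : Set G) ≤ Ms := by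
    intro g hg
    by_contra hgMs
    apply hK1
    rw [eq_bot_iff, ← hTI g hgMs]
    refine le_inf le_rfl ?_
    intro k hk
    rw [mem_map_conj_iff]
    apply d.c.K_le_Ms
    have hg' : g⁻¹ ∈ normalizer (K : Set G) := inv_mem hg
    have := ((mem_normalizer_iff.mp hg') k).mp hk
    rw [inv_inv] at this
    exact this
  have c : P7 H K Ms :=
    { hG := d.c.hG, hUT := hUT, h50 := d.h50, h15 := h15, h17 := d.h17, h18 := d.h18,
      hH := d.hH, hMs := d.c.hMs, hKH := d.hKH, hKp := hpK, hKσ := d.c.K_le_sigmaCore_Ms,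
      hNK := hNK, hpσ := d.K_not_sigma _ hpK dvd_rfl, hfree := d.K_free,
      hσσ := fun q hqH hqMs => by
        obtain ⟨g, hg⟩ := d.c.h78 Ms H d.c.hMs d.hH ⟨q, hqMs, hqH⟩
        exact d.hnMs g hg }
  -- a complement of `M*_σ` in `M*`, to use S1420 for `M*`
  have hsolvMs : Group.IsSolvable ↥Ms := d.c.hG.2.2.2 Ms d.c.hMs.1
  obtain ⟨Es, hEs, -, -, -⟩ := Cfsg.Agent.Helper1.PiHall.exists_isComplIn_ge
    (d.h50 Ms d.c.hMs).1 (Cfsg.Agent.Helper20.BG12.le_normalizer_sigmaCore' Ms)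
    (bot_le : (⊥ : Subgroup G) ≤ Ms) (fun q hq hd => by
      rw [Subgroup.card_bot] at hd
      exact absurd (Nat.dvd_one.mp hd) hq.one_lt.ne')
  -- facts on `M`
  obtain ⟨k, hk, hk1⟩ := d.c.exists_K_ne_one
  have hUfree : U ⊓ centralizer (K : Set G) = ⊥ := by
    rw [eq_bot_iff, ← d.hUfree k hk hk1]
    exact inf_le_inf le_rfl (centralizer_le (Set.singleton_subset_iff.mpr hk))
  obtain ⟨s, hs, hsU⟩ := d.exists_prime_U
  have : Fact s.Prime := ⟨hs⟩
  obtain ⟨R⟩ : Nonempty (Sylow s ↥U) := inferInstance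
  have hRM := Cfsg.Agent.Helper8.BG149.isSylowIn_M d.hKU d.hallM hsU R
  have hsM : s ∣ Nat.card M := hsU.trans (Subgroup.card_dvd_of_le d.U_le_M)
  have h29M := h29 M d.c.hM d.not_P1 s hsM
    (by
      rintro (h | h)
      · exact d.U_not_sigma hs hsU h
      · exact d.U_not_kappa hs hsU h) hRM.toSylow
  have hnilM : Group.IsNilpotent ↥(sigmaCore M) := h29M.2.2
  have hCU : sigmaCore M ⊓ centralizer (U : Set G) = ⊥ := by
    rw [eq_bot_iff, ← h29M.2.1]
    refine inf_le_inf le_rfl (centralizer_le ?_)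
    have : closure {x : G | x ∈ (hRM.toSylow : Subgroup ↥M).map M.subtype ∧ x ^ s = 1} ≤ U := by
      rw [closure_le]
      intro x hx
      have h1 := hx.1
      rw [hRM.map_toSylow] at h1
      obtain ⟨u, -, rfl⟩ := h1
      exact u.2
    exact this
  refine c.compl d.c.h32 h75 d.c.h78 d.kappa_eq_empty
    (fun E hE => (h20 H d.hH E hE).2.1) (h20 Ms d.c.hMs Es hEs).2.2.1 hTI d.c.hM d.hKU hUfree
    hnilM hCU (fun L hL hne => Cfsg.Agent.Helper14.BG1369.part2 d.c L hL hne) ?_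
  intro L hL hKL hκL hpL
  have : Fact (Nat.card K).Prime := ⟨hpK⟩
  have hpLd : Nat.card K ∣ Nat.card L := Subgroup.card_dvd_of_le hKL
  have hP1 : ¬ (∀ q : ℕ, q.Prime → q ∣ Nat.card L → q ∉ sigma L → q ∈ kappa L) := by
    intro h
    have := h _ hpK hpLd hpL
    rw [hκL] at this
    exact this
  have hnot : Nat.card K ∉ sigma L ∪ kappa L := by
    rintro (h | h)
    · exact hpL h
    · rw [hκL] at h; exact h
  exact (h29 L hL hP1 (Nat.card K) hpLd hnot default).2.2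

end Cfsg.Agent.Helper16.BG149
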