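import Mathlib
import Cfsg.Prelude.Def_OddOrder
import Cfsg.Prelude.Def_OddOrderLocal
import Cfsg.Prelude.Def_Solvable
import Cfsg.Agent.Lib.Helper16.BG149P7

/-!
# BG 14.12 (S1376), piece (5): a freely acting complement of `M_σ` is a Frobenius complement
(helper16)

* `isFrobeniusComplement_of_free`: a nontrivial complement `E₁` of `M_σ ≠ 1` in `M`, no
  non-identity element of which centralizes a non-identity element of `M_σ`, is a Frobenius
  complement of `M` (as a subgroup of `↥M`).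
* `free_of_tau2_empty`: if `κ(M) = ∅` and `τ₂(M) = ∅`, every complement of `M_σ` in `M` acts
  freely on `M_σ` (from the frozen statement S1432).
-/

set_option autoImplicit false
set_option linter.unusedSectionVars false
set_option linter.unusedVariables false

namespace Cfsg.Agent.Helper16.BG1412

open Cfsg Subgroup
open Cfsg.Agent.Helper16.BG147 (St1432)
open Cfsg.Agent.Helper22.BG13 (Hyp1350)

universe u

variable {G : Type u} [Group G] [Finite G]

omit [Finite G] in
/-- a freely acting nontrivial complement of `M_σ ≠ 1` in `M` is a Frobenius complement of `M` -/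
theorem isFrobeniusComplement_of_free {M E1 : Subgroup G}
    (hE : IsComplIn E1 (sigmaCore M) M) (hE1 : E1 ≠ ⊥) (hσ : sigmaCore M ≠ ⊥)
    (hfree : ∀ e ∈ E1, e ≠ 1 → sigmaCore M ⊓ centralizer ({e} : Set G) = ⊥) :
    IsFrobeniusComplement (E1.subgroupOf M) := by
  obtain ⟨hEM, hSM, hES, hprod⟩ := hE
  have hnσ : M ≤ normalizer (sigmaCore M : Set G) :=
    Cfsg.Agent.Helper20.BG12.le_normalizer_sigmaCore' M
  refine ⟨?_, ?_, ?_⟩
  · intro h
    rw [Subgroup.subgroupOf_eq_bot] at h
    apply hE1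
    have := h.eq_bot
    rwa [inf_eq_left.mpr hEM] at this
  · intro h
    rw [Subgroup.subgroupOf_eq_top] at h
    apply hσ
    rw [eq_bot_iff, ← hES]
    exact le_inf (hSM.trans h) le_rfl
  · intro g hg
    rw [eq_bot_iff]
    intro y hy
    rw [mem_bot]
    obtain ⟨hy1, hy2⟩ := Subgroup.mem_inf.mp hy
    rw [Subgroup.mem_pointwise_smul_iff_inv_smul_mem] at hy2
    -- unfold to `G`
    have hgM : (g : G) ∈ M := g.2
    have hgE : (g : G) ∉ E1 := fun h => hg (Subgroup.mem_subgroupOf.mpr h)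
    have hyE : (y : G) ∈ E1 := Subgroup.mem_subgroupOf.mp hy1
    have heE : (g : G)⁻¹ * (y : G) * (g : G) ∈ E1 := by
      have := Subgroup.mem_subgroupOf.mp hy2
      simpa [MulAut.smul_def, MulAut.conj_inv_apply] using this
    by_contra hne
    have hyne : (y : G) ≠ 1 := fun h => hne (Subtype.ext h)
    obtain ⟨a, ha, b, hb, hgab⟩ := hprod (g : G) hgM
    have hb1 : b ≠ 1 := by
      intro h
      apply hgE
      rw [hgab, h, mul_one]
      exact ha
    set e : G := (g : G)⁻¹ * (y : G) * (g : G) with he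
    have he1 : e ≠ 1 := by
      intro h
      apply hyne
      have : (y : G) = (g : G) * e * (g : G)⁻¹ := by rw [he]; group
      rw [this, h]; group
    -- `e' := a⁻¹ y a = b e b⁻¹ ∈ E1`
    have he' : b * e * b⁻¹ ∈ E1 := by
      have h1 : b * e * b⁻¹ = a⁻¹ * (y : G) * a := by
        rw [he, hgab]; group
      rw [h1]
      exact E1.mul_mem (E1.mul_mem (E1.inv_mem ha) hyE) ha
    have heM : e ∈ M := hEM heE
    have hcomm : b * e * b⁻¹ * e⁻¹ ∈ E1 ⊓ sigmaCore M := by
      refine Subgroup.mem_inf.mpr ⟨E1.mul_mem he' (E1.inv_mem heE), ?_⟩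
      have h2 : e * b⁻¹ * e⁻¹ ∈ sigmaCore M :=
        ((mem_normalizer_iff.mp (hnσ heM)) b⁻¹).mp ((sigmaCore M).inv_mem hb)
      have h3 : b * e * b⁻¹ * e⁻¹ = b * (e * b⁻¹ * e⁻¹) := by group
      rw [h3]
      exact (sigmaCore M).mul_mem hb h2
    rw [hES, mem_bot] at hcomm
    have hbe : b * e = e * b := by
      have h4 : b * e * b⁻¹ * e⁻¹ * (e * b) = e * b := by rw [hcomm, one_mul]
      have h5 : b * e * b⁻¹ * e⁻¹ * (e * b) = b * e := by group
      rw [← h5, h4]
    have hbmem : b ∈ sigmaCore M ⊓ centralizer ({e} : Set G) := by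
      refine Subgroup.mem_inf.mpr ⟨hb, ?_⟩
      rw [mem_centralizer_iff]
      intro w hw
      rw [Set.mem_singleton_iff] at hw
      rw [hw]; exact hbe.symm
    rw [hfree e heE he1, mem_bot] at hbmem
    exact hb1 hbmem

/-- if `κ(M) = ∅` and `τ₂(M) = ∅` then every complement of `M_σ` in `M` acts freely on `M_σ` -/
theorem free_of_tau2_empty {M E1 : Subgroup G} (h32 : St1432 G) (hM : IsCoatom M)
    (hκ : kappa M = ∅) (hτ : ∀ s, s ∉ tau2 M) (hE : IsComplIn E1 (sigmaCore M) M)
    (h50 : Hyp1350 G) :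
    ∀ e ∈ E1, e ≠ 1 → sigmaCore M ⊓ centralizer ({e} : Set G) = ⊥ := by
  intro e he he1
  rw [eq_bot_iff]
  intro y hy
  rw [mem_bot]
  by_contra hy1
  obtain ⟨hyσ, hyc⟩ := Subgroup.mem_inf.mp hy
  have hhall : IsPiHallOf (sigma M) (sigmaCore M) M := (h50 M hM).1
  have hey : e * y = y * e := (mem_centralizer_iff.mp hyc) e (Set.mem_singleton e)
  have hem : e ∈ M ⊓ centralizer ({y} : Set G) := by
    refine Subgroup.mem_inf.mpr ⟨hE.1 he, ?_⟩
    rw [mem_centralizer_iff]
    intro w hw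
    rw [Set.mem_singleton_iff] at hw
    rw [hw]; exact hey.symm
  have hσ : ∀ p : ℕ, p.Prime → p ∣ orderOf e → p ∉ sigma M := fun p hp hd =>
    Cfsg.Agent.Helper20.BG12.not_mem_sigma_of_dvd_card_compl hhall hE hp
      (hd.trans (Subgroup.orderOf_dvd_natCard E1 he))
  have hord : orderOf e ≠ 1 := fun h => he1 (orderOf_eq_one_iff.mp h)
  obtain ⟨p, hp, hpd⟩ := Nat.exists_prime_and_dvd hord
  rcases h32 M hM y hyσ hy1 e hem he1 hσ with h | h
  · have := h.1 p hp hpd
    rw [hκ] at this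
    exact this
  · exact hτ p (h.1 p hp hpd)

end Cfsg.Agent.Helper16.BG1412
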