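import Mathlib
import Cfsg.Prelude.Def_OddOrder
import Cfsg.Prelude.Def_OddOrderLocal
import Cfsg.Agent.Lib.Helper11.BG1413B
import Cfsg.Agent.Lib.Helper14.BGUniqF

/-!
# BG 14.13 (S1436), part (b) (helper16)

If `x, y ∈ M_σ#` have centralizers not contained in `M`, lying in the maximal subgroups `N`, `N'`,
and `N'` is conjugate to `N` in `G`, then it is conjugate to `N` by an element of `M`.
-/

set_option autoImplicit false

namespace Cfsg.Agent.Helper16.BG1413

open Cfsg Subgroup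
open Cfsg.Agent.Helper11.BG1413 (Hyps isPiHallOf_compl)
open Cfsg.Agent.Helper15 (mem_map_conj_iff map_conj_map_conj map_conj_one map_conj_eq_self_of_mem
  card_map_conj)

universe u

variable {G : Type u} [Group G] [Finite G]

omit [Finite G] in
/-- Hall subgroups are transported by conjugation -/
theorem isPiHallOf_map_conj {π : Set ℕ} {H M : Subgroup G} (h : IsPiHallOf π H M) (g : G) :
    IsPiHallOf π (H.map (MulAut.conj g).toMonoidHom) (M.map (MulAut.conj g).toMonoidHom) := by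
  refine ⟨Subgroup.map_mono h.1, ?_, ?_⟩
  · intro p hp hd
    rw [card_map_conj] at hd
    exact h.2.1 p hp hd
  · intro p hp hpπ hd
    rw [Subgroup.relIndex_map_map_of_injective _ _ (MulAut.conj g).injective] at hd
    exact h.2.2 p hp hpπ hd

/-- BG 14.13(b) -/
theorem partB (h : Hyps G) {M N : Subgroup G} (hM : IsCoatom M) {x : G} (hx : x ∈ sigmaCore M)
    (hx1 : x ≠ 1) (hxM : ¬ centralizer ({x} : Set G) ≤ M) (hN : IsCoatom N)
    (hxN : centralizer ({x} : Set G) ≤ N) :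
    ∀ (y : G) (N' : Subgroup G) (g : G), y ∈ sigmaCore M → y ≠ 1 →
      ¬ centralizer ({y} : Set G) ≤ M → IsCoatom N' → centralizer ({y} : Set G) ≤ N' →
      N'.map (MulAut.conj g).toMonoidHom = N →
      ∃ m ∈ M, N'.map (MulAut.conj m).toMonoidHom = N := by
  intro y N' g hy hy1 hyM hN' hyN' hg
  -- the complements `M ∩ N`, `M ∩ N'`
  obtain ⟨N₀, ⟨-, -⟩, huniq, -, -, -, hcompl, -⟩ := h.h75 M hM x hx hx1 hxM
  have hNN₀ : N = N₀ := huniq N hN hxN
  rw [← hNN₀] at hcompl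
  obtain ⟨N₁, ⟨-, -⟩, huniq', -, -, -, hcompl', -⟩ := h.h75 M hM y hy hy1 hyM
  have hNN₁ : N' = N₁ := huniq' N' hN' hyN'
  rw [← hNN₁] at hcompl'
  have hE := isPiHallOf_compl (h.h50 N hN).1 hcompl
  have hE' := isPiHallOf_compl (h.h50 N' hN').1 hcompl'
  have hE'g := isPiHallOf_map_conj hE' g
  have hσ : sigma N' = sigma N := by
    rw [← hg, Cfsg.Agent.Helper16.BG145.sigma_map_conj]
  rw [hg, hσ] at hE'g
  have hsolv : Group.IsSolvable ↥N := h.hG.2.2.2 N hN.1
  obtain ⟨n, hn, hconj⟩ := Cfsg.Agent.Helper1.PiHall.exists_conj_of_isPiHallOf hE'g hE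
  -- `y` is moved into `M` by `n g`
  have hyE' : y ∈ M ⊓ N' := by
    refine Subgroup.mem_inf.mpr ⟨Cfsg.Agent.Helper11.BG1413.sigmaCore_le M hy, hyN' ?_⟩
    rw [mem_centralizer_iff]
    intro w hw
    rw [Set.mem_singleton_iff] at hw
    rw [hw]
  have h1 : (n * g) * y * (n * g)⁻¹ ∈ M := by
    have h2 : n * (g * y * g⁻¹) * n⁻¹ ∈ M ⊓ N := by
      rw [← hconj]
      exact ⟨g * y * g⁻¹, ⟨y, hyE', rfl⟩, rfl⟩
    have e : (n * g) * y * (n * g)⁻¹ = n * (g * y * g⁻¹) * n⁻¹ := by group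
    rw [e]
    exact (Subgroup.mem_inf.mp h2).1
  -- S1374 for `y`
  obtain ⟨-, R, -, hRc, hR⟩ := h.h74 M hM y hy hy1
  have hyconj : y ∈ M.map (MulAut.conj (n * g)⁻¹).toMonoidHom := by
    rw [mem_map_conj_iff, inv_inv]
    exact h1
  obtain ⟨r, ⟨hrR, hrM⟩, -⟩ := hR (n * g)⁻¹ hyconj
  have hrN' : r ∈ N' := hyN' (hRc.2.1 hrR)
  refine ⟨n * g * r, ?_, ?_⟩
  · have hnorm : n * g * r ∈ normalizer (M : Set G) := by
      apply Cfsg.Agent.Helper14.BGUniq.mem_normalizer_of_map_conj_eq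
      rw [← map_conj_map_conj M (n * g) r, hrM, map_conj_map_conj, mul_inv_cancel, map_conj_one]
    rw [Cfsg.Agent.Helper4.BG144.normalizer_coatom h.hG hM] at hnorm
    exact hnorm
  · rw [← map_conj_map_conj N' (n * g) r, map_conj_eq_self_of_mem hrN',
      ← map_conj_map_conj N' n g, hg, map_conj_eq_self_of_mem hn]

end Cfsg.Agent.Helper16.BG1413
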