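import Mathlib
import Cfsg.Prelude.Def_Blocks
import Cfsg.Agent.Lib.Helper24.CharLinear
import Cfsg.Agent.Lib.Helper24.CharInduced
import Cfsg.Agent.Lib.Helper24.CharComplete
import Cfsg.Agent.Lib.Helper10.BR996Defs
import Cfsg.Agent.S1230

/-!
# S0996 piece ENDE (helper16): the ending `w = 2` via S1230 (elementary abelian involution centralizers)
-/

set_option autoImplicit false
set_option linter.unusedSectionVars false
set_option linter.unusedVariables false

namespace Cfsg.Agent.Helper10.BR996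

open scoped ComplexConjugate
open Cfsg Cfsg.Agent.Helper24

universe u

variable {G : Type u} [Group G] [Fintype G] [Fintype (IrrCharacter G)]
  (p : ℕ) [Fact p.Prime] (P : Subgroup G)

local notation "𝒩" => Subgroup.normalizer (P : Set G)

namespace ENDE

omit [Fintype (IrrCharacter G)] in
/-- a subgroup all of whose elements square to `1` is commutative -/
theorem comm_of_sq (K : Subgroup G) (h : ∀ x ∈ K, x * x = 1) : ∀ a ∈ K, ∀ b ∈ K, a * b = b * a := by
  intro a ha b hb
  have hab := h (a * b) (K.mul_mem ha hb)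
  have ha' := h a ha
  have hb' := h b hb
  calc a * b = a * (a * b * (a * b)) * b := by rw [hab, mul_one]
    _ = (a * a) * (b * a) * (b * b) := by group
    _ = b * a := by rw [ha', hb', one_mul, mul_one]

omit [Fintype (IrrCharacter G)] in
/-- the class of `τ` has at most `|C_G(τ)|` elements inside a normal `C_G(τ)`: `|G| ≤ |C|²` -/
theorem card_le_sq_of_normal (τ : G)
    (hnorm : ∀ g : G, g * τ * g⁻¹ ∈ Subgroup.centralizer ({τ} : Set G)) :
    Nat.card G ≤ Nat.card (Subgroup.centralizer ({τ} : Set G)) ^ 2 := by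
  classical
  have memC : ∀ g : G, g ∈ Subgroup.centralizer ({τ} : Set G) ↔ g * τ = τ * g := by
    intro g
    rw [Subgroup.mem_centralizer_iff]
    simp only [Set.mem_singleton_iff, forall_eq]
    exact eq_comm
  have hex : ∀ x : G, ∃ g : G, (∃ h : G, h * τ * h⁻¹ = x) → g * τ * g⁻¹ = x := by
    intro x
    by_cases h : ∃ h : G, h * τ * h⁻¹ = x
    · obtain ⟨h0, hh0⟩ := h
      exact ⟨h0, fun _ => hh0⟩
    · exact ⟨1, fun h' => absurd h' h⟩
  choose gx hgx using hex
  let F : G → (Subgroup.centralizer ({τ} : Set G)) × (Subgroup.centralizer ({τ} : Set G)) := fun g =>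
    (⟨g * τ * g⁻¹, hnorm g⟩, ⟨(gx (g * τ * g⁻¹))⁻¹ * g, by
      have h1 := hgx (g * τ * g⁻¹) ⟨g, rfl⟩
      rw [memC]
      have h2 : (gx (g * τ * g⁻¹))⁻¹ * (g * τ * g⁻¹) * gx (g * τ * g⁻¹) = τ := by
        nth_rewrite 2 [← h1]; group
      calc (gx (g * τ * g⁻¹))⁻¹ * g * τ
          = ((gx (g * τ * g⁻¹))⁻¹ * (g * τ * g⁻¹) * gx (g * τ * g⁻¹)) * ((gx (g * τ * g⁻¹))⁻¹ * g) := by
            group
        _ = τ * ((gx (g * τ * g⁻¹))⁻¹ * g) := by rw [h2]⟩)
  have hFinj : Function.Injective F := by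
    intro g g' hF
    simp only [F, Prod.mk.injEq, Subtype.mk.injEq] at hF
    obtain ⟨hx, h1⟩ := hF
    rw [hx] at h1
    exact mul_left_cancel h1
  have hle := Nat.card_le_card_of_injective F hFinj
  rw [Nat.card_prod] at hle
  rw [pow_two]
  exact hle

open scoped Pointwise in
theorem conj_mem_of_smul_eq {H : Type*} [Group H] {q : ℕ} (T' T : Sylow q H) (g : H)
    (hg : g • T' = T) (t : H) (ht : t ∈ (T' : Subgroup H)) :
    g * t * g⁻¹ ∈ (T : Subgroup H) := by
  rw [← hg, Sylow.smul_def, Sylow.pointwise_smul_def,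
    Subgroup.mem_pointwise_smul_iff_inv_smul_mem]
  have e : (MulAut.conj g)⁻¹ • (g * t * g⁻¹) = t := by
    rw [MulAut.smul_def, ← map_inv, MulAut.conj_apply]; group
  rw [e]; exact ht

end ENDE

/-- PIECE ENDE (S1230): `w = 2`. -/
theorem endE (hcard : Nat.card P = p) (hcent : Subgroup.centralizer (P : Set G) ≤ P)
    (hp5 : 5 ≤ p) (n : ℕ) (hidx : (𝒩).index = 1 + n * p) (hw : P.relIndex 𝒩 = 2) (hn : 2 * n + 3 = p)
    (τ : G) (hτ2 : τ * τ = 1) (hτ1 : τ ≠ 1)
    (hc : Nat.card (Subgroup.centralizer ({τ} : Set G)) = p - 1)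
    (hinv : ∀ x ∈ Subgroup.centralizer ({τ} : Set G), x ≠ 1 → x * x = 1 ∧ IsConj x τ) :
    ∃ (m : ℕ) (F : Type) (_ : Field F) (_ : Fintype F), Fintype.card F = 2 ^ m ∧ p = 2 ^ m + 1 ∧
      3 < p ∧ Nonempty (G ≃* Matrix.ProjectiveSpecialLinearGroup (Fin 2) F) := by
  classical
  have : Fact (Nat.Prime 2) := ⟨Nat.prime_two⟩
  have memC : ∀ g : G, g ∈ Subgroup.centralizer ({τ} : Set G) ↔ g * τ = τ * g := by
    intro g
    rw [Subgroup.mem_centralizer_iff]
    simp only [Set.mem_singleton_iff, forall_eq]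
    exact eq_comm
  have hsq : ∀ x ∈ Subgroup.centralizer ({τ} : Set G), x * x = 1 := by
    intro x hx
    by_cases h : x = 1
    · rw [h, one_mul]
    · exact (hinv x hx h).1
  -- `C` is a 2-group
  have hC2 : IsPGroup 2 (Subgroup.centralizer ({τ} : Set G)) := by
    rintro ⟨x, hx⟩
    refine ⟨1, ?_⟩
    apply Subtype.ext
    simp only [pow_one, pow_two, Subgroup.coe_mul, Subgroup.coe_one]
    exact hsq x hx
  obtain ⟨m, hm⟩ := (IsPGroup.iff_card (p := 2)).mp hC2
  rw [hc] at hm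
  -- the order of `G`
  have hPN : P ≤ 𝒩 := Subgroup.le_normalizer
  have hG : Nat.card G = p * ((p - 1) * (p - 2)) := by
    rw [← Subgroup.card_mul_index P, ← Subgroup.relIndex_mul_index hPN, hcard, hw, hidx]
    congr 1
    obtain ⟨k, rfl⟩ : ∃ k, p = k + 3 := ⟨p - 3, by omega⟩
    have hn' : n * 2 = k := by omega
    have : k + 3 - 1 = k + 2 := by omega
    rw [this]
    have : k + 3 - 2 = k + 1 := by omega
    rw [this, ← hn']
    ring
  have hpodd : Odd p := by
    rw [← hn]; exact ⟨n + 1, by ring⟩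
  have hp2odd : Odd (p - 2) := by
    have : p - 2 = 2 * n + 1 := by omega
    rw [this]; exact ⟨n, rfl⟩
  -- `C` is a Sylow 2-subgroup
  obtain ⟨T, hCT⟩ := hC2.exists_le_sylow
  have hTC : Subgroup.centralizer ({τ} : Set G) = (T : Subgroup G) := by
    apply Subgroup.eq_of_le_of_card_ge hCT
    obtain ⟨k, hk⟩ := (IsPGroup.iff_card (p := 2)).mp T.isPGroup'
    have hdvd : 2 ^ k ∣ Nat.card G := hk ▸ Subgroup.card_subgroup_dvd_card _
    rw [hG, hm] at hdvd
    have hcop : Nat.Coprime (2 ^ k) (p * (p - 2)) := by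
      apply Nat.Coprime.pow_left
      rw [Nat.coprime_two_left]
      exact hpodd.mul hp2odd
    have hdvd' : 2 ^ k ∣ 2 ^ m * (p * (p - 2)) := by
      have e : p * (2 ^ m * (p - 2)) = 2 ^ m * (p * (p - 2)) := by ring
      rwa [e] at hdvd
    have h2 : 2 ^ k ∣ 2 ^ m := hcop.dvd_of_dvd_mul_right hdvd'
    rw [hk, hc, hm]
    exact Nat.le_of_dvd (by positivity) h2
  have hp1 : 4 ≤ p - 1 := by omega
  -- not cyclic
  have hnc : ¬ IsCyclic (T : Subgroup G) := by
    intro hcyc
    obtain ⟨g, hg⟩ := IsCyclic.exists_ofOrder_eq_natCard (α := (T : Subgroup G))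
    have hgC : (g : G) ∈ Subgroup.centralizer ({τ} : Set G) := by rw [hTC]; exact g.2
    have h1 : g ^ 2 = 1 := by
      apply Subtype.ext
      simp only [pow_two, Subgroup.coe_mul, Subgroup.coe_one]
      exact hsq _ hgC
    have h2 : orderOf g ∣ 2 := orderOf_dvd_of_pow_eq_one h1
    have h3 : orderOf g ≤ 2 := Nat.le_of_dvd (by norm_num) h2
    rw [hg, ← hTC, hc] at h3
    omega
  -- not normal
  have hnn : ¬ (T : Subgroup G).Normal := by
    intro hnorm
    have h1 : ∀ g : G, g * τ * g⁻¹ ∈ Subgroup.centralizer ({τ} : Set G) := by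
      intro g
      rw [hTC]
      apply hnorm.conj_mem
      rw [← hTC, memC]
    have h2 := ENDE.card_le_sq_of_normal τ h1
    rw [hG, hc] at h2
    -- p (p-1)(p-2) ≤ (p-1)^2
    obtain ⟨k, rfl⟩ : ∃ k, p = k + 5 := ⟨p - 5, by omega⟩
    have e1 : k + 5 - 1 = k + 4 := by omega
    have e2 : k + 5 - 2 = k + 3 := by omega
    rw [e1, e2] at h2
    nlinarith
  -- involution centralizers
  have hCt : ∀ t : G, orderOf t = 2 →
      IsMulCommutative (Subgroup.centralizer ({t} : Set G)) ∧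
        ∀ c ∈ Subgroup.centralizer ({t} : Set G), c ^ 2 = 1 := by
    intro t ht
    -- `t` lies in a conjugate of `T`
    have ht2 : IsPGroup 2 (Subgroup.zpowers t) := by
      apply IsPGroup.of_card (n := 1)
      rw [Nat.card_zpowers, ht, pow_one]
    obtain ⟨T', hT'⟩ := ht2.exists_le_sylow
    obtain ⟨g, hg⟩ := MulAction.exists_smul_eq G T' T
    have htT' : t ∈ (T' : Subgroup G) := hT' (Subgroup.mem_zpowers t)
    have hgt : g * t * g⁻¹ ∈ (T : Subgroup G) := by
      exact ENDE.conj_mem_of_smul_eq T' T g hg t htT'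
    have hne : g * t * g⁻¹ ≠ 1 := by
      intro h
      have : t = 1 := by
        have e : t = g⁻¹ * (g * t * g⁻¹) * g := by group
        rw [e, h]; group
      rw [this, orderOf_one] at ht
      omega
    rw [← hTC] at hgt
    obtain ⟨_, hconj⟩ := hinv _ hgt hne
    rw [isConj_iff] at hconj
    obtain ⟨c0, hc0⟩ := hconj
    -- t = h τ h⁻¹ with h = g⁻¹ c0⁻¹
    have hth : t = (g⁻¹ * c0⁻¹) * τ * (g⁻¹ * c0⁻¹)⁻¹ := by
      rw [← hc0]; group
    have memCt : ∀ c : G, c ∈ Subgroup.centralizer ({t} : Set G) ↔ c * t = t * c := by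
      intro c
      rw [Subgroup.mem_centralizer_iff]
      simp only [Set.mem_singleton_iff, forall_eq]
      exact eq_comm
    have hsqt : ∀ c ∈ Subgroup.centralizer ({t} : Set G), c * c = 1 := by
      intro c hcc
      rw [memCt] at hcc
      set h := g⁻¹ * c0⁻¹ with hh
      have h3 : h⁻¹ * c * h ∈ Subgroup.centralizer ({τ} : Set G) := by
        rw [memC]
        have e1 : τ = h⁻¹ * t * h := by rw [hth]; group
        rw [e1]
        calc h⁻¹ * c * h * (h⁻¹ * t * h) = h⁻¹ * (c * t) * h := by group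
          _ = h⁻¹ * (t * c) * h := by rw [hcc]
          _ = h⁻¹ * t * h * (h⁻¹ * c * h) := by group
      have h4 := hsq _ h3
      calc c * c = h * ((h⁻¹ * c * h) * (h⁻¹ * c * h)) * h⁻¹ := by group
        _ = 1 := by rw [h4]; group
    refine ⟨⟨⟨fun a b => Subtype.ext ?_⟩⟩, fun c hcc => by rw [pow_two]; exact hsqt c hcc⟩
    exact ENDE.comm_of_sq _ hsqt a a.2 b b.2
  obtain ⟨F, hF1, hF2, hFcard, hiso⟩ := Cfsg.Agent.S1230.result T hnc hnn hCt
  refine ⟨m, F, hF1, hF2, ?_, ?_, by omega, hiso⟩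
  · rw [hFcard, ← hTC, hc, hm]
  · omega

end Cfsg.Agent.Helper10.BR996
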