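import Mathlib
import Cfsg.Prelude.Def_Blocks
import Cfsg.Agent.Lib.Helper16.BSInduce

/-!
# The Brauer–Suzuki induction, second form (helper16's library)
-/

set_option autoImplicit false

namespace Cfsg.Agent.Helper16

open Cfsg Cfsg.Agent.Helper24

universe u

open scoped ComplexConjugate

section Induce

variable {G : Type u} [Group G] [Fintype G]

/-- **The Brauer–Suzuki induction**, exposing the induced class function itself. -/
theorem bs_induction' (C : Subgroup G) (b : G) (ν : ↥C →* ℂˣ)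
    (hb : ∀ x : G, x ∈ C → b⁻¹ * x * b ∈ C) (hbC : b ∉ C)
    (hνb : ∀ (x : G) (hx : x ∈ C), ν ⟨b⁻¹ * x * b, hb x hx⟩ = (ν ⟨x, hx⟩)⁻¹)
    (hfus : ∀ (x : G) (hx : x ∈ C), ν ⟨x, hx⟩ ≠ 1 →
      ∀ g : G, g⁻¹ * x * g ∈ C → g ∈ C ∨ b⁻¹ * g ∈ C)
    (hν2 : ∃ x, ν x ^ 2 ≠ 1) :
    ∃ χ₁ χ₂ : G → ℂ, IsIrrCharacter G χ₁ ∧ IsIrrCharacter G χ₂ ∧ χ₁ ≠ (fun _ => 1) ∧
      χ₂ ≠ (fun _ => 1) ∧ χ₁ 1 = χ₂ 1 + 1 ∧
      ∀ g : G, indFun C (bsPhi C ν) g = 1 + χ₂ g - χ₁ g := by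
  classical
  haveI : Fintype C := Fintype.ofFinite C
  set Θ : G → ℂ := indFun C (bsPhi C ν) with hΘ
  have hcf : IsClassFunction G Θ := isClassFunction_indFun C _
  have hC : (Nat.card C : ℂ) ≠ 0 := by
    have : Nat.card C ≠ 0 := Nat.card_pos.ne'
    exact_mod_cast this
  -- the values on `C`
  have hform : ∀ x : C, ν x ≠ 1 →
      Θ x = 2 - ((ν x : ℂˣ) : ℂ) - (((ν x)⁻¹ : ℂˣ) : ℂ) := by
    intro x hx
    rw [hΘ, bs_formula C b ν hb hbC x x.2 (hfus x x.2 hx)]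
    unfold bsPhi
    rw [hνb x x.2]
    ring
  have hν1 : ∃ x, ν x ≠ 1 := by
    obtain ⟨x, hx⟩ := hν2
    exact ⟨x, fun h => hx (by rw [h, one_pow])⟩
  have hνinv : ∃ x, ν⁻¹ x ≠ 1 := by
    obtain ⟨x, hx⟩ := hν1
    exact ⟨x, by rw [MonoidHom.inv_apply]; exact inv_ne_one.2 hx⟩
  have hνsq : ∃ x, (ν * ν) x ≠ 1 := by
    obtain ⟨x, hx⟩ := hν2
    exact ⟨x, by rw [MonoidHom.mul_apply, ← sq]; exact hx⟩
  have hterm : ∀ x : C, bsPhi C ν x * conj (Θ x) =
      3 - ((ν⁻¹ x : ℂˣ) : ℂ) - 3 * ((ν x : ℂˣ) : ℂ) + (((ν * ν) x : ℂˣ) : ℂ) := by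
    intro x
    have hw0 : ((ν x : ℂˣ) : ℂ) ≠ 0 := Units.ne_zero _
    have hwc : conj ((ν x : ℂˣ) : ℂ) = ((ν x : ℂˣ) : ℂ)⁻¹ := by
      rw [conj_units_hom, Units.val_inv_eq_inv_val]
    rw [MonoidHom.inv_apply, MonoidHom.mul_apply, Units.val_inv_eq_inv_val, Units.val_mul]
    by_cases hx : ν x = 1
    · unfold bsPhi
      rw [hx]
      simp
    · rw [hform x hx]
      unfold bsPhi
      rw [Units.val_inv_eq_inv_val, map_sub, map_sub, map_inv₀, hwc, inv_inv, map_ofNat]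
      field_simp
      ring
  -- the norm
  have h3 : classInner Θ Θ = 3 := by
    rw [hΘ, frobenius_reciprocity C _ hcf]
    unfold classInner
    rw [Finset.sum_congr rfl (fun x _ => hterm x)]
    simp only [Finset.sum_add_distrib, Finset.sum_sub_distrib, ← Finset.mul_sum,
      sum_units_hom_eq_zero ν hν1, sum_units_hom_eq_zero _ hνinv, sum_units_hom_eq_zero _ hνsq,
      Finset.sum_const, Finset.card_univ, nsmul_eq_mul, ← Nat.card_eq_fintype_card]
    field_simp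
    ring
  have h1 : classInner Θ (fun _ => (1 : ℂ)) = 1 := by
    have hcf1 : IsClassFunction G (fun _ => (1 : ℂ)) := fun _ _ => rfl
    rw [hΘ, frobenius_reciprocity C _ hcf1]
    unfold classInner bsPhi
    simp only [map_one, mul_one, Finset.sum_sub_distrib, sum_units_hom_eq_zero ν hν1,
      Finset.sum_const, Finset.card_univ, nsmul_eq_mul, ← Nat.card_eq_fintype_card]
    field_simp
    ring
  have h0 : Θ 1 = 0 := by
    rw [hΘ, indFun_one]
    unfold bsPhi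
    rw [map_one, Units.val_one, sub_self, mul_zero]
  -- integrality of the multiplicities
  have hint : ∀ χ : G → ℂ, IsIrrCharacter G χ → ∃ m : ℤ, classInner Θ χ = m := by
    intro χ hχ
    have hχc : IsCharacter G χ := isCharacter_of_isIrrCharacter hχ
    rw [hΘ, frobenius_reciprocity C _ (isClassFunction_of_isCharacter hχc)]
    have hres : IsCharacter C (fun h : C => χ h) := isCharacter_restrict C hχc
    have hνc : IsCharacter C (fun x : C => ((ν x : ℂˣ) : ℂ)) :=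
      isCharacter_of_isIrrCharacter (isIrrCharacter_of_monoidHom ν)
    letI : Fintype (IrrCharacter C) := irrFintype
    obtain ⟨n₁, hn₁⟩ := classInner_char_nat (isCharacter_one (G := C)) hres
    obtain ⟨n₂, hn₂⟩ := classInner_char_nat hνc hres
    have hphi : bsPhi C ν = (fun _ => (1 : ℂ)) + (-1 : ℂ) • (fun x : C => ((ν x : ℂˣ) : ℂ)) := by
      ext x
      unfold bsPhi
      simp only [Pi.add_apply, Pi.smul_apply, smul_eq_mul]
      ring
    refine ⟨(n₁ : ℤ) - n₂, ?_⟩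
    rw [hphi, classInner_add_left, classInner_smul_left, hn₁, hn₂]
    push_cast
    ring
  obtain ⟨χ₁, χ₂, hχ₁, hχ₂, hne₁, hne₂, hdeg, hval⟩ := exists_of_norm_three hcf hint h3 h1 h0
  exact ⟨χ₁, χ₂, hχ₁, hχ₂, hne₁, hne₂, hdeg, hval⟩

end Induce

end Cfsg.Agent.Helper16
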