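import Mathlib
import Cfsg.Agent.Lib.Helper3.BcgloBasic

set_option autoImplicit false

/-!
Piece A2 of S5110 (helper16): a crossing configuration can be pushed up to one with a strictly larger
source, when `P` is fully normalized.
-/

namespace Cfsg.Agent.Helper16.BcgloA2

open Cfsg Cfsg.FusionSystem Cfsg.Agent.Helper25 Cfsg.Agent.Helper3.Bcglo

variable {Ω : Type*} [Group Ω] {S : Subgroup Ω}

/-- The image of a map defined on a subgroup of `N_S(B)` normalizes the image of `B`. -/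
theorem range_le_normalizerIn_map {A B : Subgroup Ω} {θ : A →* Ω} (hθS : ∀ x, θ x ∈ S)
    (hAN : A ≤ normalizerIn S B) : θ.range ≤ normalizerIn S ((B.subgroupOf A).map θ) := by
  rintro _ ⟨x, rfl⟩
  rw [mem_normalizerIn]
  refine ⟨hθS x, ?_⟩
  have key : ∀ x : A, ∀ z ∈ (B.subgroupOf A).map θ, θ x * z * (θ x)⁻¹ ∈ (B.subgroupOf A).map θ := by
    rintro x _ ⟨u, hu, rfl⟩
    refine ⟨x * u * x⁻¹, ?_, by rw [map_mul, map_mul, map_inv]⟩
    have hu' : (u : Ω) ∈ B := Subgroup.mem_subgroupOf.mp hu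
    have hx := (mem_normalizerIn.mp (hAN x.2)).2
    exact Subgroup.mem_subgroupOf.mpr ((Subgroup.mem_normalizer_iff.mp hx _).mp hu')
  apply mem_normalizer_of_forall (key x)
  intro z hz
  have := key x⁻¹ z hz
  rwa [map_inv, inv_inv] at this

/-- The image of a subgroup of the source under a map of the system is a conjugate of it. -/
theorem isConj_map' (F : FusionSystem S) {A B : Subgroup Ω} {φ : A →* Ω} (hφ : φ ∈ F.Hom A)
    (hBA : B ≤ A) : F.IsConj B ((B.subgroupOf A).map φ) := by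
  refine ⟨φ.comp (Subgroup.inclusion hBA), restrict_mem F hBA hφ, ?_⟩
  ext y
  rw [mem_map_subgroupOf]
  constructor
  · rintro ⟨x, rfl⟩
    exact ⟨x, hBA x.2, x.2, rfl⟩
  · rintro ⟨x, hA, hB, rfl⟩
    exact ⟨⟨x, hB⟩, rfl⟩

theorem card_eq_of_isConj (F : FusionSystem S) {A B : Subgroup Ω} (h : F.IsConj A B) :
    Nat.card B = Nat.card A := by
  obtain ⟨φ, hφ, rfl⟩ := h
  exact (Nat.card_congr (homEquiv F hφ).toEquiv).symm

theorem card_lt_of_mem_not_mem {A B : Subgroup Ω} [Finite B] (hAB : A ≤ B) {g : Ω} (hgB : g ∈ B)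
    (hgA : g ∉ A) : Nat.card A < Nat.card B := by
  by_contra hlt
  have hge : Nat.card B ≤ Nat.card A := not_lt.mp hlt
  have := Subgroup.eq_of_le_of_card_ge hAB hge
  exact hgA (this ▸ hgB)

/-- Restriction to `P` of an automorphism of `R` stabilizing `P`. -/
def restrictAut {P R : Subgroup Ω} (hPR : P ≤ R) (α : MulAut R)
    (h1 : ∀ x : R, (x : Ω) ∈ P → ((α x : R) : Ω) ∈ P)
    (h2 : ∀ x : R, (x : Ω) ∈ P → ((α⁻¹ x : R) : Ω) ∈ P) : MulAut P where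
  toFun := fun x => ⟨((α (Subgroup.inclusion hPR x) : R) : Ω), h1 _ x.2⟩
  invFun := fun x => ⟨((α⁻¹ (Subgroup.inclusion hPR x) : R) : Ω), h2 _ x.2⟩
  left_inv := fun x => by
    apply Subtype.ext
    have e : Subgroup.inclusion hPR ⟨((α (Subgroup.inclusion hPR x) : R) : Ω), h1 _ x.2⟩ =
        α (Subgroup.inclusion hPR x) := Subtype.ext rfl
    show ((α⁻¹ (Subgroup.inclusion hPR ⟨_, _⟩) : R) : Ω) = x
    rw [e]
    simp
  right_inv := fun x => by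
    apply Subtype.ext
    have e : Subgroup.inclusion hPR ⟨((α⁻¹ (Subgroup.inclusion hPR x) : R) : Ω), h2 _ x.2⟩ =
        α⁻¹ (Subgroup.inclusion hPR x) := Subtype.ext rfl
    show ((α (Subgroup.inclusion hPR ⟨_, _⟩) : R) : Ω) = x
    rw [e]
    simp
  map_mul' := fun x y => by
    apply Subtype.ext
    simp [map_mul]

theorem restrictAut_apply_coe {P R : Subgroup Ω} (hPR : P ≤ R) (α : MulAut R)
    (h1 : ∀ x : R, (x : Ω) ∈ P → ((α x : R) : Ω) ∈ P)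
    (h2 : ∀ x : R, (x : Ω) ∈ P → ((α⁻¹ x : R) : Ω) ∈ P) (x : P) :
    ((restrictAut hPR α h1 h2 x : P) : Ω) = ((α (Subgroup.inclusion hPR x) : R) : Ω) := rfl

theorem mem_KP_top {P R : Subgroup Ω} {hPR : P ≤ R} {α : MulAut R} :
    α ∈ KP (⊤ : Subgroup (MulAut P)) P R hPR ↔ (∀ x : R, (x : Ω) ∈ P → ((α x : R) : Ω) ∈ P) ∧
    (∀ x : R, (x : Ω) ∈ P → ((α⁻¹ x : R) : Ω) ∈ P) := by
  rw [mem_KP]
  constructor
  · rintro ⟨h1, h2, -⟩
    exact ⟨h1, h2⟩
  · rintro ⟨h1, h2⟩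
    exact ⟨h1, h2, restrictAut hPR α h1 h2, Subgroup.mem_top _, fun x => rfl⟩

theorem normalizerMonoidHom_coe {R : Subgroup Ω} {g : Ω} (hg : g ∈ Subgroup.normalizer (R : Set Ω))
    (x : R) : ((R.normalizerMonoidHom ⟨g, hg⟩ x : R) : Ω) = g * x * g⁻¹ := rfl

theorem normalizerMonoidHom_inv_coe {R : Subgroup Ω} {g : Ω}
    (hg : g ∈ Subgroup.normalizer (R : Set Ω)) (x : R) :
    (((R.normalizerMonoidHom ⟨g, hg⟩)⁻¹ x : R) : Ω) = g⁻¹ * x * g := by
  rw [← map_inv]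
  show (g⁻¹ : Ω) * x * (g⁻¹)⁻¹ = _
  rw [inv_inv]

/-- Conjugation by an element of `S` normalizing `R` and `P` is in the stabilizer of `P` in `Aut_F(R)`. -/
theorem conj_mem_stabAut (F : FusionSystem S) {P R : Subgroup Ω} (hPR : P ≤ R) (hRS : R ≤ S) {g : Ω}
    (hgS : g ∈ S) (hgR : g ∈ Subgroup.normalizer (R : Set Ω))
    (hgP : g ∈ Subgroup.normalizer (P : Set Ω)) :
    R.normalizerMonoidHom ⟨g, hgR⟩ ∈ stabAut F hPR := by
  refine Subgroup.mem_inf.2 ⟨?_, mem_KP_top.2 ⟨fun x hx => ?_, fun x hx => ?_⟩⟩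
  · exact autInducedBy_le_autGroup F hRS ((mem_autInducedBy_iff _).mpr ⟨g, hgS, fun x => rfl⟩)
  · rw [normalizerMonoidHom_coe]
    exact (Subgroup.mem_normalizer_iff.mp hgP _).mp hx
  · rw [normalizerMonoidHom_inv_coe]
    have := (Subgroup.mem_normalizer_iff.mp (Subgroup.inv_mem _ hgP) _).mp hx
    rwa [inv_inv] at this

theorem stabAut_apply_mem (F : FusionSystem S) {P R : Subgroup Ω} {hPR : P ≤ R} {κ : MulAut R}
    (hκ : κ ∈ stabAut F hPR) {x : R} (hx : (x : Ω) ∈ P) : ((κ x : R) : Ω) ∈ P :=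
  (mem_KP_top.1 (Subgroup.mem_inf.1 hκ).2).1 x hx

theorem stabAut_inv_apply_mem (F : FusionSystem S) {P R : Subgroup Ω} {hPR : P ≤ R} {κ : MulAut R}
    (hκ : κ ∈ stabAut F hPR) {x : R} (hx : (x : Ω) ∈ P) : ((κ⁻¹ x : R) : Ω) ∈ P :=
  (mem_KP_top.1 (Subgroup.mem_inf.1 hκ).2).2 x hx

/-- The extension lemma, in the form used here: the extension of `b κ ψ⁻¹` carries `ψ(P)` onto `b(P)`. -/
theorem exists_ext [Finite S] {p : ℕ} [Fact p.Prime] (hS : IsPGroup p S) (F : FusionSystem S)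
    {P R : Subgroup Ω} (hPR : P ≤ R) (hg : Good F p R) {b : R →* Ω}
    (hb : IsKGood F p (stabAut F hPR) b) {ψ : R →* Ω} (hψ : ψ ∈ F.Hom R) :
    ∃ Θ ∈ F.Hom (NK S (stabAut F hPR) ψ ⊔ ψ.range),
      (((P.subgroupOf R).map ψ).subgroupOf (NK S (stabAut F hPR) ψ ⊔ ψ.range)).map Θ =
        (P.subgroupOf R).map b := by
  have hM : stabAut F hPR ≤ F.autGroup R := inf_le_left
  obtain ⟨κ, hκ, Θ, hΘ, hΘv⟩ := exists_extension_of_kgood p hS F hg (M := stabAut F hPR) hM hb hψ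
  refine ⟨Θ, hΘ, ?_⟩
  ext y
  constructor
  · intro hy
    obtain ⟨z, hzD, hzP, rfl⟩ := (mem_map_subgroupOf Θ).mp hy
    obtain ⟨x, hxR, hxP, rfl⟩ := (mem_map_subgroupOf ψ).mp hzP
    rw [hΘv ⟨x, hxR⟩ hzD]
    exact (mem_map_subgroupOf b).mpr ⟨_, (κ ⟨x, hxR⟩).2, stabAut_apply_mem F hκ hxP, rfl⟩
  · intro hy
    obtain ⟨x, hxR, hxP, rfl⟩ := (mem_map_subgroupOf b).mp hy
    have hx' : ((κ⁻¹ ⟨x, hxR⟩ : R) : Ω) ∈ P := stabAut_inv_apply_mem F hκ hxP
    have hD : ψ (κ⁻¹ ⟨x, hxR⟩) ∈ NK S (stabAut F hPR) ψ ⊔ ψ.range :=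
      le_sup_right (a := NK S (stabAut F hPR) ψ) ⟨_, rfl⟩
    refine (mem_map_subgroupOf Θ).mpr ⟨ψ (κ⁻¹ ⟨x, hxR⟩), hD, ?_, ?_⟩
    · exact (mem_map_subgroupOf ψ).mpr ⟨_, (κ⁻¹ ⟨x, hxR⟩).2, hx', rfl⟩
    · rw [hΘv, MulAut.apply_inv_self]

/-- The source of the extension normalizes `ψ(P)`. -/
theorem NK_sup_le_normalizerIn (F : FusionSystem S) {P R : Subgroup Ω} (hPR : P ≤ R)
    (hRN : R ≤ normalizerIn S P) {ψ : R →* Ω} (hψ : ψ ∈ F.Hom R) :
    NK S (stabAut F hPR) ψ ⊔ ψ.range ≤ normalizerIn S ((P.subgroupOf R).map ψ) := by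
  refine sup_le ?_ (range_le_normalizerIn_map (F.le_of_mem hψ).2 hRN)
  have key : ∀ g ∈ NK S (stabAut F hPR) ψ, ∀ z ∈ (P.subgroupOf R).map ψ,
      g * z * g⁻¹ ∈ (P.subgroupOf R).map ψ := by
    rintro g ⟨-, κ, hκ, hgκ⟩ z hz
    obtain ⟨x, hxR, hxP, rfl⟩ := (mem_map_subgroupOf ψ).mp hz
    rw [hgκ]
    exact (mem_map_subgroupOf ψ).mpr ⟨_, (κ ⟨x, hxR⟩).2, stabAut_apply_mem F hκ hxP, rfl⟩
  intro g hg
  rw [mem_normalizerIn]
  refine ⟨hg.1, mem_normalizer_of_forall (key g hg) ?_⟩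
  intro z hz
  have := key g⁻¹ (Subgroup.inv_mem _ hg) z hz
  rwa [inv_inv] at this

theorem cross_push [Finite S] {p : ℕ} [Fact p.Prime] {F : FusionSystem S} {P : Subgroup Ω}
    (h : Ctx F p P) (hfn : F.IsFullyNormalized P) {P' R' : Subgroup Ω} {θ : R' →* Ω}
    (hc : IsCross F P P' R' θ) :
    ∃ (P₂ R₂ : Subgroup Ω) (θ₂ : R₂ →* Ω), IsCross F P P₂ R₂ θ₂ ∧ Nat.card R' < Nat.card R₂ := by
  have hS := h.hS
  have hθ := hc.mem
  have hR'S : R' ≤ S := (F.le_of_mem hθ).1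
  have hθS := (F.le_of_mem hθ).2
  have hP'S : P' ≤ S := isConj_le_right F hc.conj
  have hR''S : θ.range ≤ S := range_le F hθ
  have : Finite R' := finite_of_le_finite hR'S
  have : Finite θ.range := finite_of_le_finite hR''S
  have hcardR : Nat.card θ.range = Nat.card R' := (Nat.card_congr (homEquiv F hθ).toEquiv).symm
  have hcardP : Nat.card P' = Nat.card P := card_eq_of_isConj F hc.conj
  have hPR'' : P ≤ θ.range := by
    rw [← hc.map_eq]; exact Subgroup.map_le_range _ _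
  have hR''N : θ.range ≤ normalizerIn S P := by
    have := range_le_normalizerIn_map hθS hc.le_norm
    rwa [hc.map_eq] at this
  have hPmem : ∀ y : Ω, y ∈ P ↔ ∃ (u : Ω) (hu : u ∈ R'), u ∈ P' ∧ θ ⟨u, hu⟩ = y := by
    intro y
    rw [← hc.map_eq]
    exact mem_map_subgroupOf θ
  -- (1) `R'` is a proper subgroup of `N_S(P')`
  have hne' : R' ≠ normalizerIn S P' := by
    intro heq
    apply hc.not_map
    subst heq
    exact ⟨θ, hθ, fun x => hR''N ⟨x, rfl⟩, hc.map_eq⟩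
  have : Finite (normalizerIn S P') := finite_of_le_finite normalizerIn_le
  have : Finite (normalizerIn S P) := finite_of_le_finite normalizerIn_le
  obtain ⟨g', hg'N, hg'R⟩ := exists_mem_normalizerIn_not_mem (S := normalizerIn S P')
    (hS.to_le normalizerIn_le) hc.le_norm hne'
  have hne'' : θ.range ≠ normalizerIn S P := by
    intro heq
    apply hne'
    apply Subgroup.eq_of_le_of_card_ge hc.le_norm
    calc Nat.card (normalizerIn S P') ≤ Nat.card (normalizerIn S P) := hfn.2 P' hc.conj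
      _ = Nat.card θ.range := by rw [← heq]
      _ = Nat.card R' := hcardR
  obtain ⟨g'', hg''N, hg''R⟩ := exists_mem_normalizerIn_not_mem (S := normalizerIn S P)
    (hS.to_le normalizerIn_le) hR''N hne''
  -- (2) a good map for the stabilizer of `P` in `Aut_F(θ(R'))`
  have hgood : Good F p θ.range := h.hbig _ hR''S (by rw [hcardR, ← hcardP]; exact hc.card_lt)
  have hM : stabAut F hPR'' ≤ F.autGroup θ.range := inf_le_left
  obtain ⟨b, hb⟩ := exists_kgood p hS F hgood hR''S hM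
  have hPt : F.IsConj P ((P.subgroupOf θ.range).map b) := isConj_map' F hb.1 hPR''
  -- (3) extension along the inclusion of `θ(R')`
  have hψ₁ : θ.range.subtype ∈ F.Hom θ.range := subtype_mem F hR''S
  obtain ⟨Θ₁, hΘ₁, hΘ₁map⟩ := exists_ext hS F hPR'' hgood hb hψ₁
  have hD₁N := NK_sup_le_normalizerIn F hPR'' hR''N hψ₁
  rw [Subgroup.map_subgroupOf_eq_of_le hPR''] at hΘ₁map hD₁N
  have hD₁S : NK S (stabAut F hPR'') θ.range.subtype ⊔ θ.range.subtype.range ≤ S :=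
    (F.le_of_mem hΘ₁).1
  have : Finite ↥(NK S (stabAut F hPR'') θ.range.subtype ⊔ θ.range.subtype.range) :=
    finite_of_le_finite hD₁S
  have hR''D₁ : θ.range ≤ NK S (stabAut F hPR'') θ.range.subtype ⊔ θ.range.subtype.range := by
    rw [Subgroup.range_subtype]; exact le_sup_right
  have hg''D : g'' ∈ NK S (stabAut F hPR'') θ.range.subtype ⊔ θ.range.subtype.range := by
    apply le_sup_left (b := θ.range.subtype.range)
    rw [mem_NK]
    refine ⟨normalizerIn_le hg''N.1, θ.range.normalizerMonoidHom ⟨g'', hg''N.2⟩,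
      conj_mem_stabAut F hPR'' hR''S (normalizerIn_le hg''N.1) hg''N.2
        (mem_normalizerIn.mp hg''N.1).2, fun x => rfl⟩
  have hcardD₁ : Nat.card θ.range <
      Nat.card ↥(NK S (stabAut F hPR'') θ.range.subtype ⊔ θ.range.subtype.range) :=
    card_lt_of_mem_not_mem hR''D₁ hg''D hg''R
  -- (4) extension along the inverse of `θ`
  obtain ⟨ψ₂, hψ₂, hψ₂inv, hψ₂range⟩ := exists_inv F hθ rfl
  obtain ⟨Θ₂, hΘ₂, hΘ₂map⟩ := exists_ext hS F hPR'' hgood hb hψ₂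
  have hD₂N := NK_sup_le_normalizerIn F hPR'' hR''N hψ₂
  have hPψ₂ : (P.subgroupOf θ.range).map ψ₂ = P' := by
    ext y
    constructor
    · intro hy
      obtain ⟨x, hxR, hxP, rfl⟩ := (mem_map_subgroupOf ψ₂).mp hy
      obtain ⟨u, hu, huP', rfl⟩ := (hPmem x).mp hxP
      rw [hψ₂inv ⟨u, hu⟩ hxR]
      exact huP'
    · intro hy
      have hyR : y ∈ R' := hc.le hy
      refine (mem_map_subgroupOf ψ₂).mpr ⟨θ ⟨y, hyR⟩, ⟨_, rfl⟩, (hPmem _).mpr ⟨y, hyR, hy, rfl⟩, ?_⟩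
      exact hψ₂inv ⟨y, hyR⟩ _
  rw [hPψ₂] at hΘ₂map hD₂N
  have hD₂S : NK S (stabAut F hPR'') ψ₂ ⊔ ψ₂.range ≤ S := (F.le_of_mem hΘ₂).1
  have : Finite ↥(NK S (stabAut F hPR'') ψ₂ ⊔ ψ₂.range) := finite_of_le_finite hD₂S
  have hR'D₂ : R' ≤ NK S (stabAut F hPR'') ψ₂ ⊔ ψ₂.range := by
    rw [hψ₂range]; exact le_sup_right
  have hg'S : g' ∈ S := normalizerIn_le (normalizerIn_le hg'N)
  have hg'P' : g' ∈ Subgroup.normalizer (P' : Set Ω) := (mem_normalizerIn.mp hg'N.1).2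
  have hg'D : g' ∈ NK S (stabAut F hPR'') ψ₂ ⊔ ψ₂.range := by
    apply le_sup_left (b := ψ₂.range)
    rw [mem_NK]
    have hcF : R'.normalizerMonoidHom ⟨g', hg'N.2⟩ ∈ F.autGroup R' :=
      autInducedBy_le_autGroup F hR'S ((mem_autInducedBy_iff _).mpr ⟨g', hg'S, fun x => rfl⟩)
    refine ⟨hg'S, MulAut.congr (homEquiv F hθ) (R'.normalizerMonoidHom ⟨g', hg'N.2⟩), ?_, ?_⟩
    · refine Subgroup.mem_inf.2 ⟨congr_mem_autGroup F hθ hcF, mem_KP_top.2 ⟨?_, ?_⟩⟩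
      · intro x hx
        obtain ⟨u, hu, huP', hux⟩ := (hPmem x).mp hx
        have e1 : x = homEquiv F hθ ⟨u, hu⟩ := Subtype.ext hux.symm
        rw [e1]
        show ((homEquiv F hθ (R'.normalizerMonoidHom ⟨g', hg'N.2⟩
          ((homEquiv F hθ).symm (homEquiv F hθ ⟨u, hu⟩))) : θ.range) : Ω) ∈ P
        rw [MulEquiv.symm_apply_apply, homEquiv_apply_coe]
        refine (hPmem _).mpr ⟨g' * u * g'⁻¹, _, ?_, rfl⟩
        exact (Subgroup.mem_normalizer_iff.mp hg'P' u).mp huP'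
      · intro x hx
        obtain ⟨u, hu, huP', hux⟩ := (hPmem x).mp hx
        have e1 : x = homEquiv F hθ ⟨u, hu⟩ := Subtype.ext hux.symm
        rw [e1, ← map_inv]
        show ((homEquiv F hθ ((R'.normalizerMonoidHom ⟨g', hg'N.2⟩)⁻¹
          ((homEquiv F hθ).symm (homEquiv F hθ ⟨u, hu⟩))) : θ.range) : Ω) ∈ P
        rw [MulEquiv.symm_apply_apply, homEquiv_apply_coe]
        refine (hPmem _).mpr ⟨g'⁻¹ * u * g', ?_, ?_, ?_⟩
        · rw [← normalizerMonoidHom_inv_coe hg'N.2 ⟨u, hu⟩]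
          exact Subtype.property _
        · have := (Subgroup.mem_normalizer_iff.mp (Subgroup.inv_mem _ hg'P') u).mp huP'
          rwa [inv_inv] at this
        · congr 1
          exact Subtype.ext (normalizerMonoidHom_inv_coe hg'N.2 ⟨u, hu⟩).symm
    · intro x
      obtain ⟨u, rfl⟩ := (homEquiv F hθ).surjective x
      have e2 : ψ₂ (homEquiv F hθ u) = u := hψ₂inv u _
      rw [e2]
      show g' * u * g'⁻¹ = ψ₂ (homEquiv F hθ (R'.normalizerMonoidHom ⟨g', hg'N.2⟩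
          ((homEquiv F hθ).symm (homEquiv F hθ u))))
      rw [MulEquiv.symm_apply_apply]
      have e3 : ψ₂ (homEquiv F hθ (R'.normalizerMonoidHom ⟨g', hg'N.2⟩ u)) =
          (R'.normalizerMonoidHom ⟨g', hg'N.2⟩ u : R') := hψ₂inv _ _
      rw [e3]
      rfl
  have hcardD₂ : Nat.card R' < Nat.card ↥(NK S (stabAut F hPR'') ψ₂ ⊔ ψ₂.range) :=
    card_lt_of_mem_not_mem hR'D₂ hg'D hg'R
  -- (5) the two cases
  by_cases hmap : HasNMap F P ((P.subgroupOf θ.range).map b)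
  · obtain ⟨σ, hσ, hσN, hσmap⟩ := hmap
    have hΘ₂N : ∀ x, Θ₂ x ∈ normalizerIn S ((P.subgroupOf θ.range).map b) := by
      intro x
      have := range_le_normalizerIn_map (F.le_of_mem hΘ₂).2 hD₂N
      rw [hΘ₂map] at this
      exact this ⟨x, rfl⟩
    refine ⟨P', _, σ.comp (Θ₂.codRestrict _ hΘ₂N), ⟨hc.conj, hc.not_map, hc.le.trans hR'D₂, hD₂N,
      lt_trans hc.card_lt hcardD₂, F.comp_mem hΘ₂ hσ hΘ₂N, ?_⟩, hcardD₂⟩
    ext y
    constructor
    · intro hy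
      obtain ⟨x, hxD, hxP', rfl⟩ := (mem_map_subgroupOf _).mp hy
      have hmem : σ ⟨Θ₂ ⟨x, hxD⟩, hΘ₂N _⟩ ∈
          (((P.subgroupOf θ.range).map b).subgroupOf
            (normalizerIn S ((P.subgroupOf θ.range).map b))).map σ := by
        refine (mem_map_subgroupOf σ).mpr ⟨Θ₂ ⟨x, hxD⟩, hΘ₂N _, ?_, rfl⟩
        rw [← hΘ₂map]
        exact (mem_map_subgroupOf Θ₂).mpr ⟨x, hxD, hxP', rfl⟩
      rw [hσmap] at hmem
      exact hmem
    · intro hy
      rw [← hσmap] at hy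
      obtain ⟨z, hzN, hzPt, rfl⟩ := (mem_map_subgroupOf σ).mp hy
      rw [← hΘ₂map] at hzPt
      obtain ⟨x, hxD, hxP', rfl⟩ := (mem_map_subgroupOf Θ₂).mp hzPt
      exact (mem_map_subgroupOf _).mpr ⟨x, hxD, hxP', rfl⟩
  · obtain ⟨ψ₃, hψ₃, hψ₃inv, hψ₃range⟩ := exists_inv F hΘ₁ rfl
    have hcardΘ₁ : Nat.card Θ₁.range =
        Nat.card ↥(NK S (stabAut F hPR'') θ.range.subtype ⊔ θ.range.subtype.range) :=
      (Nat.card_congr (homEquiv F hΘ₁).toEquiv).symm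
    have hlt : Nat.card R' < Nat.card Θ₁.range := by
      rw [hcardΘ₁, ← hcardR]; exact hcardD₁
    refine ⟨_, Θ₁.range, ψ₃, ⟨hPt, hmap, ?_, ?_, ?_, hψ₃, ?_⟩, hlt⟩
    · rw [← hΘ₁map]; exact Subgroup.map_le_range _ _
    · have := range_le_normalizerIn_map (F.le_of_mem hΘ₁).2 hD₁N
      rwa [hΘ₁map] at this
    · rw [card_eq_of_isConj F hPt, ← hcardP]
      exact lt_trans hc.card_lt hlt
    · ext y
      constructor
      · intro hy
        obtain ⟨z, hzR, hzPt, rfl⟩ := (mem_map_subgroupOf ψ₃).mp hy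
        rw [← hΘ₁map] at hzPt
        obtain ⟨x, hxD, hxP, rfl⟩ := (mem_map_subgroupOf Θ₁).mp hzPt
        rw [hψ₃inv ⟨x, hxD⟩ hzR]
        exact hxP
      · intro hy
        have hyD : y ∈ NK S (stabAut F hPR'') θ.range.subtype ⊔ θ.range.subtype.range :=
          hR''D₁ (hPR'' hy)
        refine (mem_map_subgroupOf ψ₃).mpr ⟨Θ₁ ⟨y, hyD⟩, ⟨_, rfl⟩, ?_, hψ₃inv ⟨y, hyD⟩ _⟩
        rw [← hΘ₁map]
        exact (mem_map_subgroupOf Θ₁).mpr ⟨y, hyD, hy, rfl⟩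

end Cfsg.Agent.Helper16.BcgloA2
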