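import Mathlib
import Cfsg.Agent.Lib.Helper26.CG3Defs

/-!
# S3412 piece G6MAIN (helper16): core of `exists_s`, with the other pieces as hypotheses.
-/

set_option autoImplicit false

namespace Cfsg.Agent.Helper26.CG3

universe u

variable {H : Type u} [Group H] [Finite H] {t : H}

/-- `2 ^ n ∣ 48 → 2 ^ n ≤ 16` -/
theorem g6main_pow_le (n : ℕ) (h : 2 ^ n ∣ 48) : 2 ^ n ≤ 16 := by
  by_contra hlt
  have hn : 5 ≤ n := by
    by_contra hn
    have : n ≤ 4 := by omega
    have := Nat.pow_le_pow_right (show 0 < 2 by norm_num) this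
    omega
  have h32 : 2 ^ 5 ∣ 2 ^ n := pow_dvd_pow 2 hn
  have := h32.trans h
  omega

omit [Finite H] in
/-- conjugation preserves the order -/
theorem g6main_orderOf_conj (c x : H) : orderOf (c⁻¹ * x * c) = orderOf x := by
  have := MulEquiv.orderOf_eq (MulAut.conj c⁻¹) x
  simpa [MulAut.conj_apply] using this

/-- core of G6MAIN: the pieces G0, G2, G4, G5, CORE, CNT as hypotheses -/
theorem g6main_core (h : LG H t) (u : H) (hu : t * u = u * t) (hcu : cc u = 54)
    (G0 : ∀ g : H, orderOf g ∣ cc g)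
    (G2 : ∀ g : H, t * g = g * t → cc g = 48 → orderOf g = 2)
    (G4 : ∀ x : H, orderOf x = 3 → t * x = x * t → cc x = 54)
    (G5 : ∀ u x : H, t * u = u * t → cc u = 54 → t * x = x * t → cc x = 54 →
      ∃ c : H, c * t = t * c ∧ c * u * c⁻¹ = x)
    (CORE : ∀ {G : Type u} [Group G] [Finite G], Nat.card G = 48 →
      (∀ b : G, orderOf b = 2 → ∀ r : G, orderOf r = 3 → b * r * b⁻¹ ≠ r⁻¹) →
      ∃ M : Subgroup G, M.Normal ∧ IsPGroup 2 M ∧ ∀ b : G, orderOf b = 2 → b ∈ M)
    (CNT : ∀ {G : Type u} [Group G] [Finite G], Nat.card G = 48 → ∀ M : Subgroup G,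
      M.Normal → IsPGroup 2 M → 8 < Nat.card M → ∀ (y : G) (k : ℕ), y ^ 2 ^ k = 1 → y ∈ M) :
    ∃ s : H, orderOf s = 2 ∧ t * s = s * t ∧ s * u * s⁻¹ = u⁻¹ := by
  by_contra hcon
  have hmemC : ∀ g : H, g ∈ Subgroup.centralizer ({t} : Set H) ↔ t * g = g * t := by
    intro g
    rw [Subgroup.mem_centralizer_singleton_iff]
    exact eq_comm
  have hcardG : Nat.card ↥(Subgroup.centralizer ({t} : Set H)) = 48 := h.cct
  -- no involution of `C(t)` inverts an element of order 3 of `C(t)`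
  have hno : ∀ b : ↥(Subgroup.centralizer ({t} : Set H)), orderOf b = 2 →
      ∀ r : ↥(Subgroup.centralizer ({t} : Set H)), orderOf r = 3 → b * r * b⁻¹ ≠ r⁻¹ := by
    intro b hb r hr hbr
    have hbt : t * (b : H) = b * t := (hmemC _).1 b.2
    have hrt : t * (r : H) = r * t := (hmemC _).1 r.2
    have hr3 : orderOf (r : H) = 3 := by rw [Subgroup.orderOf_coe]; exact hr
    have hb2 : orderOf (b : H) = 2 := by rw [Subgroup.orderOf_coe]; exact hb
    have hcr : cc (r : H) = 54 := G4 _ hr3 hrt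
    obtain ⟨c, hct, hcu'⟩ := G5 u r hu hcu hrt hcr
    have hbr' : (b : H) * r * (b : H)⁻¹ = (r : H)⁻¹ := by
      have := congrArg (fun x : ↥(Subgroup.centralizer ({t} : Set H)) => (x : H)) hbr
      simpa using this
    apply hcon
    refine ⟨c⁻¹ * b * c, ?_, ?_, ?_⟩
    · rw [g6main_orderOf_conj]
      exact hb2
    · have hct' : c⁻¹ * t = t * c⁻¹ := by
        calc c⁻¹ * t = c⁻¹ * (t * c) * c⁻¹ := by group
          _ = c⁻¹ * (c * t) * c⁻¹ := by rw [hct]
          _ = t * c⁻¹ := by group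
      calc t * (c⁻¹ * b * c) = (t * c⁻¹) * b * c := by group
        _ = c⁻¹ * (t * b) * c := by rw [← hct']; group
        _ = c⁻¹ * (b * t) * c := by rw [hbt]
        _ = c⁻¹ * b * (t * c) := by group
        _ = c⁻¹ * b * (c * t) := by rw [hct]
        _ = c⁻¹ * b * c * t := by group
    · have hu' : u = c⁻¹ * r * c := by rw [← hcu']; group
      calc c⁻¹ * b * c * u * (c⁻¹ * b * c)⁻¹
          = c⁻¹ * (b * (c * u * c⁻¹) * (b : H)⁻¹) * c := by group
        _ = c⁻¹ * (b * r * (b : H)⁻¹) * c := by rw [hcu']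
        _ = c⁻¹ * (r : H)⁻¹ * c := by rw [hbr']
        _ = u⁻¹ := by rw [hu']; group
  obtain ⟨M, hMn, hM2, hMinv⟩ := CORE hcardG hno
  -- `S ⊆ M`
  have hS : ∀ g : H, t * g = g * t → cc g = 48 → ∀ hg : g ∈ Subgroup.centralizer ({t} : Set H),
      (⟨g, hg⟩ : ↥(Subgroup.centralizer ({t} : Set H))) ∈ M := by
    intro g hgt hcg hg
    apply hMinv
    rw [← Subgroup.orderOf_coe]
    exact G2 g hgt hcg
  have h13 : 13 ≤ Nat.card M := by
    rw [← h.nS]
    let f : {g : H // t * g = g * t ∧ cc g = 48} → M := fun g =>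
      ⟨⟨g.1, (hmemC _).2 g.2.1⟩, hS g.1 g.2.1 g.2.2 _⟩
    apply Nat.card_le_card_of_injective f
    intro a b hab
    have := congrArg (fun x : M => ((x : ↥(Subgroup.centralizer ({t} : Set H))) : H)) hab
    exact Subtype.ext this
  have h8 : 8 < Nat.card M := by omega
  -- `Y ⊆ M`
  have hY : ∀ g : H, t * g = g * t → cc g = 8 → ∀ hg : g ∈ Subgroup.centralizer ({t} : Set H),
      (⟨g, hg⟩ : ↥(Subgroup.centralizer ({t} : Set H))) ∈ M := by
    intro g hgt hcg hg
    apply CNT hcardG M hMn hM2 h8 _ 3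
    have hdvd : orderOf g ∣ 8 := hcg ▸ G0 g
    have : g ^ 8 = 1 := orderOf_dvd_iff_pow_eq_one.1 hdvd
    apply Subtype.ext
    simpa using this
  have h18 : 18 ≤ Nat.card M := by
    rw [← h.nY]
    let f : {g : H // t * g = g * t ∧ cc g = 8} → M := fun g =>
      ⟨⟨g.1, (hmemC _).2 g.2.1⟩, hY g.1 g.2.1 g.2.2 _⟩
    apply Nat.card_le_card_of_injective f
    intro a b hab
    have := congrArg (fun x : M => ((x : ↥(Subgroup.centralizer ({t} : Set H))) : H)) hab
    exact Subtype.ext this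
  obtain ⟨n, hn⟩ := IsPGroup.iff_card.1 hM2
  have hdvd : Nat.card M ∣ 48 := hcardG ▸ Subgroup.card_subgroup_dvd_card M
  rw [hn] at hdvd h18
  have := g6main_pow_le n hdvd
  omega

end Cfsg.Agent.Helper26.CG3
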