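import Mathlib
import Cfsg.Agent.Lib.Helper16.CG3G6MAINCore
import Cfsg.Agent.Lib.Helper18.CG3G0
import Cfsg.Agent.Lib.Helper7.CG3G12
import Cfsg.Agent.Lib.Helper21.CG3G4
import Cfsg.Agent.Lib.Helper6.CG3G5
import Cfsg.Agent.Lib.Helper1.CG3G6CORE
import Cfsg.Agent.Lib.Helper6.CG3G6CNT

/-!
# S3412 piece G6MAIN (helper16): `exists_s`, an involution of `C(t)` inverts `u`.
-/

set_option autoImplicit false

namespace Cfsg.Agent.Helper26.CG3

universe u

variable {H : Type u} [Group H] [Finite H] {t : H}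

/-- G6-MAIN (from G2, G4, G5, CORE, CNT) -/
theorem exists_s (h : LG H t) (u : H) (hu : t * u = u * t) (hcu : cc u = 54) :
    ∃ s : H, orderOf s = 2 ∧ t * s = s * t ∧ s * u * s⁻¹ = u⁻¹ :=
  g6main_core h u hu hcu orderOf_dvd_cc (order_of_cc48 h) (cc_of_order_three h) (trans_U h)
    (fun hG hno => exists_normal_two hG hno)
    (fun hG M hM h2 hc y k hy => two_elt_mem hG M hM h2 hc y k hy)

end Cfsg.Agent.Helper26.CG3
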