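import Mathlib
import Cfsg.Agent.Lib.Helper24.CharBasic

/-!
# Elements on which a character attains its degree in absolute value (helper16's library)

If `‖χ(g)‖ = χ(1)` then `g` acts as a scalar.
-/

set_option autoImplicit false

namespace Cfsg.Agent.Helper16

open Cfsg.Agent.Helper24
open scoped ComplexConjugate

universe u v

/-- A complex number of norm one and real part one is one. -/
theorem eq_one_of_norm_eq_one_of_re_eq_one {z : ℂ} (h1 : ‖z‖ = 1) (h2 : z.re = 1) : z = 1 := by
  have h4 : z.im = 0 := by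
    have := Complex.sq_norm z
    rw [h1, Complex.normSq_apply, h2] at this
    nlinarith
  apply Complex.ext <;> simp [h2, h4]

/-- If the character value at `g` has absolute value the degree, `g` acts as a scalar. -/
theorem exists_scalar_of_norm_char_eq {G : Type u} [Group G] [Finite G] {V : Type v}
    [AddCommGroup V] [Module ℂ V] [FiniteDimensional ℂ V] (ρ : Representation ℂ G V) (g : G)
    (h : ‖ρ.character g‖ = Module.finrank ℂ V) : ∃ c : ℂ, ρ g = c • (1 : Module.End ℂ V) := by
  obtain ⟨n, b, μ, hμ, hb⟩ := exists_eigenbasis ρ g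
  have hn : Module.finrank ℂ V = n := finrank_eq_of_basis b
  have htr : ρ.character g = ∑ i, μ i := trace_eq_sum_of_eigenbasis b μ (ρ g) hb
  rw [htr, hn] at h
  have hnorm : ∀ i, ‖μ i‖ = 1 := fun i =>
    Complex.norm_eq_one_of_pow_eq_one (hμ i) Nat.card_pos.ne'
  rcases Nat.eq_zero_or_pos n with rfl | hnpos
  · refine ⟨1, ?_⟩
    apply b.ext
    intro i
    exact i.elim0
  set s : ℂ := ∑ i, μ i with hs
  have hn0 : (n : ℂ) ≠ 0 := by exact_mod_cast hnpos.ne'
  have hnR : (0 : ℝ) < n := by exact_mod_cast hnpos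
  set c : ℂ := s / n with hc
  have hcnorm : ‖c‖ = 1 := by
    rw [hc, norm_div, h, Complex.norm_natCast]
    exact div_self hnR.ne'
  have hcc : c * conj c = 1 := by
    rw [Complex.mul_conj, Complex.normSq_eq_norm_sq, hcnorm]
    norm_num
  have hterm_le : ∀ i, (μ i * conj c).re ≤ 1 := by
    intro i
    calc (μ i * conj c).re ≤ ‖μ i * conj c‖ := Complex.re_le_norm _
      _ = 1 := by rw [norm_mul, hnorm i, Complex.norm_conj, hcnorm, mul_one]
  have hsum : ∑ i, (μ i * conj c).re = ∑ _i : Fin n, (1 : ℝ) := by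
    have e1 : ∑ i, (μ i * conj c).re = (s * conj c).re := by
      rw [hs, Finset.sum_mul, Complex.re_sum]
    rw [e1]
    have e2 : s = (n : ℂ) * c := by
      rw [hc]; field_simp
    rw [e2, mul_assoc, hcc, mul_one]
    simp
  have hre : ∀ i, (μ i * conj c).re = 1 := by
    intro i
    exact (Finset.sum_eq_sum_iff_of_le (fun i _ => hterm_le i)).mp hsum i (Finset.mem_univ i)
  have heq : ∀ i, μ i = c := by
    intro i
    have h1 : μ i * conj c = 1 := by
      apply eq_one_of_norm_eq_one_of_re_eq_one _ (hre i)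
      rw [norm_mul, hnorm i, Complex.norm_conj, hcnorm, mul_one]
    calc μ i = μ i * (conj c * c) := by rw [mul_comm (conj c) c, hcc, mul_one]
      _ = (μ i * conj c) * c := by ring
      _ = c := by rw [h1, one_mul]
  refine ⟨c, ?_⟩
  apply b.ext
  intro i
  rw [hb i, heq i, LinearMap.smul_apply, Module.End.one_apply]

end Cfsg.Agent.Helper16
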