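import Mathlib

set_option autoImplicit false

namespace Cfsg.Agent.Helper16

/-- The preimage of a maximal subgroup under a surjective homomorphism is maximal. -/
theorem isCoatom_comap_of_surjective {G N : Type*} [Group G] [Group N] (f : G →* N)
    (hf : Function.Surjective f) {K : Subgroup N} (hK : IsCoatom K) : IsCoatom (K.comap f) := by
  constructor
  · intro h
    apply hK.1
    rw [← Subgroup.map_comap_eq_self_of_surjective hf K, h, Subgroup.map_top_of_surjective f hf]
  · intro L hL
    have hker : f.ker ≤ L := by
      intro x hx
      apply hL.le
      rw [Subgroup.mem_comap, MonoidHom.mem_ker.1 hx]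
      exact K.one_mem
    have h1 : K ≤ L.map f := by
      rw [← Subgroup.map_comap_eq_self_of_surjective hf K]
      exact Subgroup.map_mono hL.le
    have h2 : K ≠ L.map f := by
      intro h
      have : L ≤ K.comap f := by
        rw [h]; exact Subgroup.le_comap_map f L
      exact (lt_of_lt_of_le hL this).false
    have h3 : L.map f = ⊤ := hK.2 _ (lt_of_le_of_ne h1 h2)
    have h4 : (L.map f).comap f = L := by
      rw [Subgroup.comap_map_eq, sup_eq_left.2 hker]
    rw [← h4, h3, Subgroup.comap_top]

/-- The image of a maximal subgroup containing the kernel under a surjective homomorphism is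
maximal. -/
theorem isCoatom_map_of_surjective {G N : Type*} [Group G] [Group N] (f : G →* N)
    (hf : Function.Surjective f) {M : Subgroup G} (hM : IsCoatom M) (hker : f.ker ≤ M) :
    IsCoatom (M.map f) := by
  have hcm : (M.map f).comap f = M := by
    rw [Subgroup.comap_map_eq, sup_eq_left.2 hker]
  constructor
  · intro h
    apply hM.1
    rw [← hcm, h, Subgroup.comap_top]
  · intro L hL
    have h1 : M ≤ L.comap f := by
      rw [← hcm]; exact Subgroup.comap_mono hL.le
    have h2 : M ≠ L.comap f := by
      intro h
      have : L = M.map f := by
        rw [h, Subgroup.map_comap_eq_self_of_surjective hf]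
      exact (this ▸ hL).false
    have h3 : L.comap f = ⊤ := hM.2 _ (lt_of_le_of_ne h1 h2)
    rw [← Subgroup.map_comap_eq_self_of_surjective hf L, h3, Subgroup.map_top_of_surjective f hf]

end Cfsg.Agent.Helper16
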