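import Mathlib
import Cfsg.Agent.Lib.Helper11.D4IMem
import Cfsg.Agent.Lib.Helper6.SylowConj
import Cfsg.Agent.Lib.Lead.TwD4Order

/-!
# S2183 piece SYL: every involution of `³D₄(q)`, `q` even, is conjugate into `U¹`.
-/

set_option autoImplicit false
set_option linter.unusedSectionVars false
set_option linter.unusedSimpArgs false
set_option linter.unusedVariables false

namespace Cfsg.Agent.Helper11.D4I

open Cfsg Cfsg.Lie Cfsg.Agent.Lead.Chev Cfsg.Agent.Lead.Tw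

namespace SYL

theorem odd_pred_pow (q k : ℕ) (hq : Even q) (hq0 : 0 < q) (hk : k ≠ 0) : Odd (q ^ k - 1) := by
  have h1 : Even (q ^ k) := (Nat.even_pow' hk).2 hq
  have h2 : 1 ≤ q ^ k := Nat.one_le_pow _ _ hq0
  exact Nat.Even.sub_odd h2 h1 odd_one

end SYL

variable {K : Type*} [Field K] [Fintype K] [CharP K 2] {q : ℕ} (hK : Fintype.card K = q ^ 3)
  (f : K ≃+* K) (hf : ∀ t, f t = t ^ q)
include hK hf

/-- PIECE SYL: every involution of `³D₄(q)` is conjugate into `U¹` -/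
theorem sylow_step (g : GL chevD4.Idx K) (hg : g ∈ twistedD4 K q) (h2 : g * g = 1) :
    ∃ h ∈ twistedD4 K q, h * g * h⁻¹ ∈ chevD4.posUnipotent K ⊓ twistedD4 K q := by
  classical
  have : Fact (Nat.Prime 2) := ⟨Nat.prime_two⟩
  have hq1 : 1 < q := one_lt_q hK
  have hq0 : 0 < q := by omega
  obtain ⟨n, -, hn⟩ := FiniteField.card K 2
  -- q is a power of 2
  have hq2 : ∃ m : ℕ, q = 2 ^ m := by
    have h1 : q ∣ 2 ^ (n : ℕ) := by
      rw [← hn, hK]
      exact dvd_pow_self q (by norm_num)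
    obtain ⟨m, -, hm⟩ := (Nat.dvd_prime_pow Nat.prime_two).1 h1
    exact ⟨m, hm⟩
  obtain ⟨m, hm⟩ := hq2
  have hm0 : m ≠ 0 := by
    rintro rfl
    rw [pow_zero] at hm
    omega
  have hev : Even q := by
    rw [hm]
    exact (Nat.even_pow' hm0).2 even_two
  set G := twistedD4 K q with hG
  set U := chevD4.posUnipotent K ⊓ twistedD4 K q with hU
  have hle : U ≤ G := inf_le_right
  have hcardU : Nat.card (U.subgroupOf G) = 2 ^ (m * 12) := by
    rw [Nat.card_congr (Subgroup.subgroupOfEquivOfLe hle).toEquiv, hU, D4.card_U hq1 hK f hf, hm, pow_mul]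
  have hcardG : Nat.card G = q ^ 12 * (q ^ 2 - 1) * (q ^ 6 - 1) * (q ^ 8 + q ^ 4 + 1) :=
    D4.card_group hq1 hK f hf
  have hP : IsPGroup 2 (U.subgroupOf G) := IsPGroup.of_card hcardU
  have hidx : ¬ 2 ∣ (U.subgroupOf G).index := by
    have h1 := Subgroup.card_mul_index (U.subgroupOf G)
    rw [hcardG, hcardU, pow_mul, ← hm, mul_assoc, mul_assoc] at h1
    have h3 : (U.subgroupOf G).index = (q ^ 2 - 1) * ((q ^ 6 - 1) * (q ^ 8 + q ^ 4 + 1)) :=
      Nat.eq_of_mul_eq_mul_left (pow_pos hq0 12) h1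
    rw [h3, ← even_iff_two_dvd, Nat.not_even_iff_odd]
    refine (SYL.odd_pred_pow _ 2 hev hq0 (by norm_num)).mul
      ((SYL.odd_pred_pow _ 6 hev hq0 (by norm_num)).mul ?_)
    have e8 : Even (q ^ 8) := (Nat.even_pow' (by norm_num)).2 hev
    have e4 : Even (q ^ 4) := (Nat.even_pow' (by norm_num)).2 hev
    exact (e8.add e4).add_odd odd_one
  have hZ : IsPGroup 2 (Subgroup.zpowers (⟨g, hg⟩ : G)) := by
    have hγ2 : (⟨g, hg⟩ : G) ^ 2 = 1 := by
      apply Subtype.ext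
      rw [pow_two]
      exact h2
    intro x
    refine ⟨1, ?_⟩
    obtain ⟨x, hx⟩ := x
    obtain ⟨k, rfl⟩ := Subgroup.mem_zpowers_iff.1 hx
    apply Subtype.ext
    simp only [pow_one, Subgroup.coe_pow, Subgroup.coe_one]
    rw [← zpow_natCast, ← zpow_mul, mul_comm, zpow_mul, zpow_natCast, hγ2, one_zpow]
  obtain ⟨k, -, hk⟩ := Cfsg.Agent.Helper6.Fus.exists_conj_le_sylow (hP.toSylow hidx) ⊤
    (Subgroup.zpowers (⟨g, hg⟩ : G)) le_top le_top hZ
  have h3 := hk ⟨g, hg⟩ (Subgroup.mem_zpowers _)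
  refine ⟨k, k.2, ?_⟩
  exact h3

end Cfsg.Agent.Helper11.D4I
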