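import Mathlib

set_option autoImplicit false

namespace Cfsg.Agent.Helper16

/-- Two involutions of a finite group are conjugate, or they both commute with a common
involution (a power of their product). -/
theorem involution_dichotomy {G : Type*} [Group G] [Finite G] (x t : G)
    (hx : x * x = 1) (ht : t * t = 1) :
    (∃ c, c * x * c⁻¹ = t) ∨ ∃ z, orderOf z = 2 ∧ Commute z x ∧ Commute z t := by
  have hxinv : x⁻¹ = x := inv_eq_of_mul_eq_one_left hx
  have htinv : t⁻¹ = t := inv_eq_of_mul_eq_one_left ht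
  have hconj : x * (x * t) * x⁻¹ = (x * t)⁻¹ := by
    rw [mul_inv_rev, hxinv, htinv, ← mul_assoc, hx, one_mul]
  have hconjk : ∀ k : ℕ, x * (x * t) ^ k * x⁻¹ = ((x * t) ^ k)⁻¹ := by
    intro k
    have := map_pow (MulAut.conj x) (x * t) k
    simp only [MulAut.conj_apply] at this
    rw [this, hconj, inv_pow]
  have hn : 0 < orderOf (x * t) := orderOf_pos (x * t)
  have hxr : x * (x * t) = t := by rw [← mul_assoc, hx, one_mul]
  rcases Nat.even_or_odd' (orderOf (x * t)) with ⟨k, hk | hk⟩
  · right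
    have hz2 : (x * t) ^ k * (x * t) ^ k = 1 := by
      rw [← pow_add, ← two_mul, ← hk, pow_orderOf_eq_one]
    have hzinv : ((x * t) ^ k)⁻¹ = (x * t) ^ k := inv_eq_of_mul_eq_one_left hz2
    have hzx : Commute ((x * t) ^ k) x := by
      have h1 := hconjk k
      rw [hzinv] at h1
      have h2 : x * (x * t) ^ k = (x * t) ^ k * x := mul_inv_eq_iff_eq_mul.1 h1
      exact h2.symm
    refine ⟨(x * t) ^ k, ?_, hzx, ?_⟩
    · apply orderOf_eq_prime
      · rw [pow_two]; exact hz2
      · intro h
        have h1 := orderOf_dvd_of_pow_eq_one h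
        have h2 : orderOf (x * t) ≤ k := Nat.le_of_dvd (by omega) h1
        omega
    · have h1 : Commute ((x * t) ^ k) (x * t) := (Commute.refl (x * t)).pow_left k
      have h2 := hzx.mul_right h1
      rwa [hxr] at h2
  · left
    refine ⟨(x * t) ^ k, ?_⟩
    have h1 := hconjk k
    -- x * r^k * x⁻¹ = (r^k)⁻¹, so r^k * x = x * (r^k)⁻¹ ... and r^k * x * (r^k)⁻¹ = r^(2k) * x
    have h2 : (x * t) ^ k * x * ((x * t) ^ k)⁻¹ = (x * t) ^ k * (x * t) ^ k * x := by
      rw [← h1, hxinv]
      have : (x * t) ^ k * x * (x * (x * t) ^ k * x) = (x * t) ^ k * (x * x) * (x * t) ^ k * x := by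
        group
      rw [this, hx, mul_one]
    have h3 : (x * t) ^ k * (x * t) ^ k = (x * t)⁻¹ := by
      rw [← pow_add, ← two_mul]
      apply eq_inv_of_mul_eq_one_left
      rw [← pow_succ, ← hk, pow_orderOf_eq_one]
    rw [h2, h3, mul_inv_rev, hxinv, htinv, mul_assoc, hx, mul_one]

end Cfsg.Agent.Helper16
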