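import Mathlib
import Cfsg.Agent.S0071
import Cfsg.Agent.Lib.Helper16.DihedralSub
import Cfsg.Agent.Lib.Helper16.CyclicMaxTransfer
import Cfsg.Agent.Lib.Helper16.NormalComplementNC

/-!
# Conjugacy classes of involutions in groups with dihedral Sylow `2`-subgroups
(helper16's library)
-/

set_option autoImplicit false

namespace Cfsg.Agent.Helper16

/-- With a normal complement of `P`, elements of `P` conjugate in `G` are conjugate in `P`. -/
theorem conj_mem_of_normal_complement {G : Type*} [Group G] {K P : Subgroup G} (hK : K.Normal)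
    (hc : K.IsComplement' P) {u v : G} (hu : u ∈ P) (hv : v ∈ P) {g : G}
    (hg : g * u * g⁻¹ = v) : ∃ p ∈ P, p * u * p⁻¹ = v := by
  obtain ⟨x, hx, -⟩ := (hc : Subgroup.IsComplement (K : Set G) (P : Set G)).existsUnique g
  have hk : (x.1 : G) ∈ K := x.1.2
  have hp : (x.2 : G) ∈ P := x.2.2
  set k : G := (x.1 : G) with hkdef
  set p : G := (x.2 : G) with hpdef
  refine ⟨p, hp, ?_⟩
  set u' : G := p * u * p⁻¹ with hu'
  have hu'P : u' ∈ P := P.mul_mem (P.mul_mem hp hu) (P.inv_mem hp)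
  have h1 : v = k * u' * k⁻¹ := by
    rw [← hg, ← hx, hu']
    simp only [mul_assoc, mul_inv_rev]
  have h2 : v * u'⁻¹ ∈ K := by
    have : v * u'⁻¹ = k * (u' * k⁻¹ * u'⁻¹) := by
      rw [h1]; simp only [mul_assoc]
    rw [this]
    exact K.mul_mem hk (hK.conj_mem _ (K.inv_mem hk) u')
  have h3 : v * u'⁻¹ ∈ P := P.mul_mem hv (P.inv_mem hu'P)
  have h4 : v * u'⁻¹ = 1 := by
    have hdis := hc.disjoint
    rw [Subgroup.disjoint_def] at hdis
    exact hdis h2 h3
  exact (mul_inv_eq_one.1 h4).symm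

namespace IsDihedralSub

variable {G : Type*} [Group G] {P : Subgroup G} {a : G} {j : ℕ}

/-- Conjugation of a rotation by a reflection. -/
theorem conj_zpow_of_out (h : IsDihedralSub P a j) {x : G} (hx : x ∈ P)
    (hxa : x ∉ Subgroup.zpowers a) (k : ℤ) : x * a ^ k * x⁻¹ = a ^ (-k) := by
  rw [← conj_zpow, h.out_inv x hx hxa, inv_zpow, zpow_neg]

theorem inv_eq_of_out (h : IsDihedralSub P a j) {x : G} (hx : x ∈ P)
    (hxa : x ∉ Subgroup.zpowers a) : x⁻¹ = x := by
  rw [inv_eq_iff_mul_eq_one, ← pow_two]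
  exact h.out_sq x hx hxa

/-- `a ^ k * x * a ^ (-k) = a ^ (2 k) * x`. -/
theorem conj_out_by_zpow (h : IsDihedralSub P a j) {x : G} (hx : x ∈ P)
    (hxa : x ∉ Subgroup.zpowers a) (k i : ℤ) :
    a ^ k * (a ^ i * x) * (a ^ k)⁻¹ = a ^ (i + 2 * k) * x := by
  have h1 : x * (a ^ k)⁻¹ = a ^ k * x := by
    have := h.conj_zpow_of_out hx hxa (-k)
    rw [neg_neg, zpow_neg] at this
    calc x * (a ^ k)⁻¹ = x * (a ^ k)⁻¹ * x⁻¹ * x := by rw [inv_mul_cancel_right]
      _ = a ^ k * x := by rw [this]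
  calc a ^ k * (a ^ i * x) * (a ^ k)⁻¹ = a ^ k * a ^ i * (x * (a ^ k)⁻¹) := by
        simp only [mul_assoc]
    _ = a ^ k * a ^ i * (a ^ k * x) := by rw [h1]
    _ = a ^ (i + 2 * k) * x := by
        rw [← mul_assoc, ← zpow_add, ← zpow_add]
        congr 2
        ring

/-- Every reflection is `a ^ i * x`. -/
theorem exists_zpow_mul_of_out (h : IsDihedralSub P a j) {x y : G} (hx : x ∈ P)
    (hxa : x ∉ Subgroup.zpowers a) (hy : y ∈ P) (hya : y ∉ Subgroup.zpowers a) :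
    ∃ i : ℤ, y = a ^ i * x := by
  obtain ⟨i, hi⟩ := Subgroup.mem_zpowers_iff.1 (h.out_mul y hy x hx hya hxa)
  refine ⟨i, ?_⟩
  rw [hi, mul_assoc, ← pow_two, h.out_sq x hx hxa, mul_one]

/-- Every reflection is conjugate under `⟨a⟩` to `x` or to `a * x`. -/
theorem out_conj (h : IsDihedralSub P a j) {x y : G} (hx : x ∈ P)
    (hxa : x ∉ Subgroup.zpowers a) (hy : y ∈ P) (hya : y ∉ Subgroup.zpowers a) :
    ∃ p : G, p * y * p⁻¹ = x ∨ p * y * p⁻¹ = a * x := by
  obtain ⟨i, rfl⟩ := h.exists_zpow_mul_of_out hx hxa hy hya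
  rcases Int.even_or_odd' i with ⟨k, rfl | rfl⟩
  · refine ⟨a ^ (-k), Or.inl ?_⟩
    rw [h.conj_out_by_zpow hx hxa]
    have : 2 * k + 2 * -k = 0 := by ring
    rw [this, zpow_zero, one_mul]
  · refine ⟨a ^ (-k), Or.inr ?_⟩
    rw [h.conj_out_by_zpow hx hxa]
    have : 2 * k + 1 + 2 * -k = 1 := by ring
    rw [this, zpow_one]

/-- `P`-conjugates of a reflection `x` have the form `a ^ (2 k) * x`. -/
theorem conj_out (h : IsDihedralSub P a j) {x p : G} (hx : x ∈ P)
    (hxa : x ∉ Subgroup.zpowers a) (hp : p ∈ P) : ∃ k : ℤ, p * x * p⁻¹ = a ^ (2 * k) * x := by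
  by_cases hpa : p ∈ Subgroup.zpowers a
  · obtain ⟨k, rfl⟩ := Subgroup.mem_zpowers_iff.1 hpa
    refine ⟨k, ?_⟩
    have := h.conj_out_by_zpow hx hxa k 0
    rw [zpow_zero, one_mul, zero_add] at this
    exact this
  · obtain ⟨i, rfl⟩ := h.exists_zpow_mul_of_out hx hxa hp hpa
    refine ⟨i, ?_⟩
    have h1 : a ^ i * x * x * (a ^ i * x)⁻¹ = a ^ i * x * (a ^ i)⁻¹ := by
      rw [mul_inv_rev]
      simp only [mul_assoc, mul_inv_cancel_left]
    rw [h1]
    have := h.conj_out_by_zpow hx hxa i 0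
    rw [zpow_zero, one_mul, zero_add] at this
    rw [this]

/-- `a * x` is not `P`-conjugate to `x`. -/
theorem ax_ne_conj (h : IsDihedralSub P a j) (hj : 1 ≤ j) {x p : G} (hx : x ∈ P)
    (hxa : x ∉ Subgroup.zpowers a) (hp : p ∈ P) : p * x * p⁻¹ ≠ a * x := by
  intro hcon
  obtain ⟨k, hk⟩ := h.conj_out hx hxa hp
  rw [hk] at hcon
  have h1 : a ^ (2 * k) = a := mul_right_cancel hcon
  have h2 : a ^ (2 * k - 1) = 1 := by
    rw [zpow_sub, zpow_one, h1, mul_inv_cancel]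
  have h3 := orderOf_dvd_iff_zpow_eq_one.2 h2
  rw [h.hao] at h3
  have h4 : (2 : ℤ) ∣ ((2 ^ j : ℕ) : ℤ) := by
    rw [Nat.cast_pow]
    exact dvd_pow_self 2 (by omega)
  have h5 := h4.trans h3
  omega

/-- The involution of the rotation subgroup is central in `P`. -/
theorem z_conj (h : IsDihedralSub P a j) (hj : 1 ≤ j) {p : G} (hp : p ∈ P) :
    p * a ^ 2 ^ (j - 1) * p⁻¹ = a ^ 2 ^ (j - 1) := by
  by_cases hpa : p ∈ Subgroup.zpowers a
  · obtain ⟨k, rfl⟩ := Subgroup.mem_zpowers_iff.1 hpa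
    rw [mul_inv_eq_iff_eq_mul, ← zpow_natCast, ← zpow_add, ← zpow_add, add_comm]
  · have := h.conj_zpow_of_out hp hpa ((2 ^ (j - 1) : ℕ) : ℤ)
    rw [zpow_natCast] at this
    rw [this, zpow_neg, zpow_natCast, inv_eq_iff_mul_eq_one, ← pow_two]
    exact pow_half_sq hj h.hao

theorem z_orderOf (h : IsDihedralSub P a j) (hj : 1 ≤ j) : orderOf (a ^ 2 ^ (j - 1)) = 2 :=
  orderOf_eq_prime (pow_half_sq hj h.hao) (pow_half_ne_one hj h.hao)

theorem out_orderOf (h : IsDihedralSub P a j) {x : G} (hx : x ∈ P)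
    (hxa : x ∉ Subgroup.zpowers a) : orderOf x = 2 := by
  apply orderOf_eq_prime (h.out_sq x hx hxa)
  rintro rfl
  exact hxa (Subgroup.one_mem _)

theorem exists_out (h : IsDihedralSub P a j) : ∃ x ∈ P, x ∉ Subgroup.zpowers a := by
  by_contra hne
  push Not at hne
  have hfin : Finite P := Nat.finite_of_card_ne_zero (by rw [h.card]; positivity)
  have h1 : P ≤ Subgroup.zpowers a := hne
  have hfin2 : Finite (Subgroup.zpowers a) :=
    Nat.finite_of_card_ne_zero (by rw [Nat.card_zpowers, h.hao]; positivity)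
  have h2 := Subgroup.card_le_of_le h1
  rw [h.card, Nat.card_zpowers, h.hao, pow_succ] at h2
  have : 0 < 2 ^ j := by positivity
  omega

theorem ax_mem (h : IsDihedralSub P a j) {x : G} (hx : x ∈ P) : a * x ∈ P := P.mul_mem h.mem hx

theorem ax_notMem (_h : IsDihedralSub P a j) {x : G} (hxa : x ∉ Subgroup.zpowers a) :
    a * x ∉ Subgroup.zpowers a := by
  intro hcon
  apply hxa
  have := Subgroup.mul_mem _ (Subgroup.inv_mem _ (Subgroup.mem_zpowers a)) hcon
  rwa [inv_mul_cancel_left] at this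

/-- Every involution of `P` is `z` or a reflection. -/
theorem involution_cases (h : IsDihedralSub P a j) (hj : 1 ≤ j) {u : G}
    (huo : orderOf u = 2) : u ∉ Subgroup.zpowers a ∨ u = a ^ 2 ^ (j - 1) := by
  by_cases hua : u ∈ Subgroup.zpowers a
  · right
    have hu2 : u ^ 2 = 1 := by rw [← huo]; exact pow_orderOf_eq_one u
    rcases h.eq_one_or_of_sq hj hua hu2 with h1 | h1
    · rw [h1, orderOf_one] at huo
      norm_num at huo
    · exact h1
  · left; exact hua

end IsDihedralSub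

end Cfsg.Agent.Helper16
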