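import Mathlib
import Cfsg.Agent.Lib.Helper16.DihedralClasses

/-!
# Fusion of involutions in groups with dihedral Sylow `2`-subgroups (helper16's library)
-/

set_option autoImplicit false

namespace Cfsg.Agent.Helper16

namespace IsDihedralSub

variable {G : Type*} [Group G] [Finite G] {a : G} {j : ℕ}

/-- With a normal `2`-complement the three classes of involutions of `P` do not fuse. -/
theorem not_conj_of_normal_complement (P : Sylow 2 G) (h : IsDihedralSub (P : Subgroup G) a j)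
    (hj : 1 ≤ j) {K : Subgroup G} (hK : K.Normal) (hc : K.IsComplement' (P : Subgroup G))
    {x : G} (hx : x ∈ (P : Subgroup G)) (hxa : x ∉ Subgroup.zpowers a) :
    ¬ IsConj (a ^ 2 ^ (j - 1)) x ∧ ¬ IsConj (a ^ 2 ^ (j - 1)) (a * x) ∧ ¬ IsConj x (a * x) := by
  have hzP : a ^ 2 ^ (j - 1) ∈ (P : Subgroup G) := Subgroup.pow_mem _ h.mem _
  refine ⟨?_, ?_, ?_⟩
  · intro hcon
    obtain ⟨g, hg⟩ := isConj_iff.1 hcon
    obtain ⟨p, hp, hp2⟩ := conj_mem_of_normal_complement hK hc hzP hx hg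
    rw [h.z_conj hj hp] at hp2
    apply hxa
    rw [← hp2]
    exact Subgroup.pow_mem _ (Subgroup.mem_zpowers a) _
  · intro hcon
    obtain ⟨g, hg⟩ := isConj_iff.1 hcon
    obtain ⟨p, hp, hp2⟩ := conj_mem_of_normal_complement hK hc hzP (h.ax_mem hx) hg
    rw [h.z_conj hj hp] at hp2
    apply h.ax_notMem hxa
    rw [← hp2]
    exact Subgroup.pow_mem _ (Subgroup.mem_zpowers a) _
  · intro hcon
    obtain ⟨g, hg⟩ := isConj_iff.1 hcon
    obtain ⟨p, hp, hp2⟩ := conj_mem_of_normal_complement hK hc hx (h.ax_mem hx) hg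
    exact h.ax_ne_conj hj hx hxa hp hp2

/-- Without a normal `2`-complement the central involution of `P` is fused to a reflection. -/
theorem conj_z_of_no_complement (P : Sylow 2 G) (h : IsDihedralSub (P : Subgroup G) a j)
    (hj : 1 ≤ j)
    (hnc : ¬ ∃ N : Subgroup G, N.Normal ∧ N.IsComplement' (P : Subgroup G))
    {x : G} (hx : x ∈ (P : Subgroup G)) (hxa : x ∉ Subgroup.zpowers a) :
    IsConj (a ^ 2 ^ (j - 1)) x ∨ IsConj (a ^ 2 ^ (j - 1)) (a * x) := by
  have hF : Fact (Nat.Prime 2) := ⟨Nat.prime_two⟩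
  rw [Cfsg.Agent.S0071.result P] at hnc
  push Not at hnc
  obtain ⟨Q, hQP, g, hg, hcop, hgc⟩ := hnc
  have hodd : Odd (orderOf g) := Nat.coprime_two_right.1 hcop
  obtain ⟨h4, hsq⟩ := four_of_odd_normalizer_dihedral (P : Subgroup G) h.mem h.hao h.card
    h.out_sq Q hQP hg hodd hgc
  have hz := h.z_mem_of_four hj hQP h4 hsq
  set z : G := a ^ 2 ^ (j - 1) with hzdef
  have hz1 : z ≠ 1 := pow_half_ne_one hj h.hao
  have hyQ : g * z * g⁻¹ ∈ Q := (Subgroup.mem_normalizer_iff.1 hg z).1 hz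
  have hyz : g * z * g⁻¹ ≠ z := by
    intro hgt
    exact hgc (mem_centralizer_four_of_fix Q h4 hsq hg hodd hz hz1 hgt)
  have hyo : orderOf (g * z * g⁻¹) = 2 := by
    have : g * z * g⁻¹ = MulAut.conj g z := by rw [MulAut.conj_apply]
    rw [this, MulEquiv.orderOf_eq]
    exact h.z_orderOf hj
  have hya : g * z * g⁻¹ ∉ Subgroup.zpowers a := by
    rcases h.involution_cases hj hyo with h1 | h1
    · exact h1
    · exact absurd h1 hyz
  obtain ⟨p, hp | hp⟩ := h.out_conj hx hxa (hQP hyQ) hya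
  · left
    rw [isConj_iff]
    exact ⟨p * g, by rw [← hp]; simp only [mul_assoc, mul_inv_rev]⟩
  · right
    rw [isConj_iff]
    exact ⟨p * g, by rw [← hp]; simp only [mul_assoc, mul_inv_rev]⟩

/-- With a normal subgroup of index two, the three classes of involutions of `P` do not all
fuse. -/
theorem not_all_conj_of_index_two (P : Sylow 2 G) (h : IsDihedralSub (P : Subgroup G) a j)
    (hj : 2 ≤ j) {N : Subgroup G} (hN : N.Normal) (hidx : N.index = 2)
    {x : G} (hx : x ∈ (P : Subgroup G)) (hxa : x ∉ Subgroup.zpowers a) :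
    ¬ (IsConj (a ^ 2 ^ (j - 1)) x ∧ IsConj (a ^ 2 ^ (j - 1)) (a * x)) := by
  have hF : Fact (Nat.Prime 2) := ⟨Nat.prime_two⟩
  rintro ⟨h1, h2⟩
  have hzN : a ^ 2 ^ (j - 1) ∈ N := by
    have : a ^ 2 ^ (j - 1) = (a ^ 2 ^ (j - 2)) ^ 2 := by
      rw [← pow_mul, ← pow_succ]
      congr 2
      omega
    rw [this]
    exact Subgroup.sq_mem_of_index_two hidx _
  have hxN : x ∈ N := by
    obtain ⟨c, hc⟩ := isConj_iff.1 h1
    rw [← hc]
    exact hN.conj_mem _ hzN c
  have haxN : a * x ∈ N := by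
    obtain ⟨c, hc⟩ := isConj_iff.1 h2
    rw [← hc]
    exact hN.conj_mem _ hzN c
  have haN : a ∈ N := by
    have := N.mul_mem haxN (N.inv_mem hxN)
    rwa [mul_inv_cancel_right] at this
  have hPN : (P : Subgroup G) ≤ N := by
    intro p hp
    by_cases hpa : p ∈ Subgroup.zpowers a
    · obtain ⟨k, rfl⟩ := Subgroup.mem_zpowers_iff.1 hpa
      exact N.zpow_mem haN k
    · obtain ⟨i, rfl⟩ := h.exists_zpow_mul_of_out hx hxa hp hpa
      exact N.mul_mem (N.zpow_mem haN i) hxN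
  have h3 := Subgroup.index_dvd_of_le hPN
  rw [hidx] at h3
  exact P.not_dvd_index h3

/-- With a normal subgroup of index four, the central involution of `P` is not fused to a
reflection. -/
theorem not_conj_of_index_four (P : Sylow 2 G) (h : IsDihedralSub (P : Subgroup G) a j)
    (hj : 2 ≤ j) {M : Subgroup G} (hM : M.Normal) (hidx : M.index = 4)
    {x : G} (hx : x ∈ (P : Subgroup G)) (hxa : x ∉ Subgroup.zpowers a) :
    ¬ IsConj (a ^ 2 ^ (j - 1)) x ∧ ¬ IsConj (a ^ 2 ^ (j - 1)) (a * x) := by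
  have hF : Fact (Nat.Prime 2) := ⟨Nat.prime_two⟩
  -- `G ⧸ M` is abelian
  have hcomm : ∀ g₁ g₂ : G, g₁ * g₂ * g₁⁻¹ * g₂⁻¹ ∈ M := by
    intro g₁ g₂
    have hcard : Nat.card (G ⧸ M) = 2 ^ 2 := by
      rw [← Subgroup.index_eq_card, hidx]; norm_num
    have hc := IsPGroup.commutative_of_card_eq_prime_sq hcard
    rw [← QuotientGroup.eq_one_iff]
    simp only [QuotientGroup.mk_mul, QuotientGroup.mk_inv]
    rw [hc (g₁ : G ⧸ M) (g₂ : G ⧸ M), mul_inv_cancel_right, mul_inv_cancel]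
  have ha2M : a ^ 2 ∈ M := by
    have h1 := hcomm x a
    rw [h.out_inv x hx hxa, ← mul_inv_rev, ← pow_two] at h1
    exact (Subgroup.inv_mem_iff _).1 h1
  have hzM : a ^ 2 ^ (j - 1) ∈ M := by
    have : a ^ 2 ^ (j - 1) = (a ^ 2) ^ 2 ^ (j - 2) := by
      rw [← pow_mul, ← pow_succ']
      congr 2
      omega
    rw [this]
    exact M.pow_mem ha2M _
  -- `P ⊓ M = ⟨a ^ 2⟩`
  have ha2o : orderOf (a ^ 2) = 2 ^ (j - 1) := by
    rw [orderOf_pow' a two_ne_zero, h.hao]
    have h1 : 2 ^ j = 2 ^ (j - 1) * 2 := by rw [← pow_succ]; congr 1; omega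
    rw [h1, Nat.gcd_mul_left_left]
    exact Nat.mul_div_cancel _ two_pos
  have hle : Subgroup.zpowers (a ^ 2) ≤ (P : Subgroup G) ⊓ M := by
    rw [Subgroup.zpowers_le]
    exact ⟨Subgroup.pow_mem _ h.mem 2, ha2M⟩
  have hcardle : Nat.card ((P : Subgroup G) ⊓ M : Subgroup G) ≤ 2 ^ (j - 1) := by
    have hp : IsPGroup 2 ((P : Subgroup G) ⊓ M : Subgroup G) := P.isPGroup'.to_le inf_le_left
    obtain ⟨i, hi⟩ := IsPGroup.iff_card.1 hp
    have h1 : Nat.card ((P : Subgroup G) ⊓ M : Subgroup G) ∣ Nat.card M :=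
      Subgroup.card_dvd_of_le inf_le_right
    have h2 : Nat.card M * 4 = Nat.card G := by rw [← hidx]; exact Subgroup.card_mul_index M
    have h3 : Nat.card (P : Subgroup G) * (P : Subgroup G).index = Nat.card G :=
      Subgroup.card_mul_index _
    rw [h.card] at h3
    have h4 : 2 ^ (i + 2) ∣ 2 ^ (j + 1) * (P : Subgroup G).index := by
      rw [h3, ← h2, pow_add]
      rw [hi] at h1
      exact Nat.mul_dvd_mul h1 (by norm_num)
    have hodd : Nat.Coprime (2 ^ (i + 2)) (P : Subgroup G).index := by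
      apply Nat.Coprime.pow_left
      rw [Nat.Prime.coprime_iff_not_dvd Nat.prime_two]
      exact P.not_dvd_index
    have h5 : 2 ^ (i + 2) ∣ 2 ^ (j + 1) := hodd.dvd_of_dvd_mul_right h4
    have h6 : i + 2 ≤ j + 1 := (Nat.pow_dvd_pow_iff_le_right (by norm_num)).1 h5
    rw [hi]
    exact Nat.pow_le_pow_right two_pos (by omega)
  have heq : Subgroup.zpowers (a ^ 2) = (P : Subgroup G) ⊓ M := by
    apply Subgroup.eq_of_le_of_card_ge hle
    rw [Nat.card_zpowers, ha2o]
    exact hcardle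
  have hnot : ∀ y ∈ (P : Subgroup G), y ∉ Subgroup.zpowers a → y ∉ M := by
    intro y hy hya hyM
    apply hya
    have : y ∈ Subgroup.zpowers (a ^ 2) := by rw [heq]; exact ⟨hy, hyM⟩
    obtain ⟨k, rfl⟩ := Subgroup.mem_zpowers_iff.1 this
    rw [← zpow_natCast, ← zpow_mul]
    exact Subgroup.zpow_mem _ (Subgroup.mem_zpowers a) _
  constructor
  · intro hcon
    obtain ⟨c, hc⟩ := isConj_iff.1 hcon
    apply hnot x hx hxa
    rw [← hc]
    exact hM.conj_mem _ hzM c
  · intro hcon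
    obtain ⟨c, hc⟩ := isConj_iff.1 hcon
    apply hnot (a * x) (h.ax_mem hx) (h.ax_notMem hxa)
    rw [← hc]
    exact hM.conj_mem _ hzM c

end IsDihedralSub

end Cfsg.Agent.Helper16
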