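import Mathlib
import Cfsg.Agent.Lib.Helper16.DihedralSub
import Cfsg.Agent.Lib.Helper16.DihedralClasses
import Cfsg.Agent.Lib.Helper16.CyclicMaxTransfer

/-!
# Groups with an involution whose centralizer is dihedral of order eight (helper16's library)
-/

set_option autoImplicit false

namespace Cfsg.Agent.Helper16

/-- A perfect group has no normal subgroup of index two. -/
theorem index_ne_two_of_perfect {G : Type*} [Group G] (hperf : commutator G = ⊤)
    (M : Subgroup G) (hM : M.Normal) : M.index ≠ 2 := by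
  intro hidx
  have hF : Fact (Nat.Prime 2) := ⟨Nat.prime_two⟩
  have hcard : Nat.card (G ⧸ M) = 2 := hidx
  have hc : IsCyclic (G ⧸ M) := isCyclic_of_prime_card hcard
  have hcomm : IsMulCommutative (G ⧸ M) := ⟨⟨fun x y => by
    let _ := IsCyclic.commGroup (α := G ⧸ M)
    exact mul_comm x y⟩⟩
  have hle := Subgroup.Normal.quotient_commutative_iff_commutator_le.1 hcomm
  rw [hperf, top_le_iff] at hle
  rw [hle, Subgroup.index_top] at hidx
  norm_num at hidx

namespace DihEight

variable {G : Type*} [Group G] {t a : G}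

/-- The involution `t` is the square of the rotation `a`. -/
theorem t_eq (h : IsDihedralSub (Subgroup.centralizer ({t} : Set G)) a 2) (ht : orderOf t = 2) :
    t = a ^ 2 := by
  have ht2 : t ^ 2 = 1 := by rw [← ht]; exact pow_orderOf_eq_one t
  have ht1 : t ≠ 1 := by
    intro h1
    rw [h1, orderOf_one] at ht
    norm_num at ht
  have htD : t ∈ Subgroup.centralizer ({t} : Set G) :=
    Subgroup.mem_centralizer_singleton_iff.2 rfl
  have hat : a * t = t * a := Subgroup.mem_centralizer_singleton_iff.1 h.mem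
  have hta : t ∈ Subgroup.zpowers a := by
    by_contra hta
    have h1 := h.out_inv t htD hta
    rw [← hat, mul_inv_cancel_right] at h1
    have h2 : a ^ 2 = 1 := by
      rw [pow_two]
      nth_rewrite 1 [h1]
      exact inv_mul_cancel a
    have h3 := orderOf_dvd_of_pow_eq_one h2
    rw [h.hao] at h3
    norm_num at h3
  rcases h.eq_one_or_of_sq (by norm_num) hta ht2 with h1 | h1
  · exact absurd h1 ht1
  · simpa using h1

/-- The unique involution of `⟨a⟩`, as a power of any nonidentity element. -/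
theorem pow_half_eq_t (h : IsDihedralSub (Subgroup.centralizer ({t} : Set G)) a 2)
    (ht : orderOf t = 2) {y : G} (hy : y ∈ Subgroup.zpowers a) (hy1 : y ≠ 1) :
    y ^ (orderOf y / 2) = t := by
  have hdvd : orderOf y ∣ 2 ^ 2 := by
    rw [← h.hao]; exact orderOf_dvd_of_mem_zpowers hy
  obtain ⟨e, he, heo⟩ := (Nat.dvd_prime_pow Nat.prime_two).1 hdvd
  have he1 : 1 ≤ e := by
    rcases Nat.eq_zero_or_pos e with h0 | h0
    · rw [h0, pow_zero, orderOf_eq_one_iff] at heo
      exact absurd heo hy1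
    · exact h0
  have hsplit : 2 ^ e = 2 * 2 ^ (e - 1) := by
    rw [← pow_succ']; congr 1; omega
  have hhalf : orderOf y / 2 = 2 ^ (e - 1) := by
    rw [heo, hsplit, Nat.mul_div_cancel_left _ two_pos]
  rw [hhalf]
  have h2 : (y ^ 2 ^ (e - 1)) ^ 2 = 1 := by
    rw [← pow_mul, mul_comm, ← hsplit, ← heo]; exact pow_orderOf_eq_one y
  have h1 : y ^ 2 ^ (e - 1) ≠ 1 := by
    intro hcon
    have h3 := orderOf_dvd_of_pow_eq_one hcon
    rw [heo] at h3
    have h4 := Nat.le_of_dvd (by positivity) h3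
    have h5 : 2 ^ (e - 1) < 2 ^ e := Nat.pow_lt_pow_right (by norm_num) (by omega)
    omega
  rcases h.eq_one_or_of_sq (by norm_num) (Subgroup.pow_mem _ hy _) h2 with h3 | h3
  · exact absurd h3 h1
  · rw [h3, t_eq h ht]; norm_num

/-- Nonidentity elements of `⟨a⟩` are only fused inside `C_G(t)`. -/
theorem mem_of_conj_mem (h : IsDihedralSub (Subgroup.centralizer ({t} : Set G)) a 2)
    (ht : orderOf t = 2) {x g : G} (hx : x ∈ Subgroup.zpowers a) (hx1 : x ≠ 1)
    (hg : g⁻¹ * x * g ∈ Subgroup.zpowers a) : g ∈ Subgroup.centralizer ({t} : Set G) := by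
  have ho : orderOf (g⁻¹ * x * g) = orderOf x := by
    have : g⁻¹ * x * g = MulAut.conj g⁻¹ x := by rw [MulAut.conj_apply, inv_inv]
    rw [this, MulEquiv.orderOf_eq]
  have hx1' : g⁻¹ * x * g ≠ 1 := by
    intro hcon
    apply hx1
    have : x = g * (g⁻¹ * x * g) * g⁻¹ := by group
    rw [this, hcon]; group
  have h1 := pow_half_eq_t h ht hx hx1
  have h2 := pow_half_eq_t h ht hg hx1'
  rw [ho] at h2
  have h3 : (g⁻¹ * x * g) ^ (orderOf x / 2) = g⁻¹ * x ^ (orderOf x / 2) * g := by
    have : g⁻¹ * x * g = g⁻¹ * x * (g⁻¹)⁻¹ := by rw [inv_inv]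
    rw [this, conj_pow, inv_inv]
  rw [h3, h1] at h2
  rw [Subgroup.mem_centralizer_singleton_iff]
  calc g * t = g * (g⁻¹ * t * g) := by rw [h2]
    _ = t * g := by group

/-- If the product of two involutions is a nonidentity element of `⟨a⟩`, the first is a
reflection of `C_G(t)`. -/
theorem mem_of_mul_mem (h : IsDihedralSub (Subgroup.centralizer ({t} : Set G)) a 2)
    (ht : orderOf t = 2) {p q : G} (hp : p ^ 2 = 1) (hp1 : p ≠ 1) (hq : q ^ 2 = 1) (hq1 : q ≠ 1)
    (hpq : p * q ∈ Subgroup.zpowers a) (hpq1 : p * q ≠ 1) :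
    p ∈ Subgroup.centralizer ({t} : Set G) ∧ p ∉ Subgroup.zpowers a := by
  have hpinv : p⁻¹ = p := by rw [inv_eq_iff_mul_eq_one, ← pow_two]; exact hp
  have hqinv : q⁻¹ = q := by rw [inv_eq_iff_mul_eq_one, ← pow_two]; exact hq
  have hconj : p⁻¹ * (p * q) * p = (p * q)⁻¹ := by
    rw [mul_inv_rev, hpinv, hqinv]
    calc p * (p * q) * p = p ^ 2 * q * p := by rw [pow_two]; group
      _ = q * p := by rw [hp, one_mul]
  have hpD : p ∈ Subgroup.centralizer ({t} : Set G) := by
    apply mem_of_conj_mem h ht hpq hpq1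
    rw [hconj]
    exact Subgroup.inv_mem _ hpq
  refine ⟨hpD, ?_⟩
  intro hpA
  -- `p` commutes with `p * q`
  obtain ⟨i, hi⟩ := Subgroup.mem_zpowers_iff.1 hpA
  obtain ⟨k, hk⟩ := Subgroup.mem_zpowers_iff.1 hpq
  have hcomm : p * (p * q) = (p * q) * p := by
    rw [← hk, ← hi, ← zpow_add, ← zpow_add, add_comm]
  have hqp : q * p = p * q := by
    have : p * (p * q) = p * (q * p) := by rw [hcomm]; group
    exact (mul_left_cancel this).symm
  -- then `(p q)^2 = 1`
  have hw2 : (p * q) ^ 2 = 1 := by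
    calc (p * q) ^ 2 = p * (q * p) * q := by rw [pow_two]; group
      _ = p * (p * q) * q := by rw [hqp]
      _ = p ^ 2 * q ^ 2 := by rw [pow_two, pow_two]; group
      _ = 1 := by rw [hp, hq, one_mul]
  have hj : (1 : ℕ) ≤ 2 := by norm_num
  have ht' := t_eq h ht
  rcases h.eq_one_or_of_sq hj hpq hw2 with h1 | h1
  · exact hpq1 h1
  · rcases h.eq_one_or_of_sq hj hpA hp with h2 | h2
    · exact hp1 h2
    · -- `p = t` and `p q = t`, so `q = 1`
      apply hq1
      have : p * q = p := by rw [h1, h2]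
      calc q = p⁻¹ * (p * q) := by group
        _ = 1 := by rw [this, inv_mul_cancel]

/-- `C_G(t)` is a Sylow `2`-subgroup of `G`. -/
theorem exists_sylow_eq [Finite G] (h : IsDihedralSub (Subgroup.centralizer ({t} : Set G)) a 2)
    (ht : orderOf t = 2) : ∃ P : Sylow 2 G, (P : Subgroup G) = Subgroup.centralizer ({t} : Set G) := by
  have hF : Fact (Nat.Prime 2) := ⟨Nat.prime_two⟩
  have hD2 : IsPGroup 2 (Subgroup.centralizer ({t} : Set G)) := IsPGroup.of_card (n := 3) h.card
  obtain ⟨P, hDP⟩ := hD2.exists_le_sylow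
  refine ⟨P, le_antisymm ?_ hDP⟩
  have htD : t ∈ Subgroup.centralizer ({t} : Set G) :=
    Subgroup.mem_centralizer_singleton_iff.2 rfl
  have ht1 : t ≠ 1 := by
    intro h1
    rw [h1, orderOf_one] at ht
    norm_num at ht
  haveI : Nontrivial (P : Subgroup G) := ⟨⟨⟨t, hDP htD⟩, 1, fun hh => ht1 (congrArg Subtype.val hh)⟩⟩
  haveI : Nontrivial (Subgroup.center (P : Subgroup G)) := P.2.center_nontrivial
  obtain ⟨w, hw⟩ := exists_ne (1 : Subgroup.center (P : Subgroup G))
  have hwc : ∀ g : G, g ∈ (P : Subgroup G) → g * (w.1 : G) = (w.1 : G) * g := by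
    intro g hg
    have := Subgroup.mem_center_iff.1 w.2 ⟨g, hg⟩
    exact congrArg Subtype.val this
  have hw1 : (w.1 : G) ≠ 1 := by
    intro h1
    apply hw
    apply Subtype.ext
    apply Subtype.ext
    exact h1
  -- `w ∈ C_G(t)`
  have hwD : (w.1 : G) ∈ Subgroup.centralizer ({t} : Set G) := by
    rw [Subgroup.mem_centralizer_singleton_iff]
    exact (hwc t (hDP htD)).symm
  have hwa : (w.1 : G) ∈ Subgroup.zpowers a := by
    by_contra hwa
    have h1 := h.out_inv _ hwD hwa
    rw [← hwc a (hDP h.mem), mul_inv_cancel_right] at h1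
    have h2 : a ^ 2 = 1 := by
      rw [pow_two]
      nth_rewrite 1 [h1]
      exact inv_mul_cancel a
    have h3 := orderOf_dvd_of_pow_eq_one h2
    rw [h.hao] at h3
    norm_num at h3
  obtain ⟨b, hbD, hba⟩ := h.exists_out
  obtain ⟨k, hk⟩ := Subgroup.mem_zpowers_iff.1 hwa
  have hinv : b * (w.1 : G) * b⁻¹ = (w.1 : G)⁻¹ := by
    rw [← hk, h.conj_zpow_of_out hbD hba, zpow_neg]
  rw [hwc b (hDP hbD), mul_inv_cancel_right] at hinv
  have hw2 : (w.1 : G) ^ 2 = 1 := by
    rw [pow_two]
    nth_rewrite 1 [hinv]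
    exact inv_mul_cancel _
  have hwt : (w.1 : G) = t := by
    rcases h.eq_one_or_of_sq (by norm_num) hwa hw2 with h1 | h1
    · exact absurd h1 hw1
    · rw [h1, t_eq h ht]; norm_num
  intro g hg
  rw [Subgroup.mem_centralizer_singleton_iff, ← hwt]
  exact hwc g hg

/-- In a perfect group all involutions are conjugate to `t`. -/
theorem conj_of_perfect [Finite G] (h : IsDihedralSub (Subgroup.centralizer ({t} : Set G)) a 2)
    (ht : orderOf t = 2) (hperf : commutator G = ⊤) (x : G) (hx : orderOf x = 2) :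
    ∃ g : G, g * x * g⁻¹ = t := by
  obtain ⟨P, hP⟩ := exists_sylow_eq h ht
  have haP : a ∈ (P : Subgroup G) := by rw [hP]; exact h.mem
  have hcard : Nat.card (P : Subgroup G) = 2 ^ (2 + 1) := by rw [hP]; exact h.card
  obtain ⟨g, hg⟩ := involution_conj_of_cyclic_index_two P (by norm_num : 1 ≤ 2) haP h.hao hcard
    (fun M hM => index_ne_two_of_perfect hperf M hM) x hx
  refine ⟨g, ?_⟩
  rw [hg, t_eq h ht]
  norm_num

end DihEight

end Cfsg.Agent.Helper16
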