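import Mathlib
import Cfsg.Prelude.Def_Blocks
import Cfsg.Agent.Lib.Helper16.DihedralEight
import Cfsg.Agent.Lib.Helper16.BSInduce2
import Cfsg.Agent.Lib.Helper16.BSCyclicSylow
import Cfsg.Agent.Lib.Helper16.ClassSumTools
import Cfsg.Agent.Lib.Helper24.CharIntegral

/-!
# Character theory of groups with an involution centralizer `D₈` (helper16's library)
-/

set_option autoImplicit false

namespace Cfsg.Agent.Helper16

open Cfsg Cfsg.Agent.Helper24

universe u

open scoped ComplexConjugate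

namespace DihEight

variable {G : Type u} [Group G] [Fintype G] {t a : G}

set_option maxHeartbeats 1600000 in
/-- The exceptional characters and the resulting equation for the group order. -/
theorem exists_degree_equation (h : IsDihedralSub (Subgroup.centralizer ({t} : Set G)) a 2)
    (ht : orderOf t = 2) (hconj : ∀ x : G, orderOf x = 2 → ∃ g : G, g * x * g⁻¹ = t) :
    ∃ (d : ℕ) (s : ℤ), 0 < d ∧ d ∣ Nat.card G ∧ (d + 1) ∣ Nat.card G ∧ (s = 1 ∨ s = 2) ∧
      (Nat.card G : ℤ) * (d * (d + 1) + s ^ 2 * (d + 1) - (s - 3) ^ 2 * d) = 256 * d * (d + 1) := by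
  classical
  set D : Subgroup G := Subgroup.centralizer ({t} : Set G) with hD
  set A : Subgroup G := Subgroup.zpowers a with hA
  have ht' : t = a ^ 2 := t_eq h ht
  have ht2 : t ^ 2 = 1 := by rw [← ht]; exact pow_orderOf_eq_one t
  have ht1 : t ≠ 1 := by
    intro h1
    rw [h1, orderOf_one] at ht
    norm_num at ht
  have hcardD : Nat.card D = 8 := by
    rw [h.card]; norm_num
  have hcardA : Nat.card A = 4 := by rw [hA, Nat.card_zpowers, h.hao]; norm_num
  obtain ⟨b, hbD, hbA⟩ := h.exists_out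
  have hbinv : b⁻¹ = b := h.inv_eq_of_out hbD hbA
  have hAD : A ≤ D := Subgroup.zpowers_le.2 h.mem
  have hbx : ∀ x ∈ A, b⁻¹ * x * b = x⁻¹ := by
    intro x hx
    obtain ⟨k, rfl⟩ := Subgroup.mem_zpowers_iff.1 hx
    have h1 := h.conj_zpow_of_out hbD hbA k
    rw [hbinv] at h1 ⊢
    rw [h1, zpow_neg]
  have hcoset : ∀ u : G, (u ∈ D ∧ u ∉ A) ↔ b⁻¹ * u ∈ A := by
    intro u
    constructor
    · rintro ⟨huD, huA⟩
      rw [hbinv]
      exact h.out_mul b hbD u huD hbA huA
    · intro hu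
      have hu' : u = b * (b⁻¹ * u) := by group
      constructor
      · rw [hu']; exact D.mul_mem hbD (hAD hu)
      · intro huA
        apply hbA
        have : b = u * (b⁻¹ * u)⁻¹ := by group
        rw [this]
        exact A.mul_mem huA (A.inv_mem hu)
  -- the linear character
  have hzA : a ^ 2 ∈ A := Subgroup.pow_mem _ (Subgroup.mem_zpowers a) 2
  have haA : a ∈ A := Subgroup.mem_zpowers a
  have hz'1 : (⟨a ^ 2, hzA⟩ : A) ≠ 1 := by
    intro hh
    apply ht1
    rw [ht']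
    exact congrArg Subtype.val hh
  obtain ⟨ν, hν⟩ := exists_hom_ne_one_of_isCyclic hz'1
  have hνz2 : ν ⟨a ^ 2, hzA⟩ ^ 2 = 1 := by
    rw [← map_pow]
    have : (⟨a ^ 2, hzA⟩ : A) ^ 2 = 1 := Subtype.ext (by
      show (a ^ 2) ^ 2 = 1
      rw [← ht']; exact ht2)
    rw [this, map_one]
  have hνz : ν ⟨a ^ 2, hzA⟩ = -1 := units_eq_neg_one_of_sq hνz2 hν
  have hνa2 : ν ⟨a, haA⟩ ^ 2 ≠ 1 := by
    rw [← map_pow]
    have : (⟨a, haA⟩ : A) ^ 2 = ⟨a ^ 2, hzA⟩ := rfl
    rw [this, hνz]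
    intro hh
    have := congrArg Units.val hh
    norm_num at this
  have hν1 : ∃ x, ν x ≠ 1 := ⟨_, hν⟩
  -- hypotheses of the induction
  have hb : ∀ x : G, x ∈ A → b⁻¹ * x * b ∈ A := fun x hx => by
    rw [hbx x hx]; exact A.inv_mem hx
  have hνb : ∀ (x : G) (hx : x ∈ A), ν ⟨b⁻¹ * x * b, hb x hx⟩ = (ν ⟨x, hx⟩)⁻¹ := by
    intro x hx
    have : (⟨b⁻¹ * x * b, hb x hx⟩ : A) = (⟨x, hx⟩ : A)⁻¹ := Subtype.ext (hbx x hx)
    rw [this, map_inv]
  have hmemD : ∀ x : G, x ∈ A → x ≠ 1 → ∀ g : G, g⁻¹ * x * g ∈ A → g ∈ A ∨ b⁻¹ * g ∈ A := by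
    intro x hx hx1 g hg
    have hgD := mem_of_conj_mem h ht hx hx1 hg
    by_cases hgA : g ∈ A
    · left; exact hgA
    · right; exact (hcoset g).1 ⟨hgD, hgA⟩
  have hfus : ∀ (x : G) (hx : x ∈ A), ν ⟨x, hx⟩ ≠ 1 →
      ∀ g : G, g⁻¹ * x * g ∈ A → g ∈ A ∨ b⁻¹ * g ∈ A := by
    intro x hx hνx g hg
    apply hmemD x hx _ g hg
    rintro rfl
    apply hνx
    have : (⟨1, hx⟩ : A) = 1 := rfl
    rw [this, map_one]
  obtain ⟨χ₁, χ₂, h1, h2, hne1, hne2, hdeg, hval⟩ :=
    bs_induction' A b ν hb hbA hνb hfus ⟨⟨a, haA⟩, hνa2⟩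
  -- the value at `t`
  have htA : t ∈ A := by rw [ht']; exact hzA
  have hΘt : indFun A (bsPhi A ν) t = 4 := by
    rw [bs_formula A b ν hb hbA t htA (hmemD t htA ht1)]
    unfold bsPhi
    rw [hνb t htA]
    have : (⟨t, htA⟩ : A) = ⟨a ^ 2, hzA⟩ := Subtype.ext ht'
    rw [this, hνz]
    simp
    norm_num
  have hχt : χ₁ t = χ₂ t - 3 := by
    have := hval t
    rw [hΘt] at this
    linear_combination this
  obtain ⟨d, hd0, hd⟩ := irr_one_eq h2
  have hd1 : χ₁ 1 = (d : ℂ) + 1 := by rw [hdeg, hd]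
  obtain ⟨s, hs⟩ := char_involution_int (isCharacter_of_isIrrCharacter h2) ht2
  have hG0 : (Nat.card G : ℂ) ≠ 0 := by
    have : Nat.card G ≠ 0 := Nat.card_pos.ne'
    exact_mod_cast this
  have hdne : (d : ℂ) ≠ 0 := by exact_mod_cast hd0.ne'
  have hd1ne : (d : ℂ) + 1 ≠ 0 := by
    have : ((d + 1 : ℕ) : ℂ) ≠ 0 := by exact_mod_cast (Nat.succ_ne_zero d)
    simpa using this
  -- fibres of conjugation
  have hn : ∀ u : G, orderOf u = 2 → (Nat.card {y : G // y * t * y⁻¹ = u} : ℂ) = 8 := by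
    intro u hu
    obtain ⟨g, hg⟩ := hconj u hu
    have hc : IsConj t u := isConj_iff.2 ⟨g⁻¹, by rw [← hg]; group⟩
    rw [card_conj_eq_of_isConj hc, hcardD]
    norm_num
  have hconj_sq : ∀ y : G, (y * t * y⁻¹) ^ 2 = 1 := by
    intro y
    rw [conj_pow, ht2]; group
  have hconj_ne : ∀ y : G, y * t * y⁻¹ ≠ 1 := by
    intro y hy
    apply ht1
    have : t = y⁻¹ * (y * t * y⁻¹) * y := by group
    rw [this, hy]; group
  haveI : Fintype A := Fintype.ofFinite A
  -- Claim A
  have claimA : ∀ p : G, p ∈ D → p ∉ A →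
      ∑ y : G, extendByZero A (bsPhi A ν) (p * (y * t * y⁻¹)) = 32 := by
    intro p hpD hpA
    rw [sum_conj_eq_sum_card t (fun u => extendByZero A (bsPhi A ν) (p * u)),
      ← Equiv.sum_comp (Equiv.mulLeft p⁻¹)]
    simp only [Equiv.coe_mulLeft, mul_inv_cancel_left]
    rw [sum_eq_sum_subgroup A _ (by
      intro w hw
      rw [extendByZero_of_not_mem A _ hw, mul_zero])]
    have hterm : ∀ α : A, (Nat.card {y : G // y * t * y⁻¹ = p⁻¹ * (α : G)} : ℂ) *
        extendByZero A (bsPhi A ν) (α : G) = 8 * bsPhi A ν α := by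
      intro α
      rw [extendByZero_coe]
      by_cases hα : α = 1
      · rw [hα]
        unfold bsPhi
        simp
      · have hpinv : p⁻¹ = p := h.inv_eq_of_out hpD hpA
        have hmem : p * (α : G) ∈ D ∧ p * (α : G) ∉ A := by
          constructor
          · exact D.mul_mem hpD (hAD α.2)
          · intro hcon
            apply hpA
            have : p = p * (α : G) * (α : G)⁻¹ := by group
            rw [this]
            exact A.mul_mem hcon (A.inv_mem α.2)
        rw [hpinv, hn _ (h.out_orderOf hmem.1 hmem.2)]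
    rw [Finset.sum_congr rfl (fun α _ => hterm α), ← Finset.mul_sum]
    unfold bsPhi
    rw [Finset.sum_sub_distrib, sum_units_hom_eq_zero ν hν1]
    simp only [Finset.sum_const, Finset.card_univ, nsmul_eq_mul, mul_one, sub_zero,
      ← Nat.card_eq_fintype_card, hcardA]
    norm_num
  -- Claim B
  have claimB : ∀ p : G, p ^ 2 = 1 → p ≠ 1 → ¬ (p ∈ D ∧ p ∉ A) →
      ∑ y : G, extendByZero A (bsPhi A ν) (p * (y * t * y⁻¹)) = 0 := by
    intro p hp hp1 hpn
    apply Finset.sum_eq_zero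
    intro y _
    by_cases hw : p * (y * t * y⁻¹) ∈ A
    · rw [extendByZero_of_mem A _ hw]
      by_cases hw1 : p * (y * t * y⁻¹) = 1
      · unfold bsPhi
        have : (⟨_, hw⟩ : A) = 1 := Subtype.ext hw1
        rw [this, map_one]
        simp
      · exfalso
        exact hpn (mem_of_mul_mem h ht hp hp1 (hconj_sq y) (hconj_ne y) hw hw1)
    · exact extendByZero_of_not_mem A _ hw
  -- the double sum of the extension by zero
  have hsumφ : ∑ x : G, ∑ y : G,
      extendByZero A (bsPhi A ν) ((x * t * x⁻¹) * (y * t * y⁻¹)) = 1024 := by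
    rw [sum_conj_eq_sum_card t
      (fun u => ∑ y : G, extendByZero A (bsPhi A ν) (u * (y * t * y⁻¹)))]
    have hterm : ∀ u : G, (Nat.card {y : G // y * t * y⁻¹ = u} : ℂ) *
        ∑ y : G, extendByZero A (bsPhi A ν) (u * (y * t * y⁻¹)) =
        if b⁻¹ * u ∈ A then 256 else 0 := by
      intro u
      by_cases hu : b⁻¹ * u ∈ A
      · obtain ⟨huD, huA⟩ := (hcoset u).2 hu
        rw [if_pos hu, claimA u huD huA, hn u (h.out_orderOf huD huA)]
        norm_num
      · rw [if_neg hu]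
        by_cases hc : IsConj t u
        · obtain ⟨g, hg⟩ := isConj_iff.1 hc
          have hu2 : u ^ 2 = 1 := by rw [← hg]; exact hconj_sq g
          have hu1 : u ≠ 1 := by rw [← hg]; exact hconj_ne g
          rw [claimB u hu2 hu1 (fun hh => hu ((hcoset u).1 hh)), mul_zero]
        · rw [card_conj_eq_zero_of_not_isConj hc, Nat.cast_zero, zero_mul]
    rw [Finset.sum_congr rfl (fun u _ => hterm u)]
    have hshift : (∑ u : G, if b⁻¹ * u ∈ A then (256 : ℂ) else 0) =
        ∑ v : G, if v ∈ A then (256 : ℂ) else 0 :=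
      Equiv.sum_comp (Equiv.mulLeft b⁻¹) (fun v : G => if v ∈ A then (256 : ℂ) else 0)
    refine hshift.trans ?_
    rw [sum_ite_mem_subgroup, hcardA]
    norm_num
  -- the double sum of `Θ`
  have hT2 : ∑ x : G, ∑ y : G, indFun A (bsPhi A ν) ((x * t * x⁻¹) * (y * t * y⁻¹)) =
      256 * (Nat.card G : ℂ) := by
    rw [sum_sum_indFun_conj_mul_conj, hsumφ, hcardA]
    push_cast
    ring
  have hT2' : ∑ x : G, ∑ y : G, indFun A (bsPhi A ν) ((x * t * x⁻¹) * (y * t * y⁻¹)) =
      (Nat.card G : ℂ) * (Nat.card G : ℂ) *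
        (1 + χ₂ t * χ₂ t / χ₂ 1 - χ₁ t * χ₁ t / χ₁ 1) := by
    simp only [hval, Finset.sum_add_distrib, Finset.sum_sub_distrib]
    rw [sum_sum_char_conj_mul_conj h2 t, sum_sum_char_conj_mul_conj h1 t]
    simp only [Finset.sum_const, Finset.card_univ, nsmul_eq_mul, ← Nat.card_eq_fintype_card]
    ring
  rw [hT2] at hT2'
  rw [hχt, hs, hd, hd1] at hT2'
  have hkey : (Nat.card G : ℂ) * ((d : ℂ) * ((d : ℂ) + 1) + (s : ℂ) ^ 2 * ((d : ℂ) + 1) -
      ((s : ℂ) - 3) ^ 2 * (d : ℂ)) = 256 * (d : ℂ) * ((d : ℂ) + 1) := by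
    have h3 : 256 * (Nat.card G : ℂ) * ((d : ℂ) * ((d : ℂ) + 1)) =
        (Nat.card G : ℂ) * ((Nat.card G : ℂ) * ((d : ℂ) * ((d : ℂ) + 1) +
          (s : ℂ) ^ 2 * ((d : ℂ) + 1) - ((s : ℂ) - 3) ^ 2 * (d : ℂ))) := by
      rw [hT2']
      field_simp
    have h4 := mul_left_cancel₀ hG0 (by linear_combination h3 :
      (Nat.card G : ℂ) * (256 * ((d : ℂ) * ((d : ℂ) + 1))) =
        (Nat.card G : ℂ) * ((Nat.card G : ℂ) * ((d : ℂ) * ((d : ℂ) + 1) +
          (s : ℂ) ^ 2 * ((d : ℂ) + 1) - ((s : ℂ) - 3) ^ 2 * (d : ℂ))))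
    linear_combination -h4
  -- the second orthogonality relation
  have hs12 : s = 1 ∨ s = 2 := by
    letI : Fintype (IrrCharacter G) := irrFintype
    have hso := second_orthogonality' t t
    rw [if_pos (IsConj.refl t), hcardD] at hso
    have hso' : ∑ χ : IrrCharacter G, (χ : G → ℂ) t * conj ((χ : G → ℂ) t) = 8 := by
      rw [hso]; norm_num
    have hreal : ∑ χ : IrrCharacter G, Complex.normSq ((χ : G → ℂ) t) = 8 := by
      have h3 : ((∑ χ : IrrCharacter G, Complex.normSq ((χ : G → ℂ) t) : ℝ) : ℂ) = 8 := by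
        rw [← hso']
        push_cast
        refine Finset.sum_congr rfl fun χ _ => ?_
        rw [Complex.mul_conj]
      exact_mod_cast h3
    set p₀ : IrrCharacter G := principalChar G with hp₀
    set x₁ : IrrCharacter G := ⟨χ₁, h1⟩ with hx₁
    set x₂ : IrrCharacter G := ⟨χ₂, h2⟩ with hx₂
    have h12 : x₁ ≠ x₂ := by
      intro hh
      have h3 : χ₁ = χ₂ := congrArg Subtype.val hh
      rw [h3] at hdeg
      have : (0 : ℂ) = 1 := by linear_combination hdeg
      norm_num at this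
    have h10 : x₁ ≠ p₀ := fun hh => hne1 (congrArg Subtype.val hh)
    have h20 : x₂ ≠ p₀ := fun hh => hne2 (congrArg Subtype.val hh)
    have hsub : ∑ χ ∈ ({p₀, x₁, x₂} : Finset (IrrCharacter G)),
        Complex.normSq ((χ : G → ℂ) t) ≤ 8 := by
      rw [← hreal]
      exact Finset.sum_le_sum_of_subset_of_nonneg (Finset.subset_univ _)
        (fun χ _ _ => Complex.normSq_nonneg _)
    rw [Finset.sum_insert, Finset.sum_insert, Finset.sum_singleton] at hsub
    · have e0 : Complex.normSq ((p₀ : G → ℂ) t) = 1 := by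
        have : (p₀ : G → ℂ) t = 1 := rfl
        rw [this, map_one]
      have e1 : Complex.normSq ((x₁ : G → ℂ) t) = ((s : ℝ) - 3) ^ 2 := by
        have : (x₁ : G → ℂ) t = (((s : ℝ) - 3 : ℝ) : ℂ) := by
          show χ₁ t = _
          rw [hχt, hs]; push_cast; ring
        rw [this, Complex.normSq_ofReal]; ring
      have e2 : Complex.normSq ((x₂ : G → ℂ) t) = (s : ℝ) ^ 2 := by
        have : (x₂ : G → ℂ) t = ((s : ℝ) : ℂ) := by
          show χ₂ t = _
          rw [hs]; push_cast; ring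
        rw [this, Complex.normSq_ofReal]; ring
      rw [e0, e1, e2] at hsub
      have hint : (1 : ℤ) + ((s - 3) ^ 2 + s ^ 2) ≤ 8 := by exact_mod_cast hsub
      have hlo : 1 ≤ s := by nlinarith
      have hhi : s ≤ 2 := by nlinarith
      omega
    · simpa using h12
    · simp only [Finset.mem_insert, Finset.mem_singleton, not_or]
      exact ⟨fun hh => h10 hh.symm, fun hh => h20 hh.symm⟩
  refine ⟨d, s, hd0, ?_, ?_, hs12, ?_⟩
  · have := charDegree_dvd_card h2
    rwa [charDegree_natCast d hd] at this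
  · have := charDegree_dvd_card h1
    have hd1' : χ₁ 1 = ((d + 1 : ℕ) : ℂ) := by rw [hd1]; push_cast; ring
    rwa [charDegree_natCast (d + 1) hd1'] at this
  · exact_mod_cast hkey

end DihEight

end Cfsg.Agent.Helper16
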