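import Mathlib
import Cfsg.Agent.Lib.Helper2.SylowSub
import Cfsg.Agent.Lib.Helper2.Order60

/-!
# Simple groups of order 360, part a: Sylow numbers (helper16's library)
-/

set_option autoImplicit false
set_option linter.unusedSectionVars false

namespace Cfsg.Agent.Helper16

namespace O360

variable {G : Type*} [Group G] [Finite G] [IsSimpleGroup G]

/-- Proper subgroups of a simple group of order 360 have index at least six. -/
theorem six_le_index (h : Nat.card G = 360) (H : Subgroup G) (hH : H ≠ ⊤) : 6 ≤ H.index := by
  have hfac := Cfsg.Agent.Helper2.simple_card_dvd_factorial_index' H hH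
  rw [h] at hfac
  by_contra hlt
  push Not at hlt
  have hpos : 0 < H.index := Nat.pos_of_ne_zero H.index_ne_zero_of_finite
  interval_cases H.index <;> revert hfac <;> decide

theorem sylow_normalizer_ne_top (h : Nat.card G = 360) {p : ℕ} [Fact p.Prime] (P : Sylow p G)
    (hP1 : 1 < Nat.card P) (hP2 : Nat.card P < 360) :
    Subgroup.normalizer (P : Set G) ≠ ⊤ := by
  intro htop
  have hn : (P : Subgroup G).Normal := Subgroup.normalizer_eq_top_iff.1 htop
  rcases hn.eq_bot_or_eq_top with hb | ht
  · rw [hb] at hP1; simp at hP1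
  · rw [ht, Subgroup.card_top, h] at hP2; omega

/-- The number of Sylow 3-subgroups is ten. -/
theorem card_sylow_three (h : Nat.card G = 360) : Nat.card (Sylow 3 G) = 10 := by
  have hF : Fact (Nat.Prime 3) := ⟨Nat.prime_three⟩
  obtain ⟨P⟩ : Nonempty (Sylow 3 G) := inferInstance
  have hP9 : Nat.card P = 9 := by
    have := Cfsg.Agent.Helper2.sylow_card_of_card_eq (p := 3) (a := 2) (m := 40) P
      (by rw [h]; norm_num) (by decide)
    simpa using this
  have hidx : (P : Subgroup G).index = 40 := by
    have := (P : Subgroup G).card_mul_index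
    rw [h, hP9] at this
    omega
  have hdvd : Nat.card (Sylow 3 G) ∣ 40 := by
    rw [← hidx]; exact Sylow.card_dvd_index P
  have hmod : Nat.card (Sylow 3 G) ≡ 1 [MOD 3] := card_sylow_modEq_one 3 G
  have hNidx := Sylow.card_eq_index_normalizer P
  have hNne := sylow_normalizer_ne_top h P (by rw [hP9]; norm_num) (by rw [hP9]; norm_num)
  have h6 := six_le_index h _ hNne
  rw [← hNidx] at h6
  have hmem : Nat.card (Sylow 3 G) ∈ Nat.divisors 40 := by
    rw [Nat.mem_divisors]; exact ⟨hdvd, by norm_num⟩
  have hdivs : Nat.divisors 40 = {1, 2, 4, 5, 8, 10, 20, 40} := by decide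
  rw [hdivs] at hmem
  simp only [Finset.mem_insert, Finset.mem_singleton] at hmem
  rcases hmem with h' | h' | h' | h' | h' | h' | h' | h'
  all_goals try (rw [h'] at hmod h6; first | omega | (exfalso; revert hmod; decide))
  · -- forty Sylow subgroups: Burnside's transfer theorem
    exfalso
    have hNcard := (Subgroup.normalizer (P : Set G)).card_mul_index
    rw [← hNidx, h', h] at hNcard
    have hN9 : Nat.card (Subgroup.normalizer (P : Set G)) = 9 := by omega
    have hle : (P : Subgroup G) ≤ Subgroup.normalizer (P : Set G) := Subgroup.le_normalizer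
    have hNP : Subgroup.normalizer (P : Set G) = P := by
      symm
      apply Subgroup.eq_of_le_of_card_ge hle
      rw [hN9, hP9]
    have hcomm : IsMulCommutative P :=
      IsPGroup.isMulCommutative_of_card_eq_prime_sq (p := 3) (by simpa using hP9)
    have hNC : Subgroup.normalizer (P : Set G) ≤ Subgroup.centralizer (P : Set G) := by
      rw [hNP]
      intro x hx y hy
      have := hcomm.is_comm.comm (⟨y, hy⟩ : P) ⟨x, hx⟩
      exact congrArg Subtype.val this
    have hcompl := MonoidHom.ker_transferSylow_isComplement' P hNC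
    have hcard := hcompl.card_mul_card
    rw [h] at hcard
    have hP9' : Nat.card (P : Subgroup G) = 9 := hP9
    rw [hP9'] at hcard
    rcases (MonoidHom.normal_ker (MonoidHom.transferSylow P hNC)).eq_bot_or_eq_top with hb | ht
    · rw [hb] at hcard; simp at hcard
    · rw [ht, Subgroup.card_top, h] at hcard; omega

/-- Either there is a subgroup of index six, or no element has order fifteen. -/
theorem no_order_fifteen (h : Nat.card G = 360) (hno : ∀ H : Subgroup G, H.index ≠ 6) (g : G) :
    orderOf g ≠ 15 := by
  have hF : Fact (Nat.Prime 5) := ⟨by norm_num⟩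
  intro hg
  have hS5 : ∀ R : Sylow 5 G, Nat.card R = 5 := by
    intro R
    have := Cfsg.Agent.Helper2.sylow_card_of_card_eq (p := 5) (a := 1) (m := 72) R
      (by rw [h]; norm_num) (by decide)
    simpa using this
  have hN10 : ∀ R : Sylow 5 G, Nat.card (Subgroup.normalizer (R : Set G)) = 10 := by
    intro R
    have hidx : (R : Subgroup G).index = 72 := by
      have := (R : Subgroup G).card_mul_index
      rw [h, hS5 R] at this
      omega
    have hdvd : Nat.card (Sylow 5 G) ∣ 72 := by
      rw [← hidx]; exact Sylow.card_dvd_index R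
    have hmod : Nat.card (Sylow 5 G) ≡ 1 [MOD 5] := card_sylow_modEq_one 5 G
    have hNidx := Sylow.card_eq_index_normalizer R
    have hNne := sylow_normalizer_ne_top h R (by rw [hS5 R]; norm_num) (by rw [hS5 R]; norm_num)
    have h6 := six_le_index h _ hNne
    have hne6 := hno (Subgroup.normalizer (R : Set G))
    rw [← hNidx] at h6 hne6
    have hNcard := (Subgroup.normalizer (R : Set G)).card_mul_index
    rw [← hNidx, h] at hNcard
    have hmem : Nat.card (Sylow 5 G) ∈ Nat.divisors 72 := by
      rw [Nat.mem_divisors]; exact ⟨hdvd, by norm_num⟩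
    have hdivs : Nat.divisors 72 = {1, 2, 3, 4, 6, 8, 9, 12, 18, 24, 36, 72} := by decide
    rw [hdivs] at hmem
    simp only [Finset.mem_insert, Finset.mem_singleton] at hmem
    rcases hmem with h' | h' | h' | h' | h' | h' | h' | h' | h' | h' | h' | h'
    all_goals try (rw [h'] at hmod h6 hne6; first | omega | (exfalso; revert hmod; decide))
    rw [h'] at hNcard
    omega
  -- the element `g ^ 3` of order five
  have hz : orderOf (g ^ 3) = 5 := by
    rw [orderOf_pow' g (by norm_num : (3 : ℕ) ≠ 0), hg]
    norm_num
  have hpg : IsPGroup 5 (Subgroup.zpowers (g ^ 3)) :=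
    IsPGroup.of_card (n := 1) (by rw [Nat.card_zpowers, hz]; norm_num)
  obtain ⟨R, hR⟩ := hpg.exists_le_sylow
  have hzR : Subgroup.zpowers (g ^ 3) = (R : Subgroup G) := by
    apply Subgroup.eq_of_le_of_card_ge hR
    rw [Nat.card_zpowers, hz, hS5 R]
  have hgN : g ∈ Subgroup.normalizer (R : Set G) := by
    have hgN' : g ∈ Subgroup.normalizer ((Subgroup.zpowers (g ^ 3) : Subgroup G) : Set G) := by
      rw [Subgroup.mem_normalizer_iff]
      intro y
      have hcomm : ∀ k : ℤ, g * (g ^ 3) ^ k * g⁻¹ = (g ^ 3) ^ k := by
        intro k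
        have : Commute g ((g ^ 3) ^ k) := ((Commute.refl g).pow_right 3).zpow_right k
        rw [this.eq, mul_inv_cancel_right]
      constructor
      · intro hy
        obtain ⟨k, rfl⟩ := Subgroup.mem_zpowers_iff.1 hy
        rw [hcomm]
        exact Subgroup.zpow_mem_zpowers _ _
      · intro hy
        obtain ⟨k, hk⟩ := Subgroup.mem_zpowers_iff.1 hy
        have : y = g⁻¹ * (g * y * g⁻¹) * g := by group
        rw [this, ← hk]
        have h2 : g⁻¹ * (g ^ 3) ^ k * g = (g ^ 3) ^ k := by
          have : Commute g ((g ^ 3) ^ k) := ((Commute.refl g).pow_right 3).zpow_right k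
          rw [mul_assoc, ← this.eq, inv_mul_cancel_left]
        rw [h2]
        exact Subgroup.zpow_mem_zpowers _ _
    rw [hzR] at hgN'
    exact hgN'
  have hdvd := Subgroup.orderOf_dvd_natCard _ hgN
  rw [hg, hN10 R] at hdvd
  norm_num at hdvd

end O360

end Cfsg.Agent.Helper16
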