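import Mathlib
import Cfsg.Agent.Lib.Helper16.DihedralClasses
import Cfsg.Agent.Lib.Helper16.Simple360a

/-!
# Simple groups of order 360, part b: the Sylow 3-subgroups are regular on the remaining points
-/

set_option autoImplicit false
set_option linter.unusedSectionVars false

namespace Cfsg.Agent.Helper16

namespace O360

variable {G : Type*} [Group G] [Finite G]

/-- The hypothesis that involution centralizers are dihedral of order eight. -/
def DihCent (G : Type*) [Group G] : Prop :=
  ∀ j : G, orderOf j = 2 → ∃ a : G, IsDihedralSub (Subgroup.centralizer ({j} : Set G)) a 2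

theorem card_centralizer_involution (hD : DihCent G) {j : G} (hj : orderOf j = 2) :
    Nat.card (Subgroup.centralizer ({j} : Set G)) = 8 := by
  obtain ⟨a, ha⟩ := hD j hj
  rw [ha.card]; norm_num

/-- An element of odd order commuting with an involution is trivial. -/
theorem eq_one_of_commute_involution (hD : DihCent G) {j x : G} (hj : orderOf j = 2)
    (hjx : x * j = j * x) {n : ℕ} (hn : Odd n) (hx : x ^ n = 1) : x = 1 := by
  have hxC : x ∈ Subgroup.centralizer ({j} : Set G) :=
    Subgroup.mem_centralizer_singleton_iff.2 hjx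
  have h1 := Subgroup.orderOf_dvd_natCard _ hxC
  rw [card_centralizer_involution hD hj] at h1
  have h2 := orderOf_dvd_of_pow_eq_one hx
  have h3 : orderOf x ∣ Nat.gcd 8 n := Nat.dvd_gcd h1 h2
  have h4 : Nat.gcd 8 n = 1 := by
    have : Nat.Coprime (2 ^ 3) n := Nat.Coprime.pow_left 3 (Nat.coprime_two_left.2 hn)
    exact this
  rw [h4, Nat.dvd_one, orderOf_eq_one_iff] at h3
  exact h3

theorem sylow3_card (h : Nat.card G = 360) (R : Sylow 3 G) : Nat.card R = 9 := by
  have hF : Fact (Nat.Prime 3) := ⟨Nat.prime_three⟩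
  have := Cfsg.Agent.Helper2.sylow_card_of_card_eq (p := 3) (a := 2) (m := 40) R
    (by rw [h]; norm_num) (by decide)
  simpa using this

theorem sylow3_comm (h : Nat.card G = 360) (R : Sylow 3 G) {x y : G} (hx : x ∈ R) (hy : y ∈ R) :
    x * y = y * x := by
  have hF : Fact (Nat.Prime 3) := ⟨Nat.prime_three⟩
  have hcomm : IsMulCommutative R :=
    IsPGroup.isMulCommutative_of_card_eq_prime_sq (p := 3) (by simpa using sylow3_card h R)
  have := hcomm.is_comm.comm (⟨x, hx⟩ : R) ⟨y, hy⟩
  exact congrArg Subtype.val this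

theorem sylow3_pow_nine (h : Nat.card G = 360) (R : Sylow 3 G) {x : G} (hx : x ∈ R) :
    x ^ 9 = 1 := by
  have := Subgroup.orderOf_dvd_natCard _ hx
  rw [sylow3_card h R] at this
  exact orderOf_dvd_iff_pow_eq_one.1 this

/-- Distinct Sylow 3-subgroups intersect trivially. -/
theorem sylow3_eq_of_mem (h : Nat.card G = 360) (hD : DihCent G) (h15 : ∀ g : G, orderOf g ≠ 15)
    (P Q : Sylow 3 G) {x : G} (hxP : x ∈ P) (hxQ : x ∈ Q) (hx1 : x ≠ 1) : Q = P := by
  have hF2 : Fact (Nat.Prime 2) := ⟨Nat.prime_two⟩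
  have hF5 : Fact (Nat.Prime 5) := ⟨by norm_num⟩
  set C : Subgroup G := Subgroup.centralizer ({x} : Set G) with hC
  have hle : ∀ R : Sylow 3 G, x ∈ R → (R : Subgroup G) ≤ C := by
    intro R hxR y hy
    rw [hC, Subgroup.mem_centralizer_singleton_iff]
    exact sylow3_comm h R hy hxR
  have hx9 := sylow3_pow_nine h P hxP
  have hdvd : Nat.card C ∣ 360 := by rw [← h]; exact Subgroup.card_subgroup_dvd_card C
  have h2 : ¬ 2 ∣ Nat.card C := by
    intro h2
    obtain ⟨j, hj⟩ := exists_prime_orderOf_dvd_card' (G := C) 2 h2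
    have hj' : orderOf (j : G) = 2 := by rw [Subgroup.orderOf_coe, hj]
    have hjx : x * (j : G) = (j : G) * x :=
      (Subgroup.mem_centralizer_singleton_iff.1 j.2).symm
    exact hx1 (eq_one_of_commute_involution hD hj' hjx (by decide : Odd 9) hx9)
  have h5 : ¬ 5 ∣ Nat.card C := by
    intro h5
    obtain ⟨y, hy⟩ := exists_prime_orderOf_dvd_card' (G := C) 5 h5
    have hy' : orderOf (y : G) = 5 := by rw [Subgroup.orderOf_coe, hy]
    have hox : orderOf x ≠ 0 := (orderOf_pos x).ne'
    have h3dvd : 3 ∣ orderOf x := by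
      have h9 := orderOf_dvd_of_pow_eq_one hx9
      have : orderOf x ∣ 3 ^ 2 := by simpa using h9
      obtain ⟨k, hk, hk'⟩ := (Nat.dvd_prime_pow Nat.prime_three).1 this
      rcases Nat.eq_zero_or_pos k with h0 | h0
      · rw [h0, pow_zero, orderOf_eq_one_iff] at hk'; exact absurd hk' hx1
      · rw [hk']; exact dvd_pow_self 3 h0.ne'
    have ho3 := orderOf_pow_orderOf_div hox h3dvd
    have hcomm : Commute (x ^ (orderOf x / 3)) (y : G) := by
      have : Commute x (y : G) := (Subgroup.mem_centralizer_singleton_iff.1 y.2).symm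
      exact this.pow_left _
    have h15' := hcomm.orderOf_mul_eq_mul_orderOf_of_coprime (by rw [ho3, hy']; norm_num)
    rw [ho3, hy'] at h15'
    exact h15 _ h15'
  have h9 : Nat.card C ∣ 9 := by
    have hcop : Nat.Coprime (Nat.card C) 40 := by
      have c2 : Nat.Coprime (Nat.card C) 2 :=
        (Nat.coprime_comm.1 ((Nat.Prime.coprime_iff_not_dvd Nat.prime_two).2 h2))
      have c5 : Nat.Coprime (Nat.card C) 5 :=
        (Nat.coprime_comm.1 ((Nat.Prime.coprime_iff_not_dvd (by norm_num)).2 h5))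
      have : Nat.Coprime (Nat.card C) (2 ^ 3 * 5) := (c2.pow_right 3).mul_right c5
      exact this
    exact hcop.dvd_of_dvd_mul_left (by simpa using hdvd)
  have hC9 : Nat.card C ≤ 9 := Nat.le_of_dvd (by norm_num) h9
  have hPC : (P : Subgroup G) = C :=
    Subgroup.eq_of_le_of_card_ge (hle P hxP) (by rw [sylow3_card h P]; exact hC9)
  have hQC : (Q : Subgroup G) = C :=
    Subgroup.eq_of_le_of_card_ge (hle Q hxQ) (by rw [sylow3_card h Q]; exact hC9)
  exact Sylow.ext (hQC.trans hPC.symm)

/-- Nonidentity elements of a Sylow 3-subgroup fix no other Sylow 3-subgroup. -/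
theorem sylow3_free (h : Nat.card G = 360) (hD : DihCent G) (h15 : ∀ g : G, orderOf g ≠ 15)
    (P Q : Sylow 3 G) {x : G} (hxP : x ∈ P) (hx1 : x ≠ 1) (hxQ : x • Q = Q) : Q = P := by
  have hF : Fact (Nat.Prime 3) := ⟨Nat.prime_three⟩
  have hxN : x ∈ Subgroup.normalizer (Q : Set G) := Sylow.smul_eq_iff_mem_normalizer.1 hxQ
  have hzP : Subgroup.zpowers x ≤ (P : Subgroup G) := Subgroup.zpowers_le.2 hxP
  have hpg : IsPGroup 3 (Subgroup.zpowers x) := P.2.to_le hzP
  have h1 := hpg.inf_normalizer_sylow Q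
  have hxQ' : x ∈ (Q : Subgroup G) := (h1.le ⟨Subgroup.mem_zpowers x, hxN⟩).2
  exact sylow3_eq_of_mem h hD h15 P Q hxP hxQ' hx1

/-- A Sylow 3-subgroup is transitive on the other nine Sylow 3-subgroups. -/
theorem sylow3_transitive [IsSimpleGroup G] (h : Nat.card G = 360) (hD : DihCent G)
    (h15 : ∀ g : G, orderOf g ≠ 15) (R A B : Sylow 3 G) (hA : A ≠ R) (hB : B ≠ R) :
    ∃ y ∈ R, y • A = B := by
  classical
  have hcard := card_sylow_three h
  have hmem : ∀ y : ↥(R : Subgroup G), (y : G) • A ≠ R := by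
    intro y hy
    apply hA
    have h1 : (y : G) • A = (y : G) • R := by
      rw [hy]
      exact (Sylow.smul_eq_iff_mem_normalizer.2 (Subgroup.le_normalizer y.2)).symm
    exact smul_left_cancel _ h1
  let f : ↥(R : Subgroup G) → {S : Sylow 3 G // S ≠ R} := fun y => ⟨(y : G) • A, hmem y⟩
  have hinj : Function.Injective f := by
    intro y z hyz
    have h1 : (y : G) • A = (z : G) • A := congrArg Subtype.val hyz
    have h2 : ((z : G)⁻¹ * (y : G)) • A = A := by
      rw [mul_smul, h1, inv_smul_smul]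
    by_contra hne
    have h3 : (z : G)⁻¹ * (y : G) ≠ 1 := by
      intro h3
      apply hne
      apply Subtype.ext
      have : (y : G) = (z : G) * ((z : G)⁻¹ * (y : G)) := by group
      rw [this, h3, mul_one]
    exact hA (sylow3_free h hD h15 R A (R.mul_mem (R.inv_mem z.2) y.2) h3 h2)
  have hc1 : Nat.card {S : Sylow 3 G // S ≠ R} = 9 := by
    haveI : Fintype (Sylow 3 G) := Fintype.ofFinite _
    rw [Nat.card_eq_fintype_card, Fintype.card_subtype_compl, Fintype.card_subtype_eq,
      ← Nat.card_eq_fintype_card, hcard]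
  have hbij := hinj.bijective_of_nat_card_le (by rw [hc1, sylow3_card h R])
  obtain ⟨y, hy⟩ := hbij.2 ⟨B, hB⟩
  exact ⟨y, y.2, congrArg Subtype.val hy⟩

end O360

end Cfsg.Agent.Helper16
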