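import Mathlib
import Cfsg.Agent.Lib.Helper16.DihedralEight
import Cfsg.Agent.Lib.Helper16.Simple360b

/-!
# Groups with a dihedral involution centralizer of order eight are simple
(helper16's library)
-/

set_option autoImplicit false

namespace Cfsg.Agent.Helper16

namespace DihEight

variable {G : Type*} [Group G] {t a : G}

/-- Without normal subgroups of index two all involutions are conjugate to `t`. -/
theorem conj_of_no_index_two [Finite G]
    (h : IsDihedralSub (Subgroup.centralizer ({t} : Set G)) a 2)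
    (ht : orderOf t = 2) (hno : ∀ M : Subgroup G, M.Normal → M.index ≠ 2)
    (x : G) (hx : orderOf x = 2) :
    ∃ g : G, g * x * g⁻¹ = t := by
  obtain ⟨P, hP⟩ := exists_sylow_eq h ht
  have haP : a ∈ (P : Subgroup G) := by rw [hP]; exact h.mem
  have hcard : Nat.card (P : Subgroup G) = 2 ^ (2 + 1) := by rw [hP]; exact h.card
  obtain ⟨g, hg⟩ := involution_conj_of_cyclic_index_two P (by norm_num : 1 ≤ 2) haP h.hao hcard
    hno x hx
  refine ⟨g, ?_⟩
  rw [hg, t_eq h ht]
  norm_num

/-- Conjugates of `t` have dihedral centralizers as well. -/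
theorem isDihedralSub_conj (h : IsDihedralSub (Subgroup.centralizer ({t} : Set G)) a 2) (g : G) :
    IsDihedralSub (Subgroup.centralizer ({g⁻¹ * t * g} : Set G)) (g⁻¹ * a * g) 2 := by
  have hmem : ∀ y : G, y ∈ Subgroup.centralizer ({g⁻¹ * t * g} : Set G) ↔
      g * y * g⁻¹ ∈ Subgroup.centralizer ({t} : Set G) := by
    intro y
    rw [Subgroup.mem_centralizer_singleton_iff, Subgroup.mem_centralizer_singleton_iff]
    constructor
    · intro hy
      calc g * y * g⁻¹ * t = g * (y * (g⁻¹ * t * g)) * g⁻¹ := by group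
        _ = g * ((g⁻¹ * t * g) * y) * g⁻¹ := by rw [hy]
        _ = t * (g * y * g⁻¹) := by group
    · intro hy
      calc y * (g⁻¹ * t * g) = g⁻¹ * (g * y * g⁻¹ * t) * g := by group
        _ = g⁻¹ * (t * (g * y * g⁻¹)) * g := by rw [hy]
        _ = g⁻¹ * t * g * y := by group
  have hz : ∀ y : G, y ∈ Subgroup.zpowers (g⁻¹ * a * g) ↔ g * y * g⁻¹ ∈ Subgroup.zpowers a := by
    intro y
    rw [Subgroup.mem_zpowers_iff, Subgroup.mem_zpowers_iff]
    constructor
    · rintro ⟨k, rfl⟩
      refine ⟨k, ?_⟩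
      have : g⁻¹ * a * g = g⁻¹ * a * (g⁻¹)⁻¹ := by rw [inv_inv]
      rw [this, conj_zpow]
      group
    · rintro ⟨k, hk⟩
      refine ⟨k, ?_⟩
      have : g⁻¹ * a * g = g⁻¹ * a * (g⁻¹)⁻¹ := by rw [inv_inv]
      rw [this, conj_zpow, hk]
      group
  have hcard : Nat.card (Subgroup.centralizer ({g⁻¹ * t * g} : Set G)) =
      Nat.card (Subgroup.centralizer ({t} : Set G)) := by
    refine Nat.card_congr ⟨fun y => ⟨g * y.1 * g⁻¹, (hmem _).1 y.2⟩,
      fun y => ⟨g⁻¹ * y.1 * g, (hmem _).2 (by
        have : g * (g⁻¹ * y.1 * g) * g⁻¹ = y.1 := by group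
        rw [this]; exact y.2)⟩, ?_, ?_⟩
    · intro y; apply Subtype.ext; simp only; group
    · intro y; apply Subtype.ext; simp only; group
  refine ⟨?_, ?_, ?_, ?_, ?_, ?_⟩
  · rw [hmem]
    have : g * (g⁻¹ * a * g) * g⁻¹ = a := by group
    rw [this]; exact h.mem
  · have : g⁻¹ * a * g = MulAut.conj g⁻¹ a := by rw [MulAut.conj_apply, inv_inv]
    rw [this, MulEquiv.orderOf_eq, h.hao]
  · rw [hcard, h.card]
  · intro y hy hya
    have h1 := h.out_sq _ ((hmem y).1 hy) (fun hh => hya ((hz y).2 hh))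
    rw [conj_pow] at h1
    calc y ^ 2 = g⁻¹ * (g * y ^ 2 * g⁻¹) * g := by group
      _ = 1 := by rw [h1]; group
  · intro y hy hya
    have h1 := h.out_inv _ ((hmem y).1 hy) (fun hh => hya ((hz y).2 hh))
    calc y * (g⁻¹ * a * g) * y⁻¹ = g⁻¹ * (g * y * g⁻¹ * a * (g * y * g⁻¹)⁻¹) * g := by group
      _ = g⁻¹ * a⁻¹ * g := by rw [h1]
      _ = (g⁻¹ * a * g)⁻¹ := by group
  · intro y₁ hy₁ y₂ hy₂ h₁ h₂
    have h1 := h.out_mul _ ((hmem y₁).1 hy₁) _ ((hmem y₂).1 hy₂) (fun hh => h₁ ((hz y₁).2 hh))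
      (fun hh => h₂ ((hz y₂).2 hh))
    rw [hz]
    have : g * (y₁ * y₂) * g⁻¹ = g * y₁ * g⁻¹ * (g * y₂ * g⁻¹) := by group
    rw [this]; exact h1

/-- All involution centralizers are dihedral of order eight. -/
theorem dihCent (h : IsDihedralSub (Subgroup.centralizer ({t} : Set G)) a 2)
    (hconj : ∀ x : G, orderOf x = 2 → ∃ g : G, g * x * g⁻¹ = t) : O360.DihCent G := by
  intro j hj
  obtain ⟨g, hg⟩ := hconj j hj
  refine ⟨g⁻¹ * a * g, ?_⟩
  have : j = g⁻¹ * t * g := by rw [← hg]; group
  rw [this]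
  exact isDihedralSub_conj h g

/-- `C_G(t)` is self-normalizing. -/
theorem normalizer_le (h : IsDihedralSub (Subgroup.centralizer ({t} : Set G)) a 2)
    (ht : orderOf t = 2) :
    Subgroup.normalizer ((Subgroup.centralizer ({t} : Set G) : Subgroup G) : Set G) ≤
      Subgroup.centralizer ({t} : Set G) := by
  intro g hg
  have ht' := t_eq h ht
  have ht1 : t ≠ 1 := by
    intro h1
    rw [h1, orderOf_one] at ht
    norm_num at ht
  have h1 : g * a * g⁻¹ ∈ Subgroup.centralizer ({t} : Set G) :=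
    (Subgroup.mem_normalizer_iff.1 hg a).1 h.mem
  have hsq : (g * a * g⁻¹) ^ 2 = g * t * g⁻¹ := by rw [conj_pow, ht']
  have hne : g * t * g⁻¹ ≠ 1 := by
    intro hcon
    apply ht1
    calc t = g⁻¹ * (g * t * g⁻¹) * g := by group
      _ = 1 := by rw [hcon]; group
  have h2 : g * a * g⁻¹ ∈ Subgroup.zpowers a := by
    by_contra hcon
    have := h.out_sq _ h1 hcon
    rw [hsq] at this
    exact hne this
  have h3 : (g * t * g⁻¹) ^ 2 = 1 := by
    rw [conj_pow, ← ht, pow_orderOf_eq_one]; group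
  have h4 : g * t * g⁻¹ ∈ Subgroup.zpowers a := by
    rw [← hsq]; exact Subgroup.pow_mem _ h2 _
  rcases h.eq_one_or_of_sq (by norm_num) h4 h3 with h5 | h5
  · exact absurd h5 hne
  · rw [Subgroup.mem_centralizer_singleton_iff]
    have h6 : g * t * g⁻¹ = t := by rw [h5, ht']; norm_num
    calc g * t = g * t * g⁻¹ * g := by group
      _ = t * g := by rw [h6]

/-- A finite group in which `C_G(t)` is dihedral of order eight and all involutions are
conjugate is simple. -/
theorem isSimpleGroup [Finite G] (h : IsDihedralSub (Subgroup.centralizer ({t} : Set G)) a 2)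
    (ht : orderOf t = 2) (hconj : ∀ x : G, orderOf x = 2 → ∃ g : G, g * x * g⁻¹ = t) :
    IsSimpleGroup G := by
  have hF : Fact (Nat.Prime 2) := ⟨Nat.prime_two⟩
  have ht' := t_eq h ht
  have ht1 : t ≠ 1 := by
    intro h1
    rw [h1, orderOf_one] at ht
    norm_num at ht
  have hD := dihCent h hconj
  have hnt : Nontrivial G := ⟨⟨t, 1, ht1⟩⟩
  refine ⟨fun N hN => ?_⟩
  by_cases hpar : 2 ∣ Nat.card N
  · right
    -- `N` contains an involution, hence all of them
    obtain ⟨x, hx⟩ := exists_prime_orderOf_dvd_card' 2 hpar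
    have hx2 : orderOf (x : G) = 2 := by rw [Subgroup.orderOf_coe]; exact hx
    have hinv : ∀ y : G, orderOf y = 2 → y ∈ N := by
      intro y hy
      obtain ⟨g₁, hg₁⟩ := hconj _ hx2
      obtain ⟨g₂, hg₂⟩ := hconj _ hy
      have hyx : y = (g₂⁻¹ * g₁) * (x : G) * (g₂⁻¹ * g₁)⁻¹ := by
        have : y = g₂⁻¹ * (g₂ * y * g₂⁻¹) * g₂ := by group
        rw [this, hg₂, ← hg₁]; group
      rw [hyx]
      exact hN.conj_mem _ x.2 _
    obtain ⟨b, hbD, hbA⟩ := h.exists_out
    have hDN : Subgroup.centralizer ({t} : Set G) ≤ N := by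
      intro y hy
      by_cases hyA : y ∈ Subgroup.zpowers a
      · have h1 : b⁻¹ * y ∉ Subgroup.zpowers a := by
          intro hcon
          apply hbA
          have : b = y * (b⁻¹ * y)⁻¹ := by group
          rw [this]
          exact Subgroup.mul_mem _ hyA (Subgroup.inv_mem _ hcon)
        have h2 : b⁻¹ * y ∈ Subgroup.centralizer ({t} : Set G) :=
          Subgroup.mul_mem _ (Subgroup.inv_mem _ hbD) hy
        have : y = b * (b⁻¹ * y) := by group
        rw [this]
        exact N.mul_mem (hinv _ (h.out_orderOf hbD hbA)) (hinv _ (h.out_orderOf h2 h1))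
      · exact hinv _ (h.out_orderOf hy hyA)
    obtain ⟨P, hP⟩ := exists_sylow_eq h ht
    have hPN : (P : Subgroup G) ≤ N := by rw [hP]; exact hDN
    have hfr := Sylow.normalizer_sup_eq_top' P hPN
    have hle : Subgroup.normalizer ((P : Subgroup G) : Set G) ≤ N := by
      rw [hP]
      exact (normalizer_le h ht).trans hDN
    rw [← hfr]
    exact (sup_eq_right.2 hle).symm
  · left
    have hodd : Odd (Nat.card N) := Nat.odd_iff.2 (Nat.two_dvd_ne_zero.1 hpar)
    obtain ⟨b, hbD, hbA⟩ := h.exists_out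
    have hb2 : orderOf b = 2 := h.out_orderOf hbD hbA
    have htD : t ∈ Subgroup.centralizer ({t} : Set G) :=
      Subgroup.mem_centralizer_singleton_iff.2 rfl
    have htA : t ∈ Subgroup.zpowers a := by rw [ht']; exact Subgroup.pow_mem _ (Subgroup.mem_zpowers a) 2
    have htbD : t * b ∈ Subgroup.centralizer ({t} : Set G) := Subgroup.mul_mem _ htD hbD
    have htbA : t * b ∉ Subgroup.zpowers a := by
      intro hcon
      apply hbA
      have : b = t⁻¹ * (t * b) := by group
      rw [this]
      exact Subgroup.mul_mem _ (Subgroup.inv_mem _ htA) hcon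
    have htb2 : orderOf (t * b) = 2 := h.out_orderOf htbD htbA
    -- every involution inverts `N`
    have key : ∀ v : G, orderOf v = 2 → ∀ x ∈ N, v * x * v⁻¹ = x⁻¹ := by
      intro v hv x hx
      have hv2 : v * v = 1 := by rw [← pow_two, ← hv]; exact pow_orderOf_eq_one v
      have hvinv : v⁻¹ = v := inv_eq_of_mul_eq_one_left hv2
      let φ : N →* N := (MulAut.conjNormal v : MulAut N).toMonoidHom
      have hφ : ∀ y : N, ((φ y : N) : G) = v * y * v⁻¹ := fun y => MulAut.conjNormal_apply v y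
      have hfpf : MonoidHom.FixedPointFree φ := by
        intro y hy
        have h1 : v * (y : G) * v⁻¹ = y := by rw [← hφ, hy]
        have h2 : (y : G) * v = v * y := by
          calc (y : G) * v = v * y * v⁻¹ * v := by rw [h1]
            _ = v * y := by group
        have h3 : (y : G) ^ Nat.card N = 1 := by
          have := pow_card_eq_one' (G := N) (x := y)
          have h4 : ((y ^ Nat.card N : N) : G) = 1 := by rw [this]; rfl
          rwa [Subgroup.coe_pow] at h4
        have := O360.eq_one_of_commute_involution hD hv h2 hodd h3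
        exact Subtype.ext this
      have hinvol : Function.Involutive φ := by
        intro y
        apply Subtype.ext
        rw [hφ, hφ, hvinv]
        calc v * (v * (y : G) * v) * v = (v * v) * y * (v * v) := by group
          _ = y := by rw [hv2, one_mul, mul_one]
      have h5 := MonoidHom.FixedPointFree.coe_eq_inv_of_involutive hfpf hinvol
      have h6 : φ ⟨x, hx⟩ = (⟨x, hx⟩ : N)⁻¹ := congrFun h5 ⟨x, hx⟩
      have h7 := congrArg (fun z : N => (z : G)) h6
      simp only [hφ] at h7
      simpa using h7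
    rw [Subgroup.eq_bot_iff_forall]
    intro x hx
    have h1 := key t ht x hx
    have h2 := key b hb2 x hx
    have h3 := key (t * b) htb2 x hx
    have h4 : t * b * x * (t * b)⁻¹ = x := by
      calc t * b * x * (t * b)⁻¹ = t * (b * x * b⁻¹) * t⁻¹ := by group
        _ = t * x⁻¹ * t⁻¹ := by rw [h2]
        _ = (t * x * t⁻¹)⁻¹ := by group
        _ = x := by rw [h1, inv_inv]
    rw [h4] at h3
    have h5 : x ^ 2 = 1 := by
      rw [pow_two]
      nth_rewrite 1 [h3]
      exact inv_mul_cancel x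
    have h6 : x ^ Nat.card N = 1 := by
      have := pow_card_eq_one' (G := N) (x := ⟨x, hx⟩)
      have h4 : (((⟨x, hx⟩ : N) ^ Nat.card N : N) : G) = 1 := by rw [this]; rfl
      rwa [Subgroup.coe_pow] at h4
    have h7 : orderOf x ∣ Nat.gcd 2 (Nat.card N) :=
      Nat.dvd_gcd (orderOf_dvd_of_pow_eq_one h5) (orderOf_dvd_of_pow_eq_one h6)
    rw [Nat.coprime_two_left.2 hodd, Nat.dvd_one, orderOf_eq_one_iff] at h7
    exact h7

end DihEight

end Cfsg.Agent.Helper16
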