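import Mathlib

/-!
# Arithmetic for groups with a four-group involution centralizer (helper16's library)
-/

set_option autoImplicit false

namespace Cfsg.Agent.Helper16

namespace FourCent

/-- The case of one negative sign. -/
theorem one_neg (n p q : ℕ) (hp : 0 < p) (hq : 0 < q)
    (h : n * ((p + q) * (p + 1) * (q + 1)) = 32 * (p * q * (p + q + 1)))
    (h3 : 1 + p ^ 2 + q ^ 2 + (p + q + 1) ^ 2 ≤ n) : n = 12 := by
  have hlt : p * q * (p + q + 1) < (p + q) * (p + 1) * (q + 1) := by nlinarith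
  have hX : 0 < (p + q) * (p + 1) * (q + 1) := by positivity
  have hn : n < 32 := by
    by_contra hcon
    push Not at hcon
    have : 32 * ((p + q) * (p + 1) * (q + 1)) ≤ n * ((p + q) * (p + 1) * (q + 1)) :=
      Nat.mul_le_mul_right _ hcon
    omega
  have hpq : p + q ≤ 4 := by
    by_contra hcon
    push Not at hcon
    have : 36 ≤ (p + q + 1) ^ 2 := by nlinarith
    omega
  have hp4 : p ≤ 3 := by omega
  have hq4 : q ≤ 3 := by omega
  interval_cases p <;> interval_cases q <;> omega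

/-- The case of two negative signs. -/
theorem two_neg (n a b : ℕ)
    (h : n * ((a + b + 2) * a * b) = 32 * ((a + 1) * (b + 1) * (a + b + 1)))
    (h3 : 1 + (a + 1) ^ 2 + (b + 1) ^ 2 + (a + b + 1) ^ 2 ≤ n) (h8 : ¬ 8 ∣ n) : n = 60 := by
  have ha : 0 < a := by
    rcases Nat.eq_zero_or_pos a with h0 | h0
    · subst h0
      simp at h
    · exact h0
  have hb : 0 < b := by
    rcases Nat.eq_zero_or_pos b with h0 | h0
    · subst h0
      simp at h
    · exact h0
  have hab : 0 < a * b := Nat.mul_pos ha hb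
  have hlt : (a + 1) * (b + 1) * (a + b + 1) < 4 * ((a + b + 2) * a * b) := by
    have h1 : (a + 1) * (b + 1) ≤ 4 * (a * b) := by nlinarith
    have h2 : (a + 1) * (b + 1) * (a + b + 1) ≤ 4 * (a * b) * (a + b + 1) :=
      Nat.mul_le_mul_right _ h1
    nlinarith
  have hn : n < 128 := by
    by_contra hcon
    push Not at hcon
    have : 128 * ((a + b + 2) * a * b) ≤ n * ((a + b + 2) * a * b) :=
      Nat.mul_le_mul_right _ hcon
    omega
  have hsum : a + b ≤ 10 := by
    by_contra hcon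
    push Not at hcon
    have : 144 ≤ (a + b + 1) ^ 2 := by nlinarith
    omega
  have ha9 : a ≤ 9 := by omega
  have hb9 : b ≤ 9 := by omega
  interval_cases a <;> interval_cases b <;> omega

/-- The possible group orders. -/
theorem order_cases (n d1 d2 d3 : ℕ) (e1 e2 e3 : ℤ) (hd1 : 0 < d1) (hd2 : 0 < d2) (hd3 : 0 < d3)
    (he1 : e1 = 1 ∨ e1 = -1) (he2 : e2 = 1 ∨ e2 = -1) (he3 : e3 = 1 ∨ e3 = -1)
    (h1 : 1 + e1 * d1 + e2 * d2 + e3 * d3 = 0)
    (h2 : (n : ℤ) * (d1 * d2 * d3 + e1 * (d2 * d3) + e2 * (d1 * d3) + e3 * (d1 * d2)) =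
      32 * (d1 * d2 * d3))
    (h3 : 1 + d1 ^ 2 + d2 ^ 2 + d3 ^ 2 ≤ n) (h8 : ¬ 8 ∣ n) : n = 12 ∨ n = 60 := by
  rcases he1 with rfl | rfl <;> rcases he2 with rfl | rfl <;> rcases he3 with rfl | rfl
  · exfalso; omega
  · -- `d3 = 1 + d1 + d2`
    left
    have hd : d3 = d1 + d2 + 1 := by omega
    subst hd
    apply one_neg n d1 d2 hd1 hd2 _ (by nlinarith)
    have : (n : ℤ) * (((d1 : ℤ) + d2) * (d1 + 1) * (d2 + 1)) =
        32 * ((d1 : ℤ) * d2 * (d1 + d2 + 1)) := by
      push_cast at h2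
      linear_combination h2
    exact_mod_cast this
  · left
    have hd : d2 = d1 + d3 + 1 := by omega
    subst hd
    apply one_neg n d1 d3 hd1 hd3 _ (by nlinarith)
    have : (n : ℤ) * (((d1 : ℤ) + d3) * (d1 + 1) * (d3 + 1)) =
        32 * ((d1 : ℤ) * d3 * (d1 + d3 + 1)) := by
      push_cast at h2
      linear_combination h2
    exact_mod_cast this
  · -- `d1 + 1 = d2 + d3`
    right
    obtain ⟨a, rfl⟩ : ∃ a, d2 = a + 1 := ⟨d2 - 1, by omega⟩
    obtain ⟨b, rfl⟩ : ∃ b, d3 = b + 1 := ⟨d3 - 1, by omega⟩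
    have hd : d1 = a + b + 1 := by push_cast at h1; omega
    subst hd
    apply two_neg n a b _ (by nlinarith) h8
    have : (n : ℤ) * (((a : ℤ) + b + 2) * a * b) =
        32 * (((a : ℤ) + 1) * (b + 1) * (a + b + 1)) := by
      push_cast at h2
      linear_combination h2
    exact_mod_cast this
  · left
    have hd : d1 = d2 + d3 + 1 := by omega
    subst hd
    apply one_neg n d2 d3 hd2 hd3 _ (by nlinarith)
    have : (n : ℤ) * (((d2 : ℤ) + d3) * (d2 + 1) * (d3 + 1)) =
        32 * ((d2 : ℤ) * d3 * (d2 + d3 + 1)) := by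
      push_cast at h2
      linear_combination h2
    exact_mod_cast this
  · right
    obtain ⟨a, rfl⟩ : ∃ a, d1 = a + 1 := ⟨d1 - 1, by omega⟩
    obtain ⟨b, rfl⟩ : ∃ b, d3 = b + 1 := ⟨d3 - 1, by omega⟩
    have hd : d2 = a + b + 1 := by push_cast at h1; omega
    subst hd
    apply two_neg n a b _ (by nlinarith) h8
    have : (n : ℤ) * (((a : ℤ) + b + 2) * a * b) =
        32 * (((a : ℤ) + 1) * (b + 1) * (a + b + 1)) := by
      push_cast at h2
      linear_combination h2
    exact_mod_cast this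
  · right
    obtain ⟨a, rfl⟩ : ∃ a, d1 = a + 1 := ⟨d1 - 1, by omega⟩
    obtain ⟨b, rfl⟩ : ∃ b, d2 = b + 1 := ⟨d2 - 1, by omega⟩
    have hd : d3 = a + b + 1 := by push_cast at h1; omega
    subst hd
    apply two_neg n a b _ (by nlinarith) h8
    have : (n : ℤ) * (((a : ℤ) + b + 2) * a * b) =
        32 * (((a : ℤ) + 1) * (b + 1) * (a + b + 1)) := by
      push_cast at h2
      linear_combination h2
    exact_mod_cast this
  · exfalso; omega

end FourCent

end Cfsg.Agent.Helper16
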