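import Mathlib
import Cfsg.Prelude.Def_Blocks
import Cfsg.Agent.Lib.Helper16.ClassSumTools
import Cfsg.Agent.Lib.Helper16.BSNormThree
import Cfsg.Agent.Lib.Helper16.BSInduce
import Cfsg.Agent.Lib.Helper16.FourCentArith
import Cfsg.Agent.Lib.Helper24.CharIntegral

/-!
# Character theory of groups with a four-group involution centralizer (helper16's library)
-/

set_option autoImplicit false

namespace Cfsg.Agent.Helper16

open Cfsg Cfsg.Agent.Helper24

universe u

open scoped ComplexConjugate

namespace FourCent

variable {G : Type u} [Group G] [Fintype G]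

set_option maxHeartbeats 1600000 in
/-- If `C_G(t)` has order four and all its nonidentity elements are conjugate to `t`, and eight
does not divide the order of `G`, then `G` has order `12` or `60`. -/
theorem card_cases (t : G) (ht : orderOf t = 2)
    (hC : Nat.card (Subgroup.centralizer ({t} : Set G)) = 4)
    (hconj : ∀ u : G, u * t = t * u → u ≠ 1 → ∃ g : G, g * u * g⁻¹ = t)
    (h8 : ¬ 8 ∣ Nat.card G) : Nat.card G = 12 ∨ Nat.card G = 60 := by
  classical
  letI : Fintype (IrrCharacter G) := irrFintype
  set D : Subgroup G := Subgroup.centralizer ({t} : Set G) with hD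
  have ht2 : t ^ 2 = 1 := by rw [← ht]; exact pow_orderOf_eq_one t
  have ht1 : t ≠ 1 := by
    intro h1
    rw [h1, orderOf_one] at ht
    norm_num at ht
  have htinv : t⁻¹ = t := by rw [inv_eq_iff_mul_eq_one, ← pow_two]; exact ht2
  have hG0 : (Nat.card G : ℂ) ≠ 0 := by
    have : Nat.card G ≠ 0 := Nat.card_pos.ne'
    exact_mod_cast this
  -- integrality at `t`
  choose s hs using fun χ : IrrCharacter G =>
    char_involution_int (isCharacter_of_isIrrCharacter χ.2) ht2
  choose d hd0 hd using fun χ : IrrCharacter G => irr_one_eq χ.2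
  have hconj_s : ∀ χ : IrrCharacter G, conj ((χ : G → ℂ) t) = (s χ : ℂ) := by
    intro χ
    rw [hs χ, map_intCast]
  -- second orthogonality against `t`
  have hso : ∀ g : G, ∑ χ : IrrCharacter G, (s χ : ℂ) * (χ : G → ℂ) g =
      if IsConj t g then 4 else 0 := by
    intro g
    have h := second_orthogonality' g t
    rw [hC] at h
    have h4 : ((4 : ℕ) : ℂ) = 4 := by norm_num
    rw [h4] at h
    rw [← h]
    refine Finset.sum_congr rfl fun χ _ => ?_
    rw [hconj_s χ, mul_comm]
  -- the sum of squares
  have hsq : ∑ χ : IrrCharacter G, (s χ) ^ 2 = 4 := by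
    have h := hso t
    rw [if_pos (IsConj.refl t)] at h
    have h' : ((∑ χ : IrrCharacter G, (s χ) ^ 2 : ℤ) : ℂ) = ((4 : ℤ) : ℂ) := by
      push_cast
      rw [← h]
      refine Finset.sum_congr rfl fun χ _ => ?_
      rw [hs χ, sq]
    exact_mod_cast h'
  set p : IrrCharacter G := principalChar G with hp
  have hsp : s p = 1 := by
    have : ((s p : ℤ) : ℂ) = 1 := by rw [← hs p]; rfl
    exact_mod_cast this
  have hdp : d p = 1 := by
    have : ((d p : ℕ) : ℂ) = 1 := by rw [← hd p]; rfl
    exact_mod_cast this
  have hle : ∀ χ : IrrCharacter G, s χ = 0 ∨ s χ = 1 ∨ s χ = -1 := by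
    intro χ
    by_cases hχp : χ = p
    · rw [hχp, hsp]; right; left; rfl
    · apply int_sq_le_one_of_sq_le_three
      have h1 : ∑ ψ ∈ ({p, χ} : Finset (IrrCharacter G)), (s ψ) ^ 2 ≤
          ∑ ψ : IrrCharacter G, (s ψ) ^ 2 :=
        Finset.sum_le_sum_of_subset_of_nonneg (Finset.subset_univ _) (fun ψ _ _ => sq_nonneg _)
      rw [Finset.sum_pair (fun h => hχp h.symm), hsq, hsp] at h1
      linarith
  set S : Finset (IrrCharacter G) := Finset.univ.filter (fun χ => s χ ≠ 0) with hS
  have hsq' : ∀ χ : IrrCharacter G, (s χ) ^ 2 = if s χ ≠ 0 then 1 else 0 := by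
    intro χ
    rcases hle χ with h | h | h <;> simp [h]
  have hcard : S.card = 4 := by
    have h : ((S.card : ℕ) : ℤ) = 4 := by
      rw [← hsq, hS, Finset.card_filter]
      push_cast
      refine Finset.sum_congr rfl fun χ _ => ?_
      rw [hsq' χ]
    exact_mod_cast h
  have hpS : p ∈ S := by
    rw [hS, Finset.mem_filter]
    exact ⟨Finset.mem_univ _, by rw [hsp]; norm_num⟩
  have hcard3 : (S.erase p).card = 3 := by
    rw [Finset.card_erase_of_mem hpS, hcard]
  obtain ⟨x, y, z, hxy, hxz, hyz, hxyz⟩ := Finset.card_eq_three.1 hcard3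
  have hxs : x ∈ S.erase p := by rw [hxyz]; simp
  have hys : y ∈ S.erase p := by rw [hxyz]; simp
  have hzs : z ∈ S.erase p := by rw [hxyz]; simp
  have hxp : x ≠ p := (Finset.mem_erase.1 hxs).1
  have hyp : y ≠ p := (Finset.mem_erase.1 hys).1
  have hzp : z ≠ p := (Finset.mem_erase.1 hzs).1
  have hsx : s x ≠ 0 := (Finset.mem_filter.1 (Finset.mem_erase.1 hxs).2).2
  have hsy : s y ≠ 0 := (Finset.mem_filter.1 (Finset.mem_erase.1 hys).2).2
  have hsz : s z ≠ 0 := (Finset.mem_filter.1 (Finset.mem_erase.1 hzs).2).2
  have hSeq : S = {p, x, y, z} := by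
    rw [← Finset.insert_erase hpS, hxyz]
  -- sums over all characters reduce to sums over `S`
  have hred : ∀ F : IrrCharacter G → ℂ, (∀ χ, s χ = 0 → F χ = 0) →
      ∑ χ : IrrCharacter G, F χ = F p + F x + F y + F z := by
    intro F hF
    have h1 : ∑ χ : IrrCharacter G, F χ = ∑ χ ∈ S, F χ := by
      rw [hS, Finset.sum_filter]
      refine Finset.sum_congr rfl fun χ _ => ?_
      by_cases h0 : s χ = 0
      · simp [h0, hF χ h0]
      · simp [h0]
    rw [h1, hSeq, Finset.sum_insert, Finset.sum_insert, Finset.sum_insert, Finset.sum_singleton]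
    · ring
    · simpa using hyz
    · simp only [Finset.mem_insert, Finset.mem_singleton, not_or]
      exact ⟨hxy, hxz⟩
    · simp only [Finset.mem_insert, Finset.mem_singleton, not_or]
      exact ⟨fun h => hxp h.symm, fun h => hyp h.symm, fun h => hzp h.symm⟩
  have hex : s x = 1 ∨ s x = -1 := by
    rcases hle x with h | h | h
    · exact absurd h hsx
    · exact Or.inl h
    · exact Or.inr h
  have hey : s y = 1 ∨ s y = -1 := by
    rcases hle y with h | h | h
    · exact absurd h hsy
    · exact Or.inl h
    · exact Or.inr h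
  have hez : s z = 1 ∨ s z = -1 := by
    rcases hle z with h | h | h
    · exact absurd h hsz
    · exact Or.inl h
    · exact Or.inr h
  -- the degree equation
  have hdeg : (1 : ℤ) + s x * d x + s y * d y + s z * d z = 0 := by
    have h := hso 1
    have hnc : ¬ IsConj t 1 := by
      intro hc
      rw [isConj_one_left] at hc
      exact ht1 hc
    rw [if_neg hnc, hred (fun χ => (s χ : ℂ) * (χ : G → ℂ) 1)
      (fun χ h0 => by simp [h0])] at h
    simp only [hd, hsp, hdp] at h
    have h' : (((1 : ℤ) + s x * d x + s y * d y + s z * d z : ℤ) : ℂ) = 0 := by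
      push_cast
      linear_combination h
    exact_mod_cast h'
  -- the sum of the squares of the degrees
  have hsumsq : 1 + d x ^ 2 + d y ^ 2 + d z ^ 2 ≤ Nat.card G := by
    have h := second_orthogonality' (1 : G) (1 : G)
    rw [if_pos (IsConj.refl 1)] at h
    have hc1 : Subgroup.centralizer ({1} : Set G) = ⊤ := by
      rw [eq_top_iff]
      intro g _
      rw [Subgroup.mem_centralizer_singleton_iff]
      simp
    rw [hc1, Subgroup.card_top] at h
    have hall : ((∑ χ : IrrCharacter G, (d χ) ^ 2 : ℕ) : ℂ) = (Nat.card G : ℂ) := by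
      rw [← h]
      push_cast
      refine Finset.sum_congr rfl fun χ _ => ?_
      rw [hd χ, map_natCast, sq]
    have hall' : ∑ χ : IrrCharacter G, (d χ) ^ 2 = Nat.card G := by exact_mod_cast hall
    have hsub : ∑ χ ∈ S, (d χ) ^ 2 ≤ ∑ χ : IrrCharacter G, (d χ) ^ 2 :=
      Finset.sum_le_sum_of_subset (Finset.subset_univ _)
    rw [hall', hSeq, Finset.sum_insert, Finset.sum_insert, Finset.sum_insert,
      Finset.sum_singleton, hdp] at hsub
    · omega
    · simpa using hyz
    · simp only [Finset.mem_insert, Finset.mem_singleton, not_or]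
      exact ⟨hxy, hxz⟩
    · simp only [Finset.mem_insert, Finset.mem_singleton, not_or]
      exact ⟨fun h => hxp h.symm, fun h => hyp h.symm, fun h => hzp h.symm⟩
  -- the class multiplication count
  have hfib : ∀ u : G, u ∈ D → u ≠ 1 → (Nat.card {y : G // y * t * y⁻¹ = u} : ℂ) = 4 := by
    intro u hu hu1
    obtain ⟨g, hg⟩ := hconj u (Subgroup.mem_centralizer_singleton_iff.1 hu) hu1
    have hc : IsConj t u := isConj_iff.2 ⟨g⁻¹, by rw [← hg]; group⟩
    rw [card_conj_eq_of_isConj hc, hC]
    norm_num
  have htD : t ∈ D := Subgroup.mem_centralizer_singleton_iff.2 rfl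
  have hcount : ∑ y : G, (if IsConj t (t * (y * t * y⁻¹)) then (4 : ℂ) else 0) = 32 := by
    rw [sum_conj_eq_sum_card t (fun u => if IsConj t (t * u) then (4 : ℂ) else 0)]
    have hterm : ∀ u : G, (Nat.card {y : G // y * t * y⁻¹ = u} : ℂ) *
        (if IsConj t (t * u) then (4 : ℂ) else 0) =
        (if u ∈ D then (16 : ℂ) else 0) - (if u = 1 then (16 : ℂ) else 0) -
          (if u = t then (16 : ℂ) else 0) := by
      intro u
      by_cases hc : IsConj t u
      · obtain ⟨g, hg⟩ := isConj_iff.1 hc
        have hu2 : u ^ 2 = 1 := by rw [← hg, conj_pow, ht2]; group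
        have hu1 : u ≠ 1 := by
          intro h1
          apply ht1
          have : t = g⁻¹ * u * g := by rw [← hg]; group
          rw [this, h1]; group
        have huinv : u⁻¹ = u := by rw [inv_eq_iff_mul_eq_one, ← pow_two]; exact hu2
        by_cases hct : IsConj t (t * u)
        · -- then `t * u` is an involution, so `u ∈ D`
          obtain ⟨k, hk⟩ := isConj_iff.1 hct
          have htu2 : (t * u) ^ 2 = 1 := by rw [← hk, conj_pow, ht2]; group
          have hcomm : u * t = t * u := by
            have h1 : t * u * (t * u) = 1 := by rw [← pow_two]; exact htu2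
            calc u * t = u⁻¹ * t⁻¹ := by rw [huinv, htinv]
              _ = (t * u)⁻¹ := by rw [mul_inv_rev]
              _ = t * u := inv_eq_of_mul_eq_one_left h1
          have huD : u ∈ D := Subgroup.mem_centralizer_singleton_iff.2 hcomm
          have hut : u ≠ t := by
            intro h1
            rw [h1, ← pow_two, ht2, isConj_one_left] at hct
            exact ht1 hct
          rw [if_pos hct, if_pos huD, if_neg hu1, if_neg hut, hfib u huD hu1]
          norm_num
        · rw [if_neg hct, mul_zero]
          by_cases huD : u ∈ D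
          · have hut : u = t := by
              by_contra hut
              apply hct
              have h1 : t * u ∈ D := D.mul_mem htD huD
              have h2 : t * u ≠ 1 := by
                intro h3
                apply hut
                calc u = t⁻¹ * (t * u) := by group
                  _ = t := by rw [h3, mul_one, htinv]
              obtain ⟨k, hk⟩ := hconj (t * u) (Subgroup.mem_centralizer_singleton_iff.1 h1) h2
              refine isConj_iff.2 ⟨k⁻¹, ?_⟩
              calc k⁻¹ * t * k⁻¹⁻¹ = k⁻¹ * (k * (t * u) * k⁻¹) * k := by rw [hk, inv_inv]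
                _ = t * u := by group
            rw [if_pos huD, if_neg hu1, if_pos hut]
            norm_num
          · have hut : u ≠ t := fun h1 => huD (h1 ▸ htD)
            rw [if_neg huD, if_neg hu1, if_neg hut]
            norm_num
      · rw [card_conj_eq_zero_of_not_isConj hc, Nat.cast_zero, zero_mul]
        by_cases huD : u ∈ D
        · have hu1 : u = 1 := by
            by_contra hu1
            apply hc
            obtain ⟨k, hk⟩ := hconj u (Subgroup.mem_centralizer_singleton_iff.1 huD) hu1
            exact isConj_iff.2 ⟨k⁻¹, by rw [← hk]; group⟩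
          have hut : u ≠ t := by rw [hu1]; exact fun h => ht1 h.symm
          rw [if_pos huD, if_pos hu1, if_neg hut]
          norm_num
        · have hu1 : u ≠ 1 := fun h1 => huD (h1 ▸ D.one_mem)
          have hut : u ≠ t := fun h1 => huD (h1 ▸ htD)
          rw [if_neg huD, if_neg hu1, if_neg hut]
          norm_num
    rw [Finset.sum_congr rfl (fun u _ => hterm u), Finset.sum_sub_distrib, Finset.sum_sub_distrib,
      sum_ite_mem_subgroup, hC, Finset.sum_ite_eq', Finset.sum_ite_eq']
    simp
    norm_num
  -- the key identity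
  have hkey : ∑ χ : IrrCharacter G, (s χ : ℂ) *
      ((Nat.card G : ℂ) * (s χ : ℂ) * (s χ : ℂ) / (d χ : ℂ)) = 32 := by
    rw [← hcount]
    have h1 : ∀ y : G, (if IsConj t (t * (y * t * y⁻¹)) then (4 : ℂ) else 0) =
        ∑ χ : IrrCharacter G, (s χ : ℂ) * (χ : G → ℂ) (t * (y * t * y⁻¹)) := fun y => (hso _).symm
    rw [Finset.sum_congr rfl (fun y _ => h1 y), Finset.sum_comm]
    refine Finset.sum_congr rfl fun χ _ => ?_
    rw [← Finset.mul_sum, sum_char_mul_conj χ.2 t t, hs χ, hd χ]
  rw [hred _ (fun χ h0 => by simp [h0])] at hkey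
  simp only [hsp, hdp] at hkey
  have hdx : (d x : ℂ) ≠ 0 := by exact_mod_cast (hd0 x).ne'
  have hdy : (d y : ℂ) ≠ 0 := by exact_mod_cast (hd0 y).ne'
  have hdz : (d z : ℂ) ≠ 0 := by exact_mod_cast (hd0 z).ne'
  push_cast at hkey
  have hcube : ∀ e : ℤ, e = 1 ∨ e = -1 → (e : ℂ) ^ 3 = (e : ℂ) := by
    rintro e (rfl | rfl) <;> norm_num
  have hmain : (Nat.card G : ℂ) * ((d x : ℂ) * d y * d z + (s x : ℂ) * (d y * d z) +
      (s y : ℂ) * (d x * d z) + (s z : ℂ) * (d x * d y)) = 32 * ((d x : ℂ) * d y * d z) := by
    have h1 := hcube (s x) hex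
    have h2 := hcube (s y) hey
    have h3 := hcube (s z) hez
    field_simp at hkey
    linear_combination hkey - (Nat.card G : ℂ) * (d y * d z) * h1 -
      (Nat.card G : ℂ) * (d x * d z) * h2 - (Nat.card G : ℂ) * (d x * d y) * h3
  have hmainZ : (Nat.card G : ℤ) * ((d x : ℤ) * d y * d z + s x * (d y * d z) +
      s y * (d x * d z) + s z * (d x * d y)) = 32 * ((d x : ℤ) * d y * d z) := by
    exact_mod_cast hmain
  exact order_cases (Nat.card G) (d x) (d y) (d z) (s x) (s y) (s z) (hd0 x) (hd0 y) (hd0 z)
    hex hey hez hdeg hmainZ hsumsq h8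

end FourCent

end Cfsg.Agent.Helper16
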