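import Mathlib

/-!
# A sign computation for the transfer into a Sylow `2`-subgroup (helper16's library)

If `G` has no subgroup of index two, then for every homomorphism `ε : S → {±1}` from a Sylow
`2`-subgroup and every element `x` of order `2 ^ n`, some `G`-conjugate `g⁻¹ x ^ r g ∈ S`
(`r ∣ 2 ^ n`) has `ε ≠ (-1) ^ r`. For involutions this is Thompson's transfer lemma.
-/

set_option autoImplicit false

namespace Cfsg.Agent.Helper16

/-- **Transfer sign lemma.** -/
theorem exists_conj_sign_ne {G : Type*} [Group G] [Finite G] (hG : ∀ H : Subgroup G, H.index ≠ 2)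
    (S : Sylow 2 G) (ε : ↥(S : Subgroup G) →* ℤˣ) (x : G) (n : ℕ) (hxn : orderOf x = 2 ^ n) :
    ∃ (r : ℕ) (g : G) (hmem : g⁻¹ * x ^ r * g ∈ (S : Subgroup G)), r ∣ 2 ^ n ∧
      ε ⟨g⁻¹ * x ^ r * g, hmem⟩ ≠ (-1 : ℤˣ) ^ r := by
  classical
  have : Fact (Nat.Prime 2) := ⟨Nat.prime_two⟩
  by_contra hcon
  push Not at hcon
  set V : G →* ℤˣ := MonoidHom.transfer ε with hV
  have hker : V.ker = ⊤ := by
    have h1 : V.ker.index = Nat.card V.range := Subgroup.index_ker V
    have h2 : Nat.card V.range ∣ Nat.card ℤˣ := Subgroup.card_subgroup_dvd_card _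
    have h3 : Nat.card ℤˣ = 2 := by
      rw [Nat.card_eq_fintype_card]; rfl
    rw [h3, ← h1] at h2
    have h4 : V.ker.index = 1 ∨ V.ker.index = 2 := by
      have := Nat.le_of_dvd (by norm_num) h2
      have hpos : V.ker.index ≠ 0 := Subgroup.index_ne_zero_of_finite
      interval_cases V.ker.index
      · exact absurd rfl hpos
      · exact Or.inl rfl
      · exact Or.inr rfl
    rcases h4 with h4 | h4
    · exact Subgroup.index_eq_one.mp h4
    · exact absurd h4 (hG _)
  have hVx : V x = 1 := by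
    have : x ∈ V.ker := by rw [hker]; trivial
    exact this
  let _ : Fintype (Quotient (MulAction.orbitRel (Subgroup.zpowers x) (G ⧸ (S : Subgroup G)))) :=
    Fintype.ofFinite _
  have hformula := MonoidHom.transfer_eq_prod_quotient_orbitRel_zpowers_quot ε x
  have hsum := Subgroup.index_eq_sum_minimalPeriod (S : Subgroup G) x
  have hterm : ∀ q : Quotient (MulAction.orbitRel (Subgroup.zpowers x) (G ⧸ (S : Subgroup G))),
      ε ⟨q.out.out⁻¹ * x ^ Function.minimalPeriod (x • ·) q.out * q.out.out,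
            QuotientGroup.out_conj_pow_minimalPeriod_mem (S : Subgroup G) x q.out⟩ =
        (-1 : ℤˣ) ^ Function.minimalPeriod (x • ·) q.out := by
    intro q
    apply hcon
    apply Function.IsPeriodicPt.minimalPeriod_dvd
    rw [← hxn]
    show (x • ·)^[orderOf x] q.out = q.out
    rw [smul_iterate, pow_orderOf_eq_one]
    exact one_smul _ _
  have hodd : Odd (S : Subgroup G).index := by
    rw [← Nat.not_even_iff_odd, even_iff_two_dvd]
    exact S.not_dvd_index
  rw [hformula] at hVx
  rw [Finset.prod_congr rfl (fun q _ => hterm q), Finset.prod_pow_eq_pow_sum, ← hsum,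
    hodd.neg_one_pow] at hVx
  exact absurd hVx (by decide)

/-- **Thompson transfer**, character form: if `G` has no subgroup of index two, every involution
of `G` has a conjugate in the kernel of any `ε : S → {±1}`. -/
theorem exists_conj_sign_eq_one {G : Type*} [Group G] [Finite G]
    (hG : ∀ H : Subgroup G, H.index ≠ 2) (S : Sylow 2 G) (ε : ↥(S : Subgroup G) →* ℤˣ) (u : G)
    (hu : orderOf u = 2) :
    ∃ (g : G) (hmem : g⁻¹ * u * g ∈ (S : Subgroup G)), ε ⟨g⁻¹ * u * g, hmem⟩ = 1 := by
  obtain ⟨r, g, hmem, hr, hne⟩ := exists_conj_sign_ne hG S ε u 1 (by rw [hu, pow_one])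
  have hu2 : u ^ 2 = 1 := by rw [← hu]; exact pow_orderOf_eq_one u
  rw [pow_one] at hr
  have hr12 : r = 1 ∨ r = 2 := by
    have := Nat.le_of_dvd two_pos hr
    interval_cases r
    · simp at hr
    · exact Or.inl rfl
    · exact Or.inr rfl
  rcases hr12 with rfl | rfl
  · have hmem' : g⁻¹ * u * g ∈ (S : Subgroup G) := by simpa using hmem
    refine ⟨g, hmem', ?_⟩
    have h1 : ε ⟨g⁻¹ * u * g, hmem'⟩ ≠ -1 := by
      intro h
      apply hne
      have e1 : (⟨g⁻¹ * u ^ 1 * g, hmem⟩ : (S : Subgroup G)) = ⟨g⁻¹ * u * g, hmem'⟩ :=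
        Subtype.ext (by simp)
      rw [e1, h, pow_one]
    rcases Int.units_eq_one_or (ε ⟨g⁻¹ * u * g, hmem'⟩) with h2 | h2
    · exact h2
    · exact absurd h2 h1
  · exfalso
    apply hne
    have : (⟨g⁻¹ * u ^ 2 * g, hmem⟩ : (S : Subgroup G)) = 1 := by
      apply Subtype.ext
      show g⁻¹ * u ^ 2 * g = 1
      rw [hu2, mul_one, inv_mul_cancel]
    rw [this, map_one]
    norm_num

/-- A non-abelian simple group has no subgroup of index two. -/
theorem index_ne_two_of_isSimpleGroup {G : Type*} [Group G] [Finite G] [IsSimpleGroup G]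
    (hG : ¬ IsMulCommutative G) (H : Subgroup G) : H.index ≠ 2 := by
  intro hidx
  have hn : H.Normal := Subgroup.normal_of_index_eq_two hidx
  rcases hn.eq_bot_or_eq_top with h | h
  · rw [h, Subgroup.index_bot] at hidx
    apply hG
    have : Fact (Nat.Prime 2) := ⟨Nat.prime_two⟩
    have hc : IsCyclic G := isCyclic_of_prime_card hidx
    exact ⟨⟨fun a b => by
      let _ := IsCyclic.commGroup (α := G)
      exact mul_comm a b⟩⟩
  · rw [h, Subgroup.index_top] at hidx
    norm_num at hidx

/-- A `2`-element of the normalizer of a Sylow `2`-subgroup lies in it. -/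
theorem mem_sylow_of_mem_normalizer_of_orderOf {G : Type*} [Group G] [Finite G] (S : Sylow 2 G)
    {g : G} (hg : g ∈ Subgroup.normalizer ((S : Subgroup G) : Set G)) {k : ℕ}
    (hgo : orderOf g = 2 ^ k) : g ∈ (S : Subgroup G) := by
  have : Fact (Nat.Prime 2) := ⟨Nat.prime_two⟩
  have hp : IsPGroup 2 (Subgroup.zpowers g) :=
    IsPGroup.of_card (n := k) (by rw [Nat.card_zpowers, hgo])
  have h1 := hp.inf_normalizer_sylow S
  have h2 : g ∈ Subgroup.zpowers g ⊓ Subgroup.normalizer (S : Set G) :=
    ⟨Subgroup.mem_zpowers g, hg⟩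
  rw [h1] at h2
  exact h2.2

end Cfsg.Agent.Helper16
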