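import Mathlib
import Cfsg.Prelude.Def_Transfer
import Cfsg.Agent.Lib.Helper16.FourCentChar
import Cfsg.Agent.Lib.Helper16.TransferSign
import Cfsg.Agent.Lib.Helper2.Order60
import Cfsg.Agent.Lib.Helper2.SylowSub
import Cfsg.Agent.Lib.Helper9.SylowLemmas
import Cfsg.Agent.S0228

/-!
# Groups with an involution centralizer of order four (helper16's library)
-/

set_option autoImplicit false

namespace Cfsg.Agent.Helper16

namespace FourCent

/-- Conjugate elements have centralizers of the same order. -/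
theorem card_centralizer_conj {K : Type*} [Group K] (g t : K) :
    Nat.card (Subgroup.centralizer ({g * t * g⁻¹} : Set K)) =
      Nat.card (Subgroup.centralizer ({t} : Set K)) := by
  have hmem : ∀ y : K, y ∈ Subgroup.centralizer ({g * t * g⁻¹} : Set K) ↔
      g⁻¹ * y * g ∈ Subgroup.centralizer ({t} : Set K) := by
    intro y
    rw [Subgroup.mem_centralizer_singleton_iff, Subgroup.mem_centralizer_singleton_iff]
    constructor
    · intro hy
      calc g⁻¹ * y * g * t = g⁻¹ * (y * (g * t * g⁻¹)) * g := by group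
        _ = g⁻¹ * ((g * t * g⁻¹) * y) * g := by rw [hy]
        _ = t * (g⁻¹ * y * g) := by group
    · intro hy
      calc y * (g * t * g⁻¹) = g * (g⁻¹ * y * g * t) * g⁻¹ := by group
        _ = g * (t * (g⁻¹ * y * g)) * g⁻¹ := by rw [hy]
        _ = g * t * g⁻¹ * y := by group
  refine Nat.card_congr ⟨fun y => ⟨g⁻¹ * y.1 * g, (hmem _).1 y.2⟩,
    fun y => ⟨g * y.1 * g⁻¹, (hmem _).2 (by
      have : g⁻¹ * (g * y.1 * g⁻¹) * g = y.1 := by group
      rw [this]; exact y.2)⟩, ?_, ?_⟩
  · intro y; apply Subtype.ext; simp only; group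
  · intro y; apply Subtype.ext; simp only; group

/-- Three involutions of a four-group acting freely force odd normal subgroups to be trivial. -/
theorem odd_normal_eq_bot {K : Type*} [Group K] [Finite K] (N : Subgroup K) [hN : N.Normal]
    (hodd : Odd (Nat.card N)) {t b : K} (ht : orderOf t = 2) (hb : orderOf b = 2)
    (htb : orderOf (t * b) = 2)
    (hfree : ∀ v : K, v = t ∨ v = b ∨ v = t * b → ∀ x ∈ N, x * v = v * x → x = 1) : N = ⊥ := by
  have key : ∀ v : K, orderOf v = 2 → (v = t ∨ v = b ∨ v = t * b) →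
      ∀ x ∈ N, v * x * v⁻¹ = x⁻¹ := by
    intro v hv hvc x hx
    have hv2 : v * v = 1 := by rw [← pow_two, ← hv]; exact pow_orderOf_eq_one v
    have hvinv : v⁻¹ = v := inv_eq_of_mul_eq_one_left hv2
    let φ : N →* N := (MulAut.conjNormal v : MulAut N).toMonoidHom
    have hφ : ∀ y : N, ((φ y : N) : K) = v * y * v⁻¹ := fun y => MulAut.conjNormal_apply v y
    have hfpf : MonoidHom.FixedPointFree φ := by
      intro y hy
      have h1 : v * (y : K) * v⁻¹ = y := by rw [← hφ, hy]
      have h2 : (y : K) * v = v * y := by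
        calc (y : K) * v = v * y * v⁻¹ * v := by rw [h1]
          _ = v * y := by group
      exact Subtype.ext (hfree v hvc y y.2 h2)
    have hinvol : Function.Involutive φ := by
      intro y
      apply Subtype.ext
      rw [hφ, hφ, hvinv]
      calc v * (v * (y : K) * v) * v = (v * v) * y * (v * v) := by group
        _ = y := by rw [hv2, one_mul, mul_one]
    have h5 := MonoidHom.FixedPointFree.coe_eq_inv_of_involutive hfpf hinvol
    have h6 : φ ⟨x, hx⟩ = (⟨x, hx⟩ : N)⁻¹ := congrFun h5 ⟨x, hx⟩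
    have h7 := congrArg (fun z : N => (z : K)) h6
    simp only [hφ] at h7
    simpa using h7
  rw [Subgroup.eq_bot_iff_forall]
  intro x hx
  have h1 := key t ht (Or.inl rfl) x hx
  have h2 := key b hb (Or.inr (Or.inl rfl)) x hx
  have h3 := key (t * b) htb (Or.inr (Or.inr rfl)) x hx
  have h4 : t * b * x * (t * b)⁻¹ = x := by
    calc t * b * x * (t * b)⁻¹ = t * (b * x * b⁻¹) * t⁻¹ := by group
      _ = t * x⁻¹ * t⁻¹ := by rw [h2]
      _ = (t * x * t⁻¹)⁻¹ := by group
      _ = x := by rw [h1, inv_inv]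
  rw [h4] at h3
  have h5 : x ^ 2 = 1 := by
    rw [pow_two]
    nth_rewrite 1 [h3]
    exact inv_mul_cancel x
  have h6 : x ^ Nat.card N = 1 := by
    have := pow_card_eq_one' (G := N) (x := ⟨x, hx⟩)
    have h4 : (((⟨x, hx⟩ : N) ^ Nat.card N : N) : K) = 1 := by rw [this]; rfl
    rwa [Subgroup.coe_pow] at h4
  have h7 : orderOf x ∣ Nat.gcd 2 (Nat.card N) :=
    Nat.dvd_gcd (orderOf_dvd_of_pow_eq_one h5) (orderOf_dvd_of_pow_eq_one h6)
  rw [Nat.coprime_two_left.2 hodd, Nat.dvd_one, orderOf_eq_one_iff] at h7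
  exact h7

/-- The structure obtained in the non-`2`-nilpotent case. -/
structure Fused {K : Type*} [Group K] (t u : K) : Prop where
  ht : orderOf t = 2
  hu : orderOf u = 2
  htu : orderOf (t * u) = 2
  card : Nat.card (Subgroup.centralizer ({t} : Set K)) = 4
  comm : u * t = t * u
  conj : ∀ c : K, c * t = t * c → c ≠ 1 → ∃ k : K, k * c * k⁻¹ = t

theorem Fused.card_centralizer {K : Type*} [Group K] {t u : K} (h : Fused t u) {v : K}
    (hv : ∃ k : K, k * v * k⁻¹ = t) : Nat.card (Subgroup.centralizer ({v} : Set K)) = 4 := by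
  obtain ⟨k, hk⟩ := hv
  have : v = k⁻¹ * t * k⁻¹⁻¹ := by rw [← hk]; group
  rw [this, card_centralizer_conj, h.card]

theorem Fused.eq_one_of_commute {K : Type*} [Group K] [Finite K] {t u : K} (h : Fused t u) {v : K}
    (hv : ∃ k : K, k * v * k⁻¹ = t) {x : K} (hx : x * v = v * x) {n : ℕ} (hn : Odd n)
    (hxn : x ^ n = 1) : x = 1 := by
  have hxC : x ∈ Subgroup.centralizer ({v} : Set K) :=
    Subgroup.mem_centralizer_singleton_iff.2 hx
  have h1 := Subgroup.orderOf_dvd_natCard _ hxC
  rw [h.card_centralizer hv] at h1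
  have h2 := orderOf_dvd_of_pow_eq_one hxn
  have h3 : orderOf x ∣ Nat.gcd 4 n := Nat.dvd_gcd h1 h2
  have h4 : Nat.gcd 4 n = 1 := by
    have : Nat.Coprime (2 ^ 2) n := Nat.Coprime.pow_left 2 (Nat.coprime_two_left.2 hn)
    exact this
  rw [h4, Nat.dvd_one, orderOf_eq_one_iff] at h3
  exact h3

theorem Fused.conj_u {K : Type*} [Group K] {t u : K} (h : Fused t u) :
    ∃ k : K, k * u * k⁻¹ = t := by
  apply h.conj u h.comm
  intro h1
  have := h.hu
  rw [h1, orderOf_one] at this
  norm_num at this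

theorem Fused.conj_tu {K : Type*} [Group K] {t u : K} (h : Fused t u) :
    ∃ k : K, k * (t * u) * k⁻¹ = t := by
  apply h.conj (t * u)
  · rw [mul_assoc, h.comm]
  · intro h1
    have := h.htu
    rw [h1, orderOf_one] at this
    norm_num at this

/-- Odd normal subgroups are trivial. -/
theorem Fused.odd_normal_eq_bot {K : Type*} [Group K] [Finite K] {t u : K} (h : Fused t u)
    (N : Subgroup K) [hN : N.Normal] (hodd : Odd (Nat.card N)) : N = ⊥ := by
  apply FourCent.odd_normal_eq_bot N hodd h.ht h.hu h.htu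
  intro v hv x hx hxv
  have hxn : x ^ Nat.card N = 1 := by
    have := pow_card_eq_one' (G := N) (x := ⟨x, hx⟩)
    have h4 : (((⟨x, hx⟩ : N) ^ Nat.card N : N) : K) = 1 := by rw [this]; rfl
    rwa [Subgroup.coe_pow] at h4
  rcases hv with rfl | rfl | rfl
  · exact h.eq_one_of_commute ⟨1, by group⟩ hxv hodd hxn
  · exact h.eq_one_of_commute h.conj_u hxv hodd hxn
  · exact h.eq_one_of_commute h.conj_tu hxv hodd hxn

end FourCent

end Cfsg.Agent.Helper16
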