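import Mathlib
import Cfsg.Agent.Lib.Helper16.FourCentGroup

/-!
# Groups with an involution centralizer of order four: the main theorem (helper16's library)
-/

set_option autoImplicit false

namespace Cfsg.Agent.Helper16

namespace FourCent

universe u

variable {K : Type u} [Group K] [Finite K]

/-- The centralizer of order four is a Sylow `2`-subgroup when eight does not divide the order. -/
theorem exists_sylow_eq (t : K) (hC : Nat.card (Subgroup.centralizer ({t} : Set K)) = 4)
    (h8 : ¬ 8 ∣ Nat.card K) :
    ∃ P : Sylow 2 K, (P : Subgroup K) = Subgroup.centralizer ({t} : Set K) := by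
  have hF : Fact (Nat.Prime 2) := ⟨Nat.prime_two⟩
  have hV2 : IsPGroup 2 (Subgroup.centralizer ({t} : Set K)) := IsPGroup.of_card (n := 2) hC
  obtain ⟨P, hVP⟩ := hV2.exists_le_sylow
  refine ⟨P, (Subgroup.eq_of_le_of_card_ge hVP ?_).symm⟩
  obtain ⟨k, hk⟩ := IsPGroup.iff_card.1 P.2
  have hk2 : k ≤ 2 := by
    by_contra hcon
    push Not at hcon
    apply h8
    have h1 : (2 : ℕ) ^ 3 ∣ 2 ^ k := pow_dvd_pow 2 hcon
    have h2 : Nat.card (P : Subgroup K) ∣ Nat.card K := Subgroup.card_subgroup_dvd_card _
    rw [hk] at h2
    exact h1.trans h2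
  rw [hC, hk]
  calc 2 ^ k ≤ 2 ^ 2 := Nat.pow_le_pow_right two_pos hk2
    _ = 4 := by norm_num

/-- Either there is a normal `2`-complement, or the involutions of the centralizer are fused. -/
theorem complement_or_fused (t : K) (ht : orderOf t = 2)
    (hC : Nat.card (Subgroup.centralizer ({t} : Set K)) = 4) (h8 : ¬ 8 ∣ Nat.card K) :
    Cfsg.HasNormalPComplement 2 K ∨ ∃ u : K, Fused t u := by
  classical
  have hF : Fact (Nat.Prime 2) := ⟨Nat.prime_two⟩
  obtain ⟨P, hP⟩ := exists_sylow_eq t hC h8
  set V : Subgroup K := Subgroup.centralizer ({t} : Set K) with hV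
  have ht2 : t ^ 2 = 1 := by rw [← ht]; exact pow_orderOf_eq_one t
  have ht1 : t ≠ 1 := by
    intro h1
    rw [h1, orderOf_one] at ht
    norm_num at ht
  have htV : t ∈ V := Subgroup.mem_centralizer_singleton_iff.2 rfl
  have hcomm : ∀ a ∈ V, ∀ b ∈ V, a * b = b * a := by
    intro a ha b hb
    have hc := IsPGroup.isMulCommutative_of_card_eq_prime_sq (p := 2) (G := V)
      (by rw [hC]; norm_num)
    have := hc.is_comm.comm ⟨a, ha⟩ ⟨b, hb⟩
    exact congrArg Subtype.val this
  by_cases hNC : Subgroup.normalizer ((P : Subgroup K) : Set K) ≤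
      Subgroup.centralizer ((P : Subgroup K) : Set K)
  · left
    exact ⟨P, (MonoidHom.transferSylow P hNC).ker, inferInstance,
      MonoidHom.ker_transferSylow_isComplement' P hNC⟩
  · right
    obtain ⟨g, hgN, hgC⟩ := SetLike.not_le_iff_exists.1 hNC
    have hgV : g ∉ V := by
      intro hg
      apply hgC
      rw [Subgroup.mem_centralizer_iff]
      intro x hx
      rw [SetLike.mem_coe, hP] at hx
      exact hcomm x hx g hg
    have hnorm : ∀ x : K, x ∈ V ↔ g * x * g⁻¹ ∈ V := by
      intro x
      have := Subgroup.mem_normalizer_iff.1 hgN x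
      rw [hP] at this
      exact this
    set u : K := g * t * g⁻¹ with hu
    set w : K := g * u * g⁻¹ with hw
    have huV : u ∈ V := (hnorm t).1 htV
    have hwV : w ∈ V := (hnorm u).1 huV
    have hut : u ≠ t := by
      intro h1
      apply hgV
      rw [hV, Subgroup.mem_centralizer_singleton_iff]
      calc g * t = g * t * g⁻¹ * g := by group
        _ = t * g := by rw [← hu, h1]
    have hu1 : u ≠ 1 := by
      intro h1
      apply ht1
      calc t = g⁻¹ * (g * t * g⁻¹) * g := by group
        _ = 1 := by rw [← hu, h1]; group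
    have hwu : w ≠ u := by
      intro h1
      apply hut
      have : g * u * g⁻¹ = g * t * g⁻¹ := h1
      have h2 := mul_right_cancel this
      exact mul_left_cancel h2
    have hw1 : w ≠ 1 := by
      intro h1
      apply hu1
      calc u = g⁻¹ * (g * u * g⁻¹) * g := by group
        _ = 1 := by rw [← hw, h1]; group
    have hwt : w ≠ t := by
      intro h1
      -- then `g ^ 2` centralizes `t`, so `g` is a `2`-element of the normalizer
      have hg2 : g * g ∈ V := by
        rw [hV, Subgroup.mem_centralizer_singleton_iff]
        have h2 : g * g * t * (g * g)⁻¹ = t := by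
          calc g * g * t * (g * g)⁻¹ = g * (g * t * g⁻¹) * g⁻¹ := by group
            _ = t := by rw [← hu, ← hw, h1]
        calc g * g * t = g * g * t * (g * g)⁻¹ * (g * g) := by group
          _ = t * (g * g) := by rw [h2]
      have hg8 : g ^ 8 = 1 := by
        have h3 : (⟨g * g, hg2⟩ : V) ^ 4 = 1 := by
          have := pow_card_eq_one' (G := V) (x := ⟨g * g, hg2⟩)
          rwa [hC] at this
        have h4 := congrArg (fun z : V => (z : K)) h3
        simp only [Subgroup.coe_pow, Subgroup.coe_one] at h4
        calc g ^ 8 = (g * g) ^ 4 := by rw [← pow_two, ← pow_mul]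
          _ = 1 := h4
      have hdvd : orderOf g ∣ 2 ^ 3 := orderOf_dvd_of_pow_eq_one (by rw [← hg8]; norm_num)
      obtain ⟨k, -, hk⟩ := (Nat.dvd_prime_pow Nat.prime_two).1 hdvd
      have := mem_sylow_of_mem_normalizer_of_orderOf P hgN hk
      rw [hP] at this
      exact hgV this
    -- the four elements of `V`
    have hcases : ∀ c ∈ V, c = 1 ∨ c = t ∨ c = u ∨ c = w := by
      intro c hc
      let f : Fin 4 → V := ![1, ⟨t, htV⟩, ⟨u, huV⟩, ⟨w, hwV⟩]
      have hinj : Function.Injective f := by
        intro i j hij
        have h1 := congrArg (fun z : V => (z : K)) hij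
        fin_cases i <;> fin_cases j <;> simp [f] at h1 ⊢ <;>
          first
            | exact absurd h1 ht1 | exact absurd h1.symm ht1
            | exact absurd h1 hu1 | exact absurd h1.symm hu1
            | exact absurd h1 hw1 | exact absurd h1.symm hw1
            | exact absurd h1 hut | exact absurd h1.symm hut
            | exact absurd h1 hwt | exact absurd h1.symm hwt
            | exact absurd h1 hwu | exact absurd h1.symm hwu
      have hbij : Function.Bijective f := by
        rw [Nat.bijective_iff_injective_and_card]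
        exact ⟨hinj, by rw [hC]; simp⟩
      obtain ⟨i, hi⟩ := hbij.2 ⟨c, hc⟩
      have h1 := congrArg (fun z : V => (z : K)) hi
      fin_cases i <;> simp [f] at h1
      · exact Or.inl h1.symm
      · exact Or.inr (Or.inl h1.symm)
      · exact Or.inr (Or.inr (Or.inl h1.symm))
      · exact Or.inr (Or.inr (Or.inr h1.symm))
    have hu2 : u ^ 2 = 1 := by rw [hu, conj_pow, ht2]; group
    have htuV : t * u ∈ V := V.mul_mem htV huV
    have htuw : t * u = w := by
      rcases hcases (t * u) htuV with h1 | h1 | h1 | h1
      · exfalso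
        apply hut
        have : u = t⁻¹ := (eq_inv_of_mul_eq_one_right h1)
        rw [this, inv_eq_iff_mul_eq_one, ← pow_two]; exact ht2
      · exfalso; apply hu1
        have : t * u = t * 1 := by rw [mul_one]; exact h1
        exact mul_left_cancel this
      · exfalso; apply ht1
        have : t * u = 1 * u := by rw [one_mul]; exact h1
        exact mul_right_cancel this
      · exact h1
    refine ⟨u, ⟨ht, orderOf_eq_prime hu2 hu1, ?_, hC, ?_, ?_⟩⟩
    · rw [htuw]
      apply orderOf_eq_prime _ hw1
      rw [hw, conj_pow, hu2]; group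
    · exact hcomm u huV t htV
    · intro c hc hc1
      have hcV : c ∈ V := Subgroup.mem_centralizer_singleton_iff.2 hc
      rcases hcases c hcV with h1 | h1 | h1 | h1
      · exact absurd h1 hc1
      · exact ⟨1, by rw [h1]; group⟩
      · exact ⟨g⁻¹, by rw [h1, hu]; group⟩
      · exact ⟨(g * g)⁻¹, by rw [h1, hw, hu]; group⟩

/-- All involutions are conjugate to `t`. -/
theorem Fused.conj_of_involution {t u : K} (h : Fused t u) (h8 : ¬ 8 ∣ Nat.card K) (j : K)
    (hj : orderOf j = 2) : ∃ k : K, k * j * k⁻¹ = t := by
  have hF : Fact (Nat.Prime 2) := ⟨Nat.prime_two⟩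
  obtain ⟨P, hP⟩ := exists_sylow_eq t h.card h8
  obtain ⟨c, hc⟩ := Cfsg.Agent.Helper9.exists_conj_mem_sylow P j ⟨1, by rw [hj, pow_one]⟩
  rw [← SetLike.mem_coe, ← Sylow.coe_coe, SetLike.mem_coe, hP,
    Subgroup.mem_centralizer_singleton_iff] at hc
  have hne : c * j * c⁻¹ ≠ 1 := by
    intro h1
    have h2 : j = 1 := by
      calc j = c⁻¹ * (c * j * c⁻¹) * c := by group
        _ = 1 := by rw [h1]; group
    rw [h2, orderOf_one] at hj
    norm_num at hj
  obtain ⟨k, hk⟩ := h.conj _ hc hne
  exact ⟨k * c, by rw [← hk]; group⟩

/-- The possible orders. -/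
theorem Fused.card_cases {t u : K} (h : Fused t u) (h8 : ¬ 8 ∣ Nat.card K) :
    Nat.card K = 12 ∨ Nat.card K = 60 := by
  have : Fintype K := Fintype.ofFinite K
  exact FourCent.card_cases t h.ht h.card h.conj h8

/-- The case of order twelve. -/
theorem Fused.equiv_alt_four {t u : K} (h : Fused t u) (h8 : ¬ 8 ∣ Nat.card K)
    (hc : Nat.card K = 12) : Nonempty (K ≃* alternatingGroup (Fin 4)) := by
  apply Cfsg.Agent.S0228.result hc
  intro z hz hzc
  have h1 := h.card_centralizer (h.conj_of_involution h8 z hz)
  have h2 : Subgroup.centralizer ({z} : Set K) = ⊤ := by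
    rw [eq_top_iff]
    intro g _
    rw [Subgroup.mem_centralizer_singleton_iff]
    exact (Subgroup.mem_center_iff.1 hzc g)
  rw [h2, Subgroup.card_top, hc] at h1
  norm_num at h1

/-- The size of the class of `t`. -/
theorem card_eq_mul_card_conj (t : K) :
    Nat.card K = Nat.card (Subgroup.centralizer ({t} : Set K)) * Nat.card {c : K // IsConj t c} := by
  classical
  have : Fintype K := Fintype.ofFinite K
  have : Fintype {c : K // IsConj t c} := Fintype.ofFinite _
  let f : K → {c : K // IsConj t c} := fun y => ⟨y * t * y⁻¹, isConj_iff.2 ⟨y, rfl⟩⟩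
  rw [← Nat.card_congr (Equiv.sigmaFiberEquiv f), Nat.card_sigma]
  have hfib : ∀ b : {c : K // IsConj t c}, Nat.card {a : K // f a = b} =
      Nat.card (Subgroup.centralizer ({t} : Set K)) := by
    intro b
    rw [← Cfsg.Agent.Helper24.card_conj_eq_of_isConj b.2]
    exact Nat.card_congr (Equiv.subtypeEquivRight (fun a => Subtype.ext_iff))
  rw [Finset.sum_congr rfl (fun b _ => hfib b), Finset.sum_const, Finset.card_univ,
    smul_eq_mul, Nat.card_eq_fintype_card (α := {c : K // IsConj t c}), mul_comm]

/-- The case of order sixty: simplicity. -/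
theorem Fused.isSimpleGroup {t u : K} (h : Fused t u) (h8 : ¬ 8 ∣ Nat.card K)
    (hc : Nat.card K = 60) : IsSimpleGroup K := by
  have hF : Fact (Nat.Prime 2) := ⟨Nat.prime_two⟩
  have hF5 : Fact (Nat.Prime 5) := ⟨by norm_num⟩
  have ht1 : t ≠ 1 := by
    intro h1
    have := h.ht
    rw [h1, orderOf_one] at this
    norm_num at this
  have hnt : Nontrivial K := ⟨⟨t, 1, ht1⟩⟩
  have hclass : Nat.card {c : K // IsConj t c} = 15 := by
    have := card_eq_mul_card_conj t
    rw [hc, h.card] at this
    omega
  refine ⟨fun N hN => ?_⟩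
  by_cases hpar : 2 ∣ Nat.card N
  · right
    obtain ⟨x, hx⟩ := exists_prime_orderOf_dvd_card' 2 hpar
    have hx2 : orderOf (x : K) = 2 := by rw [Subgroup.orderOf_coe]; exact hx
    obtain ⟨k, hk⟩ := h.conj_of_involution h8 _ hx2
    have htN : t ∈ N := by rw [← hk]; exact hN.conj_mem _ x.2 _
    have hclassN : ∀ c : K, IsConj t c → c ∈ N := by
      intro c hcc
      obtain ⟨g, hg⟩ := isConj_iff.1 hcc
      rw [← hg]
      exact hN.conj_mem _ htN _
    have hVN : Subgroup.centralizer ({t} : Set K) ≤ N := by
      intro c hcV
      by_cases hc1 : c = 1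
      · rw [hc1]; exact N.one_mem
      · obtain ⟨g, hg⟩ := h.conj c (Subgroup.mem_centralizer_singleton_iff.1 hcV) hc1
        apply hclassN
        exact isConj_iff.2 ⟨g⁻¹, by rw [← hg]; group⟩
    have h4 : 4 ∣ Nat.card N := by
      rw [← h.card]
      exact Subgroup.card_dvd_of_le hVN
    have h16 : 16 ≤ Nat.card N := by
      let φ : Option {c : K // IsConj t c} → N := fun o =>
        match o with
        | none => 1
        | some c => ⟨c.1, hclassN c.1 c.2⟩
      have hφ : Function.Injective φ := by
        intro a b hab
        have hne : ∀ c : {c : K // IsConj t c}, (c : K) ≠ 1 := by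
          intro c hc1
          have := c.2
          rw [hc1, isConj_one_left] at this
          exact ht1 this
        cases a with
        | none =>
          cases b with
          | none => rfl
          | some c =>
            exfalso
            have := congrArg (fun z : N => (z : K)) hab
            exact hne c this.symm
        | some a =>
          cases b with
          | none =>
            exfalso
            have := congrArg (fun z : N => (z : K)) hab
            exact hne a this
          | some c =>
            have := congrArg (fun z : N => (z : K)) hab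
            exact congrArg some (Subtype.ext this)
      have := Nat.card_le_card_of_injective φ hφ
      rw [Finite.card_option, hclass] at this
      exact this
    have hdvd : Nat.card N ∣ 60 := by rw [← hc]; exact Subgroup.card_subgroup_dvd_card N
    obtain ⟨b, hb⟩ := h4
    have hcases : Nat.card N = 20 ∨ Nat.card N = 60 := by
      rw [hb] at hdvd h16 ⊢
      have hb15 : b ∣ 15 := by
        have : 4 * b ∣ 4 * 15 := by simpa using hdvd
        exact Nat.dvd_of_mul_dvd_mul_left (by norm_num) this
      have hble : b ≤ 15 := Nat.le_of_dvd (by norm_num) hb15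
      interval_cases b <;> omega
    rcases hcases with h20 | h60
    · exfalso
      obtain ⟨Q⟩ : Nonempty (Sylow 5 N) := inferInstance
      have hQ : Nat.card Q = 5 := by
        have := Cfsg.Agent.Helper2.sylow_card_of_card_eq (p := 5) (a := 1) (m := 4) Q
          (by rw [h20]; norm_num) (by norm_num)
        simpa using this
      have hidx : (Q : Subgroup N).index = 4 := by
        have := (Q : Subgroup N).card_mul_index
        rw [hQ, h20] at this
        omega
      have h1 := card_sylow_modEq_one 5 N
      have h2 := Sylow.card_dvd_index Q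
      rw [hidx] at h2
      have h3 : Nat.card (Sylow 5 N) = 1 := by
        have hle := Nat.le_of_dvd (by norm_num) h2
        unfold Nat.ModEq at h1
        interval_cases (Nat.card (Sylow 5 N)) <;> omega
      have hsub : Subsingleton (Sylow 5 N) := (Nat.card_eq_one_iff_unique.1 h3).1
      have hQn : (Q : Subgroup N).Normal := Sylow.normal_of_subsingleton Q
      have hQc : (Q : Subgroup N).Characteristic := Sylow.characteristic_of_normal Q hQn
      have hnorm : ((Q : Subgroup N).map N.subtype).Normal :=
        ConjAct.normal_of_characteristic_of_normal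
      have hcard5 : Nat.card ((Q : Subgroup N).map N.subtype) = 5 := by
        rw [Subgroup.card_map_of_injective N.subtype_injective]
        exact hQ
      have := h.odd_normal_eq_bot ((Q : Subgroup N).map N.subtype) (by rw [hcard5]; decide)
      rw [this, Subgroup.card_bot] at hcard5
      norm_num at hcard5
    · apply (Subgroup.card_eq_iff_eq_top N).1
      rw [h60, hc]
  · left
    exact h.odd_normal_eq_bot N (Nat.odd_iff.2 (Nat.two_dvd_ne_zero.1 hpar))

/-- The case of order sixty. -/
theorem Fused.equiv_alt_five {t u : K} (h : Fused t u) (h8 : ¬ 8 ∣ Nat.card K)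
    (hc : Nat.card K = 60) : Nonempty (K ≃* alternatingGroup (Fin 5)) := by
  have := h.isSimpleGroup h8 hc
  exact Cfsg.Agent.Helper2.simple_sixty_equiv_alternating hc

/-- **Main theorem**: a finite group with an involution centralizer of order four and order not
divisible by eight has a normal `2`-complement or is `A₄` or `A₅`. -/
theorem main (t : K) (ht : orderOf t = 2)
    (hC : Nat.card (Subgroup.centralizer ({t} : Set K)) = 4) (h8 : ¬ 8 ∣ Nat.card K) :
    Cfsg.HasNormalPComplement 2 K ∨ Nonempty (K ≃* alternatingGroup (Fin 4)) ∨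
      Nonempty (K ≃* alternatingGroup (Fin 5)) := by
  rcases complement_or_fused t ht hC h8 with h1 | ⟨u, h⟩
  · exact Or.inl h1
  · right
    rcases h.card_cases h8 with hc | hc
    · exact Or.inl (h.equiv_alt_four h8 hc)
    · exact Or.inr (h.equiv_alt_five h8 hc)

/-- The main theorem with the structural information kept. -/
theorem main' (t : K) (ht : orderOf t = 2)
    (hC : Nat.card (Subgroup.centralizer ({t} : Set K)) = 4) (h8 : ¬ 8 ∣ Nat.card K) :
    Cfsg.HasNormalPComplement 2 K ∨ (∃ u : K, Fused t u ∧ Nat.card K = 12) ∨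
      (∃ u : K, Fused t u ∧ Nat.card K = 60) := by
  rcases complement_or_fused t ht hC h8 with h1 | ⟨u, h⟩
  · exact Or.inl h1
  · right
    rcases h.card_cases h8 with hc | hc
    · exact Or.inl ⟨u, h, hc⟩
    · exact Or.inr ⟨u, h, hc⟩

end FourCent

end Cfsg.Agent.Helper16
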