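import Mathlib
import Cfsg.Agent.Lib.Helper2.PermIso

/-!
# Recognizing symmetric groups through the action on Sylow subgroups of a normal subgroup
(helper16's library)
-/

set_option autoImplicit false

namespace Cfsg.Agent.Helper16

open Equiv

/-- The conjugation action of `G` on the Sylow subgroups of a normal subgroup agrees with the
action of the subgroup itself. -/
theorem conjAct_smul_sylow {G : Type*} [Group G] (M : Subgroup G) [hM : M.Normal] {p : ℕ}
    (x : M) (P : Sylow p M) : (ConjAct.toConjAct (x : G)) • P = x • P := by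
  apply Sylow.ext
  rw [Sylow.pointwise_smul_def, Sylow.smul_def, Sylow.pointwise_smul_def]
  ext y
  rw [Subgroup.mem_smul_pointwise_iff_exists, Subgroup.mem_smul_pointwise_iff_exists]
  constructor
  · rintro ⟨q, hq, rfl⟩
    refine ⟨q, hq, ?_⟩
    apply Subtype.ext
    rw [MulAut.smul_def, MulAut.conj_apply, ConjAct.Subgroup.val_conj_smul, ConjAct.smul_def]
    simp
  · rintro ⟨q, hq, rfl⟩
    refine ⟨q, hq, ?_⟩
    apply Subtype.ext
    rw [MulAut.smul_def, MulAut.conj_apply, ConjAct.Subgroup.val_conj_smul, ConjAct.smul_def]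
    simp

/-- If `G` acts faithfully on the `n` Sylow `p`-subgroups of a normal subgroup containing its
own centralizer and has order `n!`, then `G` is the symmetric group of degree `n`. -/
theorem equiv_perm_of_normal {G : Type*} [Group G] [Finite G] (M : Subgroup G) [hM : M.Normal]
    (p : ℕ) [Fact p.Prime] (n : ℕ) (hn : Nat.card (Sylow p M) = n)
    (hfaith : ∀ m : M, (∀ P : Sylow p M, m • P = P) → m = 1)
    (hcent : ∀ c : G, (∀ m ∈ M, c * m = m * c) → c ∈ M)
    (hcard : Nat.card G = n.factorial) : Nonempty (G ≃* Perm (Fin n)) := by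
  classical
  have : Fintype (Sylow p M) := Fintype.ofFinite _
  let φ : G →* Perm (Sylow p M) :=
    (MulAction.toPermHom (ConjAct G) (Sylow p M)).comp
      (ConjAct.toConjAct (G := G)).toMonoidHom
  have hφ : ∀ (g : G) (P : Sylow p M), φ g P = (ConjAct.toConjAct g) • P := fun g P => rfl
  have hker_mem : ∀ c : G, (hc : c ∈ M) → φ c = 1 → c = 1 := by
    intro c hc h1
    have := hfaith ⟨c, hc⟩ (fun P => by
      rw [← conjAct_smul_sylow M ⟨c, hc⟩ P]
      show φ c P = P
      rw [h1]; rfl)
    exact congrArg Subtype.val this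
  have hinj : Function.Injective φ := by
    rw [injective_iff_map_eq_one]
    intro g hg
    have hgM : g ∈ M := by
      apply hcent
      intro m hm
      have hcM : g * m * g⁻¹ * m⁻¹ ∈ M := M.mul_mem (hM.conj_mem m hm g) (M.inv_mem hm)
      have hc1 : φ (g * m * g⁻¹ * m⁻¹) = 1 := by
        rw [map_mul, map_mul, map_mul, map_inv, hg]
        simp
      have := hker_mem _ hcM hc1
      calc g * m = g * m * g⁻¹ * m⁻¹ * (m * g) := by group
        _ = m * g := by rw [this, one_mul]
    exact hker_mem g hgM hg
  refine Cfsg.Agent.Helper2.equiv_perm_of_injective n ?_ φ hinj hcard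
  rw [← Nat.card_eq_fintype_card, hn]

end Cfsg.Agent.Helper16
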