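import Mathlib
import Cfsg.Agent.Lib.Helper16.Simple360b

/-!
# Simple groups of order 360, part c: the two-point stabilizer
-/

set_option autoImplicit false
set_option linter.unusedSectionVars false
set_option linter.style.haveILetI false

namespace Cfsg.Agent.Helper16

namespace O360

variable {G : Type*} [Group G] [Finite G]

theorem normalizer_sylow3_card [IsSimpleGroup G] (h : Nat.card G = 360) (R : Sylow 3 G) :
    Nat.card (Subgroup.normalizer (R : Set G)) = 36 := by
  have hF : Fact (Nat.Prime 3) := ⟨Nat.prime_three⟩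
  have h1 := Sylow.card_eq_index_normalizer R
  have h2 := (Subgroup.normalizer (R : Set G)).card_mul_index
  rw [← h1, card_sylow_three h, h] at h2
  omega

/-- An involution normalizing a Sylow 3-subgroup inverts it. -/
theorem involution_inverts (h : Nat.card G = 360) (hD : DihCent G) (P : Sylow 3 G) {j : G}
    (hjN : j ∈ Subgroup.normalizer (P : Set G)) (hj : orderOf j = 2) {x : G} (hx : x ∈ P) :
    j * x * j⁻¹ = x⁻¹ := by
  have hj2 : j * j = 1 := by rw [← pow_two, ← hj]; exact pow_orderOf_eq_one j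
  have hjinv : j⁻¹ = j := inv_eq_of_mul_eq_one_left hj2
  have hx' : j * x * j⁻¹ ∈ (P : Subgroup G) := (Subgroup.mem_normalizer_iff.1 hjN x).1 hx
  set y : G := x * (j * x * j⁻¹) with hy
  have hyP : y ∈ (P : Subgroup G) := P.mul_mem hx hx'
  have hcomm : y * j = j * y := by
    have h1 : j * y * j⁻¹ = y := by
      rw [hy]
      calc j * (x * (j * x * j⁻¹)) * j⁻¹ = (j * x * j⁻¹) * (j * j * x * (j⁻¹ * j⁻¹)) := by group
        _ = (j * x * j⁻¹) * x := by rw [hjinv, hj2, one_mul, mul_one]
        _ = x * (j * x * j⁻¹) := sylow3_comm h P hx' hx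
    calc y * j = j * y * j⁻¹ * j := by rw [h1]
      _ = j * y := by group
  have hy1 := eq_one_of_commute_involution hD hj hcomm (by decide : Odd 9) (sylow3_pow_nine h P hyP)
  rw [hy] at hy1
  exact (eq_inv_of_mul_eq_one_right hy1)

set_option maxHeartbeats 800000 in
/-- The frame: an element of order four fixing two Sylow 3-subgroups, which generates the
two-point stabilizer. -/
theorem exists_frame [IsSimpleGroup G] (h : Nat.card G = 360) (hD : DihCent G)
    (h15 : ∀ g : G, orderOf g ≠ 15) (P : Sylow 3 G) :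
    ∃ (hh : G) (Q0 : Sylow 3 G), orderOf hh = 4 ∧ hh • P = P ∧ hh • Q0 = Q0 ∧ Q0 ≠ P ∧
      (∀ w : G, w • P = P → w • Q0 = Q0 → w ∈ Subgroup.zpowers hh) ∧
      (∀ x ∈ P, hh ^ 2 * x * (hh ^ 2)⁻¹ = x⁻¹) := by
  classical
  have hF2 : Fact (Nat.Prime 2) := ⟨Nat.prime_two⟩
  have hF3 : Fact (Nat.Prime 3) := ⟨Nat.prime_three⟩
  set N : Subgroup G := Subgroup.normalizer (P : Set G) with hN
  have hN36 : Nat.card N = 36 := normalizer_sylow3_card h P
  have hP9 := sylow3_card h P
  -- a nonidentity element of `P`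
  obtain ⟨x0, hx0P, hx01⟩ : ∃ x0 : G, x0 ∈ P ∧ x0 ≠ 1 := by
    obtain ⟨x, hx⟩ := exists_prime_orderOf_dvd_card' (G := P) 3 (by rw [hP9]; norm_num)
    refine ⟨x, x.2, ?_⟩
    intro h1
    have : orderOf (x : G) = 3 := by rw [Subgroup.orderOf_coe, hx]
    rw [h1, orderOf_one] at this
    norm_num at this
  -- an element of order four
  obtain ⟨hh, hhN, hoh⟩ : ∃ hh : G, hh ∈ N ∧ orderOf hh = 4 := by
    by_contra hno
    push Not at hno
    obtain ⟨K0, hK0⟩ := Sylow.exists_subgroup_card_pow_prime (G := N) 2 (n := 2)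
      (by rw [hN36]; norm_num)
    set K : Subgroup G := K0.map N.subtype with hK
    have hK4 : Nat.card K = 4 := by
      rw [hK, Subgroup.card_map_of_injective N.subtype_injective, hK0]; norm_num
    have hKN : K ≤ N := by
      rw [hK]
      rintro _ ⟨k, -, rfl⟩
      exact k.2
    have hsq : ∀ k ∈ K, k ^ 2 = 1 := by
      intro k hk
      have hdvd := Subgroup.orderOf_dvd_natCard _ hk
      rw [hK4] at hdvd
      have hne := hno k (hKN hk)
      have : orderOf k ∣ 2 ^ 2 := by simpa using hdvd
      obtain ⟨e, he, he'⟩ := (Nat.dvd_prime_pow Nat.prime_two).1 this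
      have he2 : e ≤ 1 := by
        by_contra hcon
        have : e = 2 := by omega
        rw [this] at he'
        exact hne (by simpa using he')
      have : orderOf k ∣ 2 := by
        rw [he']
        calc 2 ^ e ∣ 2 ^ 1 := pow_dvd_pow 2 he2
          _ = 2 := by norm_num
      exact orderOf_dvd_iff_pow_eq_one.1 this
    have hinvol : ∀ k ∈ K, k ≠ 1 → orderOf k = 2 := fun k hk hk1 =>
      orderOf_eq_prime (hsq k hk) hk1
    have hKne : ∃ a ∈ K, a ≠ 1 := by
      by_contra hcon
      push Not at hcon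
      have : K = ⊥ := by
        rw [eq_bot_iff]
        intro k hk
        rw [Subgroup.mem_bot]
        exact hcon k hk
      rw [this] at hK4
      simp at hK4
    obtain ⟨a, haK, ha1⟩ := hKne
    have hsub : (K : Set G) ⊆ {1, a} := by
      intro b hb
      by_contra hcon
      rw [Set.mem_insert_iff, Set.mem_singleton_iff] at hcon
      push Not at hcon
      obtain ⟨hb1, hba⟩ := hcon
      have hab1 : a * b ≠ 1 := by
        intro hab
        apply hba
        have ha2 := hsq a haK
        have : b = a⁻¹ := (eq_inv_of_mul_eq_one_right hab)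
        rw [this, inv_eq_iff_mul_eq_one, ← pow_two, ha2]
      have hinvK : ∀ k ∈ K, k ≠ 1 → ∀ x ∈ P, k * x * k⁻¹ = x⁻¹ := fun k hk hk1 x hx =>
        involution_inverts h hD P (hKN hk) (hinvol k hk hk1) hx
      have h1 : a * b * x0 * (a * b)⁻¹ = x0 := by
        calc a * b * x0 * (a * b)⁻¹ = a * (b * x0 * b⁻¹) * a⁻¹ := by group
          _ = a * x0⁻¹ * a⁻¹ := by rw [hinvK b hb hb1 x0 hx0P]
          _ = (x0⁻¹)⁻¹ := hinvK a haK ha1 _ (P.inv_mem hx0P)
          _ = x0 := inv_inv x0
      rw [hinvK (a * b) (K.mul_mem haK hb) hab1 x0 hx0P] at h1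
      have h2 : x0 ^ 2 = 1 := by
        rw [pow_two]
        nth_rewrite 1 [← h1]
        exact inv_mul_cancel x0
      have h9 := sylow3_pow_nine h P hx0P
      apply hx01
      calc x0 = x0 ^ 9 * ((x0 ^ 2) ^ 4)⁻¹ := by group
        _ = 1 := by rw [h9, h2]; simp
    have hle : Nat.card K ≤ 2 := by
      rw [← SetLike.coe_sort_coe, Nat.card_coe_set_eq]
      calc (K : Set G).ncard ≤ ({1, a} : Set G).ncard :=
            Set.ncard_le_ncard hsub (Set.toFinite _)
        _ ≤ 2 := Set.ncard_insert_le 1 {a} |>.trans (by rw [Set.ncard_singleton])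
    rw [hK4] at hle
    norm_num at hle
  have hhP : hh • P = P := Sylow.smul_eq_iff_mem_normalizer.2 hhN
  have hh4 : hh ^ 4 = 1 := by rw [← hoh]; exact pow_orderOf_eq_one hh
  -- a second fixed point
  obtain ⟨Q0, hQ0, hhQ⟩ : ∃ Q0 : Sylow 3 G, Q0 ≠ P ∧ hh • Q0 = Q0 := by
    by_contra hno
    push Not at hno
    have hpg : IsPGroup 2 (Subgroup.zpowers hh) :=
      IsPGroup.of_card (n := 2) (by rw [Nat.card_zpowers, hoh]; norm_num)
    have hmod := hpg.card_modEq_card_fixedPoints (Sylow 3 G)
    have hfix : MulAction.fixedPoints (Subgroup.zpowers hh) (Sylow 3 G) = {P} := by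
      ext Q
      rw [MulAction.mem_fixedPoints, Set.mem_singleton_iff]
      constructor
      · intro hQ
        by_contra hne
        exact hno Q hne (hQ ⟨hh, Subgroup.mem_zpowers hh⟩)
      · rintro rfl g
        have hg : (g : G) ∈ Subgroup.normalizer (Q : Set G) :=
          (Subgroup.zpowers_le.2 hhN) g.2
        exact Sylow.smul_eq_iff_mem_normalizer.2 hg
    rw [hfix, card_sylow_three h, Nat.card_coe_set_eq, Set.ncard_singleton] at hmod
    exact absurd hmod (by decide)
  refine ⟨hh, Q0, hoh, hhP, hhQ, hQ0, ?_, ?_⟩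
  · -- the two-point stabilizer
    set W : Subgroup G := N ⊓ Subgroup.normalizer (Q0 : Set G) with hW
    have hWord : ∀ w ∈ W, w ^ 4 = 1 := by
      intro w hw
      have hdvd := Subgroup.orderOf_dvd_natCard _ hw.1
      rw [hN36] at hdvd
      have h3 : ¬ 3 ∣ orderOf w := by
        intro h3
        have hox : orderOf w ≠ 0 := (orderOf_pos w).ne'
        have ho3 := orderOf_pow_orderOf_div hox h3
        set y : G := w ^ (orderOf w / 3) with hy
        have hyW : y ∈ W := W.pow_mem hw _
        have hpg : IsPGroup 3 (Subgroup.zpowers y) :=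
          IsPGroup.of_card (n := 1) (by rw [Nat.card_zpowers, ho3]; norm_num)
        have h1 := hpg.inf_normalizer_sylow P
        have hyP : y ∈ (P : Subgroup G) := (h1.le ⟨Subgroup.mem_zpowers y, hyW.1⟩).2
        have hy1 : y ≠ 1 := by
          intro h1'
          rw [h1', orderOf_one] at ho3
          norm_num at ho3
        exact hQ0 (sylow3_free h hD h15 P Q0 hyP hy1
          (Sylow.smul_eq_iff_mem_normalizer.2 hyW.2))
      have hcop : Nat.Coprime (orderOf w) 9 := by
        have : Nat.Coprime (orderOf w) (3 ^ 2) :=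
          Nat.Coprime.pow_right 2 (Nat.coprime_comm.1
            ((Nat.Prime.coprime_iff_not_dvd Nat.prime_three).2 h3))
        exact this
      have h4 : orderOf w ∣ 4 := hcop.dvd_of_dvd_mul_right (by simpa using hdvd)
      exact orderOf_dvd_iff_pow_eq_one.1 h4
    have hWp : IsPGroup 2 W := by
      intro w
      refine ⟨2, ?_⟩
      apply Subtype.ext
      rw [Subgroup.coe_pow]
      have := hWord w w.2
      simpa using this
    obtain ⟨k, hk⟩ := IsPGroup.iff_card.1 hWp
    have hWdvd : Nat.card W ∣ 36 := by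
      rw [← hN36]
      exact Subgroup.card_dvd_of_le inf_le_left
    have hk2 : k ≤ 2 := by
      by_contra hk3
      push Not at hk3
      have : 2 ^ 3 ∣ 36 := by
        refine dvd_trans (pow_dvd_pow 2 hk3) ?_
        rw [← hk]; exact hWdvd
      norm_num at this
    have hhW : hh ∈ W := ⟨hhN, Sylow.smul_eq_iff_mem_normalizer.1 hhQ⟩
    have hWh : Subgroup.zpowers hh = W := by
      apply Subgroup.eq_of_le_of_card_ge (Subgroup.zpowers_le.2 hhW)
      rw [Nat.card_zpowers, hoh, hk]
      calc 2 ^ k ≤ 2 ^ 2 := Nat.pow_le_pow_right (by norm_num) hk2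
        _ = 4 := by norm_num
    intro w hwP hwQ
    rw [hWh]
    exact ⟨Sylow.smul_eq_iff_mem_normalizer.1 hwP, Sylow.smul_eq_iff_mem_normalizer.1 hwQ⟩
  · intro x hx
    have ho2 : orderOf (hh ^ 2) = 2 := by
      rw [orderOf_pow' hh (by norm_num : (2 : ℕ) ≠ 0), hoh]
      norm_num
    exact involution_inverts h hD P (N.pow_mem hhN 2) ho2 hx

end O360

end Cfsg.Agent.Helper16
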