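import Mathlib
import Cfsg.Agent.Lib.Helper2.PSL29Data
import Cfsg.Agent.Lib.Helper16.Simple360c

/-!
# Simple groups of order 360, part d: translations indexed by the field with nine elements
-/

set_option autoImplicit false
set_option linter.unusedSectionVars false
set_option linter.style.haveILetI false

namespace Cfsg.Agent.Helper16

namespace O360

open Cfsg.Agent.Helper2.P29

variable {G : Type*} [Group G]

/-- The imaginary unit of `F9`. -/
def iF : F9 := ⟨0, 1⟩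

theorem pow_fin3_add {g : G} (hg : g ^ 3 = 1) (a b : Fin 3) :
    g ^ (a + b).val = g ^ a.val * g ^ b.val := by
  rw [← pow_add, Fin.val_add, ← pow_eq_pow_mod _ hg]

theorem pow_fin3_neg {g : G} (hg : g ^ 3 = 1) (a : Fin 3) :
    g ^ (-a).val = (g ^ a.val)⁻¹ := by
  rw [eq_inv_iff_mul_eq_one, ← pow_fin3_add hg, neg_add_cancel]
  simp

/-- The translation element indexed by `b`. -/
def xel (e1 e2 : G) (b : F9) : G := e1 ^ b.re.val * e2 ^ b.im.val

theorem xel_zero (e1 e2 : G) : xel e1 e2 0 = 1 := by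
  show e1 ^ (0 : Fin 3).val * e2 ^ (0 : Fin 3).val = 1
  simp

theorem xel_one (e1 e2 : G) : xel e1 e2 1 = e1 := by
  show e1 ^ (1 : Fin 3).val * e2 ^ (0 : Fin 3).val = e1
  simp

theorem xel_iF (e1 e2 : G) : xel e1 e2 iF = e2 := by
  show e1 ^ (0 : Fin 3).val * e2 ^ (1 : Fin 3).val = e2
  simp

section

variable {e1 e2 : G} (h1 : e1 ^ 3 = 1) (h2 : e2 ^ 3 = 1) (hc : e1 * e2 = e2 * e1)
include h1 h2 hc

theorem xel_add (b c : F9) : xel e1 e2 (b + c) = xel e1 e2 b * xel e1 e2 c := by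
  show e1 ^ (b.re + c.re).val * e2 ^ (b.im + c.im).val =
    e1 ^ b.re.val * e2 ^ b.im.val * (e1 ^ c.re.val * e2 ^ c.im.val)
  rw [pow_fin3_add h1, pow_fin3_add h2]
  have hcomm : Commute (e2 ^ b.im.val) (e1 ^ c.re.val) :=
    ((Commute.pow_pow (show Commute e1 e2 from hc) c.re.val b.im.val)).symm
  calc e1 ^ b.re.val * e1 ^ c.re.val * (e2 ^ b.im.val * e2 ^ c.im.val)
      = e1 ^ b.re.val * (e1 ^ c.re.val * e2 ^ b.im.val) * e2 ^ c.im.val := by group
    _ = e1 ^ b.re.val * (e2 ^ b.im.val * e1 ^ c.re.val) * e2 ^ c.im.val := by rw [hcomm.eq]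
    _ = e1 ^ b.re.val * e2 ^ b.im.val * (e1 ^ c.re.val * e2 ^ c.im.val) := by group

theorem xel_neg (b : F9) : xel e1 e2 (-b) = (xel e1 e2 b)⁻¹ := by
  rw [eq_inv_iff_mul_eq_one, ← xel_add h1 h2 hc, neg_add_cancel, xel_zero]

theorem xel_mem {P : Subgroup G} (he1 : e1 ∈ P) (he2 : e2 ∈ P) (b : F9) : xel e1 e2 b ∈ P :=
  P.mul_mem (P.pow_mem he1 _) (P.pow_mem he2 _)

theorem xel_eq_one (ho1 : orderOf e1 = 3) (hne : e2 ∉ Subgroup.zpowers e1) {b : F9}
    (hb : xel e1 e2 b = 1) : b = 0 := by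
  have hb' : e1 ^ b.re.val * e2 ^ b.im.val = 1 := hb
  have hmem : e2 ^ b.im.val ∈ Subgroup.zpowers e1 := by
    have : e2 ^ b.im.val = (e1 ^ b.re.val)⁻¹ := eq_inv_of_mul_eq_one_right hb'
    rw [this]
    exact (Subgroup.zpowers e1).inv_mem (Subgroup.pow_mem _ (Subgroup.mem_zpowers e1) _)
  have him : b.im = 0 := by
    have hcases : ∀ s : Fin 3, s = 0 ∨ s = 1 ∨ s = 2 := by decide
    rcases hcases b.im with hs | hs | hs
    · exact hs
    · exfalso
      rw [hs] at hmem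
      apply hne
      simpa using hmem
    · exfalso
      rw [hs] at hmem
      apply hne
      have h4 : e2 = (e2 ^ 2) ^ 2 := by
        calc e2 = e2 ^ 3 * e2 := by rw [h2, one_mul]
          _ = (e2 ^ 2) ^ 2 := by group
      rw [h4]
      exact Subgroup.pow_mem _ (by simpa using hmem) 2
  rw [him] at hb'
  simp only [Fin.val_zero, pow_zero, mul_one] at hb'
  have hre : b.re = 0 := by
    have hdvd := orderOf_dvd_of_pow_eq_one hb'
    rw [ho1] at hdvd
    have hlt : b.re.val < 3 := b.re.2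
    have : b.re.val = 0 := Nat.eq_zero_of_dvd_of_lt hdvd hlt
    exact Fin.ext this
  cases b
  simp only at him hre
  rw [him, hre]
  rfl

/-- Conjugation by the element of order four is multiplication by `i`. -/
theorem xel_conj {hh : G} (hh1 : hh * e1 * hh⁻¹ = e2) (hh2 : hh * e2 * hh⁻¹ = e1⁻¹) (b : F9) :
    hh * xel e1 e2 b * hh⁻¹ = xel e1 e2 (iF * b) := by
  have hmul : iF * b = ⟨-b.im, b.re⟩ := by
    revert b; decide
  rw [hmul]
  show hh * (e1 ^ b.re.val * e2 ^ b.im.val) * hh⁻¹ = e1 ^ (-b.im).val * e2 ^ b.re.val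
  rw [pow_fin3_neg h1]
  calc hh * (e1 ^ b.re.val * e2 ^ b.im.val) * hh⁻¹
      = (hh * e1 * hh⁻¹) ^ b.re.val * (hh * e2 * hh⁻¹) ^ b.im.val := by
        rw [conj_pow, conj_pow]; group
    _ = e2 ^ b.re.val * (e1 ^ b.im.val)⁻¹ := by rw [hh1, hh2, inv_pow]
    _ = (e1 ^ b.im.val)⁻¹ * e2 ^ b.re.val := by
        have hcomm : Commute (e2 ^ b.re.val) (e1 ^ b.im.val)⁻¹ :=
          ((Commute.pow_pow (show Commute e1 e2 from hc) b.im.val b.re.val).symm).inv_right
        exact hcomm.eq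

end

end O360

end Cfsg.Agent.Helper16
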