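import Mathlib
import Cfsg.Agent.Lib.Helper2.PSL29Data
import Cfsg.Agent.Lib.Helper16.Simple360d

/-!
# Simple groups of order 360, part e: the finite computation pinning down the inversion
-/

set_option autoImplicit false

namespace Cfsg.Agent.Helper16

namespace O360

open Cfsg.Agent.Helper2.P29

/-- A fixed nonsquare of `F9`. -/
def n0F : F9 := ⟨1, 1⟩

/-- The candidate inversion maps. -/
def tauF (c c' : F9) (z : F9) : F9 := if z ^ 4 = 1 then c * z⁻¹ else c' * n0F * z⁻¹

/-- The permutation of the projective line attached to an inversion map. -/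
def sgF (f : F9 → F9) : Option F9 → Option F9
  | none => some 0
  | some z => if z = 0 then none else some (f z)

/-- Translations of the projective line. -/
def trF (b : F9) : Option F9 → Option F9
  | none => none
  | some z => some (z + b)

/-- Multiplication by powers of `i` on the projective line. -/
def scF (k : ℕ) : Option F9 → Option F9
  | none => none
  | some z => some (iF ^ k * z)

set_option maxRecDepth 100000 in
theorem pure_structure : ∀ c c' : F9, c ≠ 0 → c' ≠ 0 →
    (∃ b : F9, ∃ k : Fin 4, ∀ q : Option F9,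
      sgF (tauF c c') (trF (-c) (sgF (tauF c c') (trF 1 (sgF (tauF c c') q)))) =
        trF b (scF k.val q)) →
    c ^ 4 = 1 ∧ c' * n0F = c := by
  decide +kernel

theorem sgF_congr {f g : F9 → F9} (hfg : ∀ z, z ≠ 0 → f z = g z) (q : Option F9) :
    sgF f q = sgF g q := by
  cases q with
  | none => rfl
  | some z =>
    show (if z = 0 then none else some (f z)) = (if z = 0 then none else some (g z))
    by_cases hz : z = 0
    · rw [if_pos hz, if_pos hz]
    · rw [if_neg hz, if_neg hz, hfg z hz]

theorem f9_orbit : ∀ z : F9, z ≠ 0 →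
    (z ^ 4 = 1 ∧ ∃ k : Fin 4, z = iF ^ k.val * 1 ∧ (-iF) ^ k.val = z⁻¹) ∨
    (z ^ 4 ≠ 1 ∧ ∃ k : Fin 4, z = iF ^ k.val * n0F ∧ (-iF) ^ k.val = n0F * z⁻¹) := by
  decide +kernel

/-- An `i`-equivariant map on the nonzero elements is one of the candidate inversion maps. -/
theorem tau_of_equivariant (f : F9 → F9) (hf : ∀ z, z ≠ 0 → f (iF * z) = -iF * f z) :
    ∀ z, z ≠ 0 → f z = tauF (f 1) (f n0F) z := by
  have hpow : ∀ (k : ℕ) (z : F9), z ≠ 0 → f (iF ^ k * z) = (-iF) ^ k * f z := by
    intro k
    induction k with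
    | zero => intro z _; simp
    | succ k ih =>
      intro z hz
      have hne : iF ^ k * z ≠ 0 := mul_ne_zero (pow_ne_zero _ (by decide)) hz
      rw [pow_succ', mul_assoc, hf _ hne, ih z hz, pow_succ']
      ring
  intro z hz
  rcases f9_orbit z hz with ⟨h4, k, hk, hk'⟩ | ⟨h4, k, hk, hk'⟩
  · unfold tauF
    rw [if_pos h4]
    nth_rewrite 1 [hk]
    rw [hpow k.val 1 (by decide), hk']
    ring
  · unfold tauF
    rw [if_neg h4]
    nth_rewrite 1 [hk]
    rw [hpow k.val n0F (by decide), hk']
    ring

theorem tauF_good {c c' : F9} (hc : c' * n0F = c) (z : F9) : tauF c c' z = c * z⁻¹ := by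
  unfold tauF
  split_ifs
  · rfl
  · rw [hc]

theorem fourth_root_cases : ∀ c : F9, c ^ 4 = 1 → c = 1 ∨ c = iF ∨ c = -1 ∨ c = -iF := by
  decide +kernel

theorem iF_pow_four : iF ^ 4 = 1 := by decide +kernel

theorem a0_sq : (⟨1, 2⟩ : F9) * ⟨1, 2⟩ = iF := by decide +kernel

end O360

end Cfsg.Agent.Helper16
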