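import Mathlib
import Cfsg.Agent.Lib.Helper2.PSL29
import Cfsg.Agent.Lib.Helper2.PermIso
import Cfsg.Agent.Lib.Helper16.PSL2Recog
import Cfsg.Agent.Lib.Helper16.Simple360e

/-!
# Simple groups of order 360, part f: identification with `PSL₂(9)` and `A₆`
-/

set_option autoImplicit false
set_option linter.unusedSectionVars false
set_option linter.style.haveILetI false

namespace Cfsg.Agent.Helper16

/-- The permutation representation on the projective line induced by a labelling of a `G`-set. -/
noncomputable def labHomG {G K Ω : Type*} [Group G] [MulAction G Ω] (e : OnePoint K ≃ Ω) :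
    G →* Equiv.Perm (OnePoint K) :=
  (e.symm.permCongrHom).toMonoidHom.comp (MulAction.toPermHom G Ω)

theorem labHomG_apply {G K Ω : Type*} [Group G] [MulAction G Ω] (e : OnePoint K ≃ Ω) (g : G)
    (q : OnePoint K) : labHomG (G := G) e g q = e.symm (g • e q) := rfl

theorem labHomG_eq_of {G K Ω : Type*} [Group G] [MulAction G Ω] (e : OnePoint K ≃ Ω) (g : G)
    (σ : Equiv.Perm (OnePoint K)) (h : ∀ q, g • e q = e (σ q)) : labHomG (G := G) e g = σ := by
  ext q
  rw [labHomG_apply, h, Equiv.symm_apply_apply]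

theorem labHomG_injective {G K Ω : Type*} [Group G] [MulAction G Ω] (e : OnePoint K ≃ Ω)
    (hf : Function.Injective (MulAction.toPermHom G Ω)) :
    Function.Injective (labHomG (G := G) e) := by
  intro a b hab
  apply hf
  exact (e.symm.permCongrHom).injective hab

namespace O360

open Cfsg.Agent.Helper2.P29

variable {G : Type*} [Group G] [Finite G]

/-- The involution swapping the two base points and inverting the element of order four. -/
theorem exists_swap [IsSimpleGroup G] (h : Nat.card G = 360) (hD : DihCent G)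
    (h15 : ∀ g : G, orderOf g ≠ 15) {P Q0 : Sylow 3 G} {hh : G} (hoh : orderOf hh = 4)
    (hhP : hh • P = P) (hhQ : hh • Q0 = Q0) (hQ0 : Q0 ≠ P)
    (hW : ∀ w : G, w • P = P → w • Q0 = Q0 → w ∈ Subgroup.zpowers hh) :
    ∃ w : G, w • P = Q0 ∧ w • Q0 = P ∧ w * w = 1 ∧ w * hh * w⁻¹ = hh⁻¹ := by
  have hF3 : Fact (Nat.Prime 3) := ⟨Nat.prime_three⟩
  obtain ⟨g1, hg1⟩ := MulAction.exists_smul_eq G P Q0
  have hR : g1 • Q0 ≠ Q0 := by
    intro hR
    exact hQ0 (smul_left_cancel g1 (hR.trans hg1.symm))
  obtain ⟨y, hyQ, hy⟩ := sylow3_transitive h hD h15 Q0 (g1 • Q0) P hR hQ0.symm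
  set g : G := y * g1 with hg
  have hgP : g • P = Q0 := by
    rw [hg, mul_smul, hg1]
    exact Sylow.smul_eq_iff_mem_normalizer.2 (Subgroup.le_normalizer hyQ)
  have hgQ : g • Q0 = P := by rw [hg, mul_smul, hy]
  have hgiP : g⁻¹ • P = Q0 := by rw [inv_smul_eq_iff, hgQ]
  have hgiQ : g⁻¹ • Q0 = P := by rw [inv_smul_eq_iff, hgP]
  have hh4 : hh ^ 4 = 1 := by rw [← hoh]; exact pow_orderOf_eq_one hh
  set j : G := hh ^ 2 with hj
  have hoj : orderOf j = 2 := by
    rw [hj, orderOf_pow' hh (by norm_num : (2 : ℕ) ≠ 0), hoh]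
    norm_num
  have hjP : j • P = P := by rw [hj, pow_two, mul_smul, hhP, hhP]
  have hjQ : j • Q0 = Q0 := by rw [hj, pow_two, mul_smul, hhQ, hhQ]
  -- `g` centralizes `j`
  have hgj : g * j * g⁻¹ = j := by
    have hv := hW (g * j * g⁻¹) (by rw [mul_smul, mul_smul, hgiP, hjQ, hgQ])
      (by rw [mul_smul, mul_smul, hgiQ, hjP, hgP])
    have hfin : IsOfFinOrder hh := by
      rw [← orderOf_pos_iff, hoh]; norm_num
    rw [← hfin.mem_powers_iff_mem_zpowers] at hv
    obtain ⟨n, hn⟩ := (Submonoid.mem_powers_iff _ _).1 hv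
    have hn' : hh ^ (n % 4) = g * j * g⁻¹ := by
      rw [← hn, ← hoh, pow_mod_orderOf]
    have hov : orderOf (g * j * g⁻¹) = 2 := by
      rw [← MulAut.conj_apply, MulEquiv.orderOf_eq, hoj]
    have hlt : n % 4 < 4 := Nat.mod_lt _ (by norm_num)
    interval_cases hn4 : n % 4
    · rw [pow_zero] at hn'
      rw [← hn', orderOf_one] at hov
      norm_num at hov
    · rw [pow_one] at hn'
      rw [← hn', hoh] at hov
      norm_num at hov
    · exact hn'.symm
    · rw [← hn', orderOf_pow' hh (by norm_num : (3 : ℕ) ≠ 0), hoh] at hov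
      norm_num at hov
  obtain ⟨a', ha'⟩ := hD j hoj
  have hgC : g ∈ Subgroup.centralizer ({j} : Set G) := by
    rw [Subgroup.mem_centralizer_singleton_iff]
    calc g * j = g * j * g⁻¹ * g := by group
      _ = j * g := by rw [hgj]
  have hhC : hh ∈ Subgroup.centralizer ({j} : Set G) := by
    rw [Subgroup.mem_centralizer_singleton_iff, hj]
    group
  have hha' : hh ∈ Subgroup.zpowers a' := by
    by_contra hcon
    have := ha'.out_orderOf hhC hcon
    rw [hoh] at this
    norm_num at this
  have hzz : Subgroup.zpowers hh = Subgroup.zpowers a' := by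
    apply Subgroup.eq_of_le_of_card_ge (Subgroup.zpowers_le.2 hha')
    rw [Nat.card_zpowers, Nat.card_zpowers, hoh, ha'.hao]
    norm_num
  have hga' : g ∉ Subgroup.zpowers a' := by
    rw [← hzz]
    intro hcon
    obtain ⟨k, hk⟩ := Subgroup.mem_zpowers_iff.1 hcon
    have hN : g ∈ Subgroup.normalizer (P : Set G) := by
      rw [← hk]
      exact Subgroup.zpow_mem _ (Sylow.smul_eq_iff_mem_normalizer.1 hhP) k
    have := Sylow.smul_eq_iff_mem_normalizer.2 hN
    rw [hgP] at this
    exact hQ0 this
  refine ⟨g, hgP, hgQ, ?_, ?_⟩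
  · rw [← pow_two]; exact ha'.out_sq g hgC hga'
  · obtain ⟨k, hk⟩ := Subgroup.mem_zpowers_iff.1 hha'
    rw [← hk, ha'.conj_zpow_of_out hgC hga' k, zpow_neg]

theorem no_sq_neg_one_mod_three : ∀ a : ZMod 3, a * a + 1 ≠ 0 := by decide

/-- Viewing an element of `Option F9` as a point of the projective line. -/
def ofOpt (q : Option F9) : OnePoint F9 := q

theorem ofOpt_none : ofOpt none = OnePoint.infty := rfl

theorem ofOpt_some (z : F9) : ofOpt (some z) = (z : OnePoint F9) := rfl

theorem ofOpt_injective : Function.Injective ofOpt := fun _ _ h => h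

theorem ofOpt_surjective : Function.Surjective ofOpt := fun q => ⟨q, rfl⟩

set_option maxHeartbeats 2000000 in
/-- A simple group of order 360 whose involution centralizers are dihedral of order eight and
which has no element of order fifteen is isomorphic to `PSL₂(9)`. -/
theorem simple_360_equiv_psl [IsSimpleGroup G] (h : Nat.card G = 360) (hD : DihCent G)
    (h15 : ∀ g : G, orderOf g ≠ 15) :
    Nonempty (G ≃* Matrix.ProjectiveSpecialLinearGroup (Fin 2) F9) := by
  classical
  have hF3 : Fact (Nat.Prime 3) := ⟨Nat.prime_three⟩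
  have hn3 := card_sylow_three h
  obtain ⟨P⟩ : Nonempty (Sylow 3 G) := inferInstance
  obtain ⟨hh, Q0, hoh, hhP, hhQ, hQ0, hW, hinv⟩ := exists_frame h hD h15 P
  obtain ⟨w, hwP, hwQ, hw2, hwh⟩ := exists_swap h hD h15 hoh hhP hhQ hQ0 hW
  have hwinv : w⁻¹ = w := inv_eq_of_mul_eq_one_left hw2
  have hP9 := sylow3_card h P
  have hh4 : hh ^ 4 = 1 := by rw [← hoh]; exact pow_orderOf_eq_one hh
  have hhN : hh ∈ Subgroup.normalizer (P : Set G) := Sylow.smul_eq_iff_mem_normalizer.1 hhP
  -- the basis `e1`, `e2`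
  obtain ⟨e1, he1P, ho1⟩ : ∃ e1 : G, e1 ∈ P ∧ orderOf e1 = 3 := by
    obtain ⟨x, hx⟩ := exists_prime_orderOf_dvd_card' (G := P) 3 (by rw [hP9]; norm_num)
    exact ⟨x, x.2, by rw [Subgroup.orderOf_coe, hx]⟩
  obtain ⟨e2, hh1⟩ : ∃ e2 : G, hh * e1 * hh⁻¹ = e2 := ⟨_, rfl⟩
  have he2P : e2 ∈ (P : Subgroup G) := by
    rw [← hh1]; exact (Subgroup.mem_normalizer_iff.1 hhN e1).1 he1P
  have h1 : e1 ^ 3 = 1 := by rw [← ho1]; exact pow_orderOf_eq_one e1
  have h2 : e2 ^ 3 = 1 := by rw [← hh1, conj_pow, h1]; group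
  have hc : e1 * e2 = e2 * e1 := sylow3_comm h P he1P he2P
  have hh2 : hh * e2 * hh⁻¹ = e1⁻¹ := by
    rw [← hinv e1 he1P, ← hh1, pow_two, mul_inv_rev]
    group
  have hne : e2 ∉ Subgroup.zpowers e1 := by
    intro hcon
    obtain ⟨k, hk⟩ := Subgroup.mem_zpowers_iff.1 hcon
    have h3 : hh * e2 * hh⁻¹ = e1 ^ (k * k) := by
      rw [← hk, ← conj_zpow, hh1, ← hk, ← zpow_mul]
    rw [hh2] at h3
    have h4 : e1 ^ (k * k + 1) = 1 := by
      rw [zpow_add, zpow_one, ← h3, inv_mul_cancel]
    have h5 := (orderOf_dvd_iff_zpow_eq_one).2 h4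
    rw [ho1] at h5
    have h6 : ((k * k + 1 : ℤ) : ZMod 3) = 0 := by
      rw [ZMod.intCast_zmod_eq_zero_iff_dvd]
      exact_mod_cast h5
    push_cast at h6
    exact no_sq_neg_one_mod_three _ h6
  obtain ⟨X, hXdef⟩ : ∃ X : F9 → G, ∀ b, X b = xel e1 e2 b := ⟨_, fun _ => rfl⟩
  have hXP : ∀ b, X b ∈ (P : Subgroup G) := fun b => by
    rw [hXdef]; exact xel_mem h1 h2 hc he1P he2P b
  have hXadd : ∀ b c, X (b + c) = X b * X c := fun b c => by
    rw [hXdef, hXdef, hXdef]; exact xel_add h1 h2 hc b c
  have hXneg : ∀ b, X (-b) = (X b)⁻¹ := fun b => by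
    rw [hXdef, hXdef]; exact xel_neg h1 h2 hc b
  have hX1 : ∀ b, X b = 1 → b = 0 := fun b hb => by
    rw [hXdef] at hb; exact xel_eq_one h1 h2 hc ho1 hne hb
  have hXzero : X 0 = 1 := by rw [hXdef, xel_zero]
  have hXone : X 1 = e1 := by rw [hXdef, xel_one]
  have hXiF : X iF = e2 := by rw [hXdef, xel_iF]
  have hXconj : ∀ b, hh * X b * hh⁻¹ = X (iF * b) := fun b => by
    rw [hXdef, hXdef]; exact xel_conj h1 h2 hc hh1 hh2 b
  have hXfix : ∀ b, X b • P = P := fun b =>
    Sylow.smul_eq_iff_mem_normalizer.2 (Subgroup.le_normalizer (hXP b))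
  have hXfree : ∀ b, X b • Q0 = Q0 → b = 0 := by
    intro b hb
    by_contra hb0
    have hne1 : X b ≠ 1 := fun h1' => hb0 (hX1 b h1')
    exact hQ0 (sylow3_free h hD h15 P Q0 (hXP b) hne1 hb)
  -- the labelling
  let lab : Option F9 → Sylow 3 G := fun q => q.elim P (fun b => X b • Q0)
  have hlab_ne : ∀ b : F9, X b • Q0 ≠ P := by
    intro b hb
    apply hQ0
    have h1' : X b • Q0 = X b • P := by rw [hb, hXfix]
    exact smul_left_cancel _ h1'
  have hlab_inj : Function.Injective lab := by
    intro p q hpq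
    cases p with
    | none =>
      cases q with
      | none => rfl
      | some c =>
        have hpq' : P = X c • Q0 := hpq
        exact absurd hpq'.symm (hlab_ne c)
    | some b =>
      cases q with
      | none =>
        have hpq' : X b • Q0 = P := hpq
        exact absurd hpq' (hlab_ne b)
      | some c =>
        have hpq' : X b • Q0 = X c • Q0 := hpq
        have h3 : X (-c + b) • Q0 = Q0 := by
          rw [hXadd, hXneg, mul_smul, hpq', inv_smul_smul]
        have h4 := hXfree _ h3
        have : b = c := by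
          calc b = c + (-c + b) := by ring
            _ = c := by rw [h4, add_zero]
        rw [this]
  have hbij : Function.Bijective lab := by
    apply hlab_inj.bijective_of_nat_card_le
    rw [hn3, Nat.card_eq_fintype_card, Fintype.card_option, F9.card_F9]
  obtain ⟨e, he_def⟩ : ∃ e : OnePoint F9 ≃ Sylow 3 G, ∀ q : Option F9, e (ofOpt q) = lab q :=
    ⟨Equiv.ofBijective (fun q : OnePoint F9 => lab q) hbij, fun _ => rfl⟩
  have he_inf : e OnePoint.infty = P := he_def none
  have he_coe : ∀ b : F9, e (b : OnePoint F9) = X b • Q0 := fun b => he_def (some b)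
  have he0 : e ((0 : F9) : OnePoint F9) = Q0 := by
    rw [he_coe, hXzero, one_smul]
  -- the actions of the generators
  have hX_coe : ∀ b z : F9, X b • e (z : OnePoint F9) = e ((z + b : F9) : OnePoint F9) := by
    intro b z
    rw [he_coe, he_coe, ← mul_smul, ← hXadd, add_comm]
  have hX_all : ∀ (b : F9) (q : Option F9), X b • e (ofOpt q) = e (ofOpt (trF b q)) := by
    intro b q
    cases q with
    | none =>
      show X b • e OnePoint.infty = e OnePoint.infty
      rw [he_inf, hXfix]
    | some z => exact hX_coe b z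
  have hh_coe : ∀ z : F9, hh • e (z : OnePoint F9) = e ((iF * z : F9) : OnePoint F9) := by
    intro z
    rw [he_coe, he_coe, ← hXconj z, mul_smul, mul_smul, inv_smul_eq_iff.2 hhQ.symm]
  have hhpow_all : ∀ (k : ℕ) (q : Option F9), hh ^ k • e (ofOpt q) = e (ofOpt (scF k q)) := by
    intro k
    induction k with
    | zero =>
      intro q
      rw [pow_zero, one_smul]
      cases q with
      | none => rfl
      | some z =>
        show e (z : OnePoint F9) = e ((iF ^ 0 * z : F9) : OnePoint F9)
        rw [pow_zero, one_mul]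
    | succ k ih =>
      intro q
      rw [pow_succ', mul_smul, ih]
      cases q with
      | none =>
        show hh • e OnePoint.infty = e OnePoint.infty
        rw [he_inf, hhP]
      | some z =>
        show hh • e ((iF ^ k * z : F9) : OnePoint F9) = e ((iF ^ (k + 1) * z : F9) : OnePoint F9)
        rw [hh_coe, pow_succ', mul_assoc]
  -- the function `f`
  have hq_ne : ∀ z : F9, z ≠ 0 → e.symm (w • e (z : OnePoint F9)) ≠ OnePoint.infty := by
    intro z hz hq
    have h1' : w • e (z : OnePoint F9) = P := by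
      rw [← he_inf, ← hq, Equiv.apply_symm_apply]
    rw [← hwQ] at h1'
    have h2' := smul_left_cancel w h1'
    rw [← he0] at h2'
    exact hz (OnePoint.coe_injective (e.injective h2'))
  have hf_ex : ∀ z : F9, ∃ y : F9, z ≠ 0 →
      w • e (z : OnePoint F9) = e (y : OnePoint F9) := by
    intro z
    by_cases hz : z = 0
    · exact ⟨0, fun h' => absurd hz h'⟩
    · have := hq_ne z hz
      obtain ⟨y, hy⟩ := OnePoint.ne_infty_iff_exists.1 this
      refine ⟨y, fun _ => ?_⟩
      rw [hy, Equiv.apply_symm_apply]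
  choose f hf using hf_ex
  have hf0 : ∀ z, z ≠ 0 → f z ≠ 0 := by
    intro z hz h0
    have h1' := hf z hz
    rw [h0, he0, ← hwP] at h1'
    have h2' := smul_left_cancel w h1'
    rw [← he_inf] at h2'
    exact OnePoint.coe_ne_infty _ (e.injective h2')
  have hw_all : ∀ q : Option F9, w • e (ofOpt q) = e (ofOpt (sgF f q)) := by
    intro q
    cases q with
    | none =>
      show w • e OnePoint.infty = e ((0 : F9) : OnePoint F9)
      rw [he_inf, he0, hwP]
    | some z =>
      by_cases hz : z = 0
      · have hs : sgF f (some z) = none := by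
          show (if z = 0 then none else some (f z)) = none
          rw [if_pos hz]
        rw [hs, hz]
        show w • e ((0 : F9) : OnePoint F9) = e OnePoint.infty
        rw [he0, he_inf, hwQ]
      · have hs : sgF f (some z) = some (f z) := by
          show (if z = 0 then none else some (f z)) = some (f z)
          rw [if_neg hz]
        rw [hs]
        exact hf z hz
  have hfi : ∀ z, z ≠ 0 → f (iF * z) = -iF * f z := by
    intro z hz
    have hiz : iF * z ≠ 0 := mul_ne_zero (by decide) hz
    have h1' := hf (iF * z) hiz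
    rw [← hh_coe z] at h1'
    have h2' : w • hh • e (z : OnePoint F9) = hh⁻¹ • w • e (z : OnePoint F9) := by
      rw [← hwh, ← mul_smul, ← mul_smul]
      congr 1
      group
    rw [h2', hf z hz, inv_smul_eq_iff, hh_coe] at h1'
    have h3 := OnePoint.coe_injective (e.injective h1')
    calc f (iF * z) = -iF * (iF * f (iF * z)) := by
          rw [← mul_assoc, show -iF * iF = 1 by decide, one_mul]
      _ = -iF * f z := by rw [← h3]
  -- the structure equation
  obtain ⟨p, hp⟩ : ∃ p : F9, p = f 1 := ⟨_, rfl⟩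
  have hp1 : w • e ((1 : F9) : OnePoint F9) = e (p : OnePoint F9) := by
    rw [hp]; exact hf 1 (by decide)
  obtain ⟨n, hn⟩ : ∃ n : G, n = w * (X p)⁻¹ * w * e1 * w := ⟨_, rfl⟩
  have hnP : n • P = P := by
    rw [hn, mul_smul, mul_smul, mul_smul, mul_smul, hwP, ← he0, ← hXone, hX_coe, zero_add, hp1,
      ← hXneg, hX_coe, add_neg_cancel, he0, hwQ]
  have hnQ_ne : n • Q0 ≠ P := by
    intro hcon
    rw [← hnP] at hcon
    exact hQ0 (smul_left_cancel n hcon)
  obtain ⟨qb, hqb⟩ := e.surjective (n • Q0)
  obtain ⟨b, rfl⟩ : ∃ b : F9, qb = (b : OnePoint F9) := by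
    induction qb using OnePoint.rec with
    | infty => rw [he_inf] at hqb; exact absurd hqb.symm hnQ_ne
    | coe b => exact ⟨b, rfl⟩
  have hm_mem : (X b)⁻¹ * n ∈ Subgroup.zpowers hh := by
    apply hW
    · rw [mul_smul, hnP, inv_smul_eq_iff, hXfix]
    · rw [mul_smul, ← hqb, he_coe, inv_smul_smul]
  have hfin : IsOfFinOrder hh := by
    rw [← orderOf_pos_iff, hoh]; norm_num
  rw [← hfin.mem_powers_iff_mem_zpowers] at hm_mem
  obtain ⟨k0, hk0⟩ := (Submonoid.mem_powers_iff _ _).1 hm_mem
  have hk : hh ^ (k0 % 4) = (X b)⁻¹ * n := by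
    rw [← hk0, ← hoh, pow_mod_orderOf]
  have hklt : k0 % 4 < 4 := Nat.mod_lt _ (by norm_num)
  have hgrp : n = X b * hh ^ (k0 % 4) := by rw [hk]; group
  have hpure : ∀ q : Option F9,
      sgF f (trF (-p) (sgF f (trF 1 (sgF f q)))) = trF b (scF (k0 % 4) q) := by
    intro q
    apply ofOpt_injective
    apply e.injective
    have hl : n • e (ofOpt q) = e (ofOpt (sgF f (trF (-p) (sgF f (trF 1 (sgF f q)))))) := by
      rw [hn, mul_smul, mul_smul, mul_smul, mul_smul, hw_all, ← hXone, hX_all, hw_all, ← hXneg,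
        hX_all, hw_all]
    have hr : n • e (ofOpt q) = e (ofOpt (trF b (scF (k0 % 4) q))) := by
      rw [hgrp, mul_smul, hhpow_all, hX_all]
    exact hl.symm.trans hr
  -- the finite computation
  obtain ⟨c', hc''⟩ : ∃ c' : F9, c' = f n0F := ⟨_, rfl⟩
  have htau : ∀ z, z ≠ 0 → f z = tauF p c' z := by
    rw [hp, hc'']; exact tau_of_equivariant f hfi
  have hpure' : ∀ q : Option F9,
      sgF (tauF p c') (trF (-p) (sgF (tauF p c') (trF 1 (sgF (tauF p c') q)))) =
        trF b (scF (k0 % 4) q) := by
    intro q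
    rw [← hpure q]
    rw [sgF_congr (f := tauF p c') (g := f) (fun z hz => (htau z hz).symm),
      sgF_congr (f := tauF p c') (g := f) (fun z hz => (htau z hz).symm),
      sgF_congr (f := tauF p c') (g := f) (fun z hz => (htau z hz).symm)]
  obtain ⟨hc4, hcc⟩ := pure_structure p c' (by rw [hp]; exact hf0 1 (by decide))
    (by rw [hc'']; exact hf0 n0F (by decide)) ⟨b, ⟨k0 % 4, hklt⟩, hpure'⟩
  have hfz : ∀ z, z ≠ 0 → f z = p * z⁻¹ := by
    intro z hz
    rw [htau z hz, tauF_good hcc]
  -- the Möbius transformations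
  have he1_mob : labHomG e e1 ∈ (mobius F9).range := by
    refine ⟨translMat 1, ?_⟩
    symm
    apply labHomG_eq_of
    intro q
    induction q using OnePoint.rec with
    | infty => rw [mobius_translMat_infty, he_inf, ← hXone, hXfix]
    | coe z => rw [mobius_translMat_coe, ← hXone, hX_coe]
  have he2_mob : labHomG e e2 ∈ (mobius F9).range := by
    refine ⟨translMat iF, ?_⟩
    symm
    apply labHomG_eq_of
    intro q
    induction q using OnePoint.rec with
    | infty => rw [mobius_translMat_infty, he_inf, ← hXiF, hXfix]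
    | coe z => rw [mobius_translMat_coe, ← hXiF, hX_coe]
  have hh_mob : labHomG e hh ∈ (mobius F9).range := by
    refine ⟨diagMat (⟨1, 2⟩ : F9) (by decide), ?_⟩
    symm
    apply labHomG_eq_of
    intro q
    induction q using OnePoint.rec with
    | infty => rw [mobius_diagMat_infty, he_inf, hhP]
    | coe z => rw [mobius_diagMat_coe, hh_coe, a0_sq]
  have hw_mob_aux : ∀ (bb l : F9) (hbl : -(bb * l) = 1) (hl : l ≠ 0), p * l = bb →
      labHomG e w ∈ (mobius F9).range := by
    intro bb l hbl hl hcl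
    refine ⟨antiMat bb l hbl, ?_⟩
    symm
    apply labHomG_eq_of
    intro q
    induction q using OnePoint.rec with
    | infty => rw [mobius_antiMat_infty, he_inf, he0, hwP]
    | coe z =>
      by_cases hz : z = 0
      · rw [hz, mobius_antiMat_zero, he_inf, he0, hwQ]
      · rw [mobius_antiMat_coe _ _ _ _ hz, hf z hz, hfz z hz]
        congr 2
        rw [← hcl]
        field_simp
  have hw_mob : labHomG e w ∈ (mobius F9).range := by
    rcases fourth_root_cases p hc4 with hcv | hcv | hcv | hcv
    · exact hw_mob_aux iF iF (by decide) (by decide) (by rw [hcv]; decide)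
    · exact hw_mob_aux ⟨1, 1⟩ ⟨1, 2⟩ (by decide) (by decide) (by rw [hcv]; decide)
    · exact hw_mob_aux (-1) 1 (by decide) (by decide) (by rw [hcv]; decide)
    · exact hw_mob_aux ⟨1, 2⟩ ⟨1, 1⟩ (by decide) (by decide) (by rw [hcv]; decide)
  -- generation
  have hgenG : Subgroup.closure ({e1, e2, hh, w} : Set G) = ⊤ := by
    by_contra hH
    obtain ⟨H, hHdef⟩ : ∃ H : Subgroup G, H = Subgroup.closure ({e1, e2, hh, w} : Set G) :=
      ⟨_, rfl⟩
    rw [← hHdef] at hH
    have he1H : e1 ∈ H := by rw [hHdef]; exact Subgroup.subset_closure (by simp)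
    have he2H : e2 ∈ H := by rw [hHdef]; exact Subgroup.subset_closure (by simp)
    have hhH : hh ∈ H := by rw [hHdef]; exact Subgroup.subset_closure (by simp)
    have hwH : w ∈ H := by rw [hHdef]; exact Subgroup.subset_closure (by simp)
    have hXH : ∀ b, X b ∈ H := fun b => by
      rw [hXdef]; exact H.mul_mem (H.pow_mem he1H _) (H.pow_mem he2H _)
    have hNH : Subgroup.normalizer (P : Set G) ≤ H := by
      intro y hy
      have hyP : y • P = P := Sylow.smul_eq_iff_mem_normalizer.2 hy
      have hyQ_ne : y • Q0 ≠ P := by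
        intro hcon
        rw [← hyP] at hcon
        exact hQ0 (smul_left_cancel y hcon)
      obtain ⟨qy, hqy⟩ := e.surjective (y • Q0)
      obtain ⟨by', rfl⟩ : ∃ by' : F9, qy = (by' : OnePoint F9) := by
        induction qy using OnePoint.rec with
        | infty => rw [he_inf] at hqy; exact absurd hqy.symm hyQ_ne
        | coe b' => exact ⟨b', rfl⟩
      have hmem : (X by')⁻¹ * y ∈ Subgroup.zpowers hh := by
        apply hW
        · rw [mul_smul, hyP, inv_smul_eq_iff, hXfix]
        · rw [mul_smul, ← hqy, he_coe, inv_smul_smul]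
      have : y = X by' * ((X by')⁻¹ * y) := by group
      rw [this]
      exact H.mul_mem (hXH by') ((Subgroup.zpowers_le.2 hhH) hmem)
    have h36 : 36 ∣ Nat.card H := by
      rw [← normalizer_sylow3_card h P]
      exact Subgroup.card_dvd_of_le hNH
    have hwN : w ∉ Subgroup.normalizer (P : Set G) := by
      intro hcon
      have := Sylow.smul_eq_iff_mem_normalizer.2 hcon
      rw [hwP] at this
      exact hQ0 this
    have hlt : 36 < Nat.card H := by
      by_contra hle
      push Not at hle
      have heq : Subgroup.normalizer (P : Set G) = H :=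
        Subgroup.eq_of_le_of_card_ge hNH (by rw [normalizer_sylow3_card h P]; exact hle)
      rw [heq] at hwN
      exact hwN hwH
    obtain ⟨m, hm⟩ := h36
    have hci := H.card_mul_index
    rw [hm, h] at hci
    have h6 := six_le_index h H hH
    have hm2 : 2 ≤ m := by
      by_contra hcon
      push Not at hcon
      interval_cases m <;> omega
    nlinarith
  -- conclusion
  have hfaith : Function.Injective (MulAction.toPermHom G (Sylow 3 G)) := by
    rw [← MonoidHom.ker_eq_bot_iff]
    rcases (MonoidHom.normal_ker (MulAction.toPermHom G (Sylow 3 G))).eq_bot_or_eq_top with hk' | hk'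
    · exact hk'
    · exfalso
      have hwk : w ∈ (MulAction.toPermHom G (Sylow 3 G)).ker := by rw [hk']; trivial
      rw [MonoidHom.mem_ker] at hwk
      have h1' : w • P = P := by
        have := congrArg (fun σ : Equiv.Perm (Sylow 3 G) => σ P) hwk
        exact this
      rw [hwP] at h1'
      exact hQ0 h1'
  refine equiv_psl_of_mobius (labHomG e) (labHomG_injective e hfaith) {e1, e2, hh, w} hgenG ?_ ?_
  · intro s hs
    rcases hs with rfl | rfl | rfl | rfl
    · exact he1_mob
    · exact he2_mob
    · exact hh_mob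
    · exact hw_mob
  · rw [h, card_PSL29]

end O360

end Cfsg.Agent.Helper16
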