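import Mathlib
import Cfsg.Agent.Lib.Helper16.Simple360f
import Cfsg.Agent.Lib.Helper2.PSL29
import Cfsg.Agent.Lib.Helper2.PermIso
import Cfsg.Agent.Lib.Helper2.Order60

/-!
# Simple groups of order 360, part g: identification with `A₆` (helper16's library)
-/

set_option autoImplicit false
set_option linter.unusedSectionVars false

namespace Cfsg.Agent.Helper16

namespace O360

open Cfsg.Agent.Helper2 Cfsg.Agent.Helper2.P29

variable {G : Type*} [Group G] [Finite G]

/-- A simple group of order 360 in which all involution centralizers are dihedral of order 8 is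
isomorphic to `A₆`. -/
theorem simple_360_equiv_alt [IsSimpleGroup G] (h : Nat.card G = 360) (hD : DihCent G) :
    Nonempty (G ≃* alternatingGroup (Fin 6)) := by
  by_cases hex : ∃ H : Subgroup G, H.index = 6
  · obtain ⟨H, hH⟩ := hex
    have hne : H ≠ ⊤ := by
      intro ht; rw [ht, Subgroup.index_top] at hH; omega
    let _ : Fintype (G ⧸ H) := Fintype.ofFinite _
    refine equiv_alternating_of_injective 6 ?_ (MulAction.toPermHom G (G ⧸ H))
      (simple_toPermHom_injective H hne) (by rw [h]; decide)
    rw [← Nat.card_eq_fintype_card, ← Subgroup.index_eq_card, hH]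
  · push Not at hex
    have h15 := no_order_fifteen h hex
    obtain ⟨e1⟩ := simple_360_equiv_psl h hD h15
    have hfin : Finite (Matrix.ProjectiveSpecialLinearGroup (Fin 2) F9) :=
      Nat.finite_of_card_ne_zero (by rw [card_PSL29]; norm_num)
    obtain ⟨e2⟩ := equiv_alternating_of_injective
      (G := Matrix.ProjectiveSpecialLinearGroup (Fin 2) F9)
      (α := Fin 6) 6 (by simp) rhoBar rhoBar_injective (by rw [card_PSL29]; decide)
    exact ⟨e1.trans e2⟩

end O360

end Cfsg.Agent.Helper16
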