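import Mathlib
import Cfsg.Agent.S0848
import Cfsg.Agent.Lib.Helper16.DihedralEightSimple
import Cfsg.Agent.Lib.Helper16.Simple360g
import Cfsg.Agent.Lib.Helper16.Simple168c
import Cfsg.Agent.Lib.Helper16.FourCentMain
import Cfsg.Agent.Lib.Helper16.PermRecog
import Cfsg.Agent.Lib.Helper16.TwoNilpotent
import Cfsg.Agent.Lib.Helper2.PSL27

/-!
# Groups with an involution whose centralizer is dihedral of order eight: the classification
(helper16's library)
-/

set_option autoImplicit false

namespace Cfsg.Agent.Helper16

namespace DihEight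

open Equiv

universe u

variable {G : Type u} [Group G] [Finite G] {t a : G}

/-- The `2`-part of the order. -/
theorem two_part (h : IsDihedralSub (Subgroup.centralizer ({t} : Set G)) a 2)
    (ht : orderOf t = 2) : 8 ∣ Nat.card G ∧ ¬ 16 ∣ Nat.card G := by
  have hF : Fact (Nat.Prime 2) := ⟨Nat.prime_two⟩
  obtain ⟨P, hP⟩ := exists_sylow_eq h ht
  have hn0 : Nat.card G ≠ 0 := Nat.card_pos.ne'
  have hcardD : Nat.card (Subgroup.centralizer ({t} : Set G)) = 2 ^ 3 := h.card
  have hfac : (Nat.card G).factorization 2 = 3 := by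
    have h1 := P.card_eq_multiplicity
    rw [hP, hcardD] at h1
    exact (Nat.pow_right_injective (le_refl 2) h1).symm
  constructor
  · have := Nat.ordProj_dvd (Nat.card G) 2
    rw [hfac] at this
    exact this
  · have := Nat.pow_succ_factorization_not_dvd hn0 Nat.prime_two
    rw [hfac] at this
    exact this

/-- Without normal subgroups of index two the group is `A₆` or `PSL₂(7)`. -/
theorem equiv_of_no_index_two (h : IsDihedralSub (Subgroup.centralizer ({t} : Set G)) a 2)
    (ht : orderOf t = 2) (hno : ∀ M : Subgroup G, M.Normal → M.index ≠ 2) :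
    Nonempty (G ≃* alternatingGroup (Fin 6)) ∨
      Nonempty (G ≃* Matrix.ProjectiveSpecialLinearGroup (Fin 2) (ZMod 7)) := by
  classical
  have : Fintype G := Fintype.ofFinite G
  have hconj := conj_of_no_index_two h ht hno
  obtain ⟨d, s, hd0, hdn, hd1n, hs, heq⟩ := exists_degree_equation h ht hconj
  obtain ⟨h8, h16⟩ := two_part h ht
  have hn0 : Nat.card G ≠ 0 := Nat.card_pos.ne'
  have hcard := Cfsg.Agent.S0848.order_of_equation (Nat.card G) d s hn0 hd0 hdn hd1n hs h8 h16 heq
  have hsimple : IsSimpleGroup G := isSimpleGroup h ht hconj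
  rcases hcard with h168 | h360
  · right
    exact O168.simple_168_equiv_psl h168
  · left
    exact O360.simple_360_equiv_alt h360 (dihCent h hconj)

theorem card_subgroupOf (H K : Subgroup G) :
    Nat.card (H.subgroupOf K) = Nat.card (H ⊓ K : Subgroup G) := by
  rw [← Subgroup.inf_subgroupOf_right]
  exact Nat.card_congr (Subgroup.subgroupOfEquivOfLe inf_le_right).toEquiv

/-- The centralizer of `t` inside a normal subgroup of index two. -/
theorem card_centralizer_index_two (h : IsDihedralSub (Subgroup.centralizer ({t} : Set G)) a 2)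
    (ht : orderOf t = 2) (M : Subgroup G) (hM : M.Normal) (hM2 : M.index = 2) (htM : t ∈ M) :
    ¬ 8 ∣ Nat.card M ∧ Nat.card (Subgroup.centralizer ({(⟨t, htM⟩ : M)} : Set M)) = 4 := by
  obtain ⟨h8, h16⟩ := two_part h ht
  have hGM : Nat.card M * 2 = Nat.card G := by rw [← hM2]; exact M.card_mul_index
  have h8M : ¬ 8 ∣ Nat.card M := by
    intro hcon
    apply h16
    rw [← hGM]
    have : (16 : ℕ) = 8 * 2 := by norm_num
    rw [this]
    exact Nat.mul_dvd_mul_right hcon 2
  refine ⟨h8M, ?_⟩
  set D : Subgroup G := Subgroup.centralizer ({t} : Set G) with hD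
  have heq : Subgroup.centralizer ({(⟨t, htM⟩ : M)} : Set M) = D.subgroupOf M := by
    ext x
    rw [Subgroup.mem_centralizer_singleton_iff, Subgroup.mem_subgroupOf, hD,
      Subgroup.mem_centralizer_singleton_iff, Subtype.ext_iff]
    rfl
  rw [heq, card_subgroupOf]
  have h1 : Nat.card (M.subgroupOf D) * (M.subgroupOf D).index = Nat.card D :=
    (M.subgroupOf D).card_mul_index
  have h2 : (M.subgroupOf D).index ∣ 2 := by
    have := Subgroup.relIndex_dvd_index_of_normal M D
    rw [hM2] at this
    exact this
  have hcardD : Nat.card D = 8 := by rw [h.card]; norm_num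
  rw [card_subgroupOf, hcardD, inf_comm] at h1
  have h3 : Nat.card (D ⊓ M : Subgroup G) ∣ Nat.card M := Subgroup.card_dvd_of_le inf_le_right
  have h4 : (M.subgroupOf D).index = 1 ∨ (M.subgroupOf D).index = 2 := by
    have := Nat.le_of_dvd two_pos h2
    have hpos : 0 < (M.subgroupOf D).index := by
      rcases Nat.eq_zero_or_pos (M.subgroupOf D).index with h0 | h0
      · rw [h0, mul_zero] at h1; omega
      · exact h0
    omega
  rcases h4 with h5 | h5
  · rw [h5, mul_one] at h1
    rw [h1] at h3
    exact absurd h3 h8M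
  · rw [h5] at h1
    omega

/-- Elements centralizing a subgroup of index two which contains `t` lie in it. -/
theorem mem_of_centralizes (h : IsDihedralSub (Subgroup.centralizer ({t} : Set G)) a 2)
    (M : Subgroup G) (hM2 : M.index = 2) (htM : t ∈ M)
    (hcommV : ∀ x ∈ M, ∀ y ∈ M, x * t = t * x → y * t = t * y → x * y = y * x)
    (c : G) (hc : ∀ m ∈ M, c * m = m * c) : c ∈ M := by
  by_contra hcM
  set D : Subgroup G := Subgroup.centralizer ({t} : Set G) with hD
  have hct : c * t = t * c := hc t htM
  have hcinvM : c⁻¹ ∉ M := fun hh => hcM (by simpa using M.inv_mem hh)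
  have hcinvt : c⁻¹ * t = t * c⁻¹ := by
    calc c⁻¹ * t = c⁻¹ * (t * c) * c⁻¹ := by group
      _ = c⁻¹ * (c * t) * c⁻¹ := by rw [hct]
      _ = t * c⁻¹ := by group
  have hdec : ∀ y ∈ D, ∃ v ∈ M, v * t = t * v ∧ (y = v ∨ y = c * v) := by
    intro y hy
    have hyt : y * t = t * y := Subgroup.mem_centralizer_singleton_iff.1 hy
    by_cases hyM : y ∈ M
    · exact ⟨y, hyM, hyt, Or.inl rfl⟩
    · refine ⟨c⁻¹ * y, ?_, ?_, Or.inr (by group)⟩
      · rw [Subgroup.mul_mem_iff_of_index_two hM2]
        exact ⟨fun hh => absurd hh hcinvM, fun hh => absurd hh hyM⟩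
      · calc c⁻¹ * y * t = c⁻¹ * (y * t) := by group
          _ = c⁻¹ * (t * y) := by rw [hyt]
          _ = (c⁻¹ * t) * y := by group
          _ = t * (c⁻¹ * y) := by rw [hcinvt]; group
  obtain ⟨b, hbD, hbA⟩ := h.exists_out
  obtain ⟨v₁, hv₁M, hv₁t, ha⟩ := hdec a h.mem
  obtain ⟨v₂, hv₂M, hv₂t, hb⟩ := hdec b hbD
  have h12 : v₁ * v₂ = v₂ * v₁ := hcommV v₁ hv₁M v₂ hv₂M hv₁t hv₂t
  have hc1 : c * v₁ = v₁ * c := hc v₁ hv₁M
  have hc2 : c * v₂ = v₂ * c := hc v₂ hv₂M
  have hab : a * b = b * a := by
    rcases ha with ha | ha <;> rcases hb with hb | hb <;> rw [ha, hb]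
    · exact h12
    · calc v₁ * (c * v₂) = (v₁ * c) * v₂ := by group
        _ = c * (v₁ * v₂) := by rw [← hc1]; group
        _ = c * v₂ * v₁ := by rw [h12]; group
    · calc c * v₁ * v₂ = c * (v₁ * v₂) := by group
        _ = c * (v₂ * v₁) := by rw [h12]
        _ = (c * v₂) * v₁ := by group
        _ = v₂ * (c * v₁) := by rw [hc2]; group
    · calc c * v₁ * (c * v₂) = c * (v₁ * c) * v₂ := by group
        _ = c * (c * v₁) * v₂ := by rw [hc1]
        _ = c * c * (v₁ * v₂) := by group
        _ = c * c * (v₂ * v₁) := by rw [h12]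
        _ = c * (c * v₂) * v₁ := by group
        _ = c * (v₂ * c) * v₁ := by rw [hc2]
        _ = c * v₂ * (c * v₁) := by group
  have hinv := h.out_inv b hbD hbA
  have haa : a = a⁻¹ := by
    calc a = a * b * b⁻¹ := by group
      _ = b * a * b⁻¹ := by rw [hab]
      _ = a⁻¹ := hinv
  have ha2 : a ^ 2 = 1 := by
    rw [pow_two]
    nth_rewrite 1 [haa]
    exact inv_mul_cancel a
  have := orderOf_dvd_of_pow_eq_one ha2
  rw [h.hao] at this
  norm_num at this

set_option maxHeartbeats 800000 in
/-- **Classification of groups with an involution centralizer `D₈`.** -/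
theorem classification (h : IsDihedralSub (Subgroup.centralizer ({t} : Set G)) a 2)
    (ht : orderOf t = 2) :
    Subgroup.centralizer ({t} : Set G) ⊔ Cfsg.oddCore G = ⊤ ∨ Nonempty (G ≃* Perm (Fin 4)) ∨
      Nonempty (G ≃* Perm (Fin 5)) ∨
      Nonempty (G ≃* Matrix.SpecialLinearGroup (Fin 3) (ZMod 2)) ∨
      Nonempty (G ≃* alternatingGroup (Fin 6)) := by
  classical
  have hF : Fact (Nat.Prime 2) := ⟨Nat.prime_two⟩
  have hF3 : Fact (Nat.Prime 3) := ⟨Nat.prime_three⟩
  by_cases hno : ∀ M : Subgroup G, M.Normal → M.index ≠ 2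
  · rcases equiv_of_no_index_two h ht hno with e6 | e7'
    · exact Or.inr (Or.inr (Or.inr (Or.inr e6)))
    · obtain ⟨e7⟩ := e7'
      refine Or.inr (Or.inr (Or.inr (Or.inl ⟨?_⟩)))
      have e2 : Matrix.ProjectiveSpecialLinearGroup (Fin 3) (ZMod 2) ≃*
          Matrix.SpecialLinearGroup (Fin 3) (ZMod 2) :=
        (QuotientGroup.quotientMulEquivOfEq Cfsg.Agent.Helper2.P27.center_SL32).trans
          QuotientGroup.quotientBot
      exact (e7.trans Cfsg.Agent.Helper2.P27.psl27Equiv).trans e2
  · push Not at hno
    obtain ⟨M, hMn, hM2⟩ := hno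
    have htM : t ∈ M := by rw [t_eq h ht]; exact Subgroup.sq_mem_of_index_two hM2 a
    obtain ⟨h8M, hCM⟩ := card_centralizer_index_two h ht M hMn hM2 htM
    obtain ⟨h8, h16⟩ := two_part h ht
    have hGM : Nat.card M * 2 = Nat.card G := by rw [← hM2]; exact M.card_mul_index
    set tM : M := ⟨t, htM⟩ with htMdef
    have htM2 : orderOf tM = 2 := by rw [← Subgroup.orderOf_coe]; exact ht
    have hcardD : Nat.card (Subgroup.centralizer ({t} : Set G)) = 8 := by rw [h.card]; norm_num
    -- elements of `M` centralizing `t` commute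
    have hcommV : ∀ x ∈ M, ∀ y ∈ M, x * t = t * x → y * t = t * y → x * y = y * x := by
      intro x hx y hy hxt hyt
      have hc := IsPGroup.isMulCommutative_of_card_eq_prime_sq (p := 2)
        (G := Subgroup.centralizer ({tM} : Set M)) (by rw [hCM]; norm_num)
      have hxC : (⟨x, hx⟩ : M) ∈ Subgroup.centralizer ({tM} : Set M) := by
        rw [Subgroup.mem_centralizer_singleton_iff]
        exact Subtype.ext hxt
      have hyC : (⟨y, hy⟩ : M) ∈ Subgroup.centralizer ({tM} : Set M) := by
        rw [Subgroup.mem_centralizer_singleton_iff]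
        exact Subtype.ext hyt
      have := hc.is_comm.comm ⟨⟨x, hx⟩, hxC⟩ ⟨⟨y, hy⟩, hyC⟩
      exact congrArg (fun z : Subgroup.centralizer ({tM} : Set M) => ((z : M) : G)) this
    have hcent : ∀ c : G, (∀ m ∈ M, c * m = m * c) → c ∈ M :=
      fun c hc => mem_of_centralizes h M hM2 htM hcommV c hc
    rcases FourCent.main' tM htM2 hCM h8M with hcomp | ⟨u, hFu, h12⟩ | ⟨u, hFu, h60⟩
    · -- normal `2`-complement
      left
      obtain ⟨P', N, hNn, hNc⟩ := hasNormalPComplement_of_index_two M hM2 hcomp
      have hmul : Nat.card N * Nat.card (P' : Subgroup G) = Nat.card G := hNc.card_mul_card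
      obtain ⟨P, hP⟩ := exists_sylow_eq h ht
      have hP' : Nat.card (P' : Subgroup G) = 8 := by
        rw [Sylow.card_eq_multiplicity, ← P.card_eq_multiplicity, hP, hcardD]
      rw [hP'] at hmul
      have hNodd : (Nat.card N).Coprime 2 := by
        rw [Nat.coprime_two_right, ← Nat.not_even_iff_odd, even_iff_two_dvd]
        intro hcon
        apply h16
        rw [← hmul]
        have : (16 : ℕ) = 2 * 8 := by norm_num
        rw [this]
        exact Nat.mul_dvd_mul_right hcon 8
      have hNle : N ≤ Cfsg.oddCore G := le_sSup ⟨hNn, hNodd⟩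
      have hcompl : (Subgroup.centralizer ({t} : Set G)).IsComplement' N := by
        apply Subgroup.isComplement'_of_coprime
        · rw [hcardD, ← hmul, mul_comm]
        · rw [hcardD]
          have : Nat.Coprime (2 ^ 3) (Nat.card N) := Nat.Coprime.pow_left 3 hNodd.symm
          exact this
      rw [eq_top_iff, ← hcompl.sup_eq_top]
      exact sup_le_sup_left hNle _
    · -- `A₄`, so `G ≅ S₄`
      right; left
      have hG24 : Nat.card G = 24 := by omega
      obtain ⟨R⟩ : Nonempty (Sylow 3 M) := inferInstance
      have hR3 : Nat.card R = 3 := by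
        have := Cfsg.Agent.Helper2.sylow_card_of_card_eq (p := 3) (a := 1) (m := 4) R
          (by rw [h12]; norm_num) (by norm_num)
        simpa using this
      have hRidx : (R : Subgroup M).index = 4 := by
        have := (R : Subgroup M).card_mul_index
        rw [hR3, h12] at this
        omega
      have hn : Nat.card (Sylow 3 M) = 4 := by
        have h1 := card_sylow_modEq_one 3 M
        have h2 := Sylow.card_dvd_index R
        rw [hRidx] at h2
        have hle := Nat.le_of_dvd (by norm_num) h2
        have hne1 : Nat.card (Sylow 3 M) ≠ 1 := by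
          intro h3
          have hsub : Subsingleton (Sylow 3 M) := (Nat.card_eq_one_iff_unique.1 h3).1
          have hRn : (R : Subgroup M).Normal := Sylow.normal_of_subsingleton R
          have := hFu.odd_normal_eq_bot (R : Subgroup M) (by rw [hR3]; decide)
          rw [this, Subgroup.card_bot] at hR3
          norm_num at hR3
        unfold Nat.ModEq at h1
        interval_cases (Nat.card (Sylow 3 M)) <;> omega
      have hNR : Nat.card (Subgroup.normalizer (R : Set M)) = 3 := by
        have h1 := Sylow.card_eq_index_normalizer R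
        have h2 := (Subgroup.normalizer (R : Set M)).card_mul_index
        rw [← h1, hn, h12] at h2
        omega
      have hfaith : ∀ m : M, (∀ P : Sylow 3 M, m • P = P) → m = 1 := by
        intro m hm
        set N : Subgroup M := (MulAction.toPermHom M (Sylow 3 M)).ker with hN
        have hmN : m ∈ N := by
          rw [hN, MonoidHom.mem_ker]
          exact Equiv.ext fun P => hm P
        have hNle : N ≤ Subgroup.normalizer (R : Set M) := by
          intro x hx
          rw [hN, MonoidHom.mem_ker] at hx
          have h1 : x • R = R := by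
            have := congrArg (fun σ : Perm (Sylow 3 M) => σ R) hx
            exact this
          exact Sylow.smul_eq_iff_mem_normalizer.1 h1
        have hNcard : Nat.card N ∣ 3 := by
          rw [← hNR]; exact Subgroup.card_dvd_of_le hNle
        have hNodd : Odd (Nat.card N) := by
          have h3 : Odd 3 := by decide
          exact h3.of_dvd_nat hNcard
        have hNn : N.Normal := by rw [hN]; infer_instance
        have := hFu.odd_normal_eq_bot N hNodd
        rw [this, Subgroup.mem_bot] at hmN
        exact hmN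
      exact equiv_perm_of_normal M 3 4 hn hfaith hcent (by rw [hG24]; rfl)
    · -- `A₅`, so `G ≅ S₅`
      right; right; left
      have hG120 : Nat.card G = 120 := by omega
      have hsimple : IsSimpleGroup M := hFu.isSimpleGroup h8M h60
      obtain ⟨P0⟩ : Nonempty (Sylow 2 M) := inferInstance
      have hidx := Cfsg.Agent.Helper2.simple_sixty_index_normalizer h60 P0
      have hn : Nat.card (Sylow 2 M) = 5 := by
        rw [Sylow.card_eq_index_normalizer P0, hidx]
      have hfaith : ∀ m : M, (∀ P : Sylow 2 M, m • P = P) → m = 1 := by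
        intro m hm
        set N : Subgroup M := (MulAction.toPermHom M (Sylow 2 M)).ker with hN
        have hmN : m ∈ N := by
          rw [hN, MonoidHom.mem_ker]
          exact Equiv.ext fun P => hm P
        have hNle : N ≤ Subgroup.normalizer (P0 : Set M) := by
          intro x hx
          rw [hN, MonoidHom.mem_ker] at hx
          have h1 : x • P0 = P0 := by
            have := congrArg (fun σ : Perm (Sylow 2 M) => σ P0) hx
            exact this
          exact Sylow.smul_eq_iff_mem_normalizer.1 h1
        have hNn : N.Normal := by rw [hN]; infer_instance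
        rcases hNn.eq_bot_or_eq_top with h1 | h1
        · rw [h1, Subgroup.mem_bot] at hmN
          exact hmN
        · exfalso
          rw [h1, top_le_iff] at hNle
          rw [hNle, Subgroup.index_top] at hidx
          norm_num at hidx
      exact equiv_perm_of_normal M 2 5 hn hfaith hcent (by rw [hG120]; rfl)

end DihEight

end Cfsg.Agent.Helper16
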