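import Mathlib
import Cfsg.Agent.Lib.Helper19.FC5Defs
import Cfsg.Agent.S0690
import Cfsg.Agent.Lib.Helper20.NFCMain

/-!
# S4291 piece NS (helper16): the nonsolvable case

A nonsolvable Frobenius complement `G` has a normal subgroup `D ≃ SL(2,5)`; `N := C_G(D)` has
cyclic Sylow subgroups and `G / N` is `A₅` or `S₅` (action on `D / Z(D)`).
-/

set_option autoImplicit false
set_option linter.unusedSectionVars false
set_option linter.unusedVariables false
set_option linter.style.haveILetI false

namespace Cfsg.Agent.Helper16.FC5NS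

open Cfsg Cfsg.Agent.Helper5 Cfsg.Agent.Helper20.NFC Cfsg.Agent.Helper12.BinIco
open Cfsg.Agent.Helper19.FC5 Cfsg.Agent.Helper25.ZassOut
open scoped IsMulCommutative

/-- the action of `H` on `N / Z(N) ≃ A₅` as a homomorphism to `S₅`, with kernel `C_H(N)` and
range containing `A₅`. -/
theorem exists_theta {H : Type*} [Group H] (N : Subgroup H) [N.Normal]
    (e : N ≃* Matrix.SpecialLinearGroup (Fin 2) (ZMod 5)) :
    ∃ θ : H →* Equiv.Perm (Fin 5), θ.ker = Subgroup.centralizer (N : Set H) ∧
      alternatingGroup (Fin 5) ≤ θ.range := by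
  haveI : Fact (Nat.Prime 5) := ⟨by norm_num⟩
  obtain ⟨a₀⟩ := Cfsg.Agent.S0253.result (F := ZMod 5) (ZMod.card 5)
  -- the projection onto `A₅`
  let π : N →* alternatingGroup (Fin 5) :=
    a₀.toMonoidHom.comp ((QuotientGroup.mk' (Subgroup.center S25)).comp e.toMonoidHom)
  have hπdef : ∀ m : N, π m = a₀ (QuotientGroup.mk' (Subgroup.center S25) (e m)) := fun m => rfl
  have hπ : Function.Surjective π := by
    intro x
    obtain ⟨q, rfl⟩ := a₀.surjective x
    obtain ⟨s, rfl⟩ := QuotientGroup.mk'_surjective (Subgroup.center S25) q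
    refine ⟨e.symm s, ?_⟩
    rw [hπdef, e.apply_symm_apply]
  have hker_iff : ∀ m : N, π m = 1 ↔ m ∈ Subgroup.center N := by
    intro m
    have h1 : π m = 1 ↔ e m ∈ Subgroup.center S25 := by
      rw [hπdef, map_eq_one_iff a₀ a₀.injective, QuotientGroup.mk'_apply,
        QuotientGroup.eq_one_iff]
    rw [h1, Subgroup.mem_center_iff, Subgroup.mem_center_iff]
    constructor
    · intro h n
      apply e.injective
      rw [map_mul, map_mul]
      exact h (e n)
    · intro h s
      obtain ⟨n, rfl⟩ := e.surjective s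
      rw [← map_mul, ← map_mul, h n]
  have hker : ∀ ψ : MulAut N, ∀ m : N, π m = 1 → π (ψ m) = 1 := by
    intro ψ m hm
    rw [hker_iff] at hm ⊢
    rw [Subgroup.mem_center_iff] at hm ⊢
    intro n
    have h1 := hm (ψ⁻¹ n)
    have h2 := congrArg ψ h1
    simpa using h2
  have hNperf : commutator N = ⊤ := perfect_of_equiv e
  -- the action of `H` on `A₅`
  let φ : H →* MulAut (alternatingGroup (Fin 5)) :=
    (barMap π hπ hker).comp (MulAut.conjNormal (H := N))
  have hφ : ∀ (h : H) (m : N), φ h (π m) = π (MulAut.conjNormal h m) :=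
    fun h m => barMap_apply π hπ hker _ m
  have hbij := Cfsg.Agent.S2119.result 5 (by norm_num) (by norm_num)
  let E : Equiv.Perm (Fin 5) ≃* MulAut ↥(alternatingGroup (Fin 5)) :=
    MulEquiv.ofBijective _ hbij
  let θ : H →* Equiv.Perm (Fin 5) := E.symm.toMonoidHom.comp φ
  have hE : ∀ h : H, E (θ h) = φ h := by
    intro h
    show E (E.symm (φ h)) = _
    exact E.apply_symm_apply _
  refine ⟨θ, ?_, ?_⟩
  · ext h
    rw [MonoidHom.mem_ker]
    constructor
    · intro hθ
      have hφ1 : φ h = 1 := by rw [← hE, hθ, map_one]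
      have hc : ∀ m : N, π (MulAut.conjNormal h m) = π m := by
        intro m
        rw [← hφ, hφ1]
        rfl
      have hmemc : ∀ m : N, MulAut.conjNormal h m * m⁻¹ ∈ Subgroup.center N := by
        intro m
        rw [← hker_iff, map_mul, hc, map_inv, mul_inv_cancel]
      let δ : N →* Subgroup.center N := MonoidHom.mk'
        (fun m => ⟨MulAut.conjNormal h m * m⁻¹, hmemc m⟩) (by
          intro m m'
          apply Subtype.ext
          have hcen : (MulAut.conjNormal h m' * m'⁻¹) * m⁻¹
              = m⁻¹ * (MulAut.conjNormal h m' * m'⁻¹) :=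
            ((Subgroup.mem_center_iff.mp (hmemc m')) m⁻¹).symm
          show MulAut.conjNormal h (m * m') * (m * m')⁻¹
            = (MulAut.conjNormal h m * m⁻¹) * (MulAut.conjNormal h m' * m'⁻¹)
          rw [map_mul, mul_assoc (MulAut.conjNormal h m) m⁻¹, ← hcen]
          group)
      have hδ : ∀ m : N, δ m = 1 := by
        intro m
        have hle := Abelianization.commutator_subset_ker δ
        rw [hNperf] at hle
        exact MonoidHom.mem_ker.mp (hle (Subgroup.mem_top m))
      have hfix : ∀ m : N, MulAut.conjNormal h m = m := by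
        intro m
        have h1 := congrArg Subtype.val (hδ m)
        have h2 : MulAut.conjNormal h m * m⁻¹ = 1 := h1
        exact mul_inv_eq_one.mp h2
      rw [Subgroup.mem_centralizer_iff]
      intro m hm
      have h1 := congrArg Subtype.val (hfix ⟨m, hm⟩)
      rw [MulAut.conjNormal_apply] at h1
      have h2 : h * m * h⁻¹ = m := h1
      calc m * h = (h * m * h⁻¹) * h := by rw [h2]
        _ = h * m := by group
    · intro hc
      rw [Subgroup.mem_centralizer_iff] at hc
      have h1 : MulAut.conjNormal (H := N) h = 1 := by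
        apply MulEquiv.ext
        intro m
        apply Subtype.ext
        rw [MulAut.conjNormal_apply]
        show h * (m : H) * h⁻¹ = m
        rw [← hc m m.2]
        group
      have h2 : φ h = 1 := by
        show (barMap π hπ hker) (MulAut.conjNormal (H := N) h) = 1
        rw [h1, map_one]
      show E.symm (φ h) = 1
      rw [h2, map_one]
  · intro x hx
    obtain ⟨n, hn⟩ := hπ ⟨x, hx⟩
    refine ⟨(n : H), ?_⟩
    apply E.injective
    rw [hE]
    apply MulEquiv.ext
    intro w
    obtain ⟨m, rfl⟩ := hπ w
    rw [hφ]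
    have h1 : MulAut.conjNormal (n : H) m = n * m * n⁻¹ := by
      apply Subtype.ext
      rw [MulAut.conjNormal_apply]
      rfl
    rw [h1, map_mul, map_mul, map_inv, hn]
    apply Subtype.ext
    show _ = ((MulAut.conjNormal x) (π m) : Equiv.Perm (Fin 5))
    rw [MulAut.conjNormal_apply]
    rfl

/-- the order of the centralizer of an `SL(2,5)`-like subgroup is not divisible by `4` -/
theorem not_four_dvd_card_centralizer {G : Type*} [Group G] [Finite G] (hF : FCFacts G)
    (S : Subgroup G) (hS : SLFacts S) :
    ¬ 4 ∣ Nat.card (Subgroup.centralizer (S : Set G)) := by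
  classical
  obtain ⟨i, hiS, hi4, hi2, hic⟩ := hS.exists_i
  set z : G := i ^ 2 with hzdef
  set C : Subgroup G := Subgroup.centralizer (S : Set G) with hCdef
  have hmemC : ∀ c : G, c ∈ C ↔ ∀ y ∈ S, y * c = c * y := fun c => Subgroup.mem_centralizer_iff
  have hz2 : z * z = 1 := by
    rw [hzdef, ← pow_add]; exact hi4
  have hz1 : z ≠ 1 := hi2
  have hzord : orderOf z = 2 := by
    apply orderOf_eq_prime
    · rw [pow_two]; exact hz2
    · exact hz1
  have hzS : z ∈ S := S.pow_mem hiS 2
  have hzC : z ∈ C := (hmemC z).mpr (fun y hy => (hic y hy).symm)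
  have hzi : z * i = i * z := by
    rw [hzdef, ← pow_succ, ← pow_succ']
  -- (1) involutions commuting with z
  have inv2 : ∀ g : G, g * g = 1 → g * z = z * g → g = 1 ∨ g = z := by
    intro g hg hgz
    by_cases hg1 : g = 1
    · exact Or.inl hg1
    · have hgo : orderOf g = 2 := by
        apply orderOf_eq_prime
        · rw [pow_two]; exact hg
        · exact hg1
      have := hF.comm_p 2 Nat.prime_two z g hzord hgo hgz.symm
      exact eq_one_or_eq_of_mem_zpowers_two hzord this
  -- (2) S ∩ C
  have SC : ∀ x ∈ S, x ∈ C → x = 1 ∨ x = z := by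
    intro x hxS hxC
    have h1 : x * x = 1 := hS.center_sq x hxS (fun y hy => (((hmemC x).mp hxC) y hy).symm)
    have h2 : x * z = z * x := (((hmemC x).mp hxC) z hzS).symm
    exact inv2 x h1 h2
  -- (3) elements of C of order dividing 4
  have C4 : ∀ c ∈ C, c ^ 4 = 1 → c = 1 ∨ c = z := by
    intro c hcC hc4
    have hcz : c * z = z * c := (((hmemC c).mp hcC) z hzS).symm
    have hci : i * c = c * i := ((hmemC c).mp hcC) i hiS
    have hcc : (c * c) * (c * c) = 1 := by
      rw [← pow_two, ← pow_two, ← pow_mul]; exact hc4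
    have hccz : (c * c) * z = z * (c * c) := by
      rw [mul_assoc, hcz, ← mul_assoc, hcz, mul_assoc]
    rcases inv2 (c * c) hcc hccz with h | h
    · exact inv2 c h hcz
    · exfalso
      have h1 : (i * c) * (i * c) = 1 := by
        calc (i * c) * (i * c) = i * (c * i) * c := by group
          _ = i * (i * c) * c := by rw [hci]
          _ = (i * i) * (c * c) := by group
          _ = z * z := by rw [h, hzdef, pow_two]
          _ = 1 := hz2
      have h2 : (i * c) * z = z * (i * c) := by
        rw [mul_assoc, hcz, ← mul_assoc, ← hzi, mul_assoc]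
      have hcS : c ∈ S := by
        rcases inv2 (i * c) h1 h2 with h3 | h3
        · have : c = i⁻¹ := by
            rw [eq_inv_iff_mul_eq_one, ← hci]; exact h3
          rw [this]; exact S.inv_mem hiS
        · have : c = i := by
            have h4 : i * c = i * i := by rw [h3, hzdef, pow_two]
            exact mul_left_cancel h4
          rw [this]; exact hiS
      rcases SC c hcS hcC with h5 | h5
      · rw [h5, mul_one] at h; exact hz1 h.symm
      · rw [h5, hz2] at h; exact hz1 h.symm
  -- (4) 4 does not divide |C|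
  intro hdvd
  haveI : Fact (Nat.Prime 2) := ⟨Nat.prime_two⟩
  obtain ⟨K, hK⟩ := Sylow.exists_subgroup_card_pow_prime (G := C) 2 (n := 2)
    (by norm_num; exact hdvd)
  have hKmem : ∀ k : K, ((k : C) : G) = 1 ∨ ((k : C) : G) = z := by
    intro k
    apply C4 _ (k : C).2
    have : k ^ Nat.card K = 1 := pow_card_eq_one'
    rw [hK] at this
    have h := congrArg (fun x : K => ((x : C) : G)) this
    simpa using h
  let f : K → Bool := fun k => decide (((k : C) : G) = 1)
  have hf : Function.Injective f := by
    intro a b hab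
    apply Subtype.ext; apply Subtype.ext
    simp only [f, decide_eq_decide] at hab
    rcases hKmem a with ha | ha <;> rcases hKmem b with hb | hb
    · rw [ha, hb]
    · exfalso; rw [hb] at hab; exact hz1 (hab.mp ha)
    · exfalso; rw [ha] at hab; exact hz1 (hab.mpr hb)
    · rw [ha, hb]
  have := Nat.card_le_card_of_injective f hf
  rw [hK] at this
  simp at this

/-- the centralizer of an `SL(2,5)`-like subgroup has cyclic Sylow subgroups -/
theorem cycSyl_centralizer {G : Type*} [Group G] [Finite G] (hF : FCFacts G)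
    (S : Subgroup G) (hS : SLFacts S) : CycSyl (Subgroup.centralizer (S : Set G)) := by
  intro p hp P
  rcases hp.out.eq_two_or_odd' with h2 | hodd
  · subst h2
    have h4 := not_four_dvd_card_centralizer hF S hS
    obtain ⟨n, hn⟩ := (IsPGroup.iff_card.mp P.isPGroup')
    have hdvd : Nat.card (P : Subgroup (Subgroup.centralizer (S : Set G))) ∣
        Nat.card (Subgroup.centralizer (S : Set G)) := Subgroup.card_subgroup_dvd_card _
    have hn' : Nat.card (P : Subgroup (Subgroup.centralizer (S : Set G))) = 2 ^ n := hn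
    have hle : n ≤ 1 := by
      by_contra hlt
      push Not at hlt
      apply h4
      apply dvd_trans _ hdvd
      rw [hn']
      exact pow_dvd_pow 2 hlt
    interval_cases n
    · have hPcard : Nat.card P = 1 := by rw [hn]; rfl
      haveI : Subsingleton P := (Nat.card_eq_one_iff_unique.mp hPcard).1
      exact isCyclic_of_subsingleton
    · haveI : Fact (Nat.Prime 2) := ⟨Nat.prime_two⟩
      have hPcard : Nat.card P = 2 := by rw [hn]; rfl
      exact isCyclic_of_prime_card hPcard
  · have hFP : FCFacts (P : Subgroup (Subgroup.centralizer (S : Set G))) :=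
      hF.of_injective ((Subgroup.centralizer (S : Set G)).subtype.comp
          (P : Subgroup (Subgroup.centralizer (S : Set G))).subtype)
        ((Subgroup.centralizer (S : Set G)).subtype_injective.comp
          (P : Subgroup (Subgroup.centralizer (S : Set G))).subtype_injective)
    exact hFP.isCyclic_of_isPGroup_odd hodd P.isPGroup'

/-- a subgroup of `S₅` containing `A₅` is `A₅` or everything -/
theorem range_eq_top_of_not_le {θr : Subgroup (Equiv.Perm (Fin 5))}
    (hA : alternatingGroup (Fin 5) ≤ θr) (hn : ¬ θr ≤ alternatingGroup (Fin 5)) : θr = ⊤ := by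
  rw [eq_top_iff]
  intro x _
  obtain ⟨y, hy, hyA⟩ := SetLike.not_le_iff_exists.mp hn
  have hys : Equiv.Perm.sign y = -1 := by
    rcases Int.units_eq_one_or (Equiv.Perm.sign y) with h | h
    · exact absurd (Equiv.Perm.mem_alternatingGroup.mpr h) hyA
    · exact h
  by_cases hx : x ∈ alternatingGroup (Fin 5)
  · exact hA hx
  · have hxs : Equiv.Perm.sign x = -1 := by
      rcases Int.units_eq_one_or (Equiv.Perm.sign x) with h | h
      · exact absurd (Equiv.Perm.mem_alternatingGroup.mpr h) hx
      · exact h
    have h1 : x * y⁻¹ ∈ alternatingGroup (Fin 5) := by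
      rw [Equiv.Perm.mem_alternatingGroup, map_mul, map_inv, hxs, hys]
      decide
    have h2 : x = (x * y⁻¹) * y := by group
    rw [h2]
    exact θr.mul_mem (hA h1) hy

/-- PIECE NS of S4291. -/
theorem exists_of_nonsolvable {G : Type*} [Group G] [Finite G] (hns : ¬ Group.IsSolvable G)
    (hFC : ∃ (L : Type) (_ : Group L) (_ : Finite L) (H : Subgroup L),
      Cfsg.IsFrobeniusComplement H ∧ Nonempty (G ≃* H)) :
    ∃ N : Subgroup G, N.Normal ∧ CycSyl N ∧
      ((∃ f : G →* alternatingGroup (Fin 5), Function.Surjective f ∧ f.ker = N) ∨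
       (∃ f : G →* Equiv.Perm (Fin 5), Function.Surjective f ∧ f.ker = N)) := by
  have hZ : ZassHyp := fun K _ _ G h1 h2 h3 => Cfsg.Agent.S0690.result G h1 h2 h3
  obtain ⟨L, hLg, hLf, H, hH, ⟨e⟩⟩ := hFC
  let ι : G →* L := H.subtype.comp e.toMonoidHom
  have hι : Function.Injective ι := H.subtype_injective.comp e.injective
  have hιH : ∀ g : G, ι g ∈ H := fun g => (e g).2
  have hF : FCFacts G := fcFacts_of_embedding H hH ι hι hιH
  obtain ⟨D, hDn, hD1, hDD⟩ := exists_perfect_core hns
  haveI := hDn
  haveI : Nontrivial D := (Subgroup.nontrivial_iff_ne_bot D).mpr hD1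
  obtain ⟨eD⟩ := perfect_iso hZ H hH (ι.comp D.subtype) (hι.comp D.subtype_injective)
    (fun g => hιH _) (commutator_subtype_eq_top D hDD)
  have hSL : SLFacts D := slFacts_of_equiv D eD
  obtain ⟨θ, hθker, hθA⟩ := exists_theta D eD
  refine ⟨Subgroup.centralizer (D : Set G), inferInstance, cycSyl_centralizer hF D hSL, ?_⟩
  by_cases hle : θ.range ≤ alternatingGroup (Fin 5)
  · left
    have hmem : ∀ g : G, θ g ∈ alternatingGroup (Fin 5) := fun g => hle ⟨g, rfl⟩
    refine ⟨θ.codRestrict (alternatingGroup (Fin 5)) hmem, ?_, ?_⟩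
    · rintro ⟨x, hx⟩
      obtain ⟨g, hg⟩ := hθA hx
      exact ⟨g, Subtype.ext hg⟩
    · rw [MonoidHom.ker_codRestrict, hθker]
  · right
    have htop : θ.range = ⊤ := range_eq_top_of_not_le hθA hle
    exact ⟨θ, MonoidHom.range_eq_top.mp htop, hθker⟩

end Cfsg.Agent.Helper16.FC5NS
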