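import Mathlib
import Cfsg.Agent.Lib.Helper16.MaxClass
import Cfsg.Agent.Lib.Helper16.FourCentGroup
import Cfsg.Agent.S0111

/-!
# Groups with an involution centralizer of order four: the case of order divisible by eight
(helper16's library)
-/

set_option autoImplicit false
set_option linter.unusedSectionVars false
set_option linter.style.haveILetI false

namespace Cfsg.Agent.Helper16
namespace FourCent

universe u

variable {G : Type u} [Group G] [Finite G]

/-- A subgroup all of whose elements are `1` or `z` has at most two elements. -/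
theorem card_le_two_of_forall {X : Type*} [Group X] (K : Subgroup X) (z : X)
    (h : ∀ e ∈ K, e = 1 ∨ e = z) : Nat.card K ≤ 2 := by
  classical
  have hsub : (K : Set X) ⊆ ({1, z} : Set X) := by
    intro e he
    rcases h e he with h1 | h1
    · rw [h1]; exact Set.mem_insert _ _
    · rw [h1]; exact Set.mem_insert_of_mem _ rfl
  have hfin : ({1, z} : Set X).Finite := Set.toFinite _
  calc Nat.card K = (K : Set X).ncard := rfl
    _ ≤ ({1, z} : Set X).ncard := Set.ncard_le_ncard hsub hfin
    _ ≤ ({z} : Set X).ncard + 1 := Set.ncard_insert_le 1 {z}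
    _ = 2 := by rw [Set.ncard_singleton]

/-- In an index-two subgroup, powers of an outside element with odd exponent stay outside. -/
theorem pow_not_mem_of_odd {H : Subgroup G} (hH : H.index = 2) {g : G} (hg : g ∉ H) {n : ℕ}
    (hn : Odd n) : g ^ n ∉ H := by
  obtain ⟨k, rfl⟩ := hn
  induction k with
  | zero => simpa using hg
  | succ k ih =>
    have h1 : g ^ (2 * (k + 1) + 1) = g ^ (2 * k + 1) * (g * g) := by
      rw [← pow_two, ← pow_add]; congr 1
    rw [h1]
    have h2 : g * g ∈ H := (Subgroup.mul_self_mem_of_index_two hH g)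
    intro h3
    exact ih ((Subgroup.mul_mem_cancel_right H h2).1 h3)

/-- The setup for a group of order divisible by eight: a Sylow `2`-subgroup, the central
involution, a conjugating element, and a normal subgroup of index two. -/
theorem exists_setup (x : G) (hx : orderOf x = 2)
    (hC4 : Nat.card (Subgroup.centralizer ({x} : Set G)) = 4)
    (hCe : ∀ c ∈ Subgroup.centralizer ({x} : Set G), c ^ 2 = 1)
    (h8 : 8 ∣ Nat.card G) :
    ∃ (z s : G) (H : Subgroup G), H.Normal ∧ H.index = 2 ∧ x ∉ H ∧ z ∈ H ∧ orderOf z = 2 ∧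
      z * x = x * z ∧ s * z = z * s ∧ s * x * s⁻¹ = x * z ∧
      ∀ c ∈ Subgroup.centralizer ({x} : Set G), c = 1 ∨ c = x ∨ c = z ∨ c = x * z := by
  classical
  haveI : Fact (Nat.Prime 2) := ⟨Nat.prime_two⟩
  set C : Subgroup G := Subgroup.centralizer ({x} : Set G) with hC
  have hCpg : IsPGroup 2 C := IsPGroup.of_card (n := 2) hC4
  obtain ⟨P, hCP⟩ := hCpg.exists_le_sylow
  have hxC : x ∈ C := Subgroup.mem_centralizer_singleton_iff.2 rfl
  have hxP : x ∈ (P : Subgroup G) := hCP hxC
  -- the order of `P`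
  obtain ⟨m, hm⟩ := IsPGroup.iff_card.1 P.2
  have h8P : 8 ∣ Nat.card (P : Subgroup G) := by
    have h1 : (2 : ℕ) ^ 3 ∣ Nat.card G := by norm_num; exact h8
    exact P.pow_dvd_card_of_pow_dvd_card h1
  have hm3 : 3 ≤ m := by
    rw [hm] at h8P
    have : (2 : ℕ) ^ 3 ∣ 2 ^ m := by norm_num; exact h8P
    exact (Nat.pow_dvd_pow_iff_le_right (by norm_num)).1 this
  -- the centralizer inside `P`
  set x' : (P : Subgroup G) := ⟨x, hxP⟩ with hx'
  have hx'o : orderOf x' = 2 := by rw [← Subgroup.orderOf_coe]; exact hx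
  have hcent : Subgroup.centralizer ({x'} : Set (P : Subgroup G)) = C.subgroupOf (P : Subgroup G) := by
    ext s
    rw [Subgroup.mem_centralizer_singleton_iff, Subgroup.mem_subgroupOf, hC,
      Subgroup.mem_centralizer_singleton_iff]
    constructor
    · intro h; exact congrArg Subtype.val h
    · intro h; exact Subtype.ext h
  have hcard' : Nat.card (Subgroup.centralizer ({x'} : Set (P : Subgroup G))) = 4 := by
    rw [hcent, ← hC4]
    exact Nat.card_congr (Subgroup.subgroupOfEquivOfLe hCP).toEquiv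
  have hP8 : 8 ≤ Nat.card (P : Subgroup G) := Nat.le_of_dvd Nat.card_pos h8P
  obtain ⟨z', hz'o, hz'c, hz'x, hlist'⟩ :=
    exists_central_involution_of_centralizer_four P.2 x' hx'o hcard' hP8
  obtain ⟨a', ha'o, hxa'⟩ :=
    exists_cyclic_max_of_centralizer_four m hm3 (P : Subgroup G) hm x' hx'o hcard'
  set z : G := (z' : G) with hz
  set a : G := (a' : G) with ha
  have hzo : orderOf z = 2 := by rw [hz, Subgroup.orderOf_coe]; exact hz'o
  have hao : orderOf a = 2 ^ (m - 1) := by rw [ha, Subgroup.orderOf_coe]; exact ha'o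
  have hx2 : x * x = 1 := by rw [← pow_two, ← hx]; exact pow_orderOf_eq_one x
  have hx1 : x ≠ 1 := by
    intro h1
    rw [h1, orderOf_one] at hx
    norm_num at hx
  have hzP : ∀ p ∈ (P : Subgroup G), p * z = z * p := by
    intro p hp
    have := Subgroup.mem_center_iff.1 hz'c ⟨p, hp⟩
    exact congrArg Subtype.val this
  have hzx : z * x = x * z := (hzP x hxP).symm
  have hlist : ∀ c ∈ C, c = 1 ∨ c = x ∨ c = z ∨ c = x * z := by
    intro c hc
    have hcP : c ∈ (P : Subgroup G) := hCP hc
    have hc' : (⟨c, hcP⟩ : (P : Subgroup G)) ∈ Subgroup.centralizer ({x'} : Set (P : Subgroup G)) := by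
      rw [hcent, Subgroup.mem_subgroupOf]; exact hc
    rcases hlist' _ hc' with h1 | h1 | h1 | h1
    · left; exact congrArg Subtype.val h1
    · right; left; exact congrArg Subtype.val h1
    · right; right; left; exact congrArg Subtype.val h1
    · right; right; right; exact congrArg Subtype.val h1
  -- the normalizer condition gives a conjugating element
  have hex : ∃ s ∈ (P : Subgroup G), s * x * s⁻¹ = x * z := by
    haveI : Group.IsNilpotent (P : Subgroup G) := IsPGroup.isNilpotent P.2
    have hncond := Group.normalizerCondition_of_isNilpotent (G := (P : Subgroup G))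
    set V' : Subgroup (P : Subgroup G) := Subgroup.centralizer ({x'} : Set (P : Subgroup G)) with hV'
    have hV'top : V' < ⊤ := by
      rw [lt_top_iff_ne_top]
      intro ht
      rw [ht, Subgroup.card_top] at hcard'
      omega
    obtain ⟨s', hs'N, hs'V⟩ := SetLike.exists_of_lt (hncond V' hV'top)
    have hx'V : x' ∈ V' := Subgroup.mem_centralizer_singleton_iff.2 rfl
    have hconj : s' * x' * s'⁻¹ ∈ V' := (Subgroup.mem_normalizer_iff.1 hs'N x').1 hx'V
    refine ⟨(s' : G), s'.2, ?_⟩
    rcases hlist' _ hconj with h1 | h1 | h1 | h1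
    · exfalso
      apply hx1
      have h2 : x' = 1 := by
        calc x' = s'⁻¹ * (s' * x' * s'⁻¹) * s' := by group
          _ = 1 := by rw [h1]; group
      exact congrArg Subtype.val h2
    · exfalso
      apply hs'V
      rw [hV', Subgroup.mem_centralizer_singleton_iff]
      calc s' * x' = (s' * x' * s'⁻¹) * s' := by group
        _ = x' * s' := by rw [h1]
    · exfalso
      apply hz'x
      have hc := Subgroup.mem_center_iff.1 hz'c s'
      calc z' = s'⁻¹ * (s' * z') := by group
        _ = s'⁻¹ * (z' * s') := by rw [hc]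
        _ = s'⁻¹ * ((s' * x' * s'⁻¹) * s') := by rw [h1]
        _ = x' := by group
    · have := congrArg Subtype.val h1
      simpa using this
  obtain ⟨s, hsP, hsx⟩ := hex
  -- the Thompson transfer lemma
  set Q : Subgroup G := Subgroup.zpowers a with hQ
  have haP : a ∈ (P : Subgroup G) := a'.2
  have hQP : Q ≤ (P : Subgroup G) := by rw [hQ, Subgroup.zpowers_le]; exact haP
  have hQsub : Q.subgroupOf (P : Subgroup G) = Subgroup.zpowers a' := by
    ext t
    rw [Subgroup.mem_subgroupOf, hQ, Subgroup.mem_zpowers_iff, Subgroup.mem_zpowers_iff]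
    constructor
    · rintro ⟨k, hk⟩
      exact ⟨k, Subtype.ext (by rw [← hk]; simp [ha])⟩
    · rintro ⟨k, hk⟩
      exact ⟨k, by rw [← hk]; simp [ha]⟩
  have hQi : Q.relIndex (P : Subgroup G) = 2 := by
    rw [Subgroup.relIndex, hQsub]
    have h1 := (Subgroup.zpowers a').card_mul_index
    rw [Nat.card_zpowers, ha'o, hm] at h1
    have h2 : (2 : ℕ) ^ m = 2 ^ (m - 1) * 2 := by
      rw [← pow_succ]; congr 1; omega
    rw [h2] at h1
    exact Nat.eq_of_mul_eq_mul_left (by positivity) h1
  have hxQ : x ∉ Q := by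
    intro hmem
    apply hxa'
    rw [← hQsub, Subgroup.mem_subgroupOf]
    exact hmem
  rcases Cfsg.Agent.S0111.result P Q hQP hQi x hx hxP hxQ with ⟨H, hHn, hHi, hxH⟩ | ⟨g, hg⟩
  · refine ⟨z, s, H, hHn, hHi, hxH, ?_, hzo, hzx, hzP s hsP, hsx, hlist⟩
    have hxz : x * z ∉ H := by
      intro hmem
      apply hxH
      rw [← hsx] at hmem
      have := hHn.conj_mem _ hmem s⁻¹
      have h2 : s⁻¹ * (s * x * s⁻¹) * s⁻¹⁻¹ = x := by group
      rwa [h2] at this
    have h3 : x * (x * z) ∈ H := by
      rw [Subgroup.mul_mem_iff_of_index_two hHi]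
      exact ⟨fun h => absurd h hxH, fun h => absurd h hxz⟩
    rwa [← mul_assoc, hx2, one_mul] at h3
  · exfalso
    obtain ⟨k, hk⟩ := Subgroup.mem_zpowers_iff.1 hg
    have hcomm : a * (g * x * g⁻¹) = (g * x * g⁻¹) * a := by
      rw [← hk]
      exact (Commute.zpow_right (Commute.refl a) k).eq
    have hmem : g⁻¹ * a * g ∈ C := by
      rw [hC, Subgroup.mem_centralizer_singleton_iff]
      calc g⁻¹ * a * g * x = g⁻¹ * (a * (g * x * g⁻¹)) * g := by group
        _ = g⁻¹ * ((g * x * g⁻¹) * a) * g := by rw [hcomm]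
        _ = x * (g⁻¹ * a * g) := by group
    have h2 := hCe _ hmem
    have h3 : a ^ 2 = 1 := by
      calc a ^ 2 = g * (g⁻¹ * a * g) ^ 2 * g⁻¹ := by rw [pow_two, pow_two]; group
        _ = 1 := by rw [h2]; group
    have h4 := orderOf_dvd_of_pow_eq_one h3
    rw [hao] at h4
    have h5 : (2 : ℕ) ^ 2 ≤ 2 ^ (m - 1) := Nat.pow_le_pow_right two_pos (by omega)
    have := Nat.le_of_dvd two_pos h4
    omega

/-- With the setup, every conjugate of `z` commutes with `z`. -/
theorem conj_commute {x z s : G} {H : Subgroup G} (hx : orderOf x = 2) (hz : orderOf z = 2)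
    (hHn : H.Normal)
    (hHi : H.index = 2) (hxH : x ∉ H) (hzH : z ∈ H) (hsz : s * z = z * s)
    (hsx : s * x * s⁻¹ = x * z)
    (hlist : ∀ c ∈ Subgroup.centralizer ({x} : Set G), c = 1 ∨ c = x ∨ c = z ∨ c = x * z)
    (g : G) : (g * z * g⁻¹) * z = z * (g * z * g⁻¹) := by
  set v : G := g * z * g⁻¹ with hv
  have hvH : v ∈ H := hHn.conj_mem z hzH g
  have hx2 : x * x = 1 := by rw [← pow_two, ← hx]; exact pow_orderOf_eq_one x
  have hxinv : x⁻¹ = x := inv_eq_of_mul_eq_one_left hx2
  -- elements of `H` commuting with `x` commute with `z`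
  have hcase_x : ∀ u ∈ H, u * x = x * u → u * z = z * u := by
    intro u hu hux
    have hmem : u ∈ Subgroup.centralizer ({x} : Set G) :=
      Subgroup.mem_centralizer_singleton_iff.2 hux
    rcases hlist u hmem with h1 | h1 | h1 | h1
    · rw [h1, one_mul, mul_one]
    · exfalso; rw [h1] at hu; exact hxH hu
    · rw [h1]
    · exfalso
      rw [h1] at hu
      exact hxH ((Subgroup.mul_mem_cancel_right H hzH).1 hu)
  -- elements of `H` commuting with `x * z` commute with `z`
  have hcase_xz : ∀ u ∈ H, u * (x * z) = (x * z) * u → u * z = z * u := by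
    intro u hu huxz
    have hu' : s⁻¹ * u * s ∈ H := by
      have := hHn.conj_mem u hu s⁻¹
      rwa [inv_inv] at this
    have hcomm : (s⁻¹ * u * s) * x = x * (s⁻¹ * u * s) := by
      have hx' : x = s⁻¹ * (x * z) * s := by rw [← hsx]; group
      calc (s⁻¹ * u * s) * x = (s⁻¹ * u * s) * (s⁻¹ * (x * z) * s) := by rw [← hx']
        _ = s⁻¹ * (u * (x * z)) * s := by group
        _ = s⁻¹ * ((x * z) * u) * s := by rw [huxz]
        _ = (s⁻¹ * (x * z) * s) * (s⁻¹ * u * s) := by group
        _ = x * (s⁻¹ * u * s) := by rw [← hx']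
    have h1 := hcase_x _ hu' hcomm
    have hsz' : s⁻¹ * z * s = z := by
      calc s⁻¹ * z * s = s⁻¹ * (z * s) := by group
        _ = s⁻¹ * (s * z) := by rw [hsz]
        _ = z := by group
    calc u * z = s * ((s⁻¹ * u * s) * (s⁻¹ * z * s)) * s⁻¹ := by group
      _ = s * ((s⁻¹ * u * s) * z) * s⁻¹ := by rw [hsz']
      _ = s * (z * (s⁻¹ * u * s)) * s⁻¹ := by rw [h1]
      _ = s * ((s⁻¹ * z * s) * (s⁻¹ * u * s)) * s⁻¹ := by rw [hsz']
      _ = z * u := by group
  -- the involution of the cyclic group generated by `x * v`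
  have hz2 : z * z = 1 := by rw [← pow_two, ← hz]; exact pow_orderOf_eq_one z
  have hv2 : v * v = 1 := by
    calc v * v = g * (z * z) * g⁻¹ := by rw [hv]; group
      _ = 1 := by rw [hz2]; group
  have hvinv : v⁻¹ = v := inv_eq_of_mul_eq_one_left hv2
  have hxvH : x * v ∉ H := by
    intro hmem
    exact hxH ((Subgroup.mul_mem_cancel_right H hvH).1 hmem)
  set n : ℕ := orderOf (x * v) with hn
  have hnpos : 0 < n := orderOf_pos (x * v)
  have hneven : Even n := by
    rcases Nat.even_or_odd n with he | ho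
    · exact he
    · exfalso
      apply pow_not_mem_of_odd hHi hxvH ho
      rw [hn, pow_orderOf_eq_one]
      exact H.one_mem
  obtain ⟨k, hk⟩ := hneven
  have hkpos : 0 < k := by omega
  set w : G := (x * v) ^ k with hw
  have hw2 : w * w = 1 := by
    rw [hw, ← pow_add, ← hk, hn, pow_orderOf_eq_one]
  have hwinv : w⁻¹ = w := inv_eq_of_mul_eq_one_left hw2
  have hw1 : w ≠ 1 := by
    rw [hw]
    exact pow_ne_one_of_lt_orderOf (by omega) (by rw [← hn]; omega)
  have hinv_x : x * (x * v) * x⁻¹ = (x * v)⁻¹ := by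
    rw [hxinv, mul_inv_rev, hxinv, hvinv]
    calc x * (x * v) * x = (x * x) * v * x := by group
      _ = v * x := by rw [hx2, one_mul]
  have hinv_v : v * (x * v) * v⁻¹ = (x * v)⁻¹ := by
    rw [hvinv, mul_inv_rev, hxinv, hvinv]
    calc v * (x * v) * v = v * x * (v * v) := by group
      _ = v * x := by rw [hv2, mul_one]
  have hwx : w * x = x * w := by
    have h1 : x * w * x⁻¹ = w⁻¹ := by
      rw [hw, ← inv_pow, ← hinv_x, conj_pow]
    rw [hwinv] at h1
    calc w * x = (x * w * x⁻¹) * x := by rw [h1]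
      _ = x * w := by group
  have hwv : v * w = w * v := by
    have h1 : v * w * v⁻¹ = w⁻¹ := by
      rw [hw, ← inv_pow, ← hinv_v, conj_pow]
    rw [hwinv] at h1
    calc v * w = (v * w * v⁻¹) * v := by group
      _ = w * v := by rw [h1]
  have hwC : w ∈ Subgroup.centralizer ({x} : Set G) :=
    Subgroup.mem_centralizer_singleton_iff.2 hwx
  rcases hlist w hwC with h1 | h1 | h1 | h1
  · exact absurd h1 hw1
  · rw [h1] at hwv
    exact hcase_x v hvH hwv
  · rw [h1] at hwv
    exact hwv
  · rw [h1] at hwv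
    exact hcase_xz v hvH hwv

/-- A group of order divisible by eight with an involution whose centralizer is elementary
abelian of order four has a normal elementary abelian subgroup of order two or four. -/
theorem exists_normal_of_eight_dvd (x : G) (hx : orderOf x = 2)
    (hC4 : Nat.card (Subgroup.centralizer ({x} : Set G)) = 4)
    (hCe : ∀ c ∈ Subgroup.centralizer ({x} : Set G), c ^ 2 = 1)
    (h8 : 8 ∣ Nat.card G) :
    ∃ E : Subgroup G, E.Normal ∧ Cfsg.IsElementaryAbelian 2 E ∧
      (Nat.card E = 2 ∨ Nat.card E = 4) := by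
  classical
  obtain ⟨z, s, H, hHn, hHi, hxH, hzH, hzo, hzx, hsz, hsx, hlist⟩ :=
    exists_setup x hx hC4 hCe h8
  have hcc := conj_commute hx hzo hHn hHi hxH hzH hsz hsx hlist
  have hz2 : z * z = 1 := by rw [← pow_two, ← hzo]; exact pow_orderOf_eq_one z
  have hz1 : z ≠ 1 := by
    intro h1
    rw [h1, orderOf_one] at hzo
    norm_num at hzo
  have hx2 : x * x = 1 := by rw [← pow_two, ← hx]; exact pow_orderOf_eq_one x
  have hxinv : x⁻¹ = x := inv_eq_of_mul_eq_one_left hx2
  set E : Subgroup G := Subgroup.normalClosure ({z} : Set G) with hE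
  have hEn : E.Normal := Subgroup.normalClosure_normal
  have hEH : E ≤ H := Subgroup.normalClosure_le_normal (by
    intro t ht
    rw [Set.mem_singleton_iff] at ht
    rw [ht]; exact hzH)
  have hzE : z ∈ E := Subgroup.subset_normalClosure (Set.mem_singleton z)
  -- the generators commute
  have hgen : ∀ a ∈ Group.conjugatesOfSet ({z} : Set G), ∀ b ∈ Group.conjugatesOfSet ({z} : Set G),
      a * b = b * a := by
    intro a ha b hb
    rw [Group.mem_conjugatesOfSet_iff] at ha hb
    obtain ⟨a0, ha0, hca⟩ := ha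
    obtain ⟨b0, hb0, hcb⟩ := hb
    rw [Set.mem_singleton_iff] at ha0 hb0
    rw [ha0] at hca
    rw [hb0] at hcb
    obtain ⟨c, hc⟩ := isConj_iff.1 hca
    obtain ⟨d, hd⟩ := isConj_iff.1 hcb
    rw [← hc, ← hd]
    have h1 := hcc (d⁻¹ * c)
    calc c * z * c⁻¹ * (d * z * d⁻¹) = d * ((d⁻¹ * c) * z * (d⁻¹ * c)⁻¹ * z) * d⁻¹ := by group
      _ = d * (z * ((d⁻¹ * c) * z * (d⁻¹ * c)⁻¹)) * d⁻¹ := by rw [h1]
      _ = d * z * d⁻¹ * (c * z * c⁻¹) := by group
  have hEcomm : IsMulCommutative E := Subgroup.isMulCommutative_closure hgen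
  have hEE : ∀ a ∈ E, ∀ b ∈ E, a * b = b * a := by
    intro a ha b hb
    have := hEcomm.is_comm.comm (⟨a, ha⟩ : E) ⟨b, hb⟩
    exact congrArg Subtype.val this
  have hEsq : ∀ e ∈ E, e * e = 1 := by
    intro e he
    induction he using Subgroup.closure_induction with
    | mem t ht =>
      rw [Group.mem_conjugatesOfSet_iff] at ht
      obtain ⟨t0, ht0, hct⟩ := ht
      rw [Set.mem_singleton_iff] at ht0
      rw [ht0] at hct
      obtain ⟨c, hc⟩ := isConj_iff.1 hct
      rw [← hc]
      calc c * z * c⁻¹ * (c * z * c⁻¹) = c * (z * z) * c⁻¹ := by group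
        _ = 1 := by rw [hz2]; group
    | one => rw [one_mul]
    | mul a b ha hb iha ihb =>
      have hab := hEE a ha b hb
      calc a * b * (a * b) = a * (b * a) * b := by group
        _ = a * (a * b) * b := by rw [hab]
        _ = (a * a) * (b * b) := by group
        _ = 1 := by rw [iha, ihb, one_mul]
    | inv a ha iha =>
      calc a⁻¹ * a⁻¹ = (a * a)⁻¹ := by group
        _ = 1 := by rw [iha, inv_one]
  refine ⟨E, hEn, ⟨hEcomm, fun e he => by rw [pow_two]; exact hEsq e he⟩, ?_⟩
  -- elements of `E` commuting with `x` are `1` or `z`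
  have hfix : ∀ e ∈ E, e * x = x * e → e = 1 ∨ e = z := by
    intro e he hex
    have hmem : e ∈ Subgroup.centralizer ({x} : Set G) :=
      Subgroup.mem_centralizer_singleton_iff.2 hex
    have heH := hEH he
    rcases hlist e hmem with h1 | h1 | h1 | h1
    · exact Or.inl h1
    · exfalso; rw [h1] at heH; exact hxH heH
    · exact Or.inr h1
    · exfalso
      rw [h1] at heH
      exact hxH ((Subgroup.mul_mem_cancel_right H hzH).1 heH)
  -- the homomorphism `e ↦ e * x e x⁻¹`
  have hconjE : ∀ e ∈ E, x * e * x⁻¹ ∈ E := fun e he => hEn.conj_mem e he x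
  let f : E →* E :=
    { toFun := fun e => ⟨e.1 * (x * e.1 * x⁻¹), E.mul_mem e.2 (hconjE e.1 e.2)⟩
      map_one' := by
        apply Subtype.ext
        show (1 : G) * (x * 1 * x⁻¹) = 1
        group
      map_mul' := by
        intro e e'
        apply Subtype.ext
        show (e.1 * e'.1) * (x * (e.1 * e'.1) * x⁻¹) =
          (e.1 * (x * e.1 * x⁻¹)) * (e'.1 * (x * e'.1 * x⁻¹))
        have h1 := hEE e'.1 e'.2 (x * e.1 * x⁻¹) (hconjE e.1 e.2)
        calc (e.1 * e'.1) * (x * (e.1 * e'.1) * x⁻¹)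
            = e.1 * (e'.1 * (x * e.1 * x⁻¹)) * (x * e'.1 * x⁻¹) := by group
          _ = e.1 * ((x * e.1 * x⁻¹) * e'.1) * (x * e'.1 * x⁻¹) := by rw [h1]
          _ = (e.1 * (x * e.1 * x⁻¹)) * (e'.1 * (x * e'.1 * x⁻¹)) := by group }
  have hker : Nat.card f.ker ≤ 2 := by
    apply card_le_two_of_forall f.ker ⟨z, hzE⟩
    intro e he
    rw [MonoidHom.mem_ker] at he
    have h1 : e.1 * (x * e.1 * x⁻¹) = 1 := congrArg Subtype.val he
    have h2 : x * e.1 * x⁻¹ = e.1 := by
      have h3 : x * e.1 * x⁻¹ = e.1⁻¹ := (inv_eq_of_mul_eq_one_right h1).symm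
      rw [h3]
      exact inv_eq_of_mul_eq_one_left (hEsq e.1 e.2)
    have h4 : e.1 * x = x * e.1 := by
      calc e.1 * x = (x * e.1 * x⁻¹) * x := by rw [h2]
        _ = x * e.1 := by group
    rcases hfix e.1 e.2 h4 with h5 | h5
    · left; exact Subtype.ext h5
    · right; exact Subtype.ext h5
  have hrange : Nat.card f.range ≤ 2 := by
    apply card_le_two_of_forall f.range ⟨z, hzE⟩
    rintro _ ⟨e, rfl⟩
    have h1 : (f e : G) = e.1 * (x * e.1 * x⁻¹) := rfl
    have h2 : (f e : G) * x = x * (f e : G) := by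
      rw [h1]
      have hc := hEE e.1 e.2 (x * e.1 * x⁻¹) (hconjE e.1 e.2)
      calc e.1 * (x * e.1 * x⁻¹) * x = e.1 * x * e.1 := by group
        _ = (x * x) * e.1 * x * e.1 := by rw [hx2, one_mul]
        _ = x * ((x * e.1 * x⁻¹) * e.1) := by rw [hxinv]; group
        _ = x * (e.1 * (x * e.1 * x⁻¹)) := by rw [hc]
    rcases hfix (f e : G) (f e).2 h2 with h5 | h5
    · left; exact Subtype.ext h5
    · right; exact Subtype.ext h5
  have hmul : Nat.card f.ker * Nat.card f.range = Nat.card E := by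
    have h1 := f.ker.card_mul_index
    rw [Subgroup.index_ker] at h1
    exact h1
  have hEpos : 1 < Nat.card E := by
    rw [Finite.one_lt_card_iff_nontrivial]
    exact ⟨⟨⟨z, hzE⟩, 1, fun h => hz1 (congrArg Subtype.val h)⟩⟩
  have hk1 : 0 < Nat.card f.ker := Nat.card_pos
  have hr1 : 0 < Nat.card f.range := Nat.card_pos
  have hkc : Nat.card f.ker = 1 ∨ Nat.card f.ker = 2 := by omega
  have hrc : Nat.card f.range = 1 ∨ Nat.card f.range = 2 := by omega
  rcases hkc with hk | hk <;> rcases hrc with hr | hr <;> rw [hk, hr] at hmul <;> omega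

end FourCent
end Cfsg.Agent.Helper16
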