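import Mathlib

set_option autoImplicit false
set_option linter.style.haveILetI false
set_option linter.unusedSectionVars false

/-! Fixed-point-free automorphisms of order three. -/

namespace Cfsg.Agent.Helper16.Fpf3

/-- a fixed-point-free automorphism with trivial cube -/
structure IsFpf3 {T : Type*} [Group T] (ρ : MulAut T) : Prop where
  cube : ∀ t : T, ρ (ρ (ρ t)) = t
  fpf : ∀ t : T, ρ t = t → t = 1

section basic

variable {T : Type*} [Group T] {ρ : MulAut T} (h : IsFpf3 ρ)

include h in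
theorem kappa_inj {y w : T} (hyw : y⁻¹ * ρ y = w⁻¹ * ρ w) : y = w := by
  have h1 : ρ (y * w⁻¹) = y * w⁻¹ := by
    rw [map_mul, map_inv]
    have : ρ y = y * (w⁻¹ * ρ w) := by rw [← hyw]; group
    rw [this]; group
  have := h.fpf _ h1
  exact mul_inv_eq_one.mp this

include h in
theorem inv_isFpf3 : IsFpf3 ρ⁻¹ := by
  have hinv : ∀ t : T, ρ⁻¹ t = ρ (ρ t) := by
    intro t
    rw [MulAut.inv_apply, MulEquiv.symm_apply_eq, h.cube]
  constructor
  · intro t
    rw [hinv, hinv, hinv, h.cube, h.cube]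
  · intro t ht
    rw [hinv] at ht
    apply h.fpf
    have := congrArg ρ ht
    rw [h.cube] at this
    exact this.symm

include h in
theorem prod_eq_one [Finite T] (t : T) : t * ρ t * ρ (ρ t) = 1 := by
  have hinj : Function.Injective (fun y : T => y⁻¹ * ρ y) := fun y w hyw => kappa_inj h hyw
  obtain ⟨y, rfl⟩ := Finite.surjective_of_injective hinj t
  simp only [map_mul, map_inv, h.cube]
  group

include h in
theorem commute_rho [Finite T] (t : T) : t * ρ t = ρ t * t := by
  have h1 := prod_eq_one h t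
  have h2 := prod_eq_one (inv_isFpf3 h) t
  have hinv : ∀ t : T, ρ⁻¹ t = ρ (ρ t) := by
    intro t
    rw [MulAut.inv_apply, MulEquiv.symm_apply_eq, h.cube]
  rw [hinv, hinv, h.cube] at h2
  -- t * ρ t * ρ²t = 1 = t * ρ² t * ρ t
  have h3 : ρ t * ρ (ρ t) = ρ (ρ t) * ρ t := by
    have e1 : ρ t * ρ (ρ t) = t⁻¹ := by
      calc ρ t * ρ (ρ t) = t⁻¹ * (t * ρ t * ρ (ρ t)) := by group
        _ = t⁻¹ := by rw [h1, mul_one]
    have e2 : ρ (ρ t) * ρ t = t⁻¹ := by
      calc ρ (ρ t) * ρ t = t⁻¹ * (t * ρ (ρ t) * ρ t) := by group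
        _ = t⁻¹ := by rw [h2, mul_one]
    rw [e1, e2]
  have := congrArg (fun y => ρ (ρ y)) h3
  simp only [map_mul, h.cube] at this
  exact this

include h in
theorem rho_sq_eq [Finite T] (t : T) : ρ (ρ t) = (t * ρ t)⁻¹ := by
  have h1 := prod_eq_one h t
  exact eq_inv_of_mul_eq_one_right h1

/-- invariance of a subgroup -/
def Inv (ρ : MulAut T) (N : Subgroup T) : Prop := ∀ n ∈ N, ρ n ∈ N

include h in
theorem mem_of_kappa_mem [Finite T] {N : Subgroup T} (hN : Inv ρ N) {t : T}
    (ht : t⁻¹ * ρ t ∈ N) : t ∈ N := by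
  let f : N → N := fun n => ⟨n.1⁻¹ * ρ n.1, N.mul_mem (N.inv_mem n.2) (hN _ n.2)⟩
  have hinj : Function.Injective f := by
    intro a b hab
    apply Subtype.ext
    exact kappa_inj h (congrArg Subtype.val hab)
  obtain ⟨n, hn⟩ := Finite.surjective_of_injective hinj ⟨_, ht⟩
  have := kappa_inj h (congrArg Subtype.val hn)
  rw [← this]
  exact n.2

include h in
theorem card_modEq [Finite T] {N : Subgroup T} (hN : Inv ρ N) : Nat.card N ≡ 1 [MOD 3] := by
  classical
  haveI : Fintype N := Fintype.ofFinite N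
  have hN2 : ∀ n ∈ N, ρ (ρ n) ∈ N := fun n hn => hN _ (hN _ hn)
  let σ : Function.End N := fun n => ⟨ρ n.1, hN _ n.2⟩
  haveI : Fact (Nat.Prime 3) := ⟨Nat.prime_three⟩
  have hσ : σ ^ 3 ^ 1 = 1 := by
    rw [pow_one]
    funext n
    show σ^[3] n = n
    apply Subtype.ext
    exact h.cube n.1
  have := Equiv.Perm.card_fixedPoints_modEq (p := 3) (n := 1) hσ
  rw [Nat.card_eq_fintype_card]
  refine this.trans ?_
  have hfix : Function.fixedPoints σ = {1} := by
    ext n
    simp only [Function.mem_fixedPoints, Function.IsFixedPt, Set.mem_singleton_iff]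
    constructor
    · intro hn
      have : ρ n.1 = n.1 := congrArg Subtype.val hn
      exact Subtype.ext (h.fpf _ this)
    · rintro rfl
      apply Subtype.ext
      show ρ 1 = 1
      exact map_one ρ
  have : Fintype.card (Function.fixedPoints σ) = 1 := by
    rw [Fintype.card_eq_one_iff]
    refine ⟨⟨1, by rw [hfix]; rfl⟩, ?_⟩
    rintro ⟨n, hn⟩
    apply Subtype.ext
    rw [hfix] at hn
    exact hn
  rw [this]

end basic

end Cfsg.Agent.Helper16.Fpf3
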