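import Mathlib
import Cfsg.Agent.Lib.Helper2.SL2Sylow
import Cfsg.Agent.Lib.Helper4.DicksonSL2

set_option autoImplicit false
set_option linter.style.haveILetI false
set_option linter.unusedSectionVars false

/-! Central decompositions of `SL₂(F)` in odd characteristic. -/

namespace Cfsg.Agent.Helper16.SL2Cent

open Matrix Matrix.SpecialLinearGroup
open scoped MatrixGroups
open Cfsg.Agent.Helper2.SL2S
open Cfsg.Agent.Helper4.DSL

variable {F : Type*} [Field F]

/-- a normal subgroup containing the upper unitriangular matrices is everything -/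
theorem eq_top_of_normal_of_u (K : Subgroup SL(2, F)) (hK : K.Normal) (h1 : ∀ b : F, u b ∈ K) :
    K = ⊤ := by
  refine closure_eq_top K (v 1) ?_ h1 (fun b => hK.conj_mem _ (h1 b) _)
  rw [v_coe]
  simp

/-- `SL₂(F)` has no nontrivial homomorphism to a group of exponent two, in odd characteristic -/
theorem hom_trivial (h2 : (2 : F) ≠ 0) {H : Type*} [Group H] (hH : ∀ h : H, h * h = 1)
    (f : SL(2, F) →* H) (g : SL(2, F)) : f g = 1 := by
  have hker : f.ker = ⊤ := by
    apply eq_top_of_normal_of_u f.ker inferInstance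
    intro b
    rw [MonoidHom.mem_ker]
    have : u b = u (b / 2) * u (b / 2) := by
      rw [← u_add]
      congr 1
      field_simp
      ring
    rw [this, map_mul, hH]
  have : g ∈ f.ker := by rw [hker]; trivial
  exact MonoidHom.mem_ker.mp this

/-- same for a group isomorphic to `SL₂(F)` -/
theorem hom_trivial' (h2 : (2 : F) ≠ 0) {L : Type*} [Group L] (e : L ≃* SL(2, F))
    {H : Type*} [Group H] (hH : ∀ h : H, h * h = 1)
    (f : L →* H) (g : L) : f g = 1 := by
  have := hom_trivial h2 hH (f.comp e.symm.toMonoidHom) (e g)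
  simpa using this

/-- a central element of `SL₂(F)` is `±1` -/
theorem central_entries (z : SL(2, F)) (hz : ∀ g : SL(2, F), z * g = g * z) :
    z.1 1 0 = 0 ∧ z.1 0 1 = 0 ∧ z.1 0 0 = z.1 1 1 ∧ z.1 0 0 * z.1 0 0 = 1 := by
  have h1 := (commute_u_iff (one_ne_zero (α := F)) z).mp (hz (u 1))
  have h2 := (commute_v_iff (one_ne_zero (α := F)) z).mp (hz (v 1))
  refine ⟨h1.1, h2.1, h1.2, ?_⟩
  have hdet := z.2
  rw [Matrix.det_fin_two, h1.1, h2.1, ← h1.2] at hdet
  linear_combination hdet

/-- two central elements of `SL₂(F)` different from the identity coincide -/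
theorem central_unique (z w : SL(2, F)) (hz : ∀ g : SL(2, F), z * g = g * z)
    (hw : ∀ g : SL(2, F), w * g = g * w) (hz1 : z ≠ 1) (hw1 : w ≠ 1) : z = w := by
  obtain ⟨z10, z01, z00, zsq⟩ := central_entries z hz
  obtain ⟨w10, w01, w00, wsq⟩ := central_entries w hw
  have key : ∀ t : SL(2, F), t.1 1 0 = 0 → t.1 0 1 = 0 → t.1 0 0 = t.1 1 1 →
      t.1 0 0 * t.1 0 0 = 1 → t ≠ 1 → t.1 0 0 = -1 := by
    intro t t10 t01 t00 tsq t1
    have : (t.1 0 0 - 1) * (t.1 0 0 + 1) = 0 := by linear_combination tsq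
    rcases mul_eq_zero.mp this with h | h
    · exfalso
      apply t1
      apply Subtype.ext
      ext i j
      fin_cases i <;> fin_cases j
      · simpa using sub_eq_zero.mp h
      · simpa using t01
      · simpa using t10
      · simp only [Fin.mk_one, Fin.isValue, coe_one, one_apply_eq]
        rw [← t00]
        exact sub_eq_zero.mp h
    · exact eq_neg_of_add_eq_zero_left h
  have hz' := key z z10 z01 z00 zsq hz1
  have hw' := key w w10 w01 w00 wsq hw1
  apply Subtype.ext
  ext i j
  fin_cases i <;> fin_cases j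
  · simp only [Fin.zero_eta, Fin.isValue]; rw [hz', hw']
  · simp only [Fin.zero_eta, Fin.isValue, Fin.mk_one]; rw [z01, w01]
  · simp only [Fin.zero_eta, Fin.isValue, Fin.mk_one]; rw [z10, w10]
  · simp only [Fin.isValue, Fin.mk_one]; rw [← z00, ← w00, hz', hw']

/-- `SL₂(F)` is not a central product of two proper subgroups, in odd characteristic -/
theorem central_indecomposable [Fintype F] (h2 : (2 : F) ≠ 0) (A B : Subgroup SL(2, F))
    (hc : ∀ a ∈ A, ∀ b ∈ B, a * b = b * a)
    (hAB : ∀ g : SL(2, F), ∃ a ∈ A, ∃ b ∈ B, g = a * b) : A = ⊤ ∨ B = ⊤ := by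
  -- both are normal
  have hnorm : ∀ (A B : Subgroup SL(2, F)), (∀ a ∈ A, ∀ b ∈ B, a * b = b * a) →
      (∀ g : SL(2, F), ∃ a ∈ A, ∃ b ∈ B, g = a * b) → A.Normal := by
    intro A B hc hAB
    constructor
    intro x hx g
    obtain ⟨a, ha, b, hb, rfl⟩ := hAB g
    have : a * b * x * (a * b)⁻¹ = a * x * a⁻¹ := by
      have := hc x hx b hb
      calc a * b * x * (a * b)⁻¹ = a * (b * x) * b⁻¹ * a⁻¹ := by group
        _ = a * (x * b) * b⁻¹ * a⁻¹ := by rw [this]
        _ = a * x * a⁻¹ := by group
    rw [this]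
    exact A.mul_mem (A.mul_mem ha hx) (A.inv_mem ha)
  have hA : A.Normal := hnorm A B hc hAB
  have hB : B.Normal := hnorm B A (fun b hb a ha => (hc a ha b hb).symm) (fun g => by
    obtain ⟨a, ha, b, hb, rfl⟩ := hAB g
    exact ⟨b, hb, a, ha, hc a ha b hb⟩)
  -- the parameters of unitriangular elements of a normal subgroup form an ideal
  have hideal : ∀ (A : Subgroup SL(2, F)), A.Normal → ∀ x₀ : F, x₀ ≠ 0 → u x₀ ∈ A →
      ∀ y : F, u y ∈ A := by
    intro A hA x₀ hx₀ hmem y
    have hsq : ∀ t : F, u (x₀ * t * t) ∈ A := by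
      intro t
      by_cases ht : t = 0
      · rw [ht, mul_zero, u_zero]; exact A.one_mem
      · let d : SL(2, F) := ⟨!![t, 0; 0, t⁻¹], by
          rw [Matrix.det_fin_two]; simp [mul_inv_cancel₀ ht]⟩
        have hd : d.1 1 0 = 0 := by simp [d]
        have := conj_u_of_lower_zero d hd x₀
        have hd0 : d.1 0 0 = t := by simp [d]
        rw [hd0] at this
        rw [← this]
        exact hA.conj_mem _ hmem _
    have hy : y = x₀ * ((y / x₀ + 1) / 2) * ((y / x₀ + 1) / 2) +
        -(x₀ * ((y / x₀ - 1) / 2) * ((y / x₀ - 1) / 2)) := by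
      field_simp
      ring
    rw [hy, u_add, ← u_inv]
    exact A.mul_mem (hsq _) (A.inv_mem (hsq _))
  -- decompose `u (1/2)`
  obtain ⟨a, ha, b, hb, hab⟩ := hAB (u (1 / 2))
  have hcomm : a * b = b * a := hc a ha b hb
  have hau : a * u (1 / 2) = u (1 / 2) * a := by
    rw [hab]
    calc a * (a * b) = a * (b * a) := by rw [hcomm]
      _ = a * b * a := by group
  have hbu : b * u (1 / 2) = u (1 / 2) * b := by
    rw [hab]
    calc b * (a * b) = (b * a) * b := by group
      _ = (a * b) * b := by rw [hcomm]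
  have hhalf : (1 / 2 : F) ≠ 0 := by
    rw [one_div]; exact inv_ne_zero h2
  have ha' := (commute_u_iff hhalf a).mp hau
  have hb' := (commute_u_iff hhalf b).mp hbu
  -- squares of elements commuting with `u` are unitriangular
  have hsq : ∀ k : SL(2, F), k.1 1 0 = 0 → k.1 0 0 = k.1 1 1 → k * k = u (2 * k.1 0 0 * k.1 0 1) := by
    intro k h10 h00
    have hdet := k.2
    rw [Matrix.det_fin_two, h10, ← h00] at hdet
    apply Subtype.ext
    rw [coe_mul, u_coe]
    ext i j
    fin_cases i <;> fin_cases j <;> simp [Matrix.mul_apply, Fin.sum_univ_two, h10, ← h00]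
    · linear_combination hdet
    · ring
    · linear_combination hdet
  have haa := hsq a ha'.1 ha'.2
  have hbb := hsq b hb'.1 hb'.2
  have h1 : u (1 : F) = (a * a) * (b * b) := by
    have : u (1 : F) = u (1 / 2) * u (1 / 2) := by
      rw [← u_add]; congr 1; field_simp; ring
    rw [this, hab]
    calc a * b * (a * b) = a * (b * a) * b := by group
      _ = a * (a * b) * b := by rw [hcomm]
      _ = a * a * (b * b) := by group
  rw [haa, hbb, ← u_add] at h1
  have h1' := u_injective h1
  by_cases hx : 2 * a.1 0 0 * a.1 0 1 = 0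
  · right
    rw [hx, zero_add] at h1'
    apply eq_top_of_normal_of_u B hB
    apply hideal B hB (2 * b.1 0 0 * b.1 0 1) (by rw [← h1']; exact one_ne_zero)
    rw [← hbb]
    exact B.mul_mem hb hb
  · left
    apply eq_top_of_normal_of_u A hA
    apply hideal A hA _ hx
    rw [← haa]
    exact A.mul_mem ha ha

end Cfsg.Agent.Helper16.SL2Cent
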