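import Mathlib
import Cfsg.Agent.Lib.Helper16.SL2CentA

set_option autoImplicit false
set_option linter.style.haveILetI false
set_option linter.unusedSectionVars false

namespace Cfsg.Agent.Helper16.SL2Cent

open Matrix Matrix.SpecialLinearGroup
open scoped MatrixGroups

/-- elements of the join of two elementwise commuting subgroups are products -/
theorem exists_mul_of_mem_sup {G : Type*} [Group G] {A B : Subgroup G}
    (hc : ∀ a ∈ A, ∀ b ∈ B, a * b = b * a) {x : G} (hx : x ∈ A ⊔ B) :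
    ∃ a ∈ A, ∃ b ∈ B, x = a * b := by
  rw [Subgroup.sup_eq_closure] at hx
  induction hx using Subgroup.closure_induction with
  | mem x hx =>
    rcases hx with hx | hx
    · exact ⟨x, hx, 1, B.one_mem, (mul_one x).symm⟩
    · exact ⟨1, A.one_mem, x, hx, (one_mul x).symm⟩
  | one => exact ⟨1, A.one_mem, 1, B.one_mem, (mul_one 1).symm⟩
  | mul x y _ _ hx hy =>
    obtain ⟨a, ha, b, hb, rfl⟩ := hx
    obtain ⟨a', ha', b', hb', rfl⟩ := hy
    refine ⟨a * a', A.mul_mem ha ha', b * b', B.mul_mem hb hb', ?_⟩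
    have := hc a' ha' b hb
    calc a * b * (a' * b') = a * (b * a') * b' := by group
      _ = a * (a' * b) * b' := by rw [this]
      _ = a * a' * (b * b') := by group
  | inv x _ hx =>
    obtain ⟨a, ha, b, hb, rfl⟩ := hx
    refine ⟨a⁻¹, A.inv_mem ha, b⁻¹, B.inv_mem hb, ?_⟩
    have := hc a ha b hb
    rw [this, _root_.mul_inv_rev]

section remak

variable {G : Type*} [Group G] {F₁ : Type*} [Field F₁] [Fintype F₁] {F₂ : Type*} [Field F₂]
  [Fintype F₂]

/-- Remak-type uniqueness: a factor of a central product of two copies of `SL₂` lies in one of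
the factors of any other central decomposition -/
theorem le_or_le (h21 : (2 : F₁) ≠ 0) (h22 : (2 : F₂) ≠ 0) (L₁ L₂ N K : Subgroup G)
    (e₁ : ↥L₁ ≃* SL(2, F₁)) (e₂ : ↥L₂ ≃* SL(2, F₂))
    (hc : ∀ x ∈ L₁, ∀ y ∈ L₂, x * y = y * x) (hc' : ∀ x ∈ N, ∀ y ∈ K, x * y = y * x)
    (j : G) (hj : orderOf j = 2) (hm : L₁ ⊓ L₂ = Subgroup.zpowers j)
    (h1 : L₁ ≤ N ⊔ K) (h2 : L₂ ≤ N ⊔ K) (hN : N ≤ L₁ ⊔ L₂) :
    L₁ ≤ N ∨ L₁ ≤ K := by
  have hj1 : j ≠ 1 := by
    intro h; rw [h, orderOf_one] at hj; norm_num at hj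
  have hjj : j * j = 1 := by rw [← pow_two, ← hj, pow_orderOf_eq_one]
  have hjmem : j ∈ L₁ ⊓ L₂ := by rw [hm]; exact Subgroup.mem_zpowers j
  have hZ : ∀ z ∈ L₁ ⊓ L₂, z = 1 ∨ z = j := by
    intro z hz
    rw [hm, Subgroup.mem_zpowers_iff] at hz
    obtain ⟨k, rfl⟩ := hz
    rcases Int.emod_two_eq_zero_or_one k with h | h
    · left
      have : k = 2 * (k / 2) := by omega
      rw [this, _root_.zpow_mul, zpow_ofNat, pow_two, hjj, _root_.one_zpow]
    · right
      have : k = 2 * (k / 2) + 1 := by omega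
      rw [this, _root_.zpow_add, _root_.zpow_mul, zpow_ofNat, pow_two, hjj, _root_.one_zpow, one_mul, zpow_one]
  have hZsq : ∀ z : ↥(L₁ ⊓ L₂), z * z = 1 := by
    rintro ⟨z, hz⟩
    apply Subtype.ext
    rcases hZ z hz with h | h
    · simp [h]
    · simp [h, hjj]
  -- normality in the join
  have hL₁norm : ∀ g ∈ L₁ ⊔ L₂, ∀ x ∈ L₁, g * x * g⁻¹ ∈ L₁ := by
    intro g hg x hx
    obtain ⟨a, ha, b, hb, rfl⟩ := exists_mul_of_mem_sup hc hg
    have : a * b * x * (a * b)⁻¹ = a * x * a⁻¹ := by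
      have := hc x hx b hb
      calc a * b * x * (a * b)⁻¹ = a * (b * x) * b⁻¹ * a⁻¹ := by group
        _ = a * (x * b) * b⁻¹ * a⁻¹ := by rw [this]
        _ = a * x * a⁻¹ := by group
    rw [this]
    exact L₁.mul_mem (L₁.mul_mem ha hx) (L₁.inv_mem ha)
  have hL₂norm : ∀ g ∈ L₁ ⊔ L₂, ∀ x ∈ L₂, g * x * g⁻¹ ∈ L₂ := by
    intro g hg x hx
    obtain ⟨a, ha, b, hb, rfl⟩ := exists_mul_of_mem_sup hc hg
    have : a * b * x * (a * b)⁻¹ = b * x * b⁻¹ := by
      have := hc a ha (b * x * b⁻¹) (L₂.mul_mem (L₂.mul_mem hb hx) (L₂.inv_mem hb))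
      calc a * b * x * (a * b)⁻¹ = a * (b * x * b⁻¹) * a⁻¹ := by group
        _ = (b * x * b⁻¹) * a * a⁻¹ := by rw [this]
        _ = b * x * b⁻¹ := by group
    rw [this]
    exact L₂.mul_mem (L₂.mul_mem hb hx) (L₂.inv_mem hb)
  -- the centre of `L₂` lies in `L₁`
  have hcen : ∀ z ∈ L₂, (∀ y ∈ L₂, z * y = y * z) → z ∈ L₁ := by
    intro z hz hzc
    by_cases hz1 : z = 1
    · rw [hz1]; exact L₁.one_mem
    have hjc : ∀ y ∈ L₂, j * y = y * j := fun y hy => hc j hjmem.1 y hy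
    have key : e₂ ⟨z, hz⟩ = e₂ ⟨j, hjmem.2⟩ := by
      apply central_unique
      · intro g
        obtain ⟨⟨y, hy⟩, rfl⟩ := e₂.surjective g
        rw [← map_mul, ← map_mul]
        congr 1
        exact Subtype.ext (hzc y hy)
      · intro g
        obtain ⟨⟨y, hy⟩, rfl⟩ := e₂.surjective g
        rw [← map_mul, ← map_mul]
        congr 1
        exact Subtype.ext (hjc y hy)
      · intro h
        apply hz1
        have := e₂.injective (h.trans (map_one e₂).symm)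
        exact congrArg Subtype.val this
      · intro h
        apply hj1
        have := e₂.injective (h.trans (map_one e₂).symm)
        exact congrArg Subtype.val this
    have := congrArg Subtype.val (e₂.injective key)
    simp only at this
    rw [this]
    exact hjmem.1
  -- the key step
  have hkey : ∀ x ∈ L₁, ∀ y ∈ N, ∀ k ∈ K, x = y * k → y ∈ L₁ := by
    intro x hx y hy k hk hxyk
    have hyM : y ∈ L₁ ⊔ L₂ := hN hy
    -- commutators of `y` with `L₂` lie in the intersection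
    have hcomm : ∀ b ∈ L₂, y * b * y⁻¹ * b⁻¹ ∈ L₁ ⊓ L₂ := by
      intro b hb
      refine ⟨?_, L₂.mul_mem (hL₂norm y hyM b hb) (L₂.inv_mem hb)⟩
      obtain ⟨yb, hyb, kb, hkb, rfl⟩ := exists_mul_of_mem_sup hc' (h2 hb)
      have e1 : y * (yb * kb) * y⁻¹ * (yb * kb)⁻¹ = x * (yb * x⁻¹ * yb⁻¹) := by
        have c1 := hc' y hy kb hkb
        have c2 := hc' yb hyb k hk
        have c3 := hc' yb hyb kb hkb
        have c4 := hc' y hy k hk
        rw [hxyk]
        calc y * (yb * kb) * y⁻¹ * (yb * kb)⁻¹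
            = y * yb * (kb * y⁻¹) * kb⁻¹ * yb⁻¹ := by group
          _ = y * yb * (y⁻¹ * kb) * kb⁻¹ * yb⁻¹ := by
              have : kb * y⁻¹ = y⁻¹ * kb := by
                calc kb * y⁻¹ = y⁻¹ * (y * kb) * y⁻¹ := by group
                  _ = y⁻¹ * (kb * y) * y⁻¹ := by rw [c1]
                  _ = y⁻¹ * kb := by group
              rw [this]
          _ = y * yb * y⁻¹ * yb⁻¹ := by group
          _ = y * (yb * k) * k⁻¹ * y⁻¹ * yb⁻¹ := by group
          _ = y * (k * yb) * k⁻¹ * y⁻¹ * yb⁻¹ := by rw [c2]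
          _ = y * k * (yb * (y * k)⁻¹ * yb⁻¹) := by group
      rw [e1]
      exact L₁.mul_mem hx (hL₁norm yb (hN hyb) x⁻¹ (L₁.inv_mem hx))
    -- this gives a homomorphism from `L₂` to the intersection
    let ψ : ↥L₂ →* ↥(L₁ ⊓ L₂) := MonoidHom.mk' (fun b => ⟨y * b.1 * y⁻¹ * b.1⁻¹, hcomm b.1 b.2⟩)
      (by
        rintro ⟨b, hb⟩ ⟨b', hb'⟩
        apply Subtype.ext
        simp only [Subgroup.coe_mul]
        have c := hc _ (hcomm b' hb').1 b hb
        calc y * (b * b') * y⁻¹ * (b * b')⁻¹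
            = y * b * y⁻¹ * b⁻¹ * (b * (y * b' * y⁻¹ * b'⁻¹)) * b⁻¹ := by group
          _ = y * b * y⁻¹ * b⁻¹ * ((y * b' * y⁻¹ * b'⁻¹) * b) * b⁻¹ := by rw [c]
          _ = y * b * y⁻¹ * b⁻¹ * (y * b' * y⁻¹ * b'⁻¹) := by group)
    have hψ : ∀ b : ↥L₂, ψ b = 1 := hom_trivial' h22 e₂ hZsq ψ
    have hycent : ∀ b ∈ L₂, y * b = b * y := by
      intro b hb
      have := congrArg Subtype.val (hψ ⟨b, hb⟩)
      have h' : y * b * y⁻¹ * b⁻¹ = 1 := this
      calc y * b = (y * b * y⁻¹ * b⁻¹) * b * y := by group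
        _ = b * y := by rw [h', one_mul]
    obtain ⟨a, ha, b, hb, hyab⟩ := exists_mul_of_mem_sup hc hyM
    have hbcen : ∀ b' ∈ L₂, b * b' = b' * b := by
      intro b' hb'
      have c1 := hycent b' hb'
      have c2 := hc a ha b' hb'
      rw [hyab] at c1
      calc b * b' = a⁻¹ * (a * b * b') := by group
        _ = a⁻¹ * (b' * (a * b)) := by rw [c1]
        _ = a⁻¹ * (b' * a) * b := by group
        _ = a⁻¹ * (a * b') * b := by rw [c2]
        _ = b' * b := by group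
    rw [hyab]
    exact L₁.mul_mem ha (hcen b hb hbcen)
  -- decompose `L₁`
  let A : Subgroup ↥L₁ := (L₁ ⊓ N).subgroupOf L₁
  let B : Subgroup ↥L₁ := (L₁ ⊓ K).subgroupOf L₁
  have hdec := central_indecomposable h21 (A.map e₁.toMonoidHom) (B.map e₁.toMonoidHom)
    (by
      rintro _ ⟨⟨a, ha₁⟩, ha, rfl⟩ _ ⟨⟨b, hb₁⟩, hb, rfl⟩
      simp only [MulEquiv.coe_toMonoidHom]
      rw [← map_mul, ← map_mul]
      congr 1
      apply Subtype.ext
      exact hc' a (Subgroup.mem_subgroupOf.mp ha).2 b (Subgroup.mem_subgroupOf.mp hb).2)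
    (by
      intro g
      obtain ⟨⟨x, hx⟩, rfl⟩ := e₁.surjective g
      obtain ⟨y, hy, k, hk, hxyk⟩ := exists_mul_of_mem_sup hc' (h1 hx)
      have hy₁ : y ∈ L₁ := hkey x hx y hy k hk hxyk
      have hk₁ : k ∈ L₁ := by
        have : k = y⁻¹ * x := by rw [hxyk]; group
        rw [this]
        exact L₁.mul_mem (L₁.inv_mem hy₁) hx
      refine ⟨e₁ ⟨y, hy₁⟩, ⟨⟨y, hy₁⟩, ?_, rfl⟩, e₁ ⟨k, hk₁⟩, ⟨⟨k, hk₁⟩, ?_, rfl⟩, ?_⟩
      · exact Subgroup.mem_subgroupOf.mpr ⟨hy₁, hy⟩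
      · exact Subgroup.mem_subgroupOf.mpr ⟨hk₁, hk⟩
      · rw [← map_mul]
        congr 1
        exact Subtype.ext hxyk)
  rcases hdec with h | h
  · left
    intro x hx
    have : e₁ ⟨x, hx⟩ ∈ A.map e₁.toMonoidHom := by rw [h]; trivial
    obtain ⟨⟨x', hx'⟩, hmem, heq⟩ := this
    have := e₁.injective heq
    have hxx : x' = x := congrArg Subtype.val this
    rw [← hxx]
    exact (Subgroup.mem_subgroupOf.mp hmem).2
  · right
    intro x hx
    have : e₁ ⟨x, hx⟩ ∈ B.map e₁.toMonoidHom := by rw [h]; trivial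
    obtain ⟨⟨x', hx'⟩, hmem, heq⟩ := this
    have := e₁.injective heq
    have hxx : x' = x := congrArg Subtype.val this
    rw [← hxx]
    exact (Subgroup.mem_subgroupOf.mp hmem).2

end remak

end Cfsg.Agent.Helper16.SL2Cent
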