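import Mathlib
import Cfsg.Agent.Lib.Helper16.Fpf3A
import Cfsg.Agent.Lib.Helper16.SL2CentB

set_option autoImplicit false
set_option linter.style.haveILetI false
set_option linter.unusedSectionVars false
set_option linter.unusedVariables false

namespace Cfsg.Agent.Helper16.Fpf3

open Cfsg.Agent.Helper16.SL2Cent (exists_mul_of_mem_sup)

section inv

variable {T : Type*} [Group T] {ρ : MulAut T}

theorem inv_iff_map_le (N : Subgroup T) : Inv ρ N ↔ N.map ρ.toMonoidHom ≤ N := by
  constructor
  · rintro hN _ ⟨n, hn, rfl⟩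
    exact hN n hn
  · intro hN n hn
    exact hN ⟨n, hn, rfl⟩

theorem inv_sup {A B : Subgroup T} (hA : Inv ρ A) (hB : Inv ρ B) : Inv ρ (A ⊔ B) := by
  rw [inv_iff_map_le] at *
  rw [Subgroup.map_sup]
  exact sup_le_sup hA hB

theorem inv_inf {A B : Subgroup T} (hA : Inv ρ A) (hB : Inv ρ B) : Inv ρ (A ⊓ B) :=
  fun n hn => ⟨hA n hn.1, hB n hn.2⟩

theorem inv_closure {S : Set T} (hS : ∀ s ∈ S, ρ s ∈ Subgroup.closure S) :
    Inv ρ (Subgroup.closure S) := by
  rw [inv_iff_map_le, MonoidHom.map_closure, Subgroup.closure_le]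
  rintro _ ⟨s, hs, rfl⟩
  exact hS s hs

theorem inv_center : Inv ρ (Subgroup.center T) := by
  intro z hz
  rw [Subgroup.mem_center_iff] at hz ⊢
  intro g
  obtain ⟨g', rfl⟩ := ρ.surjective g
  rw [← map_mul, ← map_mul, hz g']

theorem inv_top : Inv ρ (⊤ : Subgroup T) := fun _ _ => trivial

end inv

theorem card_lt_of_lt {G : Type*} [Group G] [Finite G] {H K : Subgroup G} (hlt : H < K) :
    Nat.card H < Nat.card K := by
  by_contra hcon
  push Not at hcon
  exact hlt.ne (Subgroup.eq_of_le_of_card_ge hlt.le hcon)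

section main

variable {T : Type*} [Group T] [Finite T] {ρ : MulAut T} (h : IsFpf3 ρ) (hT : Nat.card T = 64)
  (hna : ∃ a b : T, a * b ≠ b * a)

include h in
theorem inv_rho_sq {N : Subgroup T} (hN : Inv ρ N) {n : T} (hn : ρ n ∈ N) : n ∈ N := by
  have := hN _ (hN _ hn)
  rwa [h.cube] at this

include h hT in
theorem card_inv {N : Subgroup T} (hN : Inv ρ N) :
    Nat.card N = 1 ∨ Nat.card N = 4 ∨ Nat.card N = 16 ∨ Nat.card N = 64 := by
  have h1 := card_modEq h hN
  have h2 : Nat.card N ∣ 2 ^ 6 := by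
    have := Subgroup.card_subgroup_dvd_card N
    rwa [hT] at this
  obtain ⟨k, hk, hk'⟩ := (Nat.dvd_prime_pow Nat.prime_two).mp h2
  rw [hk'] at h1 ⊢
  interval_cases k <;> first | (exfalso; revert h1; decide) | simp

/-- the subgroup generated by `t`, its image and the centre -/
def L (ρ : MulAut T) (t : T) : Subgroup T :=
  Subgroup.closure {t, ρ t} ⊔ Subgroup.center T

theorem mem_L_self (t : T) : t ∈ L ρ t :=
  Subgroup.mem_sup_left (Subgroup.subset_closure (Set.mem_insert _ _))

theorem rho_mem_L (t : T) : ρ t ∈ L ρ t :=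
  Subgroup.mem_sup_left (Subgroup.subset_closure (Set.mem_insert_of_mem _ rfl))

theorem center_le_L (t : T) : Subgroup.center T ≤ L ρ t := le_sup_right

include h in
theorem inv_L (t : T) : Inv ρ (L ρ t) := by
  apply inv_sup _ inv_center
  apply inv_closure
  intro s hs
  rcases hs with rfl | hs
  · exact Subgroup.subset_closure (Set.mem_insert_of_mem _ rfl)
  · rw [Set.mem_singleton_iff] at hs
    rw [hs, rho_sq_eq h]
    apply Subgroup.inv_mem
    exact Subgroup.mul_mem _ (Subgroup.subset_closure (Set.mem_insert _ _))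
      (Subgroup.subset_closure (Set.mem_insert_of_mem _ rfl))

include h in
theorem L_comm (t : T) : ∀ a ∈ L ρ t, ∀ b ∈ L ρ t, a * b = b * a := by
  have hcl : ∀ a ∈ Subgroup.closure {t, ρ t}, ∀ b ∈ Subgroup.closure {t, ρ t}, a * b = b * a := by
    have hgen : ∀ x ∈ ({t, ρ t} : Set T), ∀ y ∈ ({t, ρ t} : Set T), x * y = y * x := by
      intro x hx y hy
      rcases hx with rfl | hx <;> rcases hy with rfl | hy
      · rfl
      · rw [Set.mem_singleton_iff] at hy; rw [hy]; exact commute_rho h _
      · rw [Set.mem_singleton_iff] at hx; rw [hx]; exact (commute_rho h _).symm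
      · rw [Set.mem_singleton_iff] at hx hy; rw [hx, hy]
    have step1 : Subgroup.closure {t, ρ t} ≤ Subgroup.centralizer ({t, ρ t} : Set T) := by
      rw [Subgroup.closure_le]
      intro x hx
      rw [SetLike.mem_coe, Subgroup.mem_centralizer_iff]
      intro y hy
      exact hgen y hy x hx
    intro a ha b hb
    have step2 : Subgroup.closure {t, ρ t} ≤ Subgroup.centralizer ({a} : Set T) := by
      rw [Subgroup.closure_le]
      intro x hx
      rw [SetLike.mem_coe, Subgroup.mem_centralizer_iff]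
      intro y hy
      rw [Set.mem_singleton_iff] at hy
      rw [hy]
      exact (Subgroup.mem_centralizer_iff.mp (step1 ha) x hx).symm
    exact Subgroup.mem_centralizer_iff.mp (step2 hb) a rfl
  have hcz : ∀ a ∈ Subgroup.closure {t, ρ t}, ∀ z ∈ Subgroup.center T, a * z = z * a := by
    intro a _ z hz
    exact (Subgroup.mem_center_iff.mp hz a)
  intro a ha b hb
  obtain ⟨a₁, ha₁, z₁, hz₁, rfl⟩ := exists_mul_of_mem_sup hcz ha
  obtain ⟨a₂, ha₂, z₂, hz₂, rfl⟩ := exists_mul_of_mem_sup hcz hb
  have e1 := hcl a₁ ha₁ a₂ ha₂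
  have e2 := Subgroup.mem_center_iff.mp hz₁
  have e3 := Subgroup.mem_center_iff.mp hz₂
  calc a₁ * z₁ * (a₂ * z₂) = a₁ * (z₁ * a₂) * z₂ := by group
    _ = a₁ * (a₂ * z₁) * z₂ := by rw [e2 a₂]
    _ = (a₁ * a₂) * (z₁ * z₂) := by group
    _ = (a₂ * a₁) * (z₂ * z₁) := by rw [e1, e3 z₁]
    _ = a₂ * (a₁ * z₂) * z₁ := by group
    _ = a₂ * (z₂ * a₁) * z₁ := by rw [e3 a₁]
    _ = a₂ * z₂ * (a₁ * z₁) := by group

include hna in
theorem top_not_comm : ¬ ∀ a ∈ (⊤ : Subgroup T), ∀ b ∈ (⊤ : Subgroup T), a * b = b * a := by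
  intro hc
  obtain ⟨a, b, hab⟩ := hna
  exact hab (hc a trivial b trivial)

include hna in
theorem exists_not_mem_center : ∃ t : T, t ∉ Subgroup.center T := by
  by_contra hcon
  push Not at hcon
  obtain ⟨a, b, hab⟩ := hna
  exact hab (Subgroup.mem_center_iff.mp (hcon b) a)

include h hT hna in
theorem L_ne_top (t : T) : L ρ t ≠ ⊤ := by
  intro htop
  apply top_not_comm hna
  rw [← htop]
  exact L_comm h t

include h hT hna in
theorem card_center : Nat.card (Subgroup.center T) = 4 := by
  haveI : Fact (Nat.Prime 2) := ⟨Nat.prime_two⟩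
  have hp : IsPGroup 2 T := IsPGroup.of_card (n := 6) (by rw [hT]; norm_num)
  haveI : Nontrivial T := by
    rw [← Finite.one_lt_card_iff_nontrivial, hT]; norm_num
  have hnt := hp.center_nontrivial
  obtain ⟨t, ht⟩ := exists_not_mem_center hna
  rcases card_inv h hT (inv_center (ρ := ρ)) with h1 | h1 | h1 | h1
  · exfalso
    rw [← Finite.one_lt_card_iff_nontrivial] at hnt
    omega
  · exact h1
  · exfalso
    have hlt : Subgroup.center T < L ρ t :=
      lt_of_le_of_ne (center_le_L t) (fun heq => ht (heq ▸ mem_L_self t))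
    have hcard := card_lt_of_lt hlt  -- strict
    rcases card_inv h hT (inv_L h t) with h2 | h2 | h2 | h2
    · omega
    · omega
    · omega
    · exact L_ne_top h hT hna t ((Subgroup.card_eq_iff_eq_top _).mp (by rw [h2, hT]))
  · exfalso
    have : Subgroup.center T = ⊤ := (Subgroup.card_eq_iff_eq_top _).mp (by rw [h1, hT])
    apply ht
    rw [this]; trivial

include h hT hna in
theorem card_L {t : T} (ht : t ∉ Subgroup.center T) : Nat.card (L ρ t) = 16 := by
  have hlt : Subgroup.center T < L ρ t :=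
    lt_of_le_of_ne (center_le_L t) (fun heq => ht (heq ▸ mem_L_self t))
  have hcard := card_lt_of_lt hlt
  rw [card_center h hT hna] at hcard
  rcases card_inv h hT (inv_L h t) with h2 | h2 | h2 | h2
  · omega
  · omega
  · exact h2
  · exact absurd ((Subgroup.card_eq_iff_eq_top _).mp (by rw [h2, hT])) (L_ne_top h hT hna t)

include h hT hna in
theorem center_sq {z : T} (hz : z ∈ Subgroup.center T) : z * z = 1 := by
  classical
  set Z := Subgroup.center T with hZ
  -- the elements of order dividing two in the centre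
  let K : Subgroup T :=
    { carrier := {g | g ∈ Z ∧ g * g = 1}
      mul_mem' := by
        rintro a b ⟨ha, ha'⟩ ⟨hb, hb'⟩
        refine ⟨Z.mul_mem ha hb, ?_⟩
        have := Subgroup.mem_center_iff.mp ha b
        calc a * b * (a * b) = a * (b * a) * b := by group
          _ = a * (a * b) * b := by rw [this]
          _ = (a * a) * (b * b) := by group
          _ = 1 := by rw [ha', hb', one_mul]
      one_mem' := ⟨Z.one_mem, one_mul 1⟩
      inv_mem' := by
        rintro a ⟨ha, ha'⟩
        refine ⟨Z.inv_mem ha, ?_⟩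
        calc a⁻¹ * a⁻¹ = (a * a)⁻¹ := by group
          _ = 1 := by rw [ha', inv_one] }
  have hKinv : Inv ρ K := by
    rintro g ⟨hg, hg'⟩
    exact ⟨inv_center g hg, by rw [← map_mul, hg', map_one]⟩
  have hKle : K ≤ Z := fun g hg => hg.1
  have hcZ := card_center h hT hna
  -- an involution in the centre
  haveI : Fact (Nat.Prime 2) := ⟨Nat.prime_two⟩
  obtain ⟨g, hg⟩ := exists_prime_orderOf_dvd_card' (G := Z) 2 (by rw [hcZ]; norm_num)
  have hgK : (g : T) ∈ K := by
    refine ⟨g.2, ?_⟩
    have : g ^ 2 = 1 := by rw [← hg]; exact pow_orderOf_eq_one g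
    have := congrArg Subtype.val this
    simpa [pow_two] using this
  have hg1 : (g : T) ≠ 1 := by
    intro h1
    have : g = 1 := Subtype.ext h1
    rw [this, orderOf_one] at hg
    norm_num at hg
  have hKcard : Nat.card K = 4 := by
    have hle := Subgroup.card_le_of_le hKle
    rw [hcZ] at hle
    rcases card_inv h hT hKinv with h1 | h1 | h1 | h1
    · exfalso
      have : K = ⊥ := Subgroup.card_eq_one.mp h1
      rw [this, Subgroup.mem_bot] at hgK
      exact hg1 hgK
    · exact h1
    · omega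
    · omega
  have hKZ : K = Z := Subgroup.eq_of_le_of_card_ge hKle (by rw [hKcard, hcZ])
  have : z ∈ K := by rw [hKZ]; exact hz
  exact this.2

include h hT hna in
theorem L_le_of_mem {s t : T} (hs : s ∈ L ρ t) : L ρ s ≤ L ρ t := by
  apply sup_le _ (center_le_L t)
  rw [Subgroup.closure_le]
  intro x hx
  rcases hx with rfl | hx
  · exact hs
  · rw [Set.mem_singleton_iff] at hx
    rw [hx]
    exact inv_L h t _ hs

include h hT hna in
theorem L_eq_of_mem {s t : T} (hsZ : s ∉ Subgroup.center T) (htZ : t ∉ Subgroup.center T)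
    (hs : s ∈ L ρ t) : L ρ s = L ρ t :=
  Subgroup.eq_of_le_of_card_ge (L_le_of_mem h hT hna hs)
    (by rw [card_L h hT hna hsZ, card_L h hT hna htZ])

include h hT hna in
theorem L_inf {s t : T} (hsZ : s ∉ Subgroup.center T) (htZ : t ∉ Subgroup.center T)
    (hne : L ρ s ≠ L ρ t) : L ρ s ⊓ L ρ t = Subgroup.center T := by
  have hle : Subgroup.center T ≤ L ρ s ⊓ L ρ t := le_inf (center_le_L s) (center_le_L t)
  symm
  apply Subgroup.eq_of_le_of_card_ge hle
  rw [card_center h hT hna]
  have hle2 : L ρ s ⊓ L ρ t ≤ L ρ s := inf_le_left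
  have hc2 := Subgroup.card_le_of_le hle2
  rw [card_L h hT hna hsZ] at hc2
  rcases card_inv h hT (inv_inf (inv_L h s) (inv_L h t)) with h1 | h1 | h1 | h1
  · omega
  · omega
  · exfalso
    apply hne
    have e1 : L ρ s ⊓ L ρ t = L ρ s :=
      Subgroup.eq_of_le_of_card_ge inf_le_left (by rw [h1, card_L h hT hna hsZ])
    have e2 : L ρ s ⊓ L ρ t = L ρ t :=
      Subgroup.eq_of_le_of_card_ge inf_le_right (by rw [h1, card_L h hT hna htZ])
    rw [← e1, e2]
  · omega

include h in
theorem inv_normalizer {N : Subgroup T} (hN : Inv ρ N) : Inv ρ (Subgroup.normalizer (N : Set T)) := by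
  intro g hg
  rw [Subgroup.mem_normalizer_iff] at hg ⊢
  intro n
  obtain ⟨n', rfl⟩ := ρ.surjective n
  rw [← map_mul, ← map_inv, ← map_mul]
  constructor
  · intro hn
    exact hN _ ((hg n').mp (inv_rho_sq h hN hn))
  · intro hn
    exact hN _ ((hg n').mpr (inv_rho_sq h hN hn))

include h hT hna in
theorem L_normal {t : T} (htZ : t ∉ Subgroup.center T) : (L ρ t).Normal := by
  haveI : Fact (Nat.Prime 2) := ⟨Nat.prime_two⟩
  have hp : IsPGroup 2 T := IsPGroup.of_card (n := 6) (by rw [hT]; norm_num)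
  haveI : Group.IsNilpotent T := hp.isNilpotent
  have hlt : L ρ t < Subgroup.normalizer (L ρ t : Set T) :=
    Group.normalizerCondition_of_isNilpotent (L ρ t) (lt_top_iff_ne_top.mpr (L_ne_top h hT hna t))
  have hcard := card_lt_of_lt hlt
  rw [card_L h hT hna htZ] at hcard
  have htop : Subgroup.normalizer (L ρ t : Set T) = ⊤ := by
    rcases card_inv h hT (inv_normalizer h (inv_L h t)) with h1 | h1 | h1 | h1
    · omega
    · omega
    · omega
    · exact (Subgroup.card_eq_iff_eq_top _).mp (by rw [h1, hT])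
  exact Subgroup.normalizer_eq_top_iff.mp htop

include h hT hna in
/-- commutators are central -/
theorem comm_mem_center (s t : T) : s * t * s⁻¹ * t⁻¹ ∈ Subgroup.center T := by
  by_cases hsZ : s ∈ Subgroup.center T
  · have := Subgroup.mem_center_iff.mp hsZ t
    have e : s * t * s⁻¹ * t⁻¹ = 1 := by
      calc s * t * s⁻¹ * t⁻¹ = (s * t) * s⁻¹ * t⁻¹ := by group
        _ = (t * s) * s⁻¹ * t⁻¹ := by rw [this]
        _ = 1 := by group
    rw [e]; exact Subgroup.one_mem _
  by_cases htZ : t ∈ Subgroup.center T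
  · have := Subgroup.mem_center_iff.mp htZ s
    have e : s * t * s⁻¹ * t⁻¹ = 1 := by
      calc s * t * s⁻¹ * t⁻¹ = (s * t) * s⁻¹ * t⁻¹ := by group
        _ = (t * s) * s⁻¹ * t⁻¹ := by rw [this]
        _ = 1 := by group
    rw [e]; exact Subgroup.one_mem _
  by_cases hLL : L ρ s = L ρ t
  · have hs : s ∈ L ρ t := hLL ▸ mem_L_self s
    have := L_comm h t s hs t (mem_L_self t)
    have e : s * t * s⁻¹ * t⁻¹ = 1 := by
      rw [this]; group
    rw [e]; exact Subgroup.one_mem _
  · rw [← L_inf h hT hna hsZ htZ hLL]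
    haveI := L_normal h hT hna hsZ
    haveI := L_normal h hT hna htZ
    constructor
    · have h1 : t * s⁻¹ * t⁻¹ ∈ L ρ s :=
        (L_normal h hT hna hsZ).conj_mem _ ((L ρ s).inv_mem (mem_L_self s)) t
      have : s * t * s⁻¹ * t⁻¹ = s * (t * s⁻¹ * t⁻¹) := by group
      rw [this]
      exact (L ρ s).mul_mem (mem_L_self s) h1
    · have h1 : s * t * s⁻¹ ∈ L ρ t := (L_normal h hT hna htZ).conj_mem _ (mem_L_self t) s
      exact (L ρ t).mul_mem h1 ((L ρ t).inv_mem (mem_L_self t))

include h hT hna in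
/-- squares are central -/
theorem sq_mem_center (t : T) : t * t ∈ Subgroup.center T := by
  classical
  by_cases htZ : t ∈ Subgroup.center T
  · exact Subgroup.mul_mem _ htZ htZ
  set Z := Subgroup.center T with hZ
  let K : Subgroup T :=
    { carrier := {g | g ∈ L ρ t ∧ g * g ∈ Z}
      mul_mem' := by
        rintro a b ⟨ha, ha'⟩ ⟨hb, hb'⟩
        refine ⟨(L ρ t).mul_mem ha hb, ?_⟩
        have := L_comm h t a ha b hb
        have e : a * b * (a * b) = (a * a) * (b * b) := by
          calc a * b * (a * b) = a * (b * a) * b := by group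
            _ = a * (a * b) * b := by rw [this]
            _ = (a * a) * (b * b) := by group
        rw [e]
        exact Z.mul_mem ha' hb'
      one_mem' := ⟨(L ρ t).one_mem, by rw [one_mul]; exact Z.one_mem⟩
      inv_mem' := by
        rintro a ⟨ha, ha'⟩
        refine ⟨(L ρ t).inv_mem ha, ?_⟩
        have e : a⁻¹ * a⁻¹ = (a * a)⁻¹ := by group
        rw [e]
        exact Z.inv_mem ha' }
  have hKinv : Inv ρ K := by
    rintro g ⟨hg, hg'⟩
    exact ⟨inv_L h t g hg, by rw [← map_mul]; exact inv_center _ hg'⟩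
  have hKle : K ≤ L ρ t := fun g hg => hg.1
  have hZK : Z ≤ K := fun g hg => ⟨center_le_L t hg, Z.mul_mem hg hg⟩
  -- an element of `K` outside the centre
  have hex : ∃ k : ℕ, t ^ 2 ^ k ∈ Z := ⟨6, by
    have : t ^ 2 ^ 6 = 1 := by
      have := pow_card_eq_one' (G := T) (x := t)
      rw [hT] at this
      exact this
    rw [this]; exact Z.one_mem⟩
  have hmin : ∀ m : ℕ, m < Nat.find hex → t ^ 2 ^ m ∉ Z := fun m hm => Nat.find_min hex hm
  have hspec := Nat.find_spec hex
  set k := Nat.find hex with hk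
  have hk0 : k ≠ 0 := by
    intro h0
    rw [h0, pow_zero, pow_one] at hspec
    exact htZ hspec
  obtain ⟨m, hm⟩ := Nat.exists_eq_succ_of_ne_zero hk0
  have hgZ : t ^ 2 ^ m ∉ Z := hmin m (by omega)
  have hgK : t ^ 2 ^ m ∈ K := by
    refine ⟨(L ρ t).pow_mem (mem_L_self t) _, ?_⟩
    rw [← pow_two, ← pow_mul, ← pow_succ]
    rw [hm] at hspec
    exact hspec
  have hlt : Z < K := lt_of_le_of_ne hZK (fun heq => hgZ (heq ▸ hgK))
  have hc1 := card_lt_of_lt hlt
  rw [card_center h hT hna] at hc1
  have hc2 := Subgroup.card_le_of_le hKle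
  rw [card_L h hT hna htZ] at hc2
  have hK16 : Nat.card K = 16 := by
    rcases card_inv h hT hKinv with h1 | h1 | h1 | h1 <;> omega
  have hKL : K = L ρ t := Subgroup.eq_of_le_of_card_ge hKle (by rw [hK16, card_L h hT hna htZ])
  have : t ∈ K := by rw [hKL]; exact mem_L_self t
  exact this.2

include h hT hna in
theorem L_sup {s t : T} (hsZ : s ∉ Subgroup.center T) (htZ : t ∉ Subgroup.center T)
    (hne : L ρ s ≠ L ρ t) : L ρ s ⊔ L ρ t = ⊤ := by
  have hlt : L ρ s < L ρ s ⊔ L ρ t := by
    apply lt_of_le_of_ne le_sup_left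
    intro heq
    apply hne
    have hle : L ρ t ≤ L ρ s := by rw [heq]; exact le_sup_right
    exact (Subgroup.eq_of_le_of_card_ge hle
      (by rw [card_L h hT hna hsZ, card_L h hT hna htZ])).symm
  have hc := card_lt_of_lt hlt
  rw [card_L h hT hna hsZ] at hc
  rcases card_inv h hT (inv_sup (inv_L h s) (inv_L h t)) with h1 | h1 | h1 | h1
  · omega
  · omega
  · omega
  · exact (Subgroup.card_eq_iff_eq_top _).mp (by rw [h1, hT])

end main

end Cfsg.Agent.Helper16.Fpf3
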