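import Mathlib
import Cfsg.Agent.Lib.Helper16.Fpf3B

set_option autoImplicit false
set_option linter.style.haveILetI false
set_option linter.unusedSectionVars false
set_option linter.unusedVariables false

namespace Cfsg.Agent.Helper16.Fpf3

section main

variable {T : Type*} [Group T] [Finite T] {ρ : MulAut T} (h : IsFpf3 ρ) (hT : Nat.card T = 64)
  (hna : ∃ a b : T, a * b ≠ b * a)

/-- the commutator -/
def cm (s t : T) : T := s * t * s⁻¹ * t⁻¹

theorem cm_eq_one_iff (s t : T) : cm s t = 1 ↔ s * t = t * s := by
  unfold cm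
  constructor
  · intro e
    calc s * t = (s * t * s⁻¹ * t⁻¹) * t * s := by group
      _ = t * s := by rw [e, one_mul]
  · intro e
    calc s * t * s⁻¹ * t⁻¹ = (s * t) * s⁻¹ * t⁻¹ := by group
      _ = (t * s) * s⁻¹ * t⁻¹ := by rw [e]
      _ = 1 := by group

theorem cm_rho (s t : T) : ρ (cm s t) = cm (ρ s) (ρ t) := by
  unfold cm
  simp only [map_mul, map_inv]

include h hT hna in
theorem cm_mem (s t : T) : cm s t ∈ Subgroup.center T := comm_mem_center h hT hna s t

include h hT hna in
theorem cm_central (s t g : T) : cm s t * g = g * cm s t :=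
  (Subgroup.mem_center_iff.mp (cm_mem h hT hna s t) g).symm

include h hT hna in
theorem cm_mul_self (s t : T) : cm s t * cm s t = 1 := center_sq h hT hna (cm_mem h hT hna s t)

include h hT hna in
theorem cm_symm (s t : T) : cm s t = cm t s := by
  have h1 : cm s t * cm t s = 1 := by unfold cm; group
  have h2 := cm_mul_self h hT hna s t
  calc cm s t = cm s t * (cm s t * cm t s) := by rw [h1, mul_one]
    _ = (cm s t * cm s t) * cm t s := by group
    _ = cm t s := by rw [h2, one_mul]

include h hT hna in
theorem cm_mul_left (s u t : T) : cm (s * u) t = cm s t * cm u t := by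
  have hc := cm_central h hT hna u t s⁻¹
  calc cm (s * u) t = s * (cm u t * s⁻¹) * s * t * s⁻¹ * t⁻¹ := by unfold cm; group
    _ = s * (s⁻¹ * cm u t) * s * t * s⁻¹ * t⁻¹ := by rw [hc]
    _ = cm u t * cm s t := by unfold cm; group
    _ = cm s t * cm u t := (cm_central h hT hna u t _)

include h hT hna in
theorem cm_mul_right (s t u : T) : cm s (t * u) = cm s t * cm s u := by
  rw [cm_symm h hT hna s (t * u), cm_mul_left h hT hna, cm_symm h hT hna t s,
    cm_symm h hT hna u s]

include h hT hna in
theorem cm_inv_left (s t : T) : cm s⁻¹ t = cm s t := by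
  have h1 : cm (s⁻¹ * s) t = cm s⁻¹ t * cm s t := cm_mul_left h hT hna _ _ _
  have h0 : cm (s⁻¹ * s) t = 1 := by unfold cm; group
  rw [h0] at h1
  have h2 := cm_mul_self h hT hna s t
  calc cm s⁻¹ t = cm s⁻¹ t * (cm s t * cm s t) := by rw [h2, mul_one]
    _ = (cm s⁻¹ t * cm s t) * cm s t := by group
    _ = cm s t := by rw [← h1, one_mul]

include h hT hna in
theorem cm_inv_right (s t : T) : cm s t⁻¹ = cm s t := by
  rw [cm_symm h hT hna, cm_inv_left h hT hna, cm_symm h hT hna]

theorem cm_self (s : T) : cm s s = 1 := by unfold cm; group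

include h in
theorem cm_rho_self (s : T) : cm s (ρ s) = 1 := (cm_eq_one_iff _ _).mpr (commute_rho h s)

include h hT hna in
/-- a central element times its two images is trivial, so the second image is the product -/
theorem center_rho_sq {z : T} (hz : z ∈ Subgroup.center T) : ρ (ρ z) = z * ρ z := by
  have h1 := rho_sq_eq h z
  have hzz : (z * ρ z) * (z * ρ z) = 1 :=
    center_sq h hT hna (Subgroup.mul_mem _ hz (inv_center z hz))
  rw [h1]
  exact inv_eq_of_mul_eq_one_left hzz

include h hT hna in
/-- the pairing is balanced with respect to the automorphism -/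
theorem cm_rho_left (u v : T) : cm (ρ u) v = cm u (ρ v) := by
  have hw := cm_mem h hT hna u v
  have e1 : ρ (ρ (cm u v)) = cm (ρ (ρ u)) (ρ (ρ v)) := by rw [cm_rho, cm_rho]
  rw [center_rho_sq h hT hna hw, rho_sq_eq h u, rho_sq_eq h v, cm_inv_left h hT hna,
    cm_inv_right h hT hna, cm_mul_left h hT hna, cm_mul_right h hT hna,
    cm_mul_right h hT hna, cm_rho] at e1
  -- w * ρw = w * cm u (ρ v) * (cm (ρ u) v * ρ w)
  set w := cm u v with hwdef
  set p := cm u (ρ v) with hp
  set r := cm (ρ u) v with hr
  set w' := cm (ρ u) (ρ v) with hw'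
  have e2 : p * r = 1 := by
    have e1' : w * 1 * w' = w * (p * r) * w' := by
      rw [mul_one, e1]; group
    exact (mul_left_cancel (mul_right_cancel e1')).symm
  have e3 := cm_mul_self h hT hna u (ρ v)
  calc r = (p * p) * r := by rw [e3, one_mul]
    _ = p * (p * r) := by group
    _ = p := by rw [e2, mul_one]

include h hT hna in
/-- nondegeneracy of the commutator pairing -/
theorem cm_ne_one {a b : T} (haZ : a ∉ Subgroup.center T) (hb : b ∉ L ρ a) : cm a b ≠ 1 := by
  intro hab
  have hbZ : b ∉ Subgroup.center T := fun hbZ => hb (center_le_L a hbZ)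
  -- `p = cm a (ρ b)` is fixed
  set p := cm a (ρ b) with hp
  have h1 : cm (ρ a) (ρ b) = 1 := by rw [← cm_rho, hab, map_one]
  have h2 : ρ p = p := by
    rw [hp, cm_rho, rho_sq_eq h b, cm_inv_right h hT hna, cm_mul_right h hT hna, h1, mul_one,
      cm_rho_left h hT hna]
  have hp1 : p = 1 := h.fpf p h2
  -- `a` centralizes everything
  have hcent : L ρ a ⊔ L ρ b ≤ Subgroup.centralizer ({a} : Set T) := by
    apply sup_le
    · intro g hg
      rw [Subgroup.mem_centralizer_iff]
      intro y hy
      rw [Set.mem_singleton_iff] at hy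
      rw [hy]
      exact L_comm h a a (mem_L_self a) g hg
    · apply sup_le
      · rw [Subgroup.closure_le]
        intro g hg
        rw [SetLike.mem_coe, Subgroup.mem_centralizer_iff]
        intro y hy
        rw [Set.mem_singleton_iff] at hy
        rw [hy]
        rcases hg with rfl | hg
        · exact (cm_eq_one_iff _ _).mp hab
        · rw [Set.mem_singleton_iff] at hg
          rw [hg]
          exact (cm_eq_one_iff _ _).mp hp1
      · intro g hg
        rw [Subgroup.mem_centralizer_iff]
        intro y hy
        rw [Set.mem_singleton_iff] at hy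
        rw [hy]
        exact (Subgroup.mem_center_iff.mp hg a)
  have hne : L ρ a ≠ L ρ b := fun heq => hb (heq ▸ mem_L_self b)
  rw [L_sup h hT hna haZ hbZ hne] at hcent
  apply haZ
  rw [Subgroup.mem_center_iff]
  intro g
  have := Subgroup.mem_centralizer_iff.mp (hcent (Subgroup.mem_top g)) a rfl
  exact this.symm

include h hT hna in
/-- the square of a product -/
theorem mul_sq (s t : T) : (s * t) * (s * t) = (s * s) * (t * t) * cm t s := by
  have hc := cm_central h hT hna t s
  calc (s * t) * (s * t) = s * (cm t s * s * t) * t := by unfold cm; group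
    _ = s * (s * t * cm t s) * t := by rw [mul_assoc (cm t s), hc (s * t)]
    _ = s * s * t * (cm t s * t) := by group
    _ = s * s * t * (t * cm t s) := by rw [hc t]
    _ = (s * s) * (t * t) * cm t s := by group

end main

end Cfsg.Agent.Helper16.Fpf3
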