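import Mathlib
import Cfsg.Agent.Lib.Helper11.UnitaryHeis

set_option autoImplicit false
set_option linter.style.haveILetI false
set_option linter.unusedSectionVars false

namespace Cfsg.Agent.Helper16.HsAut

open Cfsg.Agent.Helper11.Herm

/-- no three nonzero elements `a, b, a + b` of a field of characteristic two have the same fifth
power -/
theorem norm_fact {F : Type*} [Field F] (h2 : (2 : F) = 0) (a b : F) (ha : a ≠ 0) (hb : b ≠ 0)
    (h1 : a ^ 5 = b ^ 5) (h3 : a ^ 5 = (a + b) ^ 5) : False := by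
  set r := b / a with hr
  have hr0 : r ≠ 0 := div_ne_zero hb ha
  have ha5 : a ^ 5 ≠ 0 := pow_ne_zero _ ha
  have hr5 : r ^ 5 = 1 := by
    rw [hr, div_pow, ← h1, div_self ha5]
  have h1r : (1 + r) ^ 5 = 1 := by
    have : 1 + r = (a + b) / a := by rw [hr]; field_simp
    rw [this, div_pow, ← h3, div_self ha5]
  have e1 : r + r ^ 4 = 1 := by
    linear_combination h1r - hr5 - (2 * r + 5 * r ^ 2 + 5 * r ^ 3 + 2 * r ^ 4 + 1) * h2
  have e2 : r ^ 2 + 1 = r := by linear_combination r * e1 - hr5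
  have e3 : r ^ 3 = 1 := by linear_combination (r - 1) * e2 + (r - 1) * r * h2
  have e4 : r ^ 2 = 1 := by linear_combination hr5 - r ^ 2 * e3
  have e5 : r = 0 := by linear_combination (-1 : F) * e2 + e4 + h2
  exact hr0 e5

section model

variable {F : Type*} [Field F] (φ : F →+* F) [hφφ : Fact (∀ x : F, φ (φ x) = x)] [CharP F 2]

theorem sq_a (y : Hs φ) : (y * y).a = 0 := by
  rw [Hs.mul_a]; exact CharTwo.add_self_eq_zero _

theorem sq_s (y : Hs φ) : (y * y).s = y.a * φ y.a := by
  rw [Hs.mul_s, CharTwo.add_self_eq_zero, zero_sub, CharTwo.neg_eq]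

variable (hne : φ ≠ RingHom.id F)

/-- a chosen element with prescribed first coordinate -/
noncomputable def rep (a : F) : Hs φ := Classical.choose (Hs.exists_a φ hne a)

theorem rep_a (a : F) : (rep φ hne a).a = a := Classical.choose_spec (Hs.exists_a φ hne a)

/-- the additive map induced on first coordinates -/
noncomputable def ind (α : MulAut (Hs φ)) (a : F) : F := (α (rep φ hne a)).a

include hne in
theorem map_a_zero (α : MulAut (Hs φ)) (x : Hs φ) (hx : x.a = 0) : (α x).a = 0 := by
  rw [← Hs.mem_center_iff φ hne] at hx ⊢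
  rw [Subgroup.mem_center_iff] at hx ⊢
  intro y
  obtain ⟨y', rfl⟩ := α.surjective y
  rw [← map_mul, ← map_mul, hx y']

theorem ind_spec (α : MulAut (Hs φ)) (x : Hs φ) : (α x).a = ind φ hne α x.a := by
  have hc : ((rep φ hne x.a)⁻¹ * x).a = 0 := by
    rw [Hs.mul_a, Hs.inv_a, rep_a]; ring
  have hx : x = rep φ hne x.a * ((rep φ hne x.a)⁻¹ * x) := by group
  have h1 : (α x).a = (α (rep φ hne x.a)).a + (α ((rep φ hne x.a)⁻¹ * x)).a := by
    conv_lhs => rw [hx]
    rw [map_mul, Hs.mul_a]
  rw [h1, map_a_zero φ hne α _ hc, add_zero]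
  rfl

theorem ind_add (α : MulAut (Hs φ)) (a b : F) :
    ind φ hne α (a + b) = ind φ hne α a + ind φ hne α b := by
  have h1 : (rep φ hne a * rep φ hne b).a = a + b := by rw [Hs.mul_a, rep_a, rep_a]
  have h2 := ind_spec φ hne α (rep φ hne a * rep φ hne b)
  rw [h1, map_mul, Hs.mul_a] at h2
  rw [← h2]
  rfl

theorem ind_mul (α β : MulAut (Hs φ)) (a : F) :
    ind φ hne (α * β) a = ind φ hne α (ind φ hne β a) := by
  have h1 : ind φ hne (α * β) a = (α (β (rep φ hne a))).a := rfl
  rw [h1, ind_spec φ hne α]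
  rfl

theorem ind_one (a : F) : ind φ hne 1 a = a := by
  show ((1 : MulAut (Hs φ)) (rep φ hne a)).a = a
  rw [MulAut.one_apply, rep_a]

theorem ind_zero (α : MulAut (Hs φ)) : ind φ hne α 0 = 0 := by
  have := ind_add φ hne α 0 0
  rw [add_zero] at this
  exact left_eq_add.mp this

end model

end Cfsg.Agent.Helper16.HsAut
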