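import Mathlib
import Cfsg.Agent.Lib.Helper16.HsAutA

set_option autoImplicit false
set_option linter.style.haveILetI false
set_option linter.unusedSectionVars false

namespace Cfsg.Agent.Helper16.HsAut

open Cfsg.Agent.Helper11.Herm

/-- in a subgroup of order at most two, two non-identity elements coincide -/
theorem eq_of_card_le_two {G : Type*} [Group G] (K : Subgroup G) [Finite K]
    (hK : Nat.card K ≤ 2) (x y : G) (hx : x ∈ K) (hy : y ∈ K) (hx1 : x ≠ 1) (hy1 : y ≠ 1) :
    x = y := by
  classical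
  by_contra hxy
  haveI : Fintype K := Fintype.ofFinite K
  have h3 : 2 < Fintype.card K := by
    rw [Fintype.two_lt_card_iff]
    refine ⟨1, ⟨x, hx⟩, ⟨y, hy⟩, ?_, ?_, ?_⟩
    · intro h; exact hx1 (congrArg Subtype.val h).symm
    · intro h; exact hy1 (congrArg Subtype.val h).symm
    · intro h; exact hxy (congrArg Subtype.val h)
  rw [← Nat.card_eq_fintype_card] at h3
  omega

/-- an additive involution of a group of order sixteen fixes two distinct nonzero elements -/
theorem exists_fixed_pair {F : Type*} [Field F] [Fintype F] [CharP F 2]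
    (hF : Fintype.card F = 16) (C : F →+ F) (hCC : ∀ a, C (C a) = a) :
    ∃ a b : F, a ≠ 0 ∧ b ≠ 0 ∧ a ≠ b ∧ C a = a ∧ C b = b := by
  classical
  let g : F →+ F := C + AddMonoidHom.id F
  have hg : ∀ a, g a = C a + a := fun a => rfl
  have hgg : ∀ a, g (g a) = 0 := by
    intro a
    rw [hg, hg, map_add, hCC]
    have : a + C a + (C a + a) = (a + a) + (C a + C a) := by abel
    rw [this, CharTwo.add_self_eq_zero, CharTwo.add_self_eq_zero, add_zero]
  have hle : g.range ≤ g.ker := by
    rintro _ ⟨a, rfl⟩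
    rw [AddMonoidHom.mem_ker]
    exact hgg a
  have h1 := AddSubgroup.card_eq_card_quotient_mul_card_addSubgroup g.ker
  have h2 : Nat.card (F ⧸ g.ker) = Nat.card g.range :=
    Nat.card_congr (QuotientAddGroup.quotientKerEquivRange g).toEquiv
  have h3 : Nat.card g.range ≤ Nat.card g.ker := AddSubgroup.card_le_of_le hle
  rw [Nat.card_eq_fintype_card, hF, h2] at h1
  have h4 : 2 < Nat.card g.ker := by
    by_contra hcon
    push Not at hcon
    have : Nat.card g.range * Nat.card g.ker ≤ 2 * 2 :=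
      Nat.mul_le_mul (h3.trans hcon) hcon
    omega
  haveI : Fintype g.ker := Fintype.ofFinite _
  rw [Nat.card_eq_fintype_card, Fintype.two_lt_card_iff] at h4
  obtain ⟨⟨a, ha⟩, ⟨b, hb⟩, ⟨c, hc⟩, hab, hac, hbc⟩ := h4
  have hfix : ∀ x ∈ g.ker, C x = x := by
    intro x hx
    rw [AddMonoidHom.mem_ker, hg] at hx
    have : C x = -x := eq_neg_of_add_eq_zero_left hx
    rw [this, CharTwo.neg_eq]
  have hab' : a ≠ b := fun h => hab (Subtype.ext h)
  have hac' : a ≠ c := fun h => hac (Subtype.ext h)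
  have hbc' : b ≠ c := fun h => hbc (Subtype.ext h)
  by_cases ha0 : a = 0
  · refine ⟨b, c, ?_, ?_, hbc', hfix b hb, hfix c hc⟩
    · rw [← ha0]; exact hab'.symm
    · rw [← ha0]; exact hac'.symm
  by_cases hb0 : b = 0
  · refine ⟨a, c, ha0, ?_, hac', hfix a ha, hfix c hc⟩
    rw [← hb0]; exact hbc'.symm
  · exact ⟨a, b, ha0, hb0, hab', hfix a ha, hfix b hb⟩

end Cfsg.Agent.Helper16.HsAut
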