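import Mathlib
import Cfsg.Agent.Lib.Helper16.Fpf3C
import Cfsg.Agent.Lib.Helper16.HsAutB

set_option autoImplicit false
set_option linter.style.haveILetI false
set_option linter.unusedSectionVars false
set_option linter.unusedVariables false

namespace Cfsg.Agent.Helper16.Fpf3

open Cfsg.Agent.Helper16.SL2Cent (exists_mul_of_mem_sup)
open Cfsg.Agent.Helper16.HsAut (eq_of_card_le_two)

theorem card_eq_relIndex_mul {G : Type*} [Group G] [Finite G] {H K : Subgroup G} (hHK : H ≤ K) :
    Nat.card K = H.relIndex K * Nat.card H := by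
  have h1 := Subgroup.index_mul_card (H.subgroupOf K)
  rw [Nat.card_congr (Subgroup.subgroupOfEquivOfLe hHK).toEquiv] at h1
  exact h1.symm

section main

variable {T : Type*} [Group T] [Finite T] {ρ : MulAut T} (h : IsFpf3 ρ) (hT : Nat.card T = 64)
  (hna : ∃ a b : T, a * b ≠ b * a) {x : MulAut T} (hx2 : ∀ t, x (x t) = t)
  (hxr : ∀ t, x (ρ t) = ρ (ρ (x t))) {C : Subgroup T} (hC : ∀ y : T, y ∈ C ↔ x y = y)

include h hT hna hx2 hxr in
theorem exists_moved : ∃ z ∈ Subgroup.center T, x z ≠ z := by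
  by_contra hcon
  push Not at hcon
  have htriv : ∀ z ∈ Subgroup.center T, z = 1 := by
    intro z hz
    have h1 := hcon (ρ z) (inv_center z hz)
    rw [hxr, hcon z hz] at h1
    have h2 : ρ z = z := ρ.injective h1
    exact h.fpf z h2
  have hbot : Subgroup.center T = ⊥ := by
    rw [Subgroup.eq_bot_iff_forall]; exact htriv
  have := card_center h hT hna
  rw [hbot, Subgroup.card_bot] at this
  norm_num at this

include h hT hna hx2 hxr hC in
/-- the fixed points of `x` in the centre -/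
theorem exists_z0 : ∃ z₀ ∈ Subgroup.center T, z₀ ≠ 1 ∧ x z₀ = z₀ ∧
    (∀ z ∈ Subgroup.center T, x z = z → z = 1 ∨ z = z₀) ∧
    (∀ ζ ∈ Subgroup.center T, x ζ = ζ → ∃ z ∈ Subgroup.center T, ζ = x z * z⁻¹) ∧
    Nat.card (C ⊓ Subgroup.center T : Subgroup T) = 2 := by
  obtain ⟨z, hz, hxz⟩ := exists_moved h hT hna hx2 hxr
  have hxzZ : x z ∈ Subgroup.center T := inv_center z hz
  have hzz := center_sq h hT hna hz
  have hzinv : z⁻¹ = z := inv_eq_of_mul_eq_one_left hzz
  have hcomm : z * x z = x z * z := (Subgroup.mem_center_iff.mp hxzZ z)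
  obtain ⟨z₀, hz₀⟩ : ∃ z₀ : T, z₀ = z * x z := ⟨_, rfl⟩
  have hz₀Z : z₀ ∈ Subgroup.center T := by rw [hz₀]; exact Subgroup.mul_mem _ hz hxzZ
  have hz₀1 : z₀ ≠ 1 := by
    intro h1
    apply hxz
    rw [hz₀] at h1
    have : x z = z⁻¹ := eq_inv_of_mul_eq_one_right h1
    rw [this, hzinv]
  have hz₀fix : x z₀ = z₀ := by
    rw [hz₀, map_mul, hx2, hcomm]
  set F := (C ⊓ Subgroup.center T : Subgroup T) with hF
  have hz₀F : z₀ ∈ F := ⟨(hC z₀).mpr hz₀fix, hz₀Z⟩
  have hzF : z ∉ F := fun hzF => hxz ((hC z).mp hzF.1)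
  have hFle : F ≤ Subgroup.center T := inf_le_right
  have hFcard : Nat.card F = 2 := by
    have hdvd : Nat.card F ∣ 4 := by
      rw [← card_center h hT hna]
      exact Subgroup.card_dvd_of_le hFle
    have hne4 : Nat.card F ≠ 4 := by
      intro h4
      apply hzF
      have : F = Subgroup.center T :=
        Subgroup.eq_of_le_of_card_ge hFle (by rw [h4, card_center h hT hna])
      rw [this]; exact hz
    have hne1 : Nat.card F ≠ 1 := by
      intro h1
      have : F = ⊥ := Subgroup.card_eq_one.mp h1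
      rw [this, Subgroup.mem_bot] at hz₀F
      exact hz₀1 hz₀F
    have : Nat.card F ∈ Nat.divisors 4 := Nat.mem_divisors.mpr ⟨hdvd, by norm_num⟩
    have h4 : Nat.divisors 4 = {1, 2, 4} := by decide
    rw [h4] at this
    simp only [Finset.mem_insert, Finset.mem_singleton] at this
    omega
  have hdich : ∀ ζ ∈ Subgroup.center T, x ζ = ζ → ζ = 1 ∨ ζ = z₀ := by
    intro ζ hζ hfix
    by_cases h1 : ζ = 1
    · exact Or.inl h1
    · right
      have hζF : ζ ∈ F := ⟨(hC ζ).mpr hfix, hζ⟩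
      exact eq_of_card_le_two F hFcard.le ζ z₀ hζF hz₀F h1 hz₀1
  refine ⟨z₀, hz₀Z, hz₀1, hz₀fix, hdich, ?_, hFcard⟩
  intro ζ hζ hfix
  rcases hdich ζ hζ hfix with h1 | h1
  · exact ⟨1, Subgroup.one_mem _, by rw [h1, map_one, inv_one, mul_one]⟩
  · refine ⟨z, hz, ?_⟩
    rw [h1, hz₀, hzinv, hcomm]

include h hT hna hx2 hxr hC in
theorem mem_sup_of_kappa_mem {g : T} (hg : x g * g⁻¹ ∈ Subgroup.center T) :
    g ∈ C ⊔ Subgroup.center T := by
  obtain ⟨z₀, hz₀Z, hz₀1, hz₀fix, hdich, hex, hFcard⟩ := exists_z0 h hT hna hx2 hxr hC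
  set ζ := x g * g⁻¹ with hζ
  have hζfix : x ζ = ζ := by
    have h1 : x ζ = ζ⁻¹ := by
      rw [hζ, map_mul, map_inv, hx2]; group
    rw [h1]
    exact inv_eq_of_mul_eq_one_left (center_sq h hT hna hg)
  obtain ⟨z, hz, hζz⟩ := hex ζ hg hζfix
  have hgz : g * z⁻¹ ∈ C := by
    rw [hC, map_mul, map_inv]
    have e1 : x g = ζ * g := by rw [hζ]; group
    have e2 : x z = ζ * z := by rw [hζz]; group
    have hc := Subgroup.mem_center_iff.mp hg
    rw [e1, e2]
    calc ζ * g * (ζ * z)⁻¹ = ζ * (g * z⁻¹) * ζ⁻¹ := by group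
      _ = (g * z⁻¹) * ζ * ζ⁻¹ := by rw [← hc (g * z⁻¹)]
      _ = g * z⁻¹ := by group
  have : g = (g * z⁻¹) * z := by group
  rw [this]
  exact Subgroup.mul_mem _ (Subgroup.mem_sup_left hgz) (Subgroup.mem_sup_right hz)

include hC in
theorem kappa_mem_of_mem_sup {g : T} (hg : g ∈ C ⊔ Subgroup.center T) :
    x g * g⁻¹ ∈ Subgroup.center T := by
  have hcz : ∀ a ∈ C, ∀ z ∈ Subgroup.center T, a * z = z * a :=
    fun a _ z hz => Subgroup.mem_center_iff.mp hz a
  obtain ⟨c, hc, z, hz, rfl⟩ := exists_mul_of_mem_sup hcz hg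
  have hxc : x c = c := (hC c).mp hc
  have hxz : x z ∈ Subgroup.center T := inv_center z hz
  have e : x (c * z) * (c * z)⁻¹ = x z * z⁻¹ := by
    rw [map_mul, hxc]
    have := Subgroup.mem_center_iff.mp (Subgroup.mul_mem _ hxz (Subgroup.inv_mem _ hz)) c
    calc c * x z * (c * z)⁻¹ = c * (x z * z⁻¹) * c⁻¹ := by group
      _ = (x z * z⁻¹) * c * c⁻¹ := by rw [this]
      _ = x z * z⁻¹ := by group
  rw [e]
  exact Subgroup.mul_mem _ hxz (Subgroup.inv_mem _ hz)

include h hT hna hx2 hxr hC in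
theorem card_sup : Nat.card (C ⊔ Subgroup.center T : Subgroup T) = 2 * Nat.card C := by
  obtain ⟨z₀, hz₀Z, hz₀1, hz₀fix, hdich, hex, hFcard⟩ := exists_z0 h hT hna hx2 hxr hC
  have h1 := card_eq_relIndex_mul (le_sup_right : Subgroup.center T ≤ C ⊔ Subgroup.center T)
  have h2 := card_eq_relIndex_mul (inf_le_left : C ⊓ Subgroup.center T ≤ C)
  rw [Subgroup.relIndex_sup_right, card_center h hT hna] at h1
  rw [inf_comm, Subgroup.inf_relIndex_right, inf_comm, hFcard] at h2
  rw [h1, h2]; ring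

include h hT hna hx2 hxr hC in
theorem sup_inf_map : (C ⊔ Subgroup.center T) ⊓ (C ⊔ Subgroup.center T).map ρ.toMonoidHom =
    Subgroup.center T := by
  apply le_antisymm
  · rintro g ⟨hg1, g', hg', rfl⟩
    have k1 := kappa_mem_of_mem_sup hC hg1
    have k2 := kappa_mem_of_mem_sup hC hg'
    simp only [MulEquiv.coe_toMonoidHom] at k1 ⊢
    rw [hxr] at k1
    set ζ' := x g' * g'⁻¹ with hζ'
    have e1 : x g' = ζ' * g' := by rw [hζ']; group
    rw [e1, map_mul, map_mul] at k1
    -- ρρζ' * ρρg' * (ρ g')⁻¹ ∈ Z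
    have hζ2 : ρ (ρ ζ') ∈ Subgroup.center T := inv_center _ (inv_center _ k2)
    have k3 : ρ (ρ g') * (ρ g')⁻¹ ∈ Subgroup.center T := by
      have : ρ (ρ g') * (ρ g')⁻¹ = (ρ (ρ ζ'))⁻¹ * (ρ (ρ ζ') * ρ (ρ g') * (ρ g')⁻¹) := by group
      rw [this]
      exact Subgroup.mul_mem _ (Subgroup.inv_mem _ hζ2) k1
    have k4 : ρ g' * g'⁻¹ ∈ Subgroup.center T := by
      apply inv_rho_sq h inv_center
      rw [map_mul, map_inv]
      exact k3
    have k5 : g'⁻¹ * ρ g' ∈ Subgroup.center T := by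
      have hn : (Subgroup.center T).Normal := inferInstance
      have := hn.conj_mem _ k4 g'⁻¹
      have e : g'⁻¹ * (ρ g' * g'⁻¹) * g'⁻¹⁻¹ = g'⁻¹ * ρ g' := by group
      rwa [e] at this
    have := mem_of_kappa_mem h inv_center k5
    exact inv_center _ this
  · apply le_inf le_sup_right
    intro z hz
    refine ⟨ρ (ρ z), Subgroup.mem_sup_right (inv_center _ (inv_center _ hz)), ?_⟩
    simp only [MulEquiv.coe_toMonoidHom]
    exact h.cube z

include h hT hna hx2 hxr hC in
theorem card_C : Nat.card C = 8 := by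
  set W := (C ⊔ Subgroup.center T : Subgroup T) with hW
  have hWcard := card_sup h hT hna hx2 hxr hC
  -- upper bound
  have hinf := sup_inf_map h hT hna hx2 hxr hC
  have hidx := Subgroup.index_inf_le (H := W) (K := W.map ρ.toMonoidHom)
  rw [hinf] at hidx
  have hmapcard : Nat.card (W.map ρ.toMonoidHom) = Nat.card W :=
    (Nat.card_congr (W.equivMapOfInjective ρ.toMonoidHom ρ.injective).toEquiv).symm
  have i1 := Subgroup.index_mul_card (Subgroup.center T)
  rw [card_center h hT hna, hT] at i1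
  have i2 := Subgroup.index_mul_card W
  rw [hT] at i2
  have i3 := Subgroup.index_mul_card (W.map ρ.toMonoidHom)
  rw [hT, hmapcard] at i3
  have i4 := Subgroup.index_mul_card C
  rw [hT] at i4
  have hidxeq : (W.map ρ.toMonoidHom).index = W.index := by
    have hpos : 0 < Nat.card W := Nat.card_pos
    apply Nat.eq_of_mul_eq_mul_right hpos
    rw [i2, i3]
  rw [hidxeq] at hidx
  have hZidx : (Subgroup.center T).index = 16 := by omega
  rw [hZidx] at hidx
  -- lower bound: an injection from the cosets of `C` into `W`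
  have hinj : Nat.card (T ⧸ C) ≤ Nat.card W := by
    let f : T ⧸ C → W := Quotient.lift (fun t : T => (⟨x t * t⁻¹, by
        apply mem_sup_of_kappa_mem h hT hna hx2 hxr hC
        have e : x (x t * t⁻¹) * (x t * t⁻¹)⁻¹ = (t * (x t)⁻¹) * (t * (x t)⁻¹) := by
          rw [map_mul, map_inv, hx2]; group
        rw [e]
        exact sq_mem_center h hT hna _⟩ : W)) (by
      intro s t hst
      have hst' : s⁻¹ * t ∈ C := QuotientGroup.leftRel_apply.mp hst
      apply Subtype.ext
      show x s * s⁻¹ = x t * t⁻¹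
      have := (hC _).mp hst'
      rw [map_mul, map_inv] at this
      calc x s * s⁻¹ = x s * ((x s)⁻¹ * x t) * (s⁻¹ * t)⁻¹ * s⁻¹ := by rw [this]; group
        _ = x t * t⁻¹ := by group)
    apply Nat.card_le_card_of_injective f
    intro a b
    induction a using QuotientGroup.induction_on with | _ s =>
    induction b using QuotientGroup.induction_on with | _ t =>
    intro hab
    have hab' : x s * s⁻¹ = x t * t⁻¹ := congrArg Subtype.val hab
    apply QuotientGroup.eq.mpr
    rw [hC, map_mul, map_inv]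
    calc (x s)⁻¹ * x t = (x s)⁻¹ * (x t * t⁻¹) * t := by group
      _ = (x s)⁻¹ * (x s * s⁻¹) * t := by rw [hab']
      _ = s⁻¹ * t := by group
  have hidxC : C.index = Nat.card (T ⧸ C) := Subgroup.index_eq_card C
  rw [← hidxC, hWcard] at hinj
  rw [hWcard] at i2
  -- arithmetic
  have hCdvd : Nat.card C ∣ 2 ^ 6 := by
    have := Subgroup.card_subgroup_dvd_card C
    rwa [hT] at this
  obtain ⟨k, hk, hk'⟩ := (Nat.dvd_prime_pow Nat.prime_two).mp hCdvd
  rw [hk'] at i2 i4 hinj ⊢
  interval_cases k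
  · exfalso; simp at i4 hinj; omega
  · exfalso; simp at i4 hinj; omega
  · exfalso; simp at i4 hinj; omega
  · rfl
  · exfalso
    have : W.index = 2 := by omega
    rw [this] at hidx; omega
  · exfalso
    have : W.index = 1 := by omega
    rw [this] at hidx; omega
  · exfalso
    have : 128 ∣ 64 := Dvd.intro_left _ i2
    omega

end main

end Cfsg.Agent.Helper16.Fpf3
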