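import Mathlib
import Cfsg.Agent.Lib.Helper16.Fpf3D
import Cfsg.Agent.Lib.Lead.Order8
import Cfsg.Agent.Lib.Helper20.UniqueInvolution

set_option autoImplicit false
set_option linter.style.haveILetI false
set_option linter.unusedSectionVars false
set_option linter.unusedVariables false

namespace Cfsg.Agent.Helper16.Fpf3

open Cfsg.Agent.Helper16.SL2Cent (exists_mul_of_mem_sup)

section main

variable {T : Type*} [Group T] [Finite T] {ρ : MulAut T} (h : IsFpf3 ρ) (hT : Nat.card T = 64)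
  (hna : ∃ a b : T, a * b ≠ b * a) {x : MulAut T} (hx2 : ∀ t, x (x t) = t)
  (hxr : ∀ t, x (ρ t) = ρ (ρ (x t))) {C : Subgroup T} (hC : ∀ y : T, y ∈ C ↔ x y = y)

include h hT hna hx2 hxr hC in
/-- the fixed points of `x` do not commute -/
theorem exists_noncomm : ∃ a ∈ C, ∃ b ∈ C, a * b ≠ b * a := by
  by_contra hcon
  push Not at hcon
  set W := (C ⊔ Subgroup.center T : Subgroup T) with hW
  have hcz : ∀ a ∈ C, ∀ z ∈ Subgroup.center T, a * z = z * a :=
    fun a _ z hz => Subgroup.mem_center_iff.mp hz a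
  have hWcomm : ∀ a ∈ W, ∀ b ∈ W, a * b = b * a := by
    intro a ha b hb
    obtain ⟨c₁, hc₁, z₁, hz₁, rfl⟩ := exists_mul_of_mem_sup hcz ha
    obtain ⟨c₂, hc₂, z₂, hz₂, rfl⟩ := exists_mul_of_mem_sup hcz hb
    have e1 := hcon c₁ hc₁ c₂ hc₂
    have e2 := Subgroup.mem_center_iff.mp hz₁
    have e3 := Subgroup.mem_center_iff.mp hz₂
    calc c₁ * z₁ * (c₂ * z₂) = c₁ * (z₁ * c₂) * z₂ := by group
      _ = c₁ * (c₂ * z₁) * z₂ := by rw [e2 c₂]
      _ = (c₁ * c₂) * (z₁ * z₂) := by group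
      _ = (c₂ * c₁) * (z₂ * z₁) := by rw [e1, e2 z₂]
      _ = c₂ * (c₁ * z₂) * z₁ := by group
      _ = c₂ * (z₂ * c₁) * z₁ := by rw [e3 c₁]
      _ = c₂ * z₂ * (c₁ * z₁) := by group
  have hWcard : Nat.card W = 16 := by
    rw [card_sup h hT hna hx2 hxr hC, card_C h hT hna hx2 hxr hC]
  obtain ⟨z₀, hz₀Z, hz₀1, hz₀fix, hdich, hex, hFcard⟩ := exists_z0 h hT hna hx2 hxr hC
  -- an element of `C` outside the centre
  obtain ⟨a, haC, haZ⟩ : ∃ a ∈ C, a ∉ Subgroup.center T := by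
    by_contra hcon2
    push Not at hcon2
    have : C ⊓ Subgroup.center T = C := inf_eq_left.mpr hcon2
    rw [this, card_C h hT hna hx2 hxr hC] at hFcard
    norm_num at hFcard
  have haW : a ∈ W := Subgroup.mem_sup_left haC
  have hρa : ρ a ∉ W := by
    intro hρaW
    have : ρ a ∈ W ⊓ W.map ρ.toMonoidHom := ⟨hρaW, a, haW, rfl⟩
    rw [sup_inf_map h hT hna hx2 hxr hC] at this
    exact haZ (inv_rho_sq h inv_center this)
  obtain ⟨b, hbW, hbL⟩ : ∃ b ∈ W, b ∉ L ρ a := by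
    by_contra hcon2
    push Not at hcon2
    have hle : W ≤ L ρ a := hcon2
    have : W = L ρ a := Subgroup.eq_of_le_of_card_ge hle (by rw [hWcard, card_L h hT hna haZ])
    apply hρa
    rw [this]
    exact rho_mem_L a
  exact cm_ne_one h hT hna haZ hbL ((cm_eq_one_iff _ _).mpr (hWcomm a haW b hbW))

include h hT hna hx2 hxr hC in
/-- squares of fixed points are fixed central elements -/
theorem sq_of_mem_C : ∃ z₀ ∈ Subgroup.center T, z₀ ≠ 1 ∧ z₀ * z₀ = 1 ∧ z₀ ∈ C ∧
    (∀ a ∈ C, a * a = 1 ∨ a * a = z₀) ∧ (∀ a ∈ C, ∀ b ∈ C, a * b ≠ b * a → cm a b = z₀) := by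
  obtain ⟨z₀, hz₀Z, hz₀1, hz₀fix, hdich, hex, hFcard⟩ := exists_z0 h hT hna hx2 hxr hC
  refine ⟨z₀, hz₀Z, hz₀1, center_sq h hT hna hz₀Z, (hC z₀).mpr hz₀fix, ?_, ?_⟩
  · intro a ha
    apply hdich _ (sq_mem_center h hT hna a)
    rw [map_mul, (hC a).mp ha]
  · intro a ha b hb hab
    have hfix : x (cm a b) = cm a b := by
      unfold cm
      rw [map_mul, map_mul, map_mul, map_inv, map_inv, (hC a).mp ha, (hC b).mp hb]
    rcases hdich _ (cm_mem h hT hna a b) hfix with h1 | h1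
    · exact absurd ((cm_eq_one_iff _ _).mp h1) hab
    · exact h1

include h hT hna hx2 hxr hC in
/-- the fixed points of `x` form a dihedral or quaternion group of order eight -/
theorem C_dihedral_or_quaternion :
    Nonempty (↥C ≃* DihedralGroup 4) ∨ Nonempty (↥C ≃* QuaternionGroup 2) := by
  obtain ⟨a, ha, b, hb, hab⟩ := exists_noncomm h hT hna hx2 hxr hC
  have h8 := card_C h hT hna hx2 hxr hC
  have hna' : ∃ u v : ↥C, u * v ≠ v * u :=
    ⟨⟨a, ha⟩, ⟨b, hb⟩, fun he => hab (congrArg Subtype.val he)⟩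
  rcases Cfsg.Agent.Lead.order8_nonabelian h8 hna' with hd | ⟨z, hz1, hz⟩
  · exact Or.inl hd
  · right
    obtain ⟨z₀, hz₀Z, hz₀1, hz₀sq, hz₀C, hsq, hcm⟩ := sq_of_mem_C h hT hna hx2 hxr hC
    -- every element has fourth power one
    have h4 : ∀ u : ↥C, u ^ 4 = 1 := by
      intro u
      apply Subtype.ext
      have e : ((u ^ 4 : ↥C) : T) = (u.1 * u.1) * (u.1 * u.1) := by
        rw [Subgroup.coe_pow, show (4 : ℕ) = 2 + 2 from rfl, pow_add, pow_two]
      rw [e]
      rcases hsq u.1 u.2 with h1 | h1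
      · rw [h1, one_mul]; rfl
      · rw [h1, hz₀sq]; rfl
    -- `z` is the unique involution
    have hinv : ∀ u : ↥C, u ^ 2 = 1 → u = 1 ∨ u = z := by
      intro u hu
      by_cases hu1 : u = 1
      · exact Or.inl hu1
      · right
        have hmem := hz u hu1
        rw [Subgroup.mem_zpowers_iff] at hmem
        obtain ⟨k, hk⟩ := hmem
        rcases Int.emod_two_eq_zero_or_one k with hk2 | hk2
        · exfalso
          apply hz1
          have : k = 2 * (k / 2) := by omega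
          rw [← hk, this, zpow_mul, zpow_ofNat, hu, one_zpow]
        · have : k = 2 * (k / 2) + 1 := by omega
          rw [← hk, this, zpow_add, zpow_mul, zpow_ofNat, hu, one_zpow, one_mul, zpow_one]
    have hz2 : z ^ 2 = 1 := by
      -- the element `z₀` is an involution of `C`
      have hz₀' : (⟨z₀, hz₀C⟩ : ↥C) ^ 2 = 1 := by
        apply Subtype.ext
        rw [Subgroup.coe_pow, pow_two]
        exact hz₀sq
      rcases hinv _ hz₀' with h1 | h1
      · exact absurd (congrArg Subtype.val h1) hz₀1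
      · rw [← h1]; exact hz₀'
    exact Cfsg.Agent.Helper20.nonempty_mulEquiv_quaternion_of_unique_involution z hz1 hz2 hinv h4
      (by rw [h8]; norm_num)

include h hT hna hx2 hxr hC in
/-- there are two involutions which do not commute -/
theorem exists_involutions : ∃ c d : T, c * c = 1 ∧ d * d = 1 ∧ c * d ≠ d * c := by
  obtain ⟨a, ha, b, hb, hab⟩ := exists_noncomm h hT hna hx2 hxr hC
  obtain ⟨z₀, hz₀Z, hz₀1, hz₀sq, hz₀C, hsq, hcm⟩ := sq_of_mem_C h hT hna hx2 hxr hC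
  have hcab : cm a b = z₀ := hcm a ha b hb hab
  have hcba : cm b a = z₀ := by rw [cm_symm h hT hna]; exact hcab
  have habsq : (a * b) * (a * b) = (a * a) * (b * b) * z₀ := by
    rw [mul_sq h hT hna, hcba]
  rcases hsq a ha with haa | haa <;> rcases hsq b hb with hbb | hbb
  · exact ⟨a, b, haa, hbb, hab⟩
  · -- `a` and `a * b`
    refine ⟨a, a * b, haa, ?_, ?_⟩
    · rw [habsq, haa, hbb, one_mul, hz₀sq]
    · intro he
      apply hab
      have : a * (a * b) = a * (b * a) := by rw [he]; group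
      exact mul_left_cancel this
  · refine ⟨a * b, b, ?_, hbb, ?_⟩
    · rw [habsq, haa, hbb, mul_one, hz₀sq]
    · intro he
      apply hab
      have : (a * b) * b = (b * a) * b := by rw [he]; group
      exact mul_right_cancel this
  · -- the quaternion case
    have hZ := Subgroup.mem_center_iff.mp hz₀Z
    -- `p = cm a (ρ b) = ρ (ρ z₀)`
    have hp : cm a (ρ b) = ρ (ρ z₀) := by
      apply kappa_inj h
      have e1 : ρ (cm a (ρ b)) = cm a (ρ b) * ρ z₀ := by
        rw [cm_rho, rho_sq_eq h b, cm_inv_right h hT hna, cm_mul_right h hT hna,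
          cm_rho_left h hT hna a b, ← cm_rho, hcab]
      rw [e1, h.cube]
      have hpp := cm_mul_self h hT hna a (ρ b)
      have hz2 := center_rho_sq h hT hna hz₀Z
      have hρz₀Z : ρ z₀ ∈ Subgroup.center T := inv_center _ hz₀Z
      have hzz : (z₀ * ρ z₀) * (z₀ * ρ z₀) = 1 :=
        center_sq h hT hna (Subgroup.mul_mem _ hz₀Z hρz₀Z)
      rw [hz2]
      have e2 : (cm a (ρ b))⁻¹ = cm a (ρ b) := inv_eq_of_mul_eq_one_left hpp
      have e3 : (z₀ * ρ z₀)⁻¹ = z₀ * ρ z₀ := inv_eq_of_mul_eq_one_left hzz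
      rw [e2, e3, ← mul_assoc, hpp, one_mul]
      have := Subgroup.mem_center_iff.mp hρz₀Z z₀
      calc ρ z₀ = (z₀ * z₀) * ρ z₀ := by rw [hz₀sq, one_mul]
        _ = z₀ * (z₀ * ρ z₀) := by group
        _ = z₀ * (ρ z₀ * z₀) := by rw [this]
        _ = z₀ * ρ z₀ * z₀ := by group
    have hprod : z₀ * ρ z₀ * ρ (ρ z₀) = 1 := prod_eq_one h z₀
    -- `c = a * ρ b`
    have hc : (a * ρ b) * (a * ρ b) = 1 := by
      rw [mul_sq h hT hna, haa, ← map_mul, hbb, cm_symm h hT hna, hp]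
      exact hprod
    have hd : (ρ a * b) * (ρ a * b) = 1 := by
      rw [mul_sq h hT hna, ← map_mul, haa, hbb, cm_symm h hT hna, cm_rho_left h hT hna, hp]
      have e1 := Subgroup.mem_center_iff.mp hz₀Z (ρ z₀)
      calc ρ z₀ * z₀ * ρ (ρ z₀) = z₀ * ρ z₀ * ρ (ρ z₀) := by rw [e1]
        _ = 1 := hprod
    refine ⟨a * ρ b, ρ a * b, hc, hd, ?_⟩
    intro he
    have hcm1 : cm (a * ρ b) (ρ a * b) = 1 := (cm_eq_one_iff _ _).mpr he
    rw [cm_mul_left h hT hna, cm_mul_right h hT hna, cm_mul_right h hT hna, cm_rho_self h,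
      one_mul, hcab, ← cm_rho, hcba, cm_symm h hT hna (ρ b) b, cm_rho_self h, mul_one] at hcm1
    -- z₀ * ρ z₀ = 1
    have : ρ (ρ z₀) = 1 := by
      calc ρ (ρ z₀) = (z₀ * ρ z₀)⁻¹ := rho_sq_eq h z₀
        _ = 1 := by rw [hcm1, inv_one]
    apply hz₀1
    have h2 := congrArg ρ this
    rw [h.cube, map_one] at h2
    exact h2

end main

end Cfsg.Agent.Helper16.Fpf3
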