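import Mathlib
import Cfsg.Agent.Lib.Helper16.Fpf3C
import Cfsg.Agent.Lib.Helper26.F4

set_option autoImplicit false
set_option linter.style.haveILetI false
set_option linter.unusedSectionVars false
set_option linter.unusedVariables false
set_option linter.unusedSimpArgs false

namespace Cfsg.Agent.Helper16.Fpf3

open Cfsg.Agent.Helper26 (F4)

/-- the Heisenberg group over the field with four elements -/
structure Heis where
  a : F4
  b : F4
  c : F4
deriving DecidableEq, Fintype

namespace Heis

@[ext] theorem ext' {g h : Heis} (ha : g.a = h.a) (hb : g.b = h.b) (hc : g.c = h.c) : g = h := by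
  cases g; cases h; simp_all

theorem F4_add_self (x : F4) : x + x = 0 := by revert x; decide

instance : Mul Heis := ⟨fun g h => ⟨g.a + h.a, g.b + h.b, g.c + h.c + h.a * g.b⟩⟩
instance : One Heis := ⟨⟨0, 0, 0⟩⟩
instance : _root_.Inv Heis := ⟨fun g => ⟨g.a, g.b, g.c + g.a * g.b⟩⟩

@[simp] theorem mul_a (g h : Heis) : (g * h).a = g.a + h.a := rfl
@[simp] theorem mul_b (g h : Heis) : (g * h).b = g.b + h.b := rfl
@[simp] theorem mul_c (g h : Heis) : (g * h).c = g.c + h.c + h.a * g.b := rfl
@[simp] theorem one_a : (1 : Heis).a = 0 := rfl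
@[simp] theorem one_b : (1 : Heis).b = 0 := rfl
@[simp] theorem one_c : (1 : Heis).c = 0 := rfl
@[simp] theorem inv_a (g : Heis) : (g⁻¹).a = g.a := rfl
@[simp] theorem inv_b (g : Heis) : (g⁻¹).b = g.b := rfl
@[simp] theorem inv_c (g : Heis) : (g⁻¹).c = g.c + g.a * g.b := rfl

instance : Group Heis where
  mul_assoc g h k := by
    ext <;> simp only [mul_a, mul_b, mul_c] <;> ring
  one_mul g := by
    ext <;> simp
  mul_one g := by
    ext <;> simp
  inv_mul_cancel g := by
    ext
    · simp only [mul_a, inv_a, one_a]; exact F4_add_self _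
    · simp only [mul_b, inv_b, one_b]; exact F4_add_self _
    · simp only [mul_c, inv_c, inv_b, one_c]
      have := F4_add_self g.c
      have h2 := F4_add_self (g.a * g.b)
      calc g.c + g.a * g.b + g.c + g.a * g.b = (g.c + g.c) + (g.a * g.b + g.a * g.b) := by ring
        _ = 0 := by rw [this, h2, add_zero]

theorem card_heis : Nat.card Heis = 64 := by
  rw [Nat.card_eq_fintype_card]
  rfl

end Heis

/-- the map from `F4` determined by two commuting involutions -/
def pw {T : Type*} [Group T] (u v : T) (a : F4) : T := u ^ a.a.val * v ^ a.b.val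

section pw

variable {T : Type*} [Group T] {u v : T} (huu : u * u = 1) (hvv : v * v = 1) (huv : v * u = u * v)

include huu hvv huv in
theorem pw_add (a a' : F4) : pw u v (a + a') = pw u v a * pw u v a' := by
  have huu' : ∀ g : T, u * (u * g) = g := fun g => by rw [← mul_assoc, huu, one_mul]
  have hvv' : ∀ g : T, v * (v * g) = g := fun g => by rw [← mul_assoc, hvv, one_mul]
  have huv' : ∀ g : T, v * (u * g) = u * (v * g) := fun g => by
    rw [← mul_assoc, huv, mul_assoc]
  obtain ⟨i, j⟩ := a
  obtain ⟨i', j'⟩ := a'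
  show u ^ (i + i').val * v ^ (j + j').val = u ^ i.val * v ^ j.val * (u ^ i'.val * v ^ j'.val)
  fin_cases i <;> fin_cases j <;> fin_cases i' <;> fin_cases j' <;>
    simp [mul_assoc, huu, hvv, huv, huu', hvv', huv']

theorem pw_zero : pw u v (0 : F4) = 1 := by
  show u ^ (0 : Fin 2).val * v ^ (0 : Fin 2).val = 1
  simp

theorem pw_one : pw u v (1 : F4) = u := by
  show u ^ (1 : Fin 2).val * v ^ (0 : Fin 2).val = u
  simp

theorem pw_w : pw u v F4.w = v := by
  show u ^ (0 : Fin 2).val * v ^ (1 : Fin 2).val = v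
  simp

theorem F4_cases (a : F4) : a = 0 ∨ a = 1 ∨ a = F4.w ∨ a = 1 + F4.w := by
  revert a; decide

end pw

end Cfsg.Agent.Helper16.Fpf3
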