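import Mathlib
import Cfsg.Agent.Lib.Helper16.Fpf3F

set_option autoImplicit false
set_option linter.style.haveILetI false
set_option linter.unusedSectionVars false
set_option linter.unusedVariables false
set_option linter.unusedSimpArgs false

namespace Cfsg.Agent.Helper16.Fpf3

open Cfsg.Agent.Helper26 (F4)

section main

variable {T : Type*} [Group T] [Finite T] {ρ : MulAut T} (h : IsFpf3 ρ) (hT : Nat.card T = 64)
  (hna : ∃ a b : T, a * b ≠ b * a)

include h in
theorem rho_pw {u : T} (huu : u * u = 1) (a : F4) :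
    ρ (pw u (ρ u) a) = pw u (ρ u) (F4.w * a) := by
  have hvv : ρ u * ρ u = 1 := by rw [← map_mul, huu, map_one]
  have huv : ρ u * u = u * ρ u := (commute_rho h u).symm
  have h2 : ρ (ρ u) = u * ρ u := by
    rw [rho_sq_eq h u]
    apply inv_eq_of_mul_eq_one_left
    calc u * ρ u * (u * ρ u) = u * (ρ u * u) * ρ u := by group
      _ = u * (u * ρ u) * ρ u := by rw [huv]
      _ = (u * u) * (ρ u * ρ u) := by group
      _ = 1 := by rw [huu, hvv, one_mul]
  rcases F4_cases a with rfl | rfl | rfl | rfl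
  · rw [mul_zero, pw_zero, map_one]
  · rw [mul_one, pw_one, pw_w]
  · have : F4.w * F4.w = 1 + F4.w := by decide
    rw [this, pw_add huu hvv huv, pw_w, pw_one, h2]
  · have : F4.w * (1 + F4.w) = 1 := by decide
    rw [this, pw_add huu hvv huv, pw_w, pw_one, map_mul, h2]
    calc ρ u * (u * ρ u) = (ρ u * u) * ρ u := by group
      _ = (u * ρ u) * ρ u := by rw [huv]
      _ = u * (ρ u * ρ u) := by group
      _ = u := by rw [hvv, mul_one]

include h in
theorem pw_mem_L {u : T} (a : F4) : pw u (ρ u) a ∈ L ρ u := by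
  unfold pw
  exact Subgroup.mul_mem _ (Subgroup.pow_mem _ (mem_L_self u) _)
    (Subgroup.pow_mem _ (rho_mem_L u) _)

include h hT hna in
theorem pw_not_mem_center {u : T} (huu : u * u = 1) (huZ : u ∉ Subgroup.center T) {a : F4}
    (ha : a ≠ 0) : pw u (ρ u) a ∉ Subgroup.center T := by
  have hvv : ρ u * ρ u = 1 := by rw [← map_mul, huu, map_one]
  have huv : ρ u * u = u * ρ u := (commute_rho h u).symm
  rcases F4_cases a with rfl | rfl | rfl | rfl
  · exact absurd rfl ha
  · rw [pw_one]; exact huZ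
  · rw [pw_w]
    intro hc
    exact huZ (inv_rho_sq h inv_center hc)
  · rw [pw_add huu hvv huv, pw_one, pw_w]
    intro hc
    have h2 : ρ (ρ u) = (u * ρ u)⁻¹ := rho_sq_eq h u
    have : ρ (ρ u) ∈ Subgroup.center T := by rw [h2]; exact Subgroup.inv_mem _ hc
    exact huZ (inv_rho_sq h inv_center (inv_rho_sq h inv_center this))

/-- the isomorphism from the Heisenberg group -/
noncomputable def heisMap (ρ : MulAut T) (c d : T) (g : Heis) : T :=
  pw d (ρ d) g.a * pw c (ρ c) g.b * cm c (pw d (ρ d) g.c)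

include h hT hna in
theorem heis_equiv {c d : T} (hcc : c * c = 1) (hdd : d * d = 1) (hcd : c * d ≠ d * c) :
    Nonempty (Heis ≃* T) := by
  have hcZ : c ∉ Subgroup.center T := fun hc => hcd (Subgroup.mem_center_iff.mp hc d).symm
  have hdZ : d ∉ Subgroup.center T := fun hd => hcd (Subgroup.mem_center_iff.mp hd c)
  have hdL : d ∉ L ρ c := fun hd => hcd (L_comm h c c (mem_L_self c) d hd)
  have hLne : L ρ c ≠ L ρ d := fun heq => hdL (heq ▸ mem_L_self d)
  have hinf := L_inf h hT hna hcZ hdZ hLne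
  have hc' : ρ c * ρ c = 1 := by rw [← map_mul, hcc, map_one]
  have hd' : ρ d * ρ d = 1 := by rw [← map_mul, hdd, map_one]
  have hcc' : ρ c * c = c * ρ c := (commute_rho h c).symm
  have hdd' : ρ d * d = d * ρ d := (commute_rho h d).symm
  set α := pw d (ρ d) with hα
  set β := pw c (ρ c) with hβ
  set ζ : F4 → T := fun e => cm c (α e) with hζ
  have hαadd : ∀ a a', α (a + a') = α a * α a' := pw_add hdd hd' hdd'
  have hβadd : ∀ a a', β (a + a') = β a * β a' := pw_add hcc hc' hcc'
  have hζadd : ∀ e e', ζ (e + e') = ζ e * ζ e' := by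
    intro e e'
    show cm c (α (e + e')) = cm c (α e) * cm c (α e')
    rw [hαadd, cm_mul_right h hT hna]
  have hζZ : ∀ e, ζ e ∈ Subgroup.center T := fun e => cm_mem h hT hna _ _
  have hζc : ∀ e g, ζ e * g = g * ζ e := fun e g => cm_central h hT hna _ _ g
  -- the pairing
  have hpair : ∀ a b : F4, cm (β b) (α a) = ζ (a * b) := by
    intro a b
    rcases F4_cases b with rfl | rfl | rfl | rfl
    · rw [mul_zero, hβ, pw_zero]
      show cm 1 (α a) = cm c (α 0)
      rw [hα, pw_zero]
      unfold cm; group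
    · rw [mul_one, hβ, pw_one]
    · rw [hβ, pw_w, cm_rho_left h hT hna]
      show cm c (ρ (α a)) = cm c (α (a * F4.w))
      rw [hα, rho_pw h hdd, mul_comm]
    · rw [mul_add, mul_one, hζadd, hβ, pw_add hcc hc' hcc', pw_one, pw_w,
        cm_mul_left h hT hna, cm_rho_left h hT hna]
      show cm c (α a) * cm c (ρ (α a)) = cm c (α a) * cm c (α (a * F4.w))
      rw [hα, rho_pw h hdd, mul_comm F4.w]
  -- the homomorphism
  let Φ : Heis →* T := MonoidHom.mk' (heisMap ρ c d) (by
    intro g k
    show α (g.a + k.a) * β (g.b + k.b) * ζ (g.c + k.c + k.a * g.b) =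
      (α g.a * β g.b * ζ g.c) * (α k.a * β k.b * ζ k.c)
    rw [hαadd, hβadd, hζadd, hζadd, ← hpair]
    have e1 : β g.b * α k.a = cm (β g.b) (α k.a) * α k.a * β g.b := by unfold cm; group
    have c1 := hζc g.c
    have c2 := cm_central h hT hna (β g.b) (α k.a)
    calc α g.a * α k.a * (β g.b * β k.b) * (ζ g.c * ζ k.c * cm (β g.b) (α k.a))
        = (α g.a * α k.a * (β g.b * β k.b) * (ζ g.c * ζ k.c)) * cm (β g.b) (α k.a) := by group
      _ = cm (β g.b) (α k.a) * (α g.a * α k.a * (β g.b * β k.b) * (ζ g.c * ζ k.c)) :=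
          (c2 _).symm
      _ = (cm (β g.b) (α k.a) * α g.a) * (α k.a * β g.b) * β k.b * (ζ g.c * ζ k.c) := by group
      _ = (α g.a * cm (β g.b) (α k.a)) * (α k.a * β g.b) * β k.b * (ζ g.c * ζ k.c) := by
          rw [c2 (α g.a)]
      _ = α g.a * (cm (β g.b) (α k.a) * α k.a * β g.b) * β k.b * (ζ g.c * ζ k.c) := by group
      _ = α g.a * (β g.b * α k.a) * β k.b * (ζ g.c * ζ k.c) := by rw [← e1]
      _ = α g.a * β g.b * (ζ g.c * (α k.a * β k.b)) * ζ k.c := by
          rw [c1 (α k.a * β k.b)]; group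
      _ = α g.a * β g.b * ζ g.c * (α k.a * β k.b * ζ k.c) := by group)
  have hΦ : ∀ g, Φ g = α g.a * β g.b * ζ g.c := fun g => rfl
  -- injectivity
  have hαL : ∀ a, α a ∈ L ρ d := fun a => pw_mem_L h a
  have hβL : ∀ b, β b ∈ L ρ c := fun b => pw_mem_L h b
  have hinj : Function.Injective Φ := by
    rw [injective_iff_map_eq_one]
    intro g hg
    rw [hΦ] at hg
    have ha0 : g.a = 0 := by
      by_contra hne
      apply pw_not_mem_center h hT hna hdd hdZ hne
      rw [← hinf]
      refine ⟨?_, hαL g.a⟩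
      have : α g.a = (β g.b * ζ g.c)⁻¹ := by
        apply eq_inv_of_mul_eq_one_left
        rw [← hg]; group
      show α g.a ∈ L ρ c
      rw [this]
      exact Subgroup.inv_mem _ (Subgroup.mul_mem _ (hβL g.b) (center_le_L c (hζZ g.c)))
    rw [ha0, hα, pw_zero, one_mul] at hg
    have hb0 : g.b = 0 := by
      by_contra hne
      apply pw_not_mem_center h hT hna hcc hcZ hne
      have : β g.b = (ζ g.c)⁻¹ := eq_inv_of_mul_eq_one_left hg
      show β g.b ∈ Subgroup.center T
      rw [this]
      exact Subgroup.inv_mem _ (hζZ g.c)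
    rw [hb0, hβ, pw_zero, one_mul] at hg
    have hc0 : g.c = 0 := by
      by_contra hne
      have hnotL : α g.c ∉ L ρ c := by
        intro hmem
        apply pw_not_mem_center h hT hna hdd hdZ hne
        rw [← hinf]
        exact ⟨hmem, hαL g.c⟩
      exact cm_ne_one h hT hna hcZ hnotL hg
    apply Heis.ext' ha0 hb0 hc0
  have hbij : Function.Bijective Φ := by
    rw [Nat.bijective_iff_injective_and_card]
    exact ⟨hinj, by rw [Heis.card_heis, hT]⟩
  exact ⟨MulEquiv.ofBijective Φ hbij⟩

end main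

end Cfsg.Agent.Helper16.Fpf3
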