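import Mathlib
import Cfsg.Agent.Lib.Helper16.Fpf3F
import Cfsg.Agent.Lib.Helper2.CardSL

set_option autoImplicit false
set_option linter.style.haveILetI false
set_option linter.unusedSectionVars false
set_option linter.unusedVariables false
set_option linter.unusedSimpArgs false

namespace Cfsg.Agent.Helper16.Fpf3

open Cfsg.Agent.Helper26 (F4)
open Matrix

/-- the unitriangular matrix of an element of the Heisenberg group -/
def heisMat (g : Heis) : Matrix (Fin 3) (Fin 3) F4 := !![1, g.b, g.c; 0, 1, g.a; 0, 0, 1]

theorem det_heisMat (g : Heis) : (heisMat g).det = 1 := by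
  rw [Matrix.det_fin_three]
  simp [heisMat]

theorem heisMat_mul (g k : Heis) : heisMat (g * k) = heisMat g * heisMat k := by
  ext i j
  fin_cases i <;> fin_cases j <;>
    simp [heisMat, Matrix.mul_apply, Fin.sum_univ_three] <;> ring

theorem heisMat_one : heisMat 1 = 1 := by
  ext i j
  fin_cases i <;> fin_cases j <;> simp [heisMat]

/-- the embedding into the special linear group -/
def heisSL : Heis →* SpecialLinearGroup (Fin 3) F4 where
  toFun g := ⟨heisMat g, det_heisMat g⟩
  map_one' := Subtype.ext heisMat_one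
  map_mul' g k := Subtype.ext (heisMat_mul g k)

/-- the embedding into the projective special linear group -/
def heisPSL : Heis →* ProjectiveSpecialLinearGroup (Fin 3) F4 :=
  (QuotientGroup.mk' (Subgroup.center (SpecialLinearGroup (Fin 3) F4))).comp heisSL

theorem heisPSL_injective : Function.Injective heisPSL := by
  rw [injective_iff_map_eq_one]
  intro g hg
  unfold heisPSL at hg
  rw [MonoidHom.comp_apply, QuotientGroup.mk'_apply, QuotientGroup.eq_one_iff,
    Matrix.SpecialLinearGroup.mem_center_iff] at hg
  obtain ⟨r, hr, hrg⟩ := hg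
  have h01 := congrFun (congrFun hrg 0) 1
  have h02 := congrFun (congrFun hrg 0) 2
  have h12 := congrFun (congrFun hrg 1) 2
  simp [heisSL, heisMat] at h01 h02 h12
  apply Heis.ext'
  · exact h12.symm
  · exact h01.symm
  · exact h02.symm

theorem card_PSL34 : Nat.card (ProjectiveSpecialLinearGroup (Fin 3) F4) = 20160 := by
  have h := Cfsg.Agent.Helper2.card_PSL_mul (F := F4) 3 (by norm_num)
  rw [F4.card_F4, Fin.prod_univ_three] at h
  simp only [Fin.val_zero, Fin.val_one, Fin.val_two] at h
  norm_num at h
  rw [Nat.card_eq_fintype_card]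
  omega

/-- the Heisenberg group is a Sylow subgroup -/
theorem exists_sylow_heis : ∃ S : Sylow 2 (ProjectiveSpecialLinearGroup (Fin 3) F4),
    Nonempty (Heis ≃* ↥(S : Subgroup (ProjectiveSpecialLinearGroup (Fin 3) F4))) := by
  haveI : Fact (Nat.Prime 2) := ⟨Nat.prime_two⟩
  haveI : Finite (ProjectiveSpecialLinearGroup (Fin 3) F4) :=
    Nat.finite_of_card_ne_zero (by rw [card_PSL34]; norm_num)
  set P := heisPSL.range with hP
  have e : Heis ≃* P := MonoidHom.ofInjective heisPSL_injective
  have hPcard : Nat.card P = 64 := by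
    rw [← Nat.card_congr e.toEquiv, Heis.card_heis]
  have hPp : IsPGroup 2 P := IsPGroup.of_card (n := 6) (by rw [hPcard]; norm_num)
  obtain ⟨S, hPS⟩ := hPp.exists_le_sylow
  obtain ⟨n, hn⟩ := IsPGroup.iff_card.mp S.isPGroup'
  have hdvd : Nat.card S ∣ 20160 := by
    rw [← card_PSL34]; exact Subgroup.card_subgroup_dvd_card _
  have hle : Nat.card P ≤ Nat.card S := Subgroup.card_le_of_le hPS
  rw [hn] at hdvd
  rw [hPcard, hn] at hle
  have hn6 : n = 6 := by
    have h1 : n ≤ 6 := by
      by_contra hcon
      push Not at hcon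
      have : 2 ^ 7 ∣ 2 ^ n := pow_dvd_pow 2 hcon
      have := this.trans hdvd
      norm_num at this
    have h2 : 6 ≤ n := by
      by_contra hcon
      push Not at hcon
      have : 2 ^ n ≤ 2 ^ 5 := Nat.pow_le_pow_right (by norm_num) (by omega)
      omega
    omega
  have hPS' : P = S := Subgroup.eq_of_le_of_card_ge hPS (by rw [hn, hn6, hPcard]; norm_num)
  exact ⟨S, ⟨e.trans (MulEquiv.subgroupCongr hPS')⟩⟩

end Cfsg.Agent.Helper16.Fpf3
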