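import Mathlib
import Cfsg.Prelude.Def_FusionComponents
import Cfsg.Agent.Lib.Helper25.Fusion
import Cfsg.Agent.Lib.Helper25.FusionFactor
import Cfsg.Agent.Lib.Helper25.FusionMorph

set_option autoImplicit false

/-!
Transport of fusion systems along an injective homomorphism `θ : S →* Ω'`: basic facts on images of
subgroups and on the relation "`φ'` is `θ φ θ⁻¹`".
-/

namespace Cfsg.Agent.Helper16.FusTr

open Cfsg Cfsg.FusionSystem Cfsg.Agent.Helper25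

variable {Ω : Type*} [Group Ω] {S : Subgroup Ω} {Ω' : Type*} [Group Ω']

theorem map_mem_imageAlong (θ : S →* Ω') {P : Subgroup Ω} {x : Ω} (hxS : x ∈ S) (hx : x ∈ P) :
    θ ⟨x, hxS⟩ ∈ imageAlong θ P :=
  mem_imageAlong.mpr ⟨⟨x, hxS⟩, hx, rfl⟩

theorem mem_of_map_mem_imageAlong {θ : S →* Ω'} (hθ : Function.Injective θ) {P : Subgroup Ω}
    {x : Ω} (hxS : x ∈ S) (hx : θ ⟨x, hxS⟩ ∈ imageAlong θ P) : x ∈ P := by
  obtain ⟨s, hs, hss⟩ := mem_imageAlong.mp hx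
  have : s = ⟨x, hxS⟩ := hθ hss
  subst this
  exact hs

theorem imageAlong_mono (θ : S →* Ω') {P Q : Subgroup Ω} (h : P ≤ Q) :
    imageAlong θ P ≤ imageAlong θ Q := by
  intro y hy
  obtain ⟨s, hs, rfl⟩ := mem_imageAlong.mp hy
  exact mem_imageAlong.mpr ⟨s, h hs, rfl⟩

theorem le_of_imageAlong_le {θ : S →* Ω'} (hθ : Function.Injective θ) {P Q : Subgroup Ω}
    (hP : P ≤ S) (h : imageAlong θ P ≤ imageAlong θ Q) : P ≤ Q := by
  intro x hx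
  exact mem_of_map_mem_imageAlong hθ (hP hx) (h (map_mem_imageAlong θ (hP hx) hx))

theorem imageAlong_injective {θ : S →* Ω'} (hθ : Function.Injective θ) {P Q : Subgroup Ω}
    (hP : P ≤ S) (hQ : Q ≤ S) (h : imageAlong θ P = imageAlong θ Q) : P = Q :=
  le_antisymm (le_of_imageAlong_le hθ hP h.le) (le_of_imageAlong_le hθ hQ h.ge)

theorem imageAlong_le_range (θ : S →* Ω') (P : Subgroup Ω) : imageAlong θ P ≤ θ.range := by
  intro y hy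
  obtain ⟨s, -, rfl⟩ := mem_imageAlong.mp hy
  exact ⟨s, rfl⟩

theorem imageAlong_self (θ : S →* Ω') : imageAlong θ S = θ.range := by
  ext y
  rw [mem_imageAlong]
  constructor
  · rintro ⟨s, -, rfl⟩; exact ⟨s, rfl⟩
  · rintro ⟨s, rfl⟩; exact ⟨s, s.2, rfl⟩

theorem preimageAlong_imageAlong {θ : S →* Ω'} (hθ : Function.Injective θ) {P : Subgroup Ω}
    (hP : P ≤ S) : preimageAlong θ (imageAlong θ P) = P := by
  ext x
  rw [mem_preimageAlong]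
  constructor
  · rintro ⟨hxS, hx⟩
    exact mem_of_map_mem_imageAlong hθ hxS hx
  · intro hx
    exact ⟨hP hx, map_mem_imageAlong θ (hP hx) hx⟩

theorem imageAlong_preimageAlong' (θ : S →* Ω') {P' : Subgroup Ω'} (hP' : P' ≤ θ.range) :
    imageAlong θ (preimageAlong θ P') = P' :=
  imageAlong_preimageAlong rfl hP'

/-- `φ'` is the map `θ φ θ⁻¹` on `θ(P)`. -/
def Rel (θ : S →* Ω') {P : Subgroup Ω} (φ : P →* Ω) {P' : Subgroup Ω'} (φ' : P' →* Ω') : Prop :=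
  P' = imageAlong θ P ∧ InducedAlong θ φ φ'

theorem Rel.le {θ : S →* Ω'} {P : Subgroup Ω} {φ : P →* Ω} {P' : Subgroup Ω'} {φ' : P' →* Ω'}
    (h : Rel θ φ φ') : P ≤ S := h.2.1

theorem Rel.map_mem {θ : S →* Ω'} {P : Subgroup Ω} {φ : P →* Ω} {P' : Subgroup Ω'}
    {φ' : P' →* Ω'} (h : Rel θ φ φ') (x : P) : φ x ∈ S := h.2.2.1 x

theorem Rel.mem {θ : S →* Ω'} {P : Subgroup Ω} {φ : P →* Ω} {P' : Subgroup Ω'}
    {φ' : P' →* Ω'} (h : Rel θ φ φ') (x : P) : θ ⟨x, h.le x.2⟩ ∈ P' := h.2.2.2.1 x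

theorem Rel.apply {θ : S →* Ω'} {P : Subgroup Ω} {φ : P →* Ω} {P' : Subgroup Ω'}
    {φ' : P' →* Ω'} (h : Rel θ φ φ') (x : P) :
    φ' ⟨θ ⟨x, h.le x.2⟩, h.mem x⟩ = θ ⟨φ x, h.map_mem x⟩ := h.2.2.2.2 x

theorem Rel.exists_eq {θ : S →* Ω'} {P : Subgroup Ω} {φ : P →* Ω} {P' : Subgroup Ω'}
    {φ' : P' →* Ω'} (h : Rel θ φ φ') (x' : P') :
    ∃ x : P, (⟨θ ⟨x, h.le x.2⟩, h.mem x⟩ : P') = x' := by
  have h1 : (x' : Ω') ∈ imageAlong θ P := h.1 ▸ x'.2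
  obtain ⟨s, hs, hss⟩ := mem_imageAlong.mp h1
  exact ⟨⟨s, hs⟩, Subtype.ext hss⟩

theorem rel_mk {θ : S →* Ω'} {P : Subgroup Ω} {φ : P →* Ω} {P' : Subgroup Ω'} {φ' : P' →* Ω'}
    (hP' : P' = imageAlong θ P) (hP : P ≤ S) (hφ : ∀ x : P, φ x ∈ S)
    (h : ∀ (x : P) (hx : θ ⟨x, hP x.2⟩ ∈ P'), φ' ⟨θ ⟨x, hP x.2⟩, hx⟩ = θ ⟨φ x, hφ x⟩) :
    Rel θ φ φ' := by
  have hm : ∀ x : P, θ ⟨x, hP x.2⟩ ∈ P' := fun x => hP' ▸ map_mem_imageAlong θ (hP x.2) x.2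
  exact ⟨hP', hP, hφ, hm, fun x => h x (hm x)⟩

/-- Uniqueness of the transported map. -/
theorem Rel.unique {θ : S →* Ω'} {P : Subgroup Ω} {φ : P →* Ω} {P' : Subgroup Ω'}
    {φ₁ φ₂ : P' →* Ω'} (h₁ : Rel θ φ φ₁) (h₂ : Rel θ φ φ₂) : φ₁ = φ₂ := by
  ext x'
  obtain ⟨x, rfl⟩ := h₁.exists_eq x'
  rw [h₁.apply x]
  exact (h₂.apply x).symm

/-- Uniqueness of the pulled back map. -/
theorem Rel.unique_left {θ : S →* Ω'} (hθ : Function.Injective θ) {P : Subgroup Ω}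
    {φ₁ φ₂ : P →* Ω} {P' : Subgroup Ω'} {φ' : P' →* Ω'} (h₁ : Rel θ φ₁ φ') (h₂ : Rel θ φ₂ φ') :
    φ₁ = φ₂ := by
  ext x
  have e1 := h₁.apply x
  have e2 := h₂.apply x
  have : θ ⟨φ₁ x, h₁.map_mem x⟩ = θ ⟨φ₂ x, h₂.map_mem x⟩ := by rw [← e1, ← e2]
  exact congrArg Subtype.val (hθ this)

theorem Rel.source_eq {θ : S →* Ω'} (hθ : Function.Injective θ) {P₁ P₂ : Subgroup Ω}
    {φ₁ : P₁ →* Ω} {φ₂ : P₂ →* Ω} {P' : Subgroup Ω'} {φ₁' φ₂' : P' →* Ω'}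
    (h₁ : Rel θ φ₁ φ₁') (h₂ : Rel θ φ₂ φ₂') : P₁ = P₂ :=
  imageAlong_injective hθ h₁.le h₂.le (h₁.1.symm.trans h₂.1)

/-- The isomorphism from `P ≤ S` onto its image. -/
noncomputable def imgEquiv {θ : S →* Ω'} (hθ : Function.Injective θ) {P : Subgroup Ω} (hP : P ≤ S) :
    P ≃* imageAlong θ P :=
  MulEquiv.ofBijective
    ((θ.comp (Subgroup.inclusion hP)).codRestrict (imageAlong θ P)
      (fun x => map_mem_imageAlong θ (hP x.2) x.2))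
    ⟨by
      intro x y hxy
      have h1 : θ ⟨x, hP x.2⟩ = θ ⟨y, hP y.2⟩ := congrArg Subtype.val hxy
      have h2 := hθ h1
      exact Subtype.ext (congrArg (fun s : S => (s : Ω)) h2),
     by
      intro y
      obtain ⟨s, hs, hss⟩ := mem_imageAlong.mp y.2
      exact ⟨⟨s, hs⟩, Subtype.ext hss⟩⟩

theorem imgEquiv_apply {θ : S →* Ω'} (hθ : Function.Injective θ) {P : Subgroup Ω} (hP : P ≤ S)
    (x : P) : ((imgEquiv hθ hP x : imageAlong θ P) : Ω') = θ ⟨x, hP x.2⟩ := rfl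

/-- Existence of the transported map. -/
theorem exists_rel {θ : S →* Ω'} (hθ : Function.Injective θ) {P : Subgroup Ω} (hP : P ≤ S)
    (φ : P →* Ω) (hφ : ∀ x : P, φ x ∈ S) : ∃ φ' : imageAlong θ P →* Ω', Rel θ φ φ' := by
  refine ⟨(θ.comp (φ.codRestrict S hφ)).comp (imgEquiv hθ hP).symm.toMonoidHom,
    rel_mk rfl hP hφ fun x hx => ?_⟩
  have : (imgEquiv hθ hP).symm ⟨θ ⟨x, hP x.2⟩, hx⟩ = x := by
    rw [MulEquiv.symm_apply_eq]
    exact Subtype.ext rfl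
  simp only [MonoidHom.coe_comp, MulEquiv.coe_toMonoidHom, Function.comp_apply, this]
  rfl

/-- Transported maps with source an arbitrary copy `P'` of the image. -/
theorem exists_rel' {θ : S →* Ω'} (hθ : Function.Injective θ) {P : Subgroup Ω} (hP : P ≤ S)
    (φ : P →* Ω) (hφ : ∀ x : P, φ x ∈ S) {P' : Subgroup Ω'} (hP' : P' = imageAlong θ P) :
    ∃ φ' : P' →* Ω', Rel θ φ φ' := by
  subst hP'
  exact exists_rel hθ hP φ hφ

/-- Existence of the pulled back map. -/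
theorem exists_rel_left {θ : S →* Ω'} (hθ : Function.Injective θ) {P' : Subgroup Ω'}
    (hP' : P' ≤ θ.range) (φ' : P' →* Ω') (hφ' : ∀ x : P', φ' x ∈ θ.range) :
    ∃ φ : preimageAlong θ P' →* Ω, Rel θ φ φ' := by
  have hsurj := preimageMap_surjective (θ := θ) rfl hP'
  let e := MonoidHom.ofInjective hθ
  let ψ : preimageAlong θ P' →* Ω :=
    S.subtype.comp (e.symm.toMonoidHom.comp ((φ'.codRestrict θ.range hφ').comp (preimageMap θ P')))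
  have hψS : ∀ x, ψ x ∈ S := fun x => Subtype.property _
  refine ⟨ψ, rel_mk (imageAlong_preimageAlong' θ hP').symm (preimageAlong_le θ P') hψS
    fun x hx => ?_⟩
  have h1 : (⟨ψ x, hψS x⟩ : S) = e.symm ⟨φ' (preimageMap θ P' x), hφ' _⟩ := Subtype.ext rfl
  rw [h1]
  have h2 : θ (e.symm ⟨φ' (preimageMap θ P' x), hφ' _⟩) = φ' (preimageMap θ P' x) := by
    have := MulEquiv.apply_symm_apply e ⟨φ' (preimageMap θ P' x), hφ' _⟩
    exact congrArg Subtype.val this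
  rw [h2]
  rfl

theorem rel_subtype {θ : S →* Ω'} {P : Subgroup Ω} (hP : P ≤ S) {P' : Subgroup Ω'}
    (hP' : P' = imageAlong θ P) : Rel θ P.subtype P'.subtype :=
  rel_mk hP' hP (fun x => hP x.2) fun _ _ => rfl

theorem rel_conj {θ : S →* Ω'} {P : Subgroup Ω} (hP : P ≤ S) {g : Ω} (hg : g ∈ S)
    {P' : Subgroup Ω'} (hP' : P' = imageAlong θ P) :
    Rel θ (conjHom P g) (conjHom P' (θ ⟨g, hg⟩)) := by
  have hc : ∀ x : P, conjHom P g x ∈ S := fun x => by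
    rw [conjHom_apply]; exact S.mul_mem (S.mul_mem hg (hP x.2)) (S.inv_mem hg)
  refine rel_mk hP' hP hc fun x hx => ?_
  rw [conjHom_apply]
  have : (⟨conjHom P g x, hc x⟩ : S) = ⟨g, hg⟩ * ⟨x, hP x.2⟩ * ⟨g, hg⟩⁻¹ := Subtype.ext rfl
  rw [this, map_mul, map_mul, map_inv]

/-- Transport is compatible with composition. -/
theorem Rel.comp {θ : S →* Ω'} {P Q : Subgroup Ω} {φ : P →* Ω} {ψ : Q →* Ω}
    {P' Q' : Subgroup Ω'} {φ' : P' →* Ω'} {ψ' : Q' →* Ω'} (h₁ : Rel θ φ φ') (h₂ : Rel θ ψ ψ')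
    (h : ∀ x : P, φ x ∈ Q) (h' : ∀ x : P', φ' x ∈ Q') :
    Rel θ (ψ.comp (φ.codRestrict Q h)) (ψ'.comp (φ'.codRestrict Q' h')) := by
  refine rel_mk h₁.1 h₁.le (fun x => h₂.map_mem _) fun x hx => ?_
  have e1 := h₁.apply x
  have e2 := h₂.apply ⟨φ x, h x⟩
  exact (congrArg ψ' (Subtype.ext e1)).trans e2

/-- Values of the transported map lie in the image of any subgroup containing the values. -/
theorem Rel.map_mem_image {θ : S →* Ω'} {P Q : Subgroup Ω} {φ : P →* Ω} {P' : Subgroup Ω'}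
    {φ' : P' →* Ω'} (h₁ : Rel θ φ φ') (h : ∀ x : P, φ x ∈ Q) (x' : P') :
    φ' x' ∈ imageAlong θ Q := by
  obtain ⟨x, rfl⟩ := h₁.exists_eq x'
  rw [h₁.apply x]
  exact map_mem_imageAlong θ (h₁.map_mem x) (h x)

/-- Values of the pulled back map. -/
theorem Rel.map_mem_of_image {θ : S →* Ω'} (hθ : Function.Injective θ) {P Q : Subgroup Ω}
    {φ : P →* Ω} {P' : Subgroup Ω'} {φ' : P' →* Ω'} (h₁ : Rel θ φ φ')
    (h : ∀ x' : P', φ' x' ∈ imageAlong θ Q) (x : P) : φ x ∈ Q := by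
  have := h ⟨θ ⟨x, h₁.le x.2⟩, h₁.mem x⟩
  rw [h₁.apply x] at this
  exact mem_of_map_mem_imageAlong hθ (h₁.map_mem x) this

/-- Transport is compatible with restriction. -/
theorem Rel.restrict {θ : S →* Ω'} {P Q : Subgroup Ω} {φ : P →* Ω} {P' Q' : Subgroup Ω'}
    {φ' : P' →* Ω'} (h₁ : Rel θ φ φ') (hQP : Q ≤ P) (hQ' : Q' = imageAlong θ Q)
    (hQP' : Q' ≤ P') :
    Rel θ (φ.comp (Subgroup.inclusion hQP)) (φ'.comp (Subgroup.inclusion hQP')) := by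
  refine rel_mk hQ' (hQP.trans h₁.le) (fun x => h₁.map_mem _) fun x hx => ?_
  exact h₁.apply (Subgroup.inclusion hQP x)

theorem Rel.range {θ : S →* Ω'} {P : Subgroup Ω} {φ : P →* Ω} {P' : Subgroup Ω'}
    {φ' : P' →* Ω'} (h₁ : Rel θ φ φ') : φ'.range = imageAlong θ φ.range := by
  ext y
  constructor
  · rintro ⟨x', rfl⟩
    exact h₁.map_mem_image (fun x => MonoidHom.mem_range.mpr ⟨x, rfl⟩) x'
  · intro hy
    obtain ⟨s, ⟨x, hx⟩, rfl⟩ := mem_imageAlong.mp hy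
    refine ⟨⟨θ ⟨x, h₁.le x.2⟩, h₁.mem x⟩, ?_⟩
    rw [h₁.apply x]
    congr 1
    exact Subtype.ext hx

end Cfsg.Agent.Helper16.FusTr
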