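import Mathlib
import Cfsg.Prelude.Def_FusionComponents
import Cfsg.Agent.Lib.Helper16.FusTr1

set_option autoImplicit false

/-!
The correspondence `Corr θ X X'`: `X'` is the image of the fusion system `X` (over `T ≤ S`) under the
injective homomorphism `θ : S →* Ω'`.
-/

namespace Cfsg.Agent.Helper16.FusTr

open Cfsg Cfsg.FusionSystem Cfsg.Agent.Helper25

variable {Ω : Type*} [Group Ω] {S : Subgroup Ω} {Ω' : Type*} [Group Ω']

/-- `X'` (over `T'`) is the image of `X` (over `T ≤ S`) under `θ`. -/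
structure Corr (θ : S →* Ω') {T : Subgroup Ω} (X : FusionSystem T) {T' : Subgroup Ω'}
    (X' : FusionSystem T') : Prop where
  le : T ≤ S
  img : T' = imageAlong θ T
  push : ∀ {P : Subgroup Ω} {φ : P →* Ω}, φ ∈ X.Hom P → ∀ {P' : Subgroup Ω'} {φ' : P' →* Ω'},
    Rel θ φ φ' → φ' ∈ X'.Hom P'
  pull : ∀ {P' : Subgroup Ω'} {φ' : P' →* Ω'}, φ' ∈ X'.Hom P' →
    ∃ (P : Subgroup Ω) (φ : P →* Ω), φ ∈ X.Hom P ∧ Rel θ φ φ'

theorem imageAlong_comp_inclusion (θ : S →* Ω') {T : Subgroup Ω} (hTS : T ≤ S) {P : Subgroup Ω}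
    (hP : P ≤ T) : imageAlong (θ.comp (Subgroup.inclusion hTS)) P = imageAlong θ P := by
  ext y
  rw [mem_imageAlong, mem_imageAlong]
  constructor
  · rintro ⟨t, ht, rfl⟩
    exact ⟨Subgroup.inclusion hTS t, ht, rfl⟩
  · rintro ⟨s, hs, rfl⟩
    exact ⟨⟨s, hP hs⟩, hs, rfl⟩

theorem range_comp_inclusion (θ : S →* Ω') {T : Subgroup Ω} (hTS : T ≤ S) :
    (θ.comp (Subgroup.inclusion hTS)).range = imageAlong θ T := by
  rw [← imageAlong_self, imageAlong_comp_inclusion θ hTS le_rfl]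

theorem preimageAlong_comp_inclusion {θ : S →* Ω'} (hθ : Function.Injective θ) {T : Subgroup Ω}
    (hTS : T ≤ S) {P : Subgroup Ω} (hP : P ≤ T) :
    preimageAlong (θ.comp (Subgroup.inclusion hTS)) (imageAlong θ P) = P := by
  have hinj : Function.Injective (θ.comp (Subgroup.inclusion hTS)) :=
    hθ.comp (Subgroup.inclusion_injective hTS)
  rw [← imageAlong_comp_inclusion θ hTS hP]
  exact preimageAlong_imageAlong hinj hP

/-- `InducedAlong` for the restriction of `θ` to `T` and for `θ` agree. -/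
theorem inducedAlong_comp_inclusion_iff (θ : S →* Ω') {T : Subgroup Ω} (hTS : T ≤ S)
    {P : Subgroup Ω} (hP : P ≤ T) {φ : P →* Ω} (hφ : ∀ x : P, φ x ∈ T) {P' : Subgroup Ω'}
    {φ' : P' →* Ω'} :
    InducedAlong (θ.comp (Subgroup.inclusion hTS)) φ φ' ↔ InducedAlong θ φ φ' := by
  constructor
  · rintro ⟨h1, h2, h3, h4⟩
    exact ⟨hP.trans hTS, fun x => hTS (hφ x), fun x => h3 x, fun x => h4 x⟩
  · rintro ⟨h1, h2, h3, h4⟩
    exact ⟨hP, hφ, fun x => h3 x, fun x => h4 x⟩

/-- The frozen factor system modulo the trivial subgroup gives a correspondence. -/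
theorem corr_of_factor {θ : S →* Ω'} (hθ : Function.Injective θ) {T : Subgroup Ω} (hTS : T ≤ S)
    {X : FusionSystem T} {T' : Subgroup Ω'} {X' : FusionSystem T'}
    (h : X.IsFactorSystem ⊥ (θ.comp (Subgroup.inclusion hTS)) X') : Corr θ X X' := by
  obtain ⟨-, -, hrange, hhom⟩ := h
  have hT' : T' = imageAlong θ T := by rw [← hrange, range_comp_inclusion]
  refine ⟨hTS, hT', ?_, ?_⟩
  · intro P φ hφ P' φ' hrel
    have hPT : P ≤ T := (X.le_of_mem hφ).1
    have hφT : ∀ x : P, φ x ∈ T := (X.le_of_mem hφ).2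
    rw [hhom]
    have hP'T' : P' ≤ T' := by rw [hT', hrel.1]; exact imageAlong_mono θ hPT
    refine ⟨hP'T', ?_⟩
    have hpre : preimageAlong (θ.comp (Subgroup.inclusion hTS)) P' = P := by
      rw [hrel.1]; exact preimageAlong_comp_inclusion hθ hTS hPT
    refine ⟨φ.comp (Subgroup.inclusion hpre.le), hom_transport X hpre hφ, ?_⟩
    obtain ⟨h1, h2, h3, h4⟩ := hrel.2
    exact ⟨preimageAlong_le _ _, fun x => hφT _, fun x => h3 (Subgroup.inclusion hpre.le x),
      fun x => h4 (Subgroup.inclusion hpre.le x)⟩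
  · intro P' φ' hφ'
    rw [hhom] at hφ'
    obtain ⟨hP'T', φ, hφ, hind⟩ := hφ'
    have hPT : preimageAlong (θ.comp (Subgroup.inclusion hTS)) P' ≤ T := preimageAlong_le _ _
    have hφT := (X.le_of_mem hφ).2
    refine ⟨_, φ, hφ, ?_, (inducedAlong_comp_inclusion_iff θ hTS hPT hφT).mp hind⟩
    have h1 : P' ≤ (θ.comp (Subgroup.inclusion hTS)).range := by rw [hrange]; exact hP'T'
    have h2 := imageAlong_preimageAlong' (θ.comp (Subgroup.inclusion hTS)) h1
    rw [imageAlong_comp_inclusion θ hTS hPT] at h2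
    exact h2.symm

/-- Conversely a correspondence is a factor system modulo the trivial subgroup. -/
theorem Corr.factor {θ : S →* Ω'} (hθ : Function.Injective θ) {T : Subgroup Ω}
    {X : FusionSystem T} {T' : Subgroup Ω'} {X' : FusionSystem T'} (h : Corr θ X X') :
    X.IsFactorSystem ⊥ (θ.comp (Subgroup.inclusion h.le)) X' := by
  have hinj : Function.Injective (θ.comp (Subgroup.inclusion h.le)) :=
    hθ.comp (Subgroup.inclusion_injective h.le)
  refine ⟨bot_le, fun s => ?_, ?_, fun P' φ' => ?_⟩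
  · rw [Subgroup.mem_bot]
    constructor
    · intro hs
      have : s = 1 := hinj (by rw [hs, map_one])
      rw [this]; rfl
    · intro hs
      have : s = 1 := Subtype.ext hs
      rw [this, map_one]
  · rw [range_comp_inclusion, h.img]
  · constructor
    · intro hφ'
      obtain ⟨P, φ, hφ, hrel⟩ := h.pull hφ'
      have hPT : P ≤ T := (X.le_of_mem hφ).1
      have hφT : ∀ x : P, φ x ∈ T := (X.le_of_mem hφ).2
      have hP'T' : P' ≤ T' := by rw [h.img, hrel.1]; exact imageAlong_mono θ hPT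
      refine ⟨hP'T', ?_⟩
      have hpre : preimageAlong (θ.comp (Subgroup.inclusion h.le)) P' = P := by
        rw [hrel.1]; exact preimageAlong_comp_inclusion hθ h.le hPT
      refine ⟨φ.comp (Subgroup.inclusion hpre.le), hom_transport X hpre hφ, ?_⟩
      obtain ⟨h1, h2, h3, h4⟩ := hrel.2
      exact ⟨preimageAlong_le _ _, fun x => hφT _, fun x => h3 (Subgroup.inclusion hpre.le x),
        fun x => h4 (Subgroup.inclusion hpre.le x)⟩
    · rintro ⟨hP'T', φ, hφ, hind⟩
      have hPT : preimageAlong (θ.comp (Subgroup.inclusion h.le)) P' ≤ T := preimageAlong_le _ _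
      have hφT := (X.le_of_mem hφ).2
      refine h.push hφ ⟨?_, (inducedAlong_comp_inclusion_iff θ h.le hPT hφT).mp hind⟩
      have h1 : P' ≤ (θ.comp (Subgroup.inclusion h.le)).range := by
        rw [range_comp_inclusion, ← h.img]; exact hP'T'
      have h2 := imageAlong_preimageAlong' (θ.comp (Subgroup.inclusion h.le)) h1
      rw [imageAlong_comp_inclusion θ h.le hPT] at h2
      exact h2.symm

theorem stronglyClosed_bot {T : Subgroup Ω} (X : FusionSystem T) : X.StronglyClosed ⊥ := by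
  refine ⟨bot_le, fun R hR φ _ x => ?_⟩
  have : x = 1 := Subtype.ext (by have := hR x.2; rwa [Subgroup.mem_bot] at this)
  rw [this, map_one]; exact Subgroup.one_mem _

/-- The image of a fusion system exists. -/
theorem exists_corr {θ : S →* Ω'} (hθ : Function.Injective θ) {T : Subgroup Ω} (hTS : T ≤ S)
    [Finite T] (X : FusionSystem T) {T' : Subgroup Ω'} (hT' : T' = imageAlong θ T) :
    ∃ X' : FusionSystem T', Corr θ X X' := by
  have hinj : Function.Injective (θ.comp (Subgroup.inclusion hTS)) :=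
    hθ.comp (Subgroup.inclusion_injective hTS)
  obtain ⟨X', hX'⟩ := exists_factorSystem X ⊥ (stronglyClosed_bot X)
    (θ.comp (Subgroup.inclusion hTS)) (fun s => by
      rw [Subgroup.mem_bot]
      constructor
      · intro hs
        have : s = 1 := hinj (by rw [hs, map_one])
        rw [this]; rfl
      · intro hs
        have : s = 1 := Subtype.ext hs
        rw [this, map_one]) T' (by rw [range_comp_inclusion, hT'])
  exact ⟨X', corr_of_factor hθ hTS hX'⟩

/-- The image is unique. -/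
theorem Corr.hom_eq {θ : S →* Ω'} {T : Subgroup Ω} {X : FusionSystem T} {T₁ T₂ : Subgroup Ω'}
    {X₁ : FusionSystem T₁} {X₂ : FusionSystem T₂} (h₁ : Corr θ X X₁) (h₂ : Corr θ X X₂)
    (P' : Subgroup Ω') : X₁.Hom P' = X₂.Hom P' := by
  ext φ'
  constructor
  · intro h
    obtain ⟨P, φ, hφ, hrel⟩ := h₁.pull h
    exact h₂.push hφ hrel
  · intro h
    obtain ⟨P, φ, hφ, hrel⟩ := h₂.pull h
    exact h₁.push hφ hrel

/-- Two systems with the same image are equal. -/
theorem Corr.hom_eq_left {θ : S →* Ω'} (hθ : Function.Injective θ) {T₁ T₂ : Subgroup Ω}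
    {X₁ : FusionSystem T₁} {X₂ : FusionSystem T₂} {T' : Subgroup Ω'}
    {X' : FusionSystem T'} (h₁ : Corr θ X₁ X') (h₂ : Corr θ X₂ X')
    (P : Subgroup Ω) : X₁.Hom P = X₂.Hom P := by
  have key : ∀ {T₁ T₂ : Subgroup Ω} {X₁ : FusionSystem T₁} {X₂ : FusionSystem T₂}
      (_ : Corr θ X₁ X') (_ : Corr θ X₂ X'), X₁.Hom P ⊆ X₂.Hom P := by
    intro T₁ T₂ X₁ X₂ h₁ h₂ φ hφ
    have hPT : P ≤ T₁ := (X₁.le_of_mem hφ).1
    have hφT : ∀ x : P, φ x ∈ T₁ := (X₁.le_of_mem hφ).2
    obtain ⟨φ', hrel⟩ := exists_rel hθ (hPT.trans h₁.le) φ (fun x => h₁.le (hφT x))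
    have h3 := h₁.push hφ hrel
    obtain ⟨P₂, φ₂, hφ₂, hrel₂⟩ := h₂.pull h3
    have hPP : P₂ = P := Rel.source_eq hθ hrel₂ hrel
    subst hPP
    rw [Rel.unique_left hθ hrel hrel₂]
    exact hφ₂
  exact Set.Subset.antisymm (key h₁ h₂) (key h₂ h₁)

/-- Subsystems are transported. -/
theorem Corr.isSubsystemOf {θ : S →* Ω'} {T U : Subgroup Ω} {X : FusionSystem T}
    {Y : FusionSystem U} {T' U' : Subgroup Ω'} {X' : FusionSystem T'} {Y' : FusionSystem U'}
    (hX : Corr θ X X') (hY : Corr θ Y Y') (h : X.IsSubsystemOf Y) : X'.IsSubsystemOf Y' := by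
  intro P' φ' hφ'
  obtain ⟨P, φ, hφ, hrel⟩ := hX.pull hφ'
  exact hY.push (h P hφ) hrel

/-- Strongly closed subgroups are transported. -/
theorem Corr.stronglyClosed {θ : S →* Ω'} (hθ : Function.Injective θ) {U : Subgroup Ω}
    {Y : FusionSystem U} {U' : Subgroup Ω'} {Y' : FusionSystem U'} (hY : Corr θ Y Y')
    {T : Subgroup Ω} (h : Y.StronglyClosed T) : Y'.StronglyClosed (imageAlong θ T) := by
  refine ⟨by rw [hY.img]; exact imageAlong_mono θ h.1, fun R' hR' φ' hφ' x' => ?_⟩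
  obtain ⟨R, φ, hφ, hrel⟩ := hY.pull hφ'
  have hRT : R ≤ T := le_of_imageAlong_le hθ hrel.le (hrel.1 ▸ hR')
  exact hrel.map_mem_image (fun x => h.2 R hRT φ hφ x) x'

end Cfsg.Agent.Helper16.FusTr
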