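import Mathlib
import Cfsg.Prelude.Def_FusionComponents
import Cfsg.Agent.Lib.Helper16.FusTr2

set_option autoImplicit false

/-!
The inverse of an injective homomorphism, and composition / cancellation of correspondences.
-/

namespace Cfsg.Agent.Helper16.FusTr

open Cfsg Cfsg.FusionSystem Cfsg.Agent.Helper25

variable {Ω : Type*} [Group Ω] {S : Subgroup Ω} {Ω' : Type*} [Group Ω']

/-- The inverse of the injective `θ`, defined on the range of `θ`. -/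
noncomputable def invHom {θ : S →* Ω'} (hθ : Function.Injective θ) : θ.range →* Ω :=
  S.subtype.comp (MonoidHom.ofInjective hθ).symm.toMonoidHom

theorem invHom_mem {θ : S →* Ω'} (hθ : Function.Injective θ) (y : θ.range) :
    invHom hθ y ∈ S := Subtype.property _

theorem invHom_eq {θ : S →* Ω'} (hθ : Function.Injective θ) (y : θ.range) (s : S)
    (h : θ s = y) : invHom hθ y = s := by
  have : (MonoidHom.ofInjective hθ).symm y = s := by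
    rw [MulEquiv.symm_apply_eq]
    exact Subtype.ext h.symm
  exact congrArg Subtype.val this

theorem map_invHom {θ : S →* Ω'} (hθ : Function.Injective θ) (y : θ.range) :
    θ ⟨invHom hθ y, invHom_mem hθ y⟩ = y := by
  obtain ⟨s, hs⟩ := y.2
  have := invHom_eq hθ y s hs
  rw [← hs]
  congr 1
  exact Subtype.ext this

theorem invHom_injective {θ : S →* Ω'} (hθ : Function.Injective θ) :
    Function.Injective (invHom hθ) := by
  intro y z hyz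
  have h1 := map_invHom hθ y
  have h2 := map_invHom hθ z
  apply Subtype.ext
  rw [← h1, ← h2]
  congr 1
  exact Subtype.ext hyz

theorem imageAlong_invHom_imageAlong {θ : S →* Ω'} (hθ : Function.Injective θ) {P : Subgroup Ω}
    (hP : P ≤ S) : imageAlong (invHom hθ) (imageAlong θ P) = P := by
  ext x
  rw [mem_imageAlong]
  constructor
  · rintro ⟨y, hy, rfl⟩
    obtain ⟨s, hs, hss⟩ := mem_imageAlong.mp hy
    rw [invHom_eq hθ y s hss]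
    exact hs
  · intro hx
    exact ⟨⟨θ ⟨x, hP hx⟩, ⟨_, rfl⟩⟩, map_mem_imageAlong θ (hP hx) hx,
      invHom_eq hθ _ ⟨x, hP hx⟩ rfl⟩

theorem imageAlong_imageAlong_invHom {θ : S →* Ω'} (hθ : Function.Injective θ) {P' : Subgroup Ω'}
    (hP' : P' ≤ θ.range) : imageAlong θ (imageAlong (invHom hθ) P') = P' := by
  ext y
  rw [mem_imageAlong]
  constructor
  · rintro ⟨s, hs, rfl⟩
    obtain ⟨z, hz, hzs⟩ := mem_imageAlong.mp hs
    have h1 := map_invHom hθ z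
    have : (⟨invHom hθ z, invHom_mem hθ z⟩ : S) = s := Subtype.ext hzs
    rw [this] at h1
    rw [h1]; exact hz
  · intro hy
    refine ⟨⟨invHom hθ ⟨y, hP' hy⟩, invHom_mem hθ _⟩, mem_imageAlong.mpr ⟨⟨y, hP' hy⟩, hy, rfl⟩, ?_⟩
    exact map_invHom hθ ⟨y, hP' hy⟩

/-- The relation `Rel` is symmetric under passing to the inverse homomorphism. -/
theorem Rel.symm {θ : S →* Ω'} (hθ : Function.Injective θ) {P : Subgroup Ω} {φ : P →* Ω}
    {P' : Subgroup Ω'} {φ' : P' →* Ω'} (h : Rel θ φ φ') : Rel (invHom hθ) φ' φ := by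
  have hP'r : P' ≤ θ.range := h.1 ▸ imageAlong_le_range θ P
  have hφ'r : ∀ x' : P', φ' x' ∈ θ.range := fun x' =>
    imageAlong_le_range θ S (h.map_mem_image (fun x => h.map_mem x) x')
  refine rel_mk ?_ hP'r hφ'r fun x' hx' => ?_
  · rw [h.1, imageAlong_invHom_imageAlong hθ h.le]
  · obtain ⟨x, hx⟩ := h.exists_eq x'
    have e0 : invHom hθ ⟨x', hP'r x'.2⟩ = (x : Ω) :=
      invHom_eq hθ _ ⟨x, h.le x.2⟩ (by rw [← hx])
    have e1 : (⟨invHom hθ ⟨x', hP'r x'.2⟩, hx'⟩ : P) = x := Subtype.ext e0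
    rw [e1]
    refine (invHom_eq hθ _ ⟨φ x, h.map_mem x⟩ ?_).symm
    rw [← hx]
    exact (h.apply x).symm

/-- The inverse relation gives back the relation. -/
theorem Rel.of_symm {θ : S →* Ω'} (hθ : Function.Injective θ) {P : Subgroup Ω} {φ : P →* Ω}
    {P' : Subgroup Ω'} {φ' : P' →* Ω'} (h : Rel (invHom hθ) φ' φ) : Rel θ φ φ' := by
  have hPS : P ≤ S := by
    rw [h.1]
    intro x hx
    obtain ⟨y, -, rfl⟩ := mem_imageAlong.mp hx
    exact invHom_mem hθ y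
  have hφS : ∀ x : P, φ x ∈ S := by
    intro x
    obtain ⟨x', rfl⟩ := h.exists_eq x
    rw [h.apply x']
    exact invHom_mem hθ _
  refine rel_mk ?_ hPS hφS fun x hx => ?_
  · rw [h.1, imageAlong_imageAlong_invHom hθ h.le]
  · obtain ⟨x', hx'⟩ := h.exists_eq x
    subst hx'
    have e0 : θ ⟨invHom hθ ⟨x', h.le x'.2⟩, invHom_mem hθ _⟩ = (x' : Ω') :=
      map_invHom hθ ⟨x', h.le x'.2⟩
    have e1 : (⟨θ ⟨invHom hθ ⟨x', h.le x'.2⟩, invHom_mem hθ _⟩, hx⟩ : P') = x' := Subtype.ext e0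
    have e2 := h.apply x'
    have e3 := map_invHom hθ ⟨φ' x', h.map_mem x'⟩
    refine (congrArg φ' e1).trans (e3.symm.trans ?_)
    congr 1
    exact Subtype.ext e2.symm

/-- The inverse correspondence. -/
theorem Corr.symm {θ : S →* Ω'} (hθ : Function.Injective θ) {T : Subgroup Ω}
    {X : FusionSystem T} {T' : Subgroup Ω'} {X' : FusionSystem T'} (h : Corr θ X X') :
    Corr (invHom hθ) X' X := by
  refine ⟨h.img ▸ imageAlong_le_range θ T, ?_, ?_, ?_⟩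
  · rw [h.img, imageAlong_invHom_imageAlong hθ h.le]
  · intro P' φ' hφ' P φ hrel
    obtain ⟨P₂, φ₂, hφ₂, hrel₂⟩ := h.pull hφ'
    have hrel' := Rel.of_symm hθ hrel
    have hPP : P₂ = P := Rel.source_eq hθ hrel₂ hrel'
    subst hPP
    rw [Rel.unique_left hθ hrel' hrel₂]
    exact hφ₂
  · intro P φ hφ
    have hPT : P ≤ T := (X.le_of_mem hφ).1
    have hφT : ∀ x : P, φ x ∈ T := (X.le_of_mem hφ).2
    obtain ⟨φ', hrel⟩ := exists_rel hθ (hPT.trans h.le) φ (fun x => h.le (hφT x))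
    exact ⟨_, φ', h.push hφ hrel, hrel.symm hθ⟩

section Comp

variable {Ω'' : Type*} [Group Ω''] {S' : Subgroup Ω'}

/-- The composite of `θ₁ : S →* Ω'` (with values in `S'`) and `θ₂ : S' →* Ω''`. -/
def compHom (θ₁ : S →* Ω') (h₁ : ∀ s : S, θ₁ s ∈ S') (θ₂ : S' →* Ω'') : S →* Ω'' :=
  θ₂.comp (θ₁.codRestrict S' h₁)

theorem compHom_apply (θ₁ : S →* Ω') (h₁ : ∀ s : S, θ₁ s ∈ S') (θ₂ : S' →* Ω'') (s : S) :
    compHom θ₁ h₁ θ₂ s = θ₂ ⟨θ₁ s, h₁ s⟩ := rfl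

theorem imageAlong_compHom (θ₁ : S →* Ω') (h₁ : ∀ s : S, θ₁ s ∈ S') (θ₂ : S' →* Ω'')
    (P : Subgroup Ω) : imageAlong (compHom θ₁ h₁ θ₂) P = imageAlong θ₂ (imageAlong θ₁ P) := by
  ext y
  rw [mem_imageAlong, mem_imageAlong]
  constructor
  · rintro ⟨s, hs, rfl⟩
    exact ⟨⟨θ₁ s, h₁ s⟩, mem_imageAlong.mpr ⟨s, hs, rfl⟩, rfl⟩
  · rintro ⟨s', hs', rfl⟩
    obtain ⟨s, hs, hss⟩ := mem_imageAlong.mp hs'
    refine ⟨s, hs, ?_⟩
    rw [compHom_apply]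
    congr 1
    exact Subtype.ext hss

/-- Transitivity of the relation `Rel`. -/
theorem Rel.trans {θ₁ : S →* Ω'} {h₁ : ∀ s : S, θ₁ s ∈ S'} {θ₂ : S' →* Ω''} {P : Subgroup Ω}
    {φ : P →* Ω} {P' : Subgroup Ω'} {φ' : P' →* Ω'} {P'' : Subgroup Ω''} {φ'' : P'' →* Ω''}
    (r₁ : Rel θ₁ φ φ') (r₂ : Rel θ₂ φ' φ'') : Rel (compHom θ₁ h₁ θ₂) φ φ'' := by
  refine rel_mk ?_ r₁.le (fun x => r₁.map_mem x) fun x hx => ?_
  · rw [imageAlong_compHom, ← r₁.1, r₂.1]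
  · have e1 := r₁.apply x
    have e2 := r₂.apply ⟨θ₁ ⟨x, r₁.le x.2⟩, r₁.mem x⟩
    refine e2.trans ?_
    show θ₂ _ = θ₂ _
    congr 1
    exact Subtype.ext e1

/-- Cancellation for the relation `Rel`. -/
theorem Rel.cancel {θ₁ : S →* Ω'} {h₁ : ∀ s : S, θ₁ s ∈ S'} {θ₂ : S' →* Ω''} {P : Subgroup Ω}
    {φ : P →* Ω} {P' : Subgroup Ω'} {φ' : P' →* Ω'} {P'' : Subgroup Ω''} {φ'' : P'' →* Ω''}
    (r₁ : Rel θ₁ φ φ') (r₂ : Rel (compHom θ₁ h₁ θ₂) φ φ'') : Rel θ₂ φ' φ'' := by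
  have hP'S' : P' ≤ S' := by
    rw [r₁.1]
    intro y hy
    obtain ⟨s, -, rfl⟩ := mem_imageAlong.mp hy
    exact h₁ s
  have hφ'S' : ∀ x' : P', φ' x' ∈ S' := by
    intro x'
    obtain ⟨x, rfl⟩ := r₁.exists_eq x'
    rw [r₁.apply x]
    exact h₁ _
  refine rel_mk ?_ hP'S' hφ'S' fun x' hx' => ?_
  · rw [r₂.1, imageAlong_compHom, ← r₁.1]
  · obtain ⟨x, rfl⟩ := r₁.exists_eq x'
    have e2 := r₂.apply x
    refine e2.trans ?_
    show θ₂ _ = θ₂ _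
    congr 1
    exact Subtype.ext (r₁.apply x).symm

/-- Cancellation for correspondences: if `X₁` is the image of `X` under `θ₁` and `X₂` is the image of
`X` under `θ₂ ∘ θ₁`, then `X₂` is the image of `X₁` under `θ₂`. -/
theorem Corr.cancel {θ₁ : S →* Ω'} (hθ₁ : Function.Injective θ₁) {h₁ : ∀ s : S, θ₁ s ∈ S'}
    {θ₂ : S' →* Ω''} {T : Subgroup Ω} {X : FusionSystem T}
    {T₁ : Subgroup Ω'} {X₁ : FusionSystem T₁} {T₂ : Subgroup Ω''} {X₂ : FusionSystem T₂}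
    (c₁ : Corr θ₁ X X₁) (c₂ : Corr (compHom θ₁ h₁ θ₂) X X₂) : Corr θ₂ X₁ X₂ := by
  have hT₁S' : T₁ ≤ S' := by
    rw [c₁.img]
    intro y hy
    obtain ⟨s, -, rfl⟩ := mem_imageAlong.mp hy
    exact h₁ s
  refine ⟨hT₁S', ?_, ?_, ?_⟩
  · rw [c₂.img, imageAlong_compHom, ← c₁.img]
  · intro P₁ φ₁ hφ₁ P₂ φ₂ hrel
    obtain ⟨P, φ, hφ, hrel₁⟩ := c₁.pull hφ₁
    exact c₂.push hφ (hrel₁.trans hrel)
  · intro P₂ φ₂ hφ₂
    obtain ⟨P, φ, hφ, hrel₂⟩ := c₂.pull hφ₂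
    have hPT : P ≤ T := (X.le_of_mem hφ).1
    have hφT : ∀ x : P, φ x ∈ T := (X.le_of_mem hφ).2
    obtain ⟨φ₁, hrel₁⟩ := exists_rel hθ₁ (hPT.trans c₁.le) φ (fun x => c₁.le (hφT x))
    exact ⟨_, φ₁, c₁.push hφ hrel₁, hrel₁.cancel hrel₂⟩

/-- Composition of correspondences. -/
theorem Corr.trans {θ₁ : S →* Ω'} (hθ₁ : Function.Injective θ₁) {h₁ : ∀ s : S, θ₁ s ∈ S'}
    {θ₂ : S' →* Ω''} {T : Subgroup Ω} {X : FusionSystem T}
    {T₁ : Subgroup Ω'} {X₁ : FusionSystem T₁} {T₂ : Subgroup Ω''} {X₂ : FusionSystem T₂}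
    (c₁ : Corr θ₁ X X₁) (c₂ : Corr θ₂ X₁ X₂) : Corr (compHom θ₁ h₁ θ₂) X X₂ := by
  refine ⟨c₁.le, ?_, ?_, ?_⟩
  · rw [imageAlong_compHom, ← c₁.img, c₂.img]
  · intro P φ hφ P₂ φ₂ hrel
    have hPT : P ≤ T := (X.le_of_mem hφ).1
    have hφT : ∀ x : P, φ x ∈ T := (X.le_of_mem hφ).2
    obtain ⟨φ₁, hrel₁⟩ := exists_rel hθ₁ (hPT.trans c₁.le) φ (fun x => c₁.le (hφT x))
    exact c₂.push (c₁.push hφ hrel₁) (hrel₁.cancel hrel)
  · intro P₂ φ₂ hφ₂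
    obtain ⟨P₁, φ₁, hφ₁, hrel₂⟩ := c₂.pull hφ₂
    obtain ⟨P, φ, hφ, hrel₁⟩ := c₁.pull hφ₁
    exact ⟨P, φ, hφ, hrel₁.trans hrel₂⟩

end Comp

end Cfsg.Agent.Helper16.FusTr
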