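import Mathlib
import Cfsg.Prelude.Def_FusionComponents
import Cfsg.Agent.Lib.Helper16.FusTr3
import Cfsg.Agent.Lib.Helper25.FusionInvariant

set_option autoImplicit false

/-!
Transport of saturation, strong invariance, invariance and weak normality along a correspondence.
-/

namespace Cfsg.Agent.Helper16.FusTr

open Cfsg Cfsg.FusionSystem Cfsg.Agent.Helper25

variable {Ω : Type*} [Group Ω] {S : Subgroup Ω} {Ω' : Type*} [Group Ω']

theorem finite_of_img {θ : S →* Ω'} (hθ : Function.Injective θ) {T : Subgroup Ω} (hTS : T ≤ S)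
    [Finite T] {T' : Subgroup Ω'} (hT' : T' = imageAlong θ T) : Finite T' := by
  subst hT'
  exact Finite.of_equiv T (imgEquiv hθ hTS).toEquiv

theorem isPGroup_of_img {θ : S →* Ω'} (hθ : Function.Injective θ) {T : Subgroup Ω} (hTS : T ≤ S)
    {p : ℕ} (hT : IsPGroup p T) {T' : Subgroup Ω'} (hT' : T' = imageAlong θ T) :
    IsPGroup p T' := by
  subst hT'
  exact hT.of_equiv (imgEquiv hθ hTS)

/-- The restriction of `θ` to `T` is a surjective morphism onto the image system. -/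
theorem Corr.isSurjectiveMorphism {θ : S →* Ω'} (hθ : Function.Injective θ) {T : Subgroup Ω}
    {X : FusionSystem T} {T' : Subgroup Ω'} {X' : FusionSystem T'} (h : Corr θ X X') :
    X.IsSurjectiveMorphism X' (θ.comp (Subgroup.inclusion h.le)) := by
  have hfac := h.factor hθ
  have hrange : (θ.comp (Subgroup.inclusion h.le)).range = T' := hfac.2.2.1
  refine ⟨⟨fun t => ?_, fun P φ hφ => ?_⟩, hrange, fun P' hP' φ' hφ' => ?_⟩
  · exact hrange.le ⟨t, rfl⟩
  · have hPT : P ≤ T := (X.le_of_mem hφ).1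
    have hφT : ∀ x : P, φ x ∈ T := (X.le_of_mem hφ).2
    obtain ⟨φ', hrel⟩ := exists_rel' hθ (hPT.trans h.le) φ (fun x => h.le (hφT x))
      (imageAlong_comp_inclusion θ h.le hPT)
    exact ⟨φ', h.push hφ hrel, (inducedAlong_comp_inclusion_iff θ h.le hPT hφT).mpr hrel.2⟩
  · exact ((hfac.2.2.2 P' φ').mp hφ').2

/-- Saturation is transported. -/
theorem Corr.isSaturated {θ : S →* Ω'} (hθ : Function.Injective θ) {T : Subgroup Ω} [Finite T]
    {p : ℕ} [Fact p.Prime] (hT : IsPGroup p T)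
    {X : FusionSystem T} {T' : Subgroup Ω'} {X' : FusionSystem T'} (h : Corr θ X X')
    (hX : X.IsSaturated p) : X'.IsSaturated p :=
  isSaturated_of_surj hT hX (h.isSurjectiveMorphism hθ)

/-- Strong invariance is transported. -/
theorem Corr.strongInv {θ : S →* Ω'} (hθ : Function.Injective θ) {T U : Subgroup Ω}
    {X : FusionSystem T} {Y : FusionSystem U} {T' U' : Subgroup Ω'} {X' : FusionSystem T'}
    {Y' : FusionSystem U'} (hX : Corr θ X X') (hY : Corr θ Y Y') (h : StrongInv Y X) :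
    StrongInv Y' X' := by
  intro P' Q' hPQ' hQT' φ' hφ' hφQ' ψ' hψ'
  obtain ⟨P, φ, hφ, rφ⟩ := hX.pull hφ'
  obtain ⟨Q, ψ, hψ, rψ⟩ := hY.pull hψ'
  have hPQ : P ≤ Q := le_of_imageAlong_le hθ rφ.le (by rw [← rφ.1, ← rψ.1]; exact hPQ')
  have hQT : Q ≤ T := le_of_imageAlong_le hθ rψ.le (by rw [← rψ.1, ← hX.img]; exact hQT')
  have hφQ : ∀ x : P, φ x ∈ Q := rφ.map_mem_of_image hθ (fun x' => by rw [← rψ.1]; exact hφQ' x')
  obtain ⟨χ, hχ, hχv⟩ := h P Q hPQ hQT φ hφ hφQ ψ hψ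
  have hRT : (P.subgroupOf Q).map ψ ≤ T := (X.le_of_mem hχ).1
  have hχT : ∀ x, χ x ∈ T := (X.le_of_mem hχ).2
  -- the source of the transported map
  have hR' : (P'.subgroupOf Q').map ψ' = imageAlong θ ((P.subgroupOf Q).map ψ) := by
    ext y
    constructor
    · rintro ⟨x', hx', rfl⟩
      have hx'P : (x' : Ω') ∈ P' := Subgroup.mem_subgroupOf.mp hx'
      obtain ⟨x, hx⟩ := rφ.exists_eq ⟨x', hx'P⟩
      have hxx : θ ⟨x, rφ.le x.2⟩ = (x' : Ω') := congrArg Subtype.val hx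
      have e1 : x' = ⟨θ ⟨(Subgroup.inclusion hPQ x : Q), rψ.le (hPQ x.2)⟩,
          rψ.mem (Subgroup.inclusion hPQ x)⟩ := Subtype.ext hxx.symm
      rw [e1, rψ.apply (Subgroup.inclusion hPQ x)]
      refine map_mem_imageAlong θ _ ⟨Subgroup.inclusion hPQ x, Subgroup.mem_subgroupOf.mpr x.2, rfl⟩
    · intro hy
      obtain ⟨s, ⟨x, hx, hxs⟩, rfl⟩ := mem_imageAlong.mp hy
      have hxP : (x : Ω) ∈ P := Subgroup.mem_subgroupOf.mp hx
      refine ⟨⟨θ ⟨x, rψ.le x.2⟩, rψ.mem x⟩, Subgroup.mem_subgroupOf.mpr ?_, ?_⟩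
      · have := rφ.mem ⟨x, hxP⟩
        exact this
      · rw [rψ.apply x]
        congr 1
        exact Subtype.ext hxs
  obtain ⟨χ', rχ⟩ := exists_rel' hθ (hRT.trans hX.le) χ (fun x => hX.le (hχT x)) hR'
  refine ⟨χ', hX.push hχ rχ, fun x' hx' => ?_⟩
  obtain ⟨x, rfl⟩ := rφ.exists_eq x'
  -- ψ'(θ x) = θ (ψ x)
  have e1 : ψ' (Subgroup.inclusion hPQ' ⟨θ ⟨x, rφ.le x.2⟩, rφ.mem x⟩) =
      θ ⟨ψ (Subgroup.inclusion hPQ x), rψ.map_mem _⟩ := rψ.apply (Subgroup.inclusion hPQ x)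
  have hm : ψ (Subgroup.inclusion hPQ x) ∈ (P.subgroupOf Q).map ψ :=
    ⟨Subgroup.inclusion hPQ x, Subgroup.mem_subgroupOf.mpr x.2, rfl⟩
  have e2 := rχ.apply ⟨ψ (Subgroup.inclusion hPQ x), hm⟩
  have e3 := hχv x hm
  have e4 := rψ.apply ⟨φ x, hφQ x⟩
  have e5 := rφ.apply x
  calc χ' ⟨ψ' (Subgroup.inclusion hPQ' ⟨θ ⟨x, rφ.le x.2⟩, rφ.mem x⟩), hx'⟩
      = χ' ⟨θ ⟨ψ (Subgroup.inclusion hPQ x), rψ.map_mem _⟩, rχ.mem ⟨_, hm⟩⟩ :=
        congrArg χ' (Subtype.ext e1)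
    _ = θ ⟨χ ⟨ψ (Subgroup.inclusion hPQ x), hm⟩, rχ.map_mem _⟩ := e2
    _ = θ ⟨ψ ⟨φ x, hφQ x⟩, rψ.map_mem _⟩ := by
        congr 1
        exact Subtype.ext e3
    _ = ψ' ⟨θ ⟨φ x, rφ.map_mem x⟩, rψ.mem ⟨φ x, hφQ x⟩⟩ := e4.symm
    _ = ψ' ⟨φ' ⟨θ ⟨x, rφ.le x.2⟩, rφ.mem x⟩, hφQ' _⟩ := by
        congr 1
        exact Subtype.ext e5.symm

/-- Invariant subsystems are transported (for saturated ambient systems over finite `p`-groups). -/
theorem Corr.isInvariantIn {θ : S →* Ω'} (hθ : Function.Injective θ) {T U : Subgroup Ω}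
    [Finite U] {p : ℕ} [Fact p.Prime] (hU : IsPGroup p U)
    {X : FusionSystem T} {Y : FusionSystem U} {T' U' : Subgroup Ω'} {X' : FusionSystem T'}
    {Y' : FusionSystem U'} (hX : Corr θ X X') (hY : Corr θ Y Y') (hYs : Y.IsSaturated p)
    (h : X.IsInvariantIn Y) : X'.IsInvariantIn Y' := by
  have : Finite U' := finite_of_img hθ hY.le hY.img
  have hU' : IsPGroup p U' := isPGroup_of_img hθ hY.le hU hY.img
  have hsc : Y'.StronglyClosed T' := by
    rw [hX.img]; exact hY.stronglyClosed hθ h.2.1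
  exact isInvariantIn_of_strongInv p hU' (hY.isSaturated hθ hU hYs)
    (hX.isSubsystemOf hY h.1) hsc (hX.strongInv hθ hY (strongInv_of_isInvariantIn h))

/-- Weakly normal subsystems are transported. -/
theorem Corr.isWeaklyNormalIn {θ : S →* Ω'} (hθ : Function.Injective θ) {T U : Subgroup Ω}
    [Finite U] {p : ℕ} [Fact p.Prime] (hU : IsPGroup p U)
    {X : FusionSystem T} {Y : FusionSystem U} {T' U' : Subgroup Ω'} {X' : FusionSystem T'}
    {Y' : FusionSystem U'} (hX : Corr θ X X') (hY : Corr θ Y Y')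
    (h : X.IsWeaklyNormalIn Y p) : X'.IsWeaklyNormalIn Y' p := by
  obtain ⟨hXs, hYs, hinv⟩ := h
  have hTU : T ≤ U := hinv.2.1.1
  have : Finite T := Finite.of_injective (Subgroup.inclusion hTU) (Subgroup.inclusion_injective _)
  have hT : IsPGroup p T :=
    hU.of_injective (Subgroup.inclusion hTU) (Subgroup.inclusion_injective _)
  exact ⟨hX.isSaturated hθ hT hXs, hY.isSaturated hθ hU hYs, hX.isInvariantIn hθ hU hY hYs hinv⟩

end Cfsg.Agent.Helper16.FusTr
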