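import Mathlib
import Cfsg.Prelude.Def_FusionComponents
import Cfsg.Agent.Lib.Helper16.FusTr4

set_option autoImplicit false

/-!
Transport of the extension condition, of normality and of subnormality along a correspondence.
-/

namespace Cfsg.Agent.Helper16.FusTr

open Cfsg Cfsg.FusionSystem Cfsg.Agent.Helper25

variable {Ω : Type*} [Group Ω] {S : Subgroup Ω} {Ω' : Type*} [Group Ω']

theorem imageAlong_sup (θ : S →* Ω') {P Q : Subgroup Ω} (hP : P ≤ S) (hQ : Q ≤ S) :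
    imageAlong θ (P ⊔ Q) = imageAlong θ P ⊔ imageAlong θ Q := by
  unfold imageAlong
  rw [Subgroup.subgroupOf_sup hP hQ, Subgroup.map_sup]

theorem imageAlong_centralizerIn {θ : S →* Ω'} (hθ : Function.Injective θ) {T U : Subgroup Ω}
    (hT : T ≤ S) :
    imageAlong θ (centralizerIn U T) = centralizerIn (imageAlong θ U) (imageAlong θ T) := by
  ext y
  constructor
  · intro hy
    obtain ⟨s, hs, rfl⟩ := mem_imageAlong.mp hy
    obtain ⟨hsU, hsc⟩ := mem_centralizerIn.mp hs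
    refine mem_centralizerIn.mpr ⟨mem_imageAlong.mpr ⟨s, hsU, rfl⟩, fun z hz => ?_⟩
    obtain ⟨t, ht, rfl⟩ := mem_imageAlong.mp hz
    have h1 : (t : Ω) * s = s * t := hsc t ht
    have h2 : t * s = s * t := Subtype.ext h1
    rw [← map_mul, ← map_mul, h2]
  · intro hy
    obtain ⟨hyU, hyc⟩ := mem_centralizerIn.mp hy
    obtain ⟨s, hsU, rfl⟩ := mem_imageAlong.mp hyU
    refine mem_imageAlong.mpr ⟨s, mem_centralizerIn.mpr ⟨hsU, fun t ht => ?_⟩, rfl⟩
    have h1 := hyc (θ ⟨t, hT ht⟩) (map_mem_imageAlong θ (hT ht) ht)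
    rw [← map_mul, ← map_mul] at h1
    exact congrArg Subtype.val (hθ h1)


/-- The extension condition in the definition of a normal subsystem. -/
def ExtCond {T U : Subgroup Ω} (X : FusionSystem T) (Y : FusionSystem U) : Prop :=
  ∀ α ∈ X.autGroup T, ∃ β ∈ Y.autGroup (T ⊔ centralizerIn U T),
    (∀ x : T, ((β (Subgroup.inclusion le_sup_left x) : ↥(T ⊔ centralizerIn U T)) : Ω) = ((α x : T) : Ω)) ∧
    ∀ c : ↥(T ⊔ centralizerIn U T), (c : Ω) ∈ centralizerIn U T →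
      (c : Ω)⁻¹ * ((β c : ↥(T ⊔ centralizerIn U T)) : Ω) ∈ T ⊓ Subgroup.centralizer (T : Set Ω)

theorem isNormalIn_iff {T U : Subgroup Ω} (X : FusionSystem T) (Y : FusionSystem U) (p : ℕ) :
    X.IsNormalIn Y p ↔ X.IsWeaklyNormalIn Y p ∧ ExtCond X Y := Iff.rfl

/-- The extension condition is transported. -/
theorem Corr.extCond {θ : S →* Ω'} (hθ : Function.Injective θ) {T U : Subgroup Ω}
    {X : FusionSystem T} {Y : FusionSystem U} {T' U' : Subgroup Ω'} {X' : FusionSystem T'}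
    {Y' : FusionSystem U'} (hX : Corr θ X X') (hY : Corr θ Y Y') (hTU : T ≤ U)
    (h : ExtCond X Y) : ExtCond X' Y' := by
  intro α' hα'
  have hTS : T ≤ S := hX.le
  have hUS : U ≤ S := hY.le
  have hψ' := (mem_autGroup_iff X' le_rfl α').mp hα'
  obtain ⟨P, φ, hφ, r⟩ := hX.pull hψ'
  have hPT : P = T := imageAlong_injective hθ r.le hTS (r.1.symm.trans hX.img)
  subst hPT
  have hφT : ∀ x : P, φ x ∈ P := (X.le_of_mem hφ).2
  -- φ is onto
  have hrange' : (T'.subtype.comp α'.toMonoidHom).range = T' := by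
    ext y
    constructor
    · rintro ⟨x, rfl⟩; exact (α' x).2
    · intro hy
      exact ⟨α'.symm ⟨y, hy⟩, by simp⟩
  have hrange : φ.range = P := by
    have h1 := r.range
    rw [hrange', hX.img] at h1
    have hle : φ.range ≤ S := by
      rintro _ ⟨x, rfl⟩; exact hTS (hφT x)
    exact (imageAlong_injective hθ hTS hle h1).symm
  obtain ⟨α, hα, hαv⟩ := aut_of_range_eq X hφ hrange
  obtain ⟨β, hβ, hβ1, hβ2⟩ := h α hα
  have hWU : P ⊔ centralizerIn U P ≤ U := sup_le hTU centralizerIn_le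
  have hWS : P ⊔ centralizerIn U P ≤ S := hWU.trans hUS
  have hχ := (mem_autGroup_iff Y hWU β).mp hβ
  have hW' : T' ⊔ centralizerIn U' T' = imageAlong θ (P ⊔ centralizerIn U P) := by
    rw [imageAlong_sup θ hTS (centralizerIn_le.trans hUS), imageAlong_centralizerIn hθ hTS,
      ← hX.img, ← hY.img]
  have hχS : ∀ x, ((P ⊔ centralizerIn U P).subtype.comp β.toMonoidHom) x ∈ S :=
    fun x => hWS (β x).2
  obtain ⟨χ', rχ⟩ := exists_rel' hθ hWS _ hχS hW'
  have hχ' := hY.push hχ rχ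
  have hχrange : χ'.range = T' ⊔ centralizerIn U' T' := by
    rw [rχ.range, hW']
    congr 1
    ext y
    constructor
    · rintro ⟨x, rfl⟩; exact (β x).2
    · intro hy
      exact ⟨β.symm ⟨y, hy⟩, by simp⟩
  obtain ⟨β', hβ', hβ'v⟩ := aut_of_range_eq Y' hχ' hχrange
  refine ⟨β', hβ', fun x' => ?_, fun c' hc' => ?_⟩
  · obtain ⟨x, rfl⟩ := r.exists_eq x'
    rw [hβ'v]
    have e1 := rχ.apply (Subgroup.inclusion le_sup_left x)
    have e2 := hβ1 x
    have e3 := hαv x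
    have e4 := r.apply x
    calc χ' (Subgroup.inclusion le_sup_left ⟨θ ⟨x, r.le x.2⟩, r.mem x⟩)
        = θ ⟨((P ⊔ centralizerIn U P).subtype.comp β.toMonoidHom)
            (Subgroup.inclusion le_sup_left x), hχS _⟩ := e1
      _ = θ ⟨φ x, r.map_mem x⟩ := by
          congr 1
          exact Subtype.ext (e2.trans e3)
      _ = ((α' ⟨θ ⟨x, r.le x.2⟩, r.mem x⟩ : T') : Ω') := e4.symm
  · have hc'img : (c' : Ω') ∈ imageAlong θ (centralizerIn U P) := by
      rw [imageAlong_centralizerIn hθ hTS, ← hX.img, ← hY.img]; exact hc'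
    obtain ⟨s, hs, hsc⟩ := mem_imageAlong.mp hc'img
    have hsW : (s : Ω) ∈ P ⊔ centralizerIn U P := (le_sup_right : _ ≤ P ⊔ centralizerIn U P) hs
    have e0 : (⟨θ ⟨((⟨s, hsW⟩ : ↥(P ⊔ centralizerIn U P)) : Ω), hWS hsW⟩, rχ.mem ⟨s, hsW⟩⟩ :
        ↥(T' ⊔ centralizerIn U' T')) = c' := Subtype.ext hsc
    have e1 := rχ.apply ⟨s, hsW⟩
    rw [e0] at e1
    rw [hβ'v, e1, ← hsc]
    have h2 := hβ2 ⟨s, hsW⟩ hs
    have e2 : θ s = θ ⟨(s : Ω), hWS hsW⟩ := rfl
    have hz : (s : Ω)⁻¹ * ((β ⟨s, hsW⟩ : ↥(P ⊔ centralizerIn U P)) : Ω) ∈ S :=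
      S.mul_mem (S.inv_mem s.2) (hWS (β ⟨s, hsW⟩).2)
    have e3 : (θ s)⁻¹ * θ ⟨((P ⊔ centralizerIn U P).subtype.comp β.toMonoidHom) ⟨s, hsW⟩, hχS _⟩ =
        θ ⟨(s : Ω)⁻¹ * ((β ⟨s, hsW⟩ : ↥(P ⊔ centralizerIn U P)) : Ω), hz⟩ := by
      rw [← map_inv, ← map_mul]
      congr 1
    rw [e3]
    obtain ⟨hzT, hzc⟩ := Subgroup.mem_inf.mp h2
    refine Subgroup.mem_inf.mpr ⟨?_, ?_⟩
    · rw [hX.img]; exact map_mem_imageAlong θ hz hzT
    · rw [Subgroup.mem_centralizer_iff]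
      intro t' ht'
      have ht'img : t' ∈ imageAlong θ P := hX.img ▸ ht'
      obtain ⟨t, ht, rfl⟩ := mem_imageAlong.mp ht'img
      have h3 : (t : Ω) * ((s : Ω)⁻¹ * ((β ⟨s, hsW⟩ : ↥(P ⊔ centralizerIn U P)) : Ω)) =
          ((s : Ω)⁻¹ * ((β ⟨s, hsW⟩ : ↥(P ⊔ centralizerIn U P)) : Ω)) * t :=
        (Subgroup.mem_centralizer_iff.mp hzc) t ht
      have h4 : t * ⟨_, hz⟩ = ⟨_, hz⟩ * t := Subtype.ext h3
      rw [← map_mul, ← map_mul, h4]

/-- Normal subsystems are transported. -/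
theorem Corr.isNormalIn {θ : S →* Ω'} (hθ : Function.Injective θ) {T U : Subgroup Ω}
    [Finite U] {p : ℕ} [Fact p.Prime] (hU : IsPGroup p U)
    {X : FusionSystem T} {Y : FusionSystem U} {T' U' : Subgroup Ω'} {X' : FusionSystem T'}
    {Y' : FusionSystem U'} (hX : Corr θ X X') (hY : Corr θ Y Y')
    (h : X.IsNormalIn Y p) : X'.IsNormalIn Y' p := by
  have hTU : T ≤ U := h.1.2.2.2.1.1
  exact ⟨hX.isWeaklyNormalIn hθ hU hY h.1, hX.extCond hθ hY hTU h.2⟩

end Cfsg.Agent.Helper16.FusTr
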