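import Mathlib
import Cfsg.Prelude.Def_FusionComponents
import Cfsg.Agent.Lib.Helper16.FusTr5

set_option autoImplicit false

/-!
Transport of subnormality along a correspondence.
-/

namespace Cfsg.Agent.Helper16.FusTr

open Cfsg Cfsg.FusionSystem Cfsg.Agent.Helper25

variable {Ω : Type*} [Group Ω] {S : Subgroup Ω} {Ω' : Type*} [Group Ω']

/-- A system with the same maps as `F`, over a group equal to that of `F`, is subnormal in `F`. -/
theorem isSubnormalIn_of_hom_eq {T U : Subgroup Ω} {X : FusionSystem T} {Y : FusionSystem U}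
    (p : ℕ) (hTU : T = U) (h : ∀ P : Subgroup Ω, X.Hom P = Y.Hom P) : X.IsSubnormalIn Y p := by
  subst hTU
  have : X = Y := fs_ext h
  subst this
  exact IsSubnormalIn.refl _ _

theorem isSubnormalIn_le {T U : Subgroup Ω} {X : FusionSystem T} {Y : FusionSystem U} {p : ℕ}
    (h : X.IsSubnormalIn Y p) : T ≤ U := by
  induction h with
  | refl F p => exact le_rfl
  | step _ h2 ih => exact ih.trans h2.1.2.2.2.1.1

theorem subnormal_transport_aux {θ : S →* Ω'} (hθ : Function.Injective θ) {T U : Subgroup Ω}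
    {X : FusionSystem T} {Y : FusionSystem U} {p : ℕ} (h : X.IsSubnormalIn Y p) :
    ∀ (_ : Fact p.Prime) (_ : Finite U) (_ : IsPGroup p U) {T' U' : Subgroup Ω'}
      {X' : FusionSystem T'} {Y' : FusionSystem U'}, Corr θ X X' → Corr θ Y Y' →
      X'.IsSubnormalIn Y' p := by
  induction h with
  | refl F p =>
    intro hp hfin hU T' U' X' Y' hX hY
    exact isSubnormalIn_of_hom_eq p (hX.img.trans hY.img.symm) (hX.hom_eq hY)
  | step h1 h2 ih =>
    rename_i V U₀ E D F q
    intro hp hfin hU T' U' X' Y' hX hY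
    have hVU : V ≤ U₀ := h2.1.2.2.2.1.1
    have hfinV : Finite V :=
      Finite.of_injective (Subgroup.inclusion hVU) (Subgroup.inclusion_injective _)
    have hV : IsPGroup q V :=
      hU.of_injective (Subgroup.inclusion hVU) (Subgroup.inclusion_injective _)
    obtain ⟨D', hD'⟩ := exists_corr hθ (hVU.trans hY.le) D (rfl : imageAlong θ V = imageAlong θ V)
    exact IsSubnormalIn.step (ih hp hfinV hV hX hD') (hD'.isNormalIn hθ hU hY h2)

/-- Subnormal subsystems are transported. -/
theorem Corr.isSubnormalIn {θ : S →* Ω'} (hθ : Function.Injective θ) {T U : Subgroup Ω}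
    [Finite U] {p : ℕ} [hp : Fact p.Prime] (hU : IsPGroup p U)
    {X : FusionSystem T} {Y : FusionSystem U} {T' U' : Subgroup Ω'} {X' : FusionSystem T'}
    {Y' : FusionSystem U'} (hX : Corr θ X X') (hY : Corr θ Y Y')
    (h : X.IsSubnormalIn Y p) : X'.IsSubnormalIn Y' p :=
  subnormal_transport_aux hθ h hp inferInstance hU hX hY

end Cfsg.Agent.Helper16.FusTr
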