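import Mathlib
import Cfsg.Prelude.Def_FusionComponents
import Cfsg.Agent.Lib.Helper16.FusTr6

set_option autoImplicit false

/-!
A conjugate (under a map of `F`) of a subnormal subsystem of `F` is subnormal in `F`.
-/

namespace Cfsg.Agent.Helper16.FusTr

open Cfsg Cfsg.FusionSystem Cfsg.Agent.Helper25

variable {Ω : Type*} [Group Ω]

/-- Every fusion system is strongly invariant in itself. -/
theorem strongInv_self {S : Subgroup Ω} (F : FusionSystem S) : StrongInv F F := by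
  intro P Q hPQ hQS φ hφ hφQ ψ hψ
  have hψP : ψ.comp (Subgroup.inclusion hPQ) ∈ F.Hom P := restrict_mem F hPQ hψ
  have hr : (ψ.comp (Subgroup.inclusion hPQ)).range = (P.subgroupOf Q).map ψ := by
    ext y
    constructor
    · rintro ⟨x, rfl⟩
      exact ⟨Subgroup.inclusion hPQ x, Subgroup.mem_subgroupOf.mpr x.2, rfl⟩
    · rintro ⟨x, hx, rfl⟩
      exact ⟨⟨x, Subgroup.mem_subgroupOf.mp hx⟩, rfl⟩
  obtain ⟨ρ, hρ, hρv, -⟩ := exists_inv F hψP hr
  have hρP : ∀ y, ρ y ∈ P := by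
    rintro ⟨_, x, hx, rfl⟩
    have := hρv ⟨x, Subgroup.mem_subgroupOf.mp hx⟩ ⟨x, hx, rfl⟩
    rw [show (⟨ψ x, ⟨x, hx, rfl⟩⟩ : ↥((P.subgroupOf Q).map ψ)) =
      ⟨(ψ.comp (Subgroup.inclusion hPQ)) ⟨x, Subgroup.mem_subgroupOf.mp hx⟩, ⟨x, hx, rfl⟩⟩ from rfl,
      this]
    exact Subgroup.mem_subgroupOf.mp hx
  have h1 := F.comp_mem hρ hφ hρP
  have h2 : ∀ y, (φ.comp (ρ.codRestrict P hρP)) y ∈ Q := fun y => hφQ _
  have h3 := F.comp_mem h1 hψ h2
  refine ⟨_, h3, fun x hx => ?_⟩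
  have e : ρ ⟨ψ (Subgroup.inclusion hPQ x), hx⟩ = x := hρv x hx
  show ψ ⟨φ ⟨ρ ⟨ψ (Subgroup.inclusion hPQ x), hx⟩, _⟩, _⟩ = ψ ⟨φ x, hφQ x⟩
  congr 2
  exact congrArg φ (Subtype.ext e)

variable {U : Subgroup Ω}

/-- The homomorphism `U →* Ω` attached to an automorphism of `U`. -/
def autHom (α : MulAut U) : U →* Ω := U.subtype.comp α.toMonoidHom

theorem autHom_apply (α : MulAut U) (x : U) : autHom α x = ((α x : U) : Ω) := rfl

theorem autHom_injective (α : MulAut U) : Function.Injective (autHom α) := by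
  intro x y h
  exact α.injective (Subtype.ext h)

theorem autHom_mem (α : MulAut U) (x : U) : autHom α x ∈ U := (α x).2

theorem imageAlong_autHom_inv (α : MulAut U) {P : Subgroup Ω} (hP : P ≤ U) :
    imageAlong (autHom α⁻¹) (imageAlong (autHom α) P) = P := by
  ext x
  rw [mem_imageAlong]
  constructor
  · rintro ⟨y, hy, rfl⟩
    obtain ⟨s, hs, hss⟩ := mem_imageAlong.mp hy
    have : y = α s := Subtype.ext hss.symm
    rw [this, autHom_apply]
    simpa using hs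
  · intro hx
    refine ⟨α ⟨x, hP hx⟩, mem_imageAlong.mpr ⟨⟨x, hP hx⟩, hx, rfl⟩, ?_⟩
    rw [autHom_apply]
    simp

/-- Passing to the inverse automorphism reverses the relation `Rel`. -/
theorem rel_aut_symm (α : MulAut U) {P : Subgroup Ω} {φ : P →* Ω} {P' : Subgroup Ω}
    {φ' : P' →* Ω} (h : Rel (autHom α) φ φ') : Rel (autHom α⁻¹) φ' φ := by
  have hP'U : P' ≤ U := by
    rw [h.1]
    intro y hy
    obtain ⟨s, -, rfl⟩ := mem_imageAlong.mp hy
    exact autHom_mem α s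
  have hφ'U : ∀ x' : P', φ' x' ∈ U := by
    intro x'
    obtain ⟨x, rfl⟩ := h.exists_eq x'
    rw [h.apply x]
    exact autHom_mem α _
  refine rel_mk ?_ hP'U hφ'U fun x' hx' => ?_
  · rw [h.1, imageAlong_autHom_inv α h.le]
  · obtain ⟨x, hx⟩ := h.exists_eq x'
    subst hx
    have e0 : (⟨autHom α ⟨x, h.le x.2⟩, hP'U (h.mem x)⟩ : U) = α ⟨x, h.le x.2⟩ := Subtype.ext rfl
    have e1' : α⁻¹ (⟨autHom α ⟨x, h.le x.2⟩, hP'U (h.mem x)⟩ : U) = ⟨x, h.le x.2⟩ := by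
      rw [e0]; exact MulAut.inv_apply_self _ α _
    have e1 : (⟨autHom α⁻¹ ⟨autHom α ⟨x, h.le x.2⟩, hP'U (h.mem x)⟩, hx'⟩ : P) = x :=
      Subtype.ext (congrArg (fun u : U => (u : Ω)) e1')
    rw [e1]
    have e2 := h.apply x
    show φ x = ((α⁻¹ ⟨φ' ⟨autHom α ⟨x, h.le x.2⟩, h.mem x⟩, _⟩ : U) : Ω)
    have e3 : (⟨φ' ⟨autHom α ⟨x, h.le x.2⟩, h.mem x⟩, hφ'U _⟩ : U) = α ⟨φ x, h.map_mem x⟩ :=
      Subtype.ext e2
    rw [e3]
    simp

/-- A subsystem over `U` that is strongly invariant in `F` is carried to itself by every element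
of `Aut_F(U)`. -/
theorem corr_self_of_strongInv {S : Subgroup Ω} {F : FusionSystem S} {D : FusionSystem U}
    (hUS : U ≤ S) (hSI : StrongInv F D) {α : MulAut U} (hα : α ∈ F.autGroup U) :
    Corr (autHom α) D D := by
  have key : ∀ {β : MulAut U}, β ∈ F.autGroup U → ∀ {P : Subgroup Ω} {φ : P →* Ω},
      φ ∈ D.Hom P → ∀ {P' : Subgroup Ω} {φ' : P' →* Ω}, Rel (autHom β) φ φ' → φ' ∈ D.Hom P' := by
    intro β hβ P φ hφ P' φ' r
    have hPU : P ≤ U := (D.le_of_mem hφ).1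
    have hφU : ∀ x : P, φ x ∈ U := (D.le_of_mem hφ).2
    have hβ' := (mem_autGroup_iff F hUS β).mp hβ
    obtain ⟨χ, hχ, hχv⟩ := hSI P U hPU le_rfl φ hφ hφU _ hβ'
    have hP' : P' = imageAlong (autHom β) P := r.1
    subst hP'
    have : Rel (autHom β) φ χ := by
      refine rel_mk rfl hPU hφU fun x hx => ?_
      exact hχv x hx
    rw [r.unique this]
    exact hχ
  refine ⟨le_rfl, ?_, fun hφ _ _ r => key hα hφ r, fun {P' φ'} hφ' => ?_⟩
  · ext y
    rw [mem_imageAlong]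
    constructor
    · intro hy
      exact ⟨α.symm ⟨y, hy⟩, (α.symm ⟨y, hy⟩).2, by rw [autHom_apply]; simp⟩
    · rintro ⟨s, -, rfl⟩
      exact autHom_mem α s
  · have hP'U : P' ≤ U := (D.le_of_mem hφ').1
    have hφ'U : ∀ x : P', φ' x ∈ U := (D.le_of_mem hφ').2
    obtain ⟨φ, r⟩ := exists_rel (autHom_injective α⁻¹) hP'U φ' hφ'U
    have hφ := key ((F.autGroup U).inv_mem hα) hφ' r
    have r' := rel_aut_symm α⁻¹ r
    rw [inv_inv] at r'
    exact ⟨_, φ, hφ, r'⟩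

end Cfsg.Agent.Helper16.FusTr
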