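import Mathlib
import Cfsg.Prelude.Def_FusionComponents
import Cfsg.Agent.Lib.Helper16.FusTr7

set_option autoImplicit false

/-!
A conjugate (under a map of `F`) of a subnormal subsystem of `F` is subnormal in `F`: the induction.
-/

namespace Cfsg.Agent.Helper16.FusTr

open Cfsg Cfsg.FusionSystem Cfsg.Agent.Helper25

variable {Ω : Type*} [Group Ω]

theorem range_eq_of_mem_hom_self {U : Subgroup Ω} [Finite U] (F : FusionSystem U) {γ : U →* Ω}
    (hγ : γ ∈ F.Hom U) : γ.range = U := by
  have hγU : ∀ x, γ x ∈ U := (F.le_of_mem hγ).2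
  have hinj : Function.Injective (γ.codRestrict U hγU) := by
    intro x y hxy
    exact F.injective_of_mem hγ (congrArg Subtype.val hxy)
  have hsurj := Finite.surjective_of_injective hinj
  ext y
  constructor
  · rintro ⟨x, rfl⟩; exact hγU x
  · intro hy
    obtain ⟨x, hx⟩ := hsurj ⟨y, hy⟩
    exact ⟨x, congrArg Subtype.val hx⟩

theorem conj_subnormal_aux {T U : Subgroup Ω} {C : FusionSystem T} {F : FusionSystem U} {p : ℕ}
    (h : C.IsSubnormalIn F p) :
    ∀ (_ : Fact p.Prime) (_ : Finite U) (_ : IsPGroup p U) (γ : T →* Ω), γ ∈ F.Hom T →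
      ∀ {R : Subgroup Ω} {E : FusionSystem R}, Corr γ C E → E.IsSubnormalIn F p := by
  induction h with
  | refl F p =>
    intro hp hfin hU γ hγ R E hCE
    obtain ⟨α, hα, hαv⟩ := aut_of_range_eq F hγ (range_eq_of_mem_hom_self F hγ)
    have hγeq : γ = autHom α := MonoidHom.ext fun x => (hαv x).symm
    subst hγeq
    have hFF := corr_self_of_strongInv le_rfl (strongInv_self F) hα
    exact isSubnormalIn_of_hom_eq p (hCE.img.trans hFF.img.symm) (hCE.hom_eq hFF)
  | step h1 h2 ih =>
    rename_i V S₀ C D F q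
    intro hp hfin hU γ hγ R E hCE
    have hTV := isSubnormalIn_le h1
    have hVS : V ≤ S₀ := h2.1.2.2.2.1.1
    obtain ⟨α, hα, φ₀, hφ₀, hfr⟩ := h2.1.2.2.2.2.2 _ hTV γ hγ
    have hφ₀V : ∀ x, φ₀ x ∈ V := (D.le_of_mem hφ₀).2
    have hγeq : γ = compHom φ₀ hφ₀V (autHom α) := MonoidHom.ext fun x => hfr x (hφ₀V x)
    subst hγeq
    have hfinV : Finite V :=
      Finite.of_injective (Subgroup.inclusion hVS) (Subgroup.inclusion_injective _)
    have hV : IsPGroup q V :=
      hU.of_injective (Subgroup.inclusion hVS) (Subgroup.inclusion_injective _)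
    have hfinT : Finite _ :=
      Finite.of_injective (Subgroup.inclusion hTV) (Subgroup.inclusion_injective _)
    have hinj : Function.Injective φ₀ := D.injective_of_mem hφ₀
    obtain ⟨E₀, hE₀⟩ := exists_corr hinj le_rfl C (rfl : imageAlong φ₀ _ = imageAlong φ₀ _)
    have hE₀D := ih hp hfinV hV φ₀ hφ₀ hE₀
    have hc : Corr (autHom α) E₀ E := Corr.cancel hinj hE₀ hCE
    have hDD : Corr (autHom α) D D :=
      corr_self_of_strongInv hVS (strongInv_of_isInvariantIn h2.1.2.2) hα
    exact IsSubnormalIn.step (hc.isSubnormalIn (autHom_injective α) hV hDD hE₀D) h2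

/-- A conjugate of a subnormal subsystem is subnormal. -/
theorem conj_subnormal {T S : Subgroup Ω} [Finite S] {p : ℕ} [hp : Fact p.Prime]
    (hS : IsPGroup p S) {C : FusionSystem T} {F : FusionSystem S}
    (h : C.IsSubnormalIn F p) {γ : T →* Ω} (hγ : γ ∈ F.Hom T) {R : Subgroup Ω}
    {E : FusionSystem R} (hCE : Corr γ C E) : E.IsSubnormalIn F p :=
  conj_subnormal_aux h hp inferInstance hS γ hγ hCE

end Cfsg.Agent.Helper16.FusTr
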