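import Mathlib
import Cfsg.Prelude.Def_FusionComponents
import Cfsg.Agent.Lib.Helper16.FusTr8
import Cfsg.Agent.Lib.Helper25.FusionNormal
import Cfsg.Agent.Lib.Helper25.FusionHyp

set_option autoImplicit false

/-!
Transport of central subgroups, of the centre and of the hyperfocal subgroup along a correspondence.
-/

namespace Cfsg.Agent.Helper16.FusTr

open Cfsg Cfsg.FusionSystem Cfsg.Agent.Helper25

variable {Ω : Type*} [Group Ω] {S : Subgroup Ω} {Ω' : Type*} [Group Ω']

/-- Central subgroups are transported. -/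
theorem Corr.isCentral {θ : S →* Ω'} (hθ : Function.Injective θ) {T : Subgroup Ω}
    {X : FusionSystem T} {T' : Subgroup Ω'} {X' : FusionSystem T'} (hX : Corr θ X X')
    {Q : Subgroup Ω} (hQ : X.IsCentral Q) : X'.IsCentral (imageAlong θ Q) := by
  have hQS : Q ≤ S := hQ.1.trans hX.le
  refine ⟨by rw [hX.img]; exact imageAlong_mono θ hQ.1, fun P' φ' hφ' => ?_⟩
  obtain ⟨P, φ, hφ, r⟩ := hX.pull hφ'
  obtain ⟨ψ, hψ, hψ1, hψ2⟩ := hQ.2 P φ hφ
  have hsup : P' ⊔ imageAlong θ Q = imageAlong θ (P ⊔ Q) := by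
    rw [imageAlong_sup θ r.le hQS, ← r.1]
  have hψT : ∀ x, ψ x ∈ T := (X.le_of_mem hψ).2
  have hPQS : P ⊔ Q ≤ S := sup_le r.le hQS
  obtain ⟨ψ', rψ⟩ := exists_rel' hθ hPQS ψ (fun x => hX.le (hψT x)) hsup
  refine ⟨ψ', hX.push hψ rψ, fun x' => ?_, fun x' => ?_⟩
  · obtain ⟨x, rfl⟩ := r.exists_eq x'
    have e1 := rψ.apply (Subgroup.inclusion le_sup_left x)
    have e2 := hψ1 x
    have e3 := r.apply x
    refine e1.trans (Eq.trans ?_ e3.symm)
    congr 1
    exact Subtype.ext e2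
  · obtain ⟨s, hs, hss⟩ := mem_imageAlong.mp x'.2
    have e1 := rψ.apply (Subgroup.inclusion le_sup_right ⟨s, hs⟩)
    have e2 := hψ2 ⟨s, hs⟩
    have e0 : Subgroup.inclusion (le_sup_right : imageAlong θ Q ≤ P' ⊔ imageAlong θ Q) x' =
        ⟨θ ⟨((Subgroup.inclusion (le_sup_right : Q ≤ P ⊔ Q) ⟨s, hs⟩ : ↥(P ⊔ Q)) : Ω), hPQS
          (Subgroup.inclusion (le_sup_right : Q ≤ P ⊔ Q) ⟨s, hs⟩).2⟩, rψ.mem _⟩ :=
      Subtype.ext hss.symm
    rw [e0, e1, ← hss]
    congr 1
    exact Subtype.ext e2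

/-- The centre is transported. -/
theorem Corr.center_eq {θ : S →* Ω'} (hθ : Function.Injective θ) {T : Subgroup Ω} [Finite T]
    {X : FusionSystem T} {T' : Subgroup Ω'} {X' : FusionSystem T'} (hX : Corr θ X X') :
    X'.center = imageAlong θ X.center := by
  have hfin' : Finite T' := finite_of_img hθ hX.le hX.img
  apply le_antisymm
  · have h1 := (hX.symm hθ).isCentral (invHom_injective hθ) (isCentral_center X')
    have h2 : imageAlong (invHom hθ) X'.center ≤ X.center := le_sSup h1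
    have h3 := imageAlong_mono θ h2
    have hle : X'.center ≤ θ.range := by
      have : X'.center ≤ T' := (isCentral_center X').1
      exact this.trans (hX.img ▸ imageAlong_le_range θ T)
    rwa [imageAlong_imageAlong_invHom hθ hle] at h3
  · exact le_sSup (hX.isCentral hθ (isCentral_center X))

/-- The automorphism of the image of `P` attached to an automorphism of `P`. -/
noncomputable def autCongr {θ : S →* Ω'} (hθ : Function.Injective θ) {P : Subgroup Ω} (hP : P ≤ S) :
    MulAut P →* MulAut (imageAlong θ P) :=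
  (MulAut.congr (imgEquiv hθ hP)).toMonoidHom

theorem autCongr_apply {θ : S →* Ω'} (hθ : Function.Injective θ) {P : Subgroup Ω} (hP : P ≤ S)
    (α : MulAut P) (x : P) :
    autCongr hθ hP α (imgEquiv hθ hP x) = imgEquiv hθ hP (α x) := by
  simp [autCongr, MulAut.congr]

theorem autCongr_injective {θ : S →* Ω'} (hθ : Function.Injective θ) {P : Subgroup Ω}
    (hP : P ≤ S) : Function.Injective (autCongr hθ hP) :=
  (MulAut.congr (imgEquiv hθ hP)).injective

theorem Corr.autCongr_mem {θ : S →* Ω'} (hθ : Function.Injective θ) {T : Subgroup Ω}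
    {X : FusionSystem T} {T' : Subgroup Ω'} {X' : FusionSystem T'} (hX : Corr θ X X')
    {P : Subgroup Ω} (hPT : P ≤ T) {α : MulAut P} (hα : α ∈ X.autGroup P) :
    autCongr hθ (hPT.trans hX.le) α ∈ X'.autGroup (imageAlong θ P) := by
  have hPS := hPT.trans hX.le
  have hP'T' : imageAlong θ P ≤ T' := by rw [hX.img]; exact imageAlong_mono θ hPT
  rw [mem_autGroup_iff X' hP'T']
  have h1 := (mem_autGroup_iff X hPT α).mp hα
  refine hX.push h1 (rel_mk rfl hPS (fun x => hPS (α x).2) fun x hx => ?_)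
  have e := autCongr_apply hθ hPS α x
  have e0 : (⟨θ ⟨x, hPS x.2⟩, hx⟩ : imageAlong θ P) = imgEquiv hθ hPS x := Subtype.ext rfl
  show (((autCongr hθ hPS α) ⟨θ ⟨x, hPS x.2⟩, hx⟩ : imageAlong θ P) : Ω') = _
  rw [e0, e]
  rfl

/-- The image of the hyperfocal subgroup lies in the hyperfocal subgroup of the image. -/
theorem Corr.hyperfocal_le {θ : S →* Ω'} (hθ : Function.Injective θ) {T : Subgroup Ω}
    {X : FusionSystem T} {T' : Subgroup Ω'} {X' : FusionSystem T'} (hX : Corr θ X X') (p : ℕ) :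
    imageAlong θ (X.hyperfocalSubgroup p) ≤ X'.hyperfocalSubgroup p := by
  have key : X.hyperfocalSubgroup p ≤ preimageAlong θ (X'.hyperfocalSubgroup p) := by
    unfold FusionSystem.hyperfocalSubgroup
    rw [Subgroup.closure_le]
    rintro _ ⟨P, α, x, hPT, hα, rfl⟩
    have hPS := hPT.trans hX.le
    have hP'T' : imageAlong θ P ≤ T' := by rw [hX.img]; exact imageAlong_mono θ hPT
    have hmem : ∀ a ∈ X.autGroup P, autCongr hθ hPS a ∈ X'.autGroup (imageAlong θ P) :=
      fun a ha => hX.autCongr_mem hθ hPT ha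
    have h1 := pResidual_transport p (autCongr hθ hPS) (autCongr_injective hθ hPS) hmem hα
    have h2 := hyperfocal_gen_mem X' p hP'T' _ h1 (imgEquiv hθ hPS x)
    have hyS : (x : Ω)⁻¹ * (((α : MulAut P) x : P) : Ω) ∈ S :=
      S.mul_mem (S.inv_mem (hPS x.2)) (hPS ((α : MulAut P) x).2)
    rw [SetLike.mem_coe, mem_preimageAlong]
    refine ⟨hyS, ?_⟩
    have e : θ ⟨(x : Ω)⁻¹ * (((α : MulAut P) x : P) : Ω), hyS⟩ =
        ((imgEquiv hθ hPS x : imageAlong θ P) : Ω')⁻¹ *
          ((autCongr hθ hPS (α : MulAut P) (imgEquiv hθ hPS x) : imageAlong θ P) : Ω') := by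
      rw [autCongr_apply, imgEquiv_apply, imgEquiv_apply, ← map_inv, ← map_mul]
      congr 1
    rw [e]
    exact h2
  intro y hy
  obtain ⟨s, hs, rfl⟩ := mem_imageAlong.mp hy
  obtain ⟨hsS, h⟩ := mem_preimageAlong.mp (key hs)
  exact h

end Cfsg.Agent.Helper16.FusTr
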