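import Mathlib
import Cfsg.Prelude.Def_FusionComponents
import Cfsg.Agent.Lib.Helper16.FusTr9

set_option autoImplicit false

/-!
Transport of simplicity along a correspondence; compatibility of correspondences with factor systems.
-/

namespace Cfsg.Agent.Helper16.FusTr

open Cfsg Cfsg.FusionSystem Cfsg.Agent.Helper25

variable {Ω : Type*} [Group Ω] {S : Subgroup Ω} {Ω' : Type*} [Group Ω']

theorem Corr.congr_right {θ : S →* Ω'} {T : Subgroup Ω} {X : FusionSystem T}
    {T₁ T₂ : Subgroup Ω'} {X₁ : FusionSystem T₁} {X₂ : FusionSystem T₂} (h : Corr θ X X₁)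
    (hT : T₁ = T₂) (hhom : ∀ P, X₁.Hom P = X₂.Hom P) : Corr θ X X₂ := by
  subst hT
  have : X₁ = X₂ := fs_ext hhom
  subst this
  exact h

theorem imageAlong_bot (θ : S →* Ω') : imageAlong θ ⊥ = ⊥ := by
  ext y
  rw [mem_imageAlong, Subgroup.mem_bot]
  constructor
  · rintro ⟨s, hs, rfl⟩
    have : s = 1 := Subtype.ext (Subgroup.mem_bot.mp hs)
    rw [this, map_one]
  · rintro rfl
    exact ⟨1, Subgroup.one_mem _, map_one θ⟩

theorem eq_bot_of_imageAlong_eq_bot {θ : S →* Ω'} (hθ : Function.Injective θ) {P : Subgroup Ω}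
    (hP : P ≤ S) (h : imageAlong θ P = ⊥) : P = ⊥ :=
  imageAlong_injective hθ hP bot_le (h.trans (imageAlong_bot θ).symm)

/-- Simplicity is transported. -/
theorem Corr.isSimple {θ : S →* Ω'} (hθ : Function.Injective θ) {U : Subgroup Ω} [Finite U]
    {p : ℕ} [Fact p.Prime] (hU : IsPGroup p U) {Y : FusionSystem U} {U' : Subgroup Ω'}
    {Y' : FusionSystem U'} (hY : Corr θ Y Y') (h : Y.IsSimple p) : Y'.IsSimple p := by
  obtain ⟨hsat, hne, hmin⟩ := h
  have hfinU' : Finite U' := finite_of_img hθ hY.le hY.img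
  have hU' : IsPGroup p U' := isPGroup_of_img hθ hY.le hU hY.img
  have hU'r : U' ≤ θ.range := hY.img ▸ imageAlong_le_range θ U
  refine ⟨hY.isSaturated hθ hU hsat, fun hbot => hne ?_, fun V' N' hN' => ?_⟩
  · exact eq_bot_of_imageAlong_eq_bot hθ hY.le (hY.img.symm.trans hbot)
  · have hV'U' : V' ≤ U' := hN'.1.2.2.2.1.1
    have hV'r : V' ≤ θ.range := hV'U'.trans hU'r
    have hfinV' : Finite V' :=
      Finite.of_injective (Subgroup.inclusion hV'U') (Subgroup.inclusion_injective _)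
    obtain ⟨N, hN⟩ := exists_corr (invHom_injective hθ) hV'r N'
      (rfl : imageAlong (invHom hθ) V' = imageAlong (invHom hθ) V')
    have hYs := hY.symm hθ
    have hNY : N.IsNormalIn Y p := hN.isNormalIn (invHom_injective hθ) hU' hYs hN'
    have hback : imageAlong θ (imageAlong (invHom hθ) V') = V' :=
      imageAlong_imageAlong_invHom hθ hV'r
    rcases hmin _ N hNY with h1 | ⟨h1, h2⟩
    · left
      rw [← hback, h1, imageAlong_bot]
    · right
      have hVU : V' = U' := by rw [← hback, h1, hY.img]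
      refine ⟨hVU, fun P' => ?_⟩
      have hN2 : Corr (invHom hθ) N' Y := hN.congr_right h1 h2
      exact Corr.hom_eq_left (invHom_injective hθ) hN2 hYs P'

/-- A central subgroup is strongly closed. -/
theorem stronglyClosed_of_isCentral {T : Subgroup Ω} {X : FusionSystem T} {Q : Subgroup Ω}
    (hQ : X.IsCentral Q) : X.StronglyClosed Q := by
  refine ⟨hQ.1, fun R hR φ hφ x => ?_⟩
  obtain ⟨ψ, -, hψ1, hψ2⟩ := hQ.2 R φ hφ
  have e1 := hψ1 x
  have e2 := hψ2 ⟨x, hR x.2⟩
  have e0 : Subgroup.inclusion (le_sup_left : R ≤ R ⊔ Q) x =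
      Subgroup.inclusion (le_sup_right : Q ≤ R ⊔ Q) ⟨x, hR x.2⟩ := Subtype.ext rfl
  rw [← e1, e0, e2]
  exact hR x.2

end Cfsg.Agent.Helper16.FusTr
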