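import Mathlib
import Cfsg.Prelude.Def_FusionComponents
import Cfsg.Agent.Lib.Helper16.FusTr10

set_option autoImplicit false

/-!
Compatibility of correspondences with factor systems.
-/

namespace Cfsg.Agent.Helper16.FusTr

open Cfsg Cfsg.FusionSystem Cfsg.Agent.Helper25

variable {Ω : Type*} [Group Ω] {S : Subgroup Ω} {Ω' : Type*} [Group Ω']
variable {Ω₁ : Type*} [Group Ω₁] {Ω₁' : Type*} [Group Ω₁']

/-- If `θ` carries `X` to `X'`, the factor maps `π`, `π'` are intertwined by `θ` and an injective `θb`,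
then `θb` carries the maps of the factor system of `X` to maps of the factor system of `X'`. -/
theorem factor_push {θ : S →* Ω'} (hθ : Function.Injective θ) {T : Subgroup Ω}
    {X : FusionSystem T} {T' : Subgroup Ω'} {X' : FusionSystem T'} (hX : Corr θ X X')
    {T₁ : Subgroup Ω₁} {E : FusionSystem T₁} {T₁' : Subgroup Ω₁'} {E' : FusionSystem T₁'}
    {Z : Subgroup Ω} {Z' : Subgroup Ω'} {π : T →* Ω₁} {π' : T' →* Ω₁'}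
    (hE : X.IsFactorSystem Z π E) (hE' : X'.IsFactorSystem Z' π' E')
    {S₁ : Subgroup Ω₁} {θb : S₁ →* Ω₁'} (hθb : Function.Injective θb)
    (hsq : ∀ (t : T) (h1 : π t ∈ S₁) (h2 : θ ⟨t, hX.le t.2⟩ ∈ T'),
      θb ⟨π t, h1⟩ = π' ⟨θ ⟨t, hX.le t.2⟩, h2⟩)
    (hT₁S₁ : T₁ ≤ S₁) (hT₁' : T₁' = imageAlong θb T₁)
    {Q : Subgroup Ω₁} {ψ : Q →* Ω₁} (hψ : ψ ∈ E.Hom Q) {Q' : Subgroup Ω₁'} {ψ' : Q' →* Ω₁'}
    (r : Rel θb ψ ψ') : ψ' ∈ E'.Hom Q' := by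
  obtain ⟨-, -, hπr, hEh⟩ := hE
  obtain ⟨-, -, hπ'r, hE'h⟩ := hE'
  have hπT₁ : ∀ t : T, π t ∈ T₁ := fun t => hπr.le ⟨t, rfl⟩
  have hθT' : ∀ t : T, θ ⟨t, hX.le t.2⟩ ∈ T' := fun t =>
    hX.img.ge (map_mem_imageAlong θ _ t.2)
  have sq : ∀ t : T, θb ⟨π t, hT₁S₁ (hπT₁ t)⟩ = π' ⟨θ ⟨t, hX.le t.2⟩, hθT' t⟩ :=
    fun t => hsq t _ _
  obtain ⟨hQT₁, φ, hφ, hind⟩ := (hEh Q ψ).mp hψ
  have hPT : preimageAlong π Q ≤ T := preimageAlong_le π Q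
  have hφT := (X.le_of_mem hφ).2
  obtain ⟨hP0, hφ0, hPQ, hindv⟩ := hind
  obtain ⟨φ', rφ⟩ := exists_rel hθ (hPT.trans hX.le) φ (fun x => hX.le (hφT x))
  have hφ' := hX.push hφ rφ
  have hpre : preimageAlong π' Q' = imageAlong θ (preimageAlong π Q) := by
    ext x'
    rw [mem_preimageAlong]
    constructor
    · rintro ⟨hx'T', hx'Q'⟩
      have hx'img : x' ∈ imageAlong θ T := hX.img ▸ hx'T'
      obtain ⟨s, hs, rfl⟩ := mem_imageAlong.mp hx'img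
      have e := sq ⟨s, hs⟩
      have h3 : θb ⟨π ⟨s, hs⟩, hT₁S₁ (hπT₁ ⟨s, hs⟩)⟩ ∈ imageAlong θb Q := by
        rw [e, ← r.1]; exact hx'Q'
      have h4 : π ⟨s, hs⟩ ∈ Q := mem_of_map_mem_imageAlong hθb _ h3
      exact mem_imageAlong.mpr ⟨s, mem_preimageAlong.mpr ⟨hs, h4⟩, rfl⟩
    · intro hx'
      obtain ⟨s, hs, rfl⟩ := mem_imageAlong.mp hx'
      obtain ⟨hsT, hsQ⟩ := mem_preimageAlong.mp hs
      refine ⟨hθT' ⟨s, hsT⟩, ?_⟩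
      have e := sq ⟨s, hsT⟩
      have h5 : π' ⟨θ s, hθT' ⟨s, hsT⟩⟩ = θb ⟨π ⟨s, hsT⟩, hT₁S₁ (hπT₁ ⟨s, hsT⟩)⟩ := e.symm
      rw [h5, r.1]
      exact map_mem_imageAlong θb _ hsQ
  have hφ'' : φ'.comp (Subgroup.inclusion hpre.le) ∈ X'.Hom (preimageAlong π' Q') :=
    hom_transport X' hpre hφ'
  have hQ'T₁' : Q' ≤ T₁' := by
    rw [hT₁', r.1]; exact imageAlong_mono θb hQT₁
  rw [hE'h]
  refine ⟨hQ'T₁', _, hφ'', preimageAlong_le π' Q', fun x => (X'.le_of_mem hφ'').2 x,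
    fun x => map_mem_of_mem_preimageAlong x, fun x'' => ?_⟩
  -- x'' comes from some s in the preimage of Q
  obtain ⟨s, hs⟩ := rφ.exists_eq (Subgroup.inclusion hpre.le x'')
  have hsT : (s : Ω) ∈ T := hPT s.2
  have hsx : θ ⟨s, hX.le hsT⟩ = (x'' : Ω') := congrArg Subtype.val hs
  -- the four basic equations
  have e1 := sq ⟨s, hsT⟩
  have e2 := r.apply ⟨π ⟨s, hsT⟩, hPQ s⟩
  have e3 := hindv s
  have e4 := sq ⟨φ s, hφ0 s⟩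
  have e5 := rφ.apply s
  have a1 : (⟨π' ⟨(x'' : Ω'), preimageAlong_le π' Q' x''.2⟩, map_mem_of_mem_preimageAlong x''⟩ : Q') =
      ⟨θb ⟨π ⟨s, hsT⟩, r.le (hPQ s)⟩, r.mem ⟨π ⟨s, hsT⟩, hPQ s⟩⟩ := by
    apply Subtype.ext
    show π' ⟨(x'' : Ω'), _⟩ = θb ⟨π ⟨s, hsT⟩, _⟩
    rw [e1]
    congr 1
    exact Subtype.ext hsx.symm
  rw [a1, e2]
  have a2 : (⟨ψ ⟨π ⟨s, hsT⟩, hPQ s⟩, r.map_mem _⟩ : S₁) =
      ⟨π ⟨φ s, hφ0 s⟩, hT₁S₁ (hπT₁ _)⟩ := Subtype.ext e3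
  rw [a2, e4]
  congr 1
  apply Subtype.ext
  show θ ⟨φ s, _⟩ = (φ'.comp (Subgroup.inclusion hpre.le)) x''
  rw [← e5]
  show φ' _ = φ' (Subgroup.inclusion hpre.le x'')
  rw [← hs]


/-- Under the hypotheses of `factor_push`, `θb` carries the factor system of `X` to the factor system
of `X'`. -/
theorem factor_corr {θ : S →* Ω'} (hθ : Function.Injective θ) {T : Subgroup Ω}
    {X : FusionSystem T} {T' : Subgroup Ω'} {X' : FusionSystem T'} (hX : Corr θ X X')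
    {T₁ : Subgroup Ω₁} {E : FusionSystem T₁} {T₁' : Subgroup Ω₁'} {E' : FusionSystem T₁'}
    {Z : Subgroup Ω} {Z' : Subgroup Ω'} {π : T →* Ω₁} {π' : T' →* Ω₁'}
    (hE : X.IsFactorSystem Z π E) (hE' : X'.IsFactorSystem Z' π' E')
    {S₁ : Subgroup Ω₁} {θb : S₁ →* Ω₁'} (hθb : Function.Injective θb)
    (hsq : ∀ (t : T) (h1 : π t ∈ S₁) (h2 : θ ⟨t, hX.le t.2⟩ ∈ T'),
      θb ⟨π t, h1⟩ = π' ⟨θ ⟨t, hX.le t.2⟩, h2⟩)
    (hT₁S₁ : T₁ ≤ S₁) (hT₁' : T₁' = imageAlong θb T₁) : Corr θb E E' := by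
  refine ⟨hT₁S₁, hT₁', fun hψ _ _ r => factor_push hθ hX hE hE' hθb hsq hT₁S₁ hT₁' hψ r,
    fun {Q' ψ'} hψ' => ?_⟩
  have hT₁'r : T₁' ≤ θb.range := hT₁' ▸ imageAlong_le_range θb T₁
  have hQ'r : Q' ≤ θb.range := (E'.le_of_mem hψ').1.trans hT₁'r
  have hψ'r : ∀ x, ψ' x ∈ θb.range := fun x => hT₁'r ((E'.le_of_mem hψ').2 x)
  obtain ⟨ψ, rinv⟩ := exists_rel (invHom_injective hθb) hQ'r ψ' hψ'r
  have hXs := hX.symm hθ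
  have hπT₁ : ∀ t : T, π t ∈ T₁ := fun t => hE.2.2.1.le ⟨t, rfl⟩
  have hsq' : ∀ (t' : T') (h1 : π' t' ∈ θb.range) (h2 : invHom hθ ⟨t', hXs.le t'.2⟩ ∈ T),
      invHom hθb ⟨π' t', h1⟩ = π ⟨invHom hθ ⟨t', hXs.le t'.2⟩, h2⟩ := by
    intro t' h1 h2
    have hmem : θ ⟨((⟨invHom hθ ⟨t', hXs.le t'.2⟩, h2⟩ : T) : Ω), hX.le h2⟩ ∈ T' := by
      have := map_invHom hθ ⟨t', hXs.le t'.2⟩
      rw [show θ ⟨((⟨invHom hθ ⟨t', hXs.le t'.2⟩, h2⟩ : T) : Ω), hX.le h2⟩ =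
        θ ⟨invHom hθ ⟨t', hXs.le t'.2⟩, invHom_mem hθ _⟩ from rfl, this]
      exact t'.2
    have e := hsq ⟨invHom hθ ⟨t', hXs.le t'.2⟩, h2⟩ (hT₁S₁ (hπT₁ _)) hmem
    refine invHom_eq hθb ⟨π' t', h1⟩ ⟨π ⟨invHom hθ ⟨t', hXs.le t'.2⟩, h2⟩, hT₁S₁ (hπT₁ _)⟩ ?_
    rw [e]
    show π' _ = π' t'
    congr 1
    exact Subtype.ext (map_invHom hθ ⟨t', hXs.le t'.2⟩)
  have hT₁eq : T₁ = imageAlong (invHom hθb) T₁' := by
    rw [hT₁', imageAlong_invHom_imageAlong hθb hT₁S₁]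
  have hψ := factor_push (invHom_injective hθ) hXs hE' hE (invHom_injective hθb) hsq' hT₁'r hT₁eq
    hψ' rinv
  exact ⟨_, ψ, hψ, Rel.of_symm hθb rinv⟩

end Cfsg.Agent.Helper16.FusTr
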