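import Mathlib
import Cfsg.Prelude.Def_FusionComponents
import Cfsg.Agent.Lib.Helper16.FusTr11

set_option autoImplicit false

/-!
Transport of quasisimplicity and of components along a correspondence.
-/

namespace Cfsg.Agent.Helper16.FusTr

open Cfsg Cfsg.FusionSystem Cfsg.Agent.Helper25

variable {Ω : Type*} [Group Ω] {S : Subgroup Ω} {Ω' : Type*} [Group Ω']

/-- Quasisimplicity is transported. -/
theorem Corr.quasisimple {θ : S →* Ω'} (hθ : Function.Injective θ) {T : Subgroup Ω} [Finite T]
    {p : ℕ} [Fact p.Prime] (hT : IsPGroup p T) {X : FusionSystem T} {T' : Subgroup Ω'}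
    {X' : FusionSystem T'} (hX : Corr θ X X') (h : X.Quasisimple p) : X'.Quasisimple p := by
  obtain ⟨hsat, hhyp, hfac⟩ := h
  refine ⟨hX.isSaturated hθ hT hsat, ?_, fun E' hE' => ?_⟩
  · apply le_antisymm (hyperfocalSubgroup_le X' p)
    have := hX.hyperfocal_le hθ p
    rw [hhyp, ← hX.img] at this
    exact this
  · have hZc : X.IsCentral X.center := isCentral_center X
    obtain ⟨E, hE⟩ := exists_factorSystem X X.center (stronglyClosed_of_isCentral hZc)
      (QuotientGroup.mk' ((X.center).subgroupOf T))
      (fun s => by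
        rw [QuotientGroup.mk'_apply, QuotientGroup.eq_one_iff, Subgroup.mem_subgroupOf])
      ⊤ (MonoidHom.range_eq_top.mpr (QuotientGroup.mk'_surjective _))
    have hEs := hfac E hE
    have hcen : X'.center = imageAlong θ X.center := hX.center_eq hθ
    have hθT' : ∀ t : T, θ ⟨t, hX.le t.2⟩ ∈ T' := fun t =>
      hX.img.ge (map_mem_imageAlong θ _ t.2)
    let θT : T →* T' := (θ.comp (Subgroup.inclusion hX.le)).codRestrict T' hθT'
    have hN : (X.center).subgroupOf T ≤ ((X'.center).subgroupOf T').comap θT := by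
      intro t ht
      rw [Subgroup.mem_comap, Subgroup.mem_subgroupOf, hcen]
      exact map_mem_imageAlong θ _ (Subgroup.mem_subgroupOf.mp ht)
    let θq : T ⧸ (X.center).subgroupOf T →* T' ⧸ (X'.center).subgroupOf T' :=
      QuotientGroup.map _ _ θT hN
    have hθq_inj : Function.Injective θq := by
      rw [injective_iff_map_eq_one]
      intro y
      induction y using QuotientGroup.induction_on with
      | H t =>
        intro hy
        rw [QuotientGroup.map_mk, QuotientGroup.eq_one_iff, Subgroup.mem_subgroupOf] at hy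
        rw [QuotientGroup.eq_one_iff, Subgroup.mem_subgroupOf]
        have hy' : θ ⟨t, hX.le t.2⟩ ∈ imageAlong θ X.center := hcen ▸ hy
        exact mem_of_map_mem_imageAlong hθ _ hy'
    have hθq_surj : Function.Surjective θq := by
      intro y
      induction y using QuotientGroup.induction_on with
      | H t' =>
        have ht' : (t' : Ω') ∈ imageAlong θ T := hX.img ▸ t'.2
        obtain ⟨s, hs, hss⟩ := mem_imageAlong.mp ht'
        refine ⟨QuotientGroup.mk ⟨s, hs⟩, ?_⟩
        rw [QuotientGroup.map_mk]
        congr 1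
        exact Subtype.ext hss
    let θb : (⊤ : Subgroup (T ⧸ (X.center).subgroupOf T)) →* T' ⧸ (X'.center).subgroupOf T' :=
      θq.comp (⊤ : Subgroup (T ⧸ (X.center).subgroupOf T)).subtype
    have hθb_inj : Function.Injective θb := hθq_inj.comp Subtype.val_injective
    have hsq : ∀ (t : T) (h1 : QuotientGroup.mk' ((X.center).subgroupOf T) t ∈
        (⊤ : Subgroup (T ⧸ (X.center).subgroupOf T))) (h2 : θ ⟨t, hX.le t.2⟩ ∈ T'),
        θb ⟨QuotientGroup.mk' ((X.center).subgroupOf T) t, h1⟩ =
          QuotientGroup.mk' ((X'.center).subgroupOf T') ⟨θ ⟨t, hX.le t.2⟩, h2⟩ := by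
      intro t h1 h2
      rfl
    have hT₁' : (⊤ : Subgroup (T' ⧸ (X'.center).subgroupOf T')) = imageAlong θb ⊤ := by
      ext y
      simp only [Subgroup.mem_top, true_iff]
      obtain ⟨x, rfl⟩ := hθq_surj y
      exact mem_imageAlong.mpr ⟨⟨x, Subgroup.mem_top x⟩, Subgroup.mem_top x, rfl⟩
    have hc : Corr θb E E' := factor_corr hθ hX hE hE' hθb_inj hsq le_rfl hT₁'
    have hfin : Finite (⊤ : Subgroup (T ⧸ (X.center).subgroupOf T)) := inferInstance
    have hp : IsPGroup p (⊤ : Subgroup (T ⧸ (X.center).subgroupOf T)) :=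
      (hT.to_quotient _).of_injective (⊤ : Subgroup (T ⧸ (X.center).subgroupOf T)).subtype
        Subtype.val_injective
    exact hc.isSimple hθb_inj hp hEs

/-- Components are transported: if `θ` (defined on the group of `F`) carries `F` to `F'` and `C` to
`C'`, then `C'` is a component of `F'`. -/
theorem Corr.isComponentIn {θ : S →* Ω'} (hθ : Function.Injective θ) {T U : Subgroup Ω}
    [Finite U] {p : ℕ} [Fact p.Prime] (hU : IsPGroup p U)
    {C : FusionSystem T} {Y : FusionSystem U} {T' U' : Subgroup Ω'} {C' : FusionSystem T'}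
    {Y' : FusionSystem U'} (hC : Corr θ C C') (hY : Corr θ Y Y')
    (h : C.IsComponentIn Y p) : C'.IsComponentIn Y' p := by
  have hTU : T ≤ U := isSubnormalIn_le h.1
  have hfinT : Finite T :=
    Finite.of_injective (Subgroup.inclusion hTU) (Subgroup.inclusion_injective _)
  have hT : IsPGroup p T :=
    hU.of_injective (Subgroup.inclusion hTU) (Subgroup.inclusion_injective _)
  exact ⟨hC.isSubnormalIn hθ hU hY h.1, hC.quasisimple hθ hT h.2⟩

end Cfsg.Agent.Helper16.FusTr
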