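import Mathlib
import Cfsg.Prelude.Def_FusionComponents
import Cfsg.Agent.Lib.Helper16.FusTr12

set_option autoImplicit false

/-!
Automorphisms of a fusion system, and the layer is characteristic.
-/

namespace Cfsg.Agent.Helper16.FusTr

open Cfsg Cfsg.FusionSystem Cfsg.Agent.Helper25

variable {Ω : Type*} [Group Ω] {S : Subgroup Ω}

theorem imageAlong_autHom_le (α : MulAut S) (P : Subgroup Ω) : imageAlong (autHom α) P ≤ S := by
  intro y hy
  obtain ⟨s, -, rfl⟩ := mem_imageAlong.mp hy
  exact autHom_mem α s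

theorem imageAlong_autHom_self (α : MulAut S) : imageAlong (autHom α) S = S := by
  apply le_antisymm (imageAlong_autHom_le α S)
  intro y hy
  rw [mem_imageAlong]
  exact ⟨α.symm ⟨y, hy⟩, (α.symm ⟨y, hy⟩).2, by rw [autHom_apply]; simp⟩

/-- If `X'` is the image of `X` under `α`, then `X` is the image of `X'` under `α⁻¹`. -/
theorem corr_aut_symm (α : MulAut S) {T T' : Subgroup Ω} {X : FusionSystem T}
    {X' : FusionSystem T'} (h : Corr (autHom α) X X') : Corr (autHom α⁻¹) X' X := by
  refine ⟨?_, ?_, ?_, ?_⟩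
  · rw [h.img]; exact imageAlong_autHom_le α T
  · rw [h.img, imageAlong_autHom_inv α h.le]
  · intro P' φ' hφ' P φ r
    obtain ⟨P₀, φ₀, hφ₀, r₀⟩ := h.pull hφ'
    have r₁ := rel_aut_symm α r₀
    have hP : P = P₀ := r.1.trans r₁.1.symm
    subst hP
    rw [r.unique r₁]
    exact hφ₀
  · intro P φ hφ
    have hPS : P ≤ S := (X.le_of_mem hφ).1.trans h.le
    have hφS : ∀ x : P, φ x ∈ S := fun x => h.le ((X.le_of_mem hφ).2 x)
    obtain ⟨φ', r⟩ := exists_rel (autHom_injective α) hPS φ hφS
    exact ⟨_, φ', h.push hφ r, rel_aut_symm α r⟩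

/-- An automorphism `α` of `S` such that `α` and `α⁻¹` are morphisms of `F` carries `F` to `F`. -/
theorem corr_of_isMorphism {F : FusionSystem S} (α : MulAut S)
    (h : F.IsMorphism F (autHom α)) (h' : F.IsMorphism F (autHom α⁻¹)) :
    Corr (autHom α) F F := by
  have key : ∀ {β : MulAut S}, F.IsMorphism F (autHom β) → ∀ {P : Subgroup Ω} {φ : P →* Ω},
      φ ∈ F.Hom P → ∀ {P' : Subgroup Ω} {φ' : P' →* Ω}, Rel (autHom β) φ φ' → φ' ∈ F.Hom P' := by
    intro β hβ P φ hφ P' φ' r
    obtain ⟨φ'', hφ'', hind⟩ := hβ.2 P φ hφ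
    have hP' : P' = imageAlong (autHom β) P := r.1
    subst hP'
    have r' : Rel (autHom β) φ φ'' := ⟨rfl, hind⟩
    rw [r.unique r']
    exact hφ''
  refine ⟨le_rfl, (imageAlong_autHom_self α).symm, fun hφ _ _ r => key h hφ r,
    fun {P' φ'} hφ' => ?_⟩
  have hP'S : P' ≤ S := (F.le_of_mem hφ').1
  have hφ'S : ∀ x : P', φ' x ∈ S := (F.le_of_mem hφ').2
  obtain ⟨φ, r⟩ := exists_rel (autHom_injective α⁻¹) hP'S φ' hφ'S
  have hφ := key h' hφ' r
  have r' := rel_aut_symm α⁻¹ r
  rw [inv_inv] at r'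
  exact ⟨_, φ, hφ, r'⟩

theorem isSubsystemOf_le {T U : Subgroup Ω} {X : FusionSystem T} {Y : FusionSystem U}
    (h : X.IsSubsystemOf Y) : T ≤ U := by
  have h1 : T.subtype ∈ X.Hom T := subtype_mem X le_rfl
  exact (Y.le_of_mem (h T h1)).1

/-- The image of a layer of `F` under an automorphism of `F` is a layer of `F`. -/
theorem isLayerOf_image [Finite S] {p : ℕ} [Fact p.Prime] (hS : IsPGroup p S)
    {F : FusionSystem S} (α : MulAut S) (hFF : Corr (autHom α) F F)
    {T T' : Subgroup Ω} {E : FusionSystem T} {E' : FusionSystem T'}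
    (hEE' : Corr (autHom α) E E') (hE : E.IsLayerOf F p) : E'.IsLayerOf F p := by
  have hα := autHom_injective α
  have hαi := autHom_injective α⁻¹
  have hFFi : Corr (autHom α⁻¹) F F := corr_aut_symm α hFF
  obtain ⟨hn, hc, hmin⟩ := hE
  refine ⟨hEE'.isNormalIn hα hS hFF hn, fun U C hC => ?_, fun R D hD hDc => ?_⟩
  · have hUS : U ≤ S := isSubnormalIn_le hC.1
    have hfinU : Finite U :=
      Finite.of_injective (Subgroup.inclusion hUS) (Subgroup.inclusion_injective _)
    obtain ⟨C'', hCC''⟩ := exists_corr hαi hUS C (rfl : imageAlong (autHom α⁻¹) U = _)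
    have hC'' : C''.IsComponentIn F p := hCC''.isComponentIn hαi hS hFFi hC
    have hsub : C''.IsSubsystemOf E := hc _ C'' hC''
    have hback : Corr (autHom α) C'' C := by
      have := corr_aut_symm α⁻¹ hCC''
      rwa [inv_inv] at this
    exact hback.isSubsystemOf hEE' hsub
  · have hRS : R ≤ S := hD.1.2.2.2.1.1
    have hfinR : Finite R :=
      Finite.of_injective (Subgroup.inclusion hRS) (Subgroup.inclusion_injective _)
    obtain ⟨D'', hDD''⟩ := exists_corr hαi hRS D (rfl : imageAlong (autHom α⁻¹) R = _)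
    have hD'' : D''.IsNormalIn F p := hDD''.isNormalIn hαi hS hFFi hD
    have hback : Corr (autHom α) D'' D := by
      have := corr_aut_symm α⁻¹ hDD''
      rwa [inv_inv] at this
    have hD''c : ∀ (U : Subgroup Ω) (C : FusionSystem U), C.IsComponentIn F p →
        C.IsSubsystemOf D'' := by
      intro U C hC
      have hUS : U ≤ S := isSubnormalIn_le hC.1
      have hfinU : Finite U :=
        Finite.of_injective (Subgroup.inclusion hUS) (Subgroup.inclusion_injective _)
      obtain ⟨C', hCC'⟩ := exists_corr hα hUS C (rfl : imageAlong (autHom α) U = _)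
      have hC' : C'.IsComponentIn F p := hCC'.isComponentIn hα hS hFF hC
      have hsub : C'.IsSubsystemOf D := hDc _ C' hC'
      exact (corr_aut_symm α hCC').isSubsystemOf hDD'' hsub
    have hsub : E.IsSubsystemOf D'' := hmin _ D'' hD'' hD''c
    exact hEE'.isSubsystemOf hback hsub

/-- The layer is characteristic. -/
theorem layer_char [Finite S] {p : ℕ} [Fact p.Prime] (hS : IsPGroup p S)
    {F : FusionSystem S} (α : MulAut S) (hFF : Corr (autHom α) F F)
    {T : Subgroup Ω} {E : FusionSystem T} (hE : E.IsLayerOf F p) :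
    Corr (autHom α) E E := by
  have hα := autHom_injective α
  have hTS : T ≤ S := hE.1.1.2.2.2.1.1
  have hfinT : Finite T :=
    Finite.of_injective (Subgroup.inclusion hTS) (Subgroup.inclusion_injective _)
  obtain ⟨E', hEE'⟩ := exists_corr hα hTS E (rfl : imageAlong (autHom α) T = _)
  have hE' : E'.IsLayerOf F p := isLayerOf_image hS α hFF hEE' hE
  have h1 : E.IsSubsystemOf E' := hE.2.2 _ E' hE'.1 hE'.2.1
  have h2 : E'.IsSubsystemOf E := hE'.2.2 _ E hE.1 hE.2.1
  have hT : imageAlong (autHom α) T = T :=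
    le_antisymm (isSubsystemOf_le h2) (isSubsystemOf_le h1)
  refine ⟨hTS, hT.symm, fun hφ _ _ r => h2 _ (hEE'.push hφ r), fun {P' φ'} hφ' => ?_⟩
  exact hEE'.pull (h1 _ hφ')

end Cfsg.Agent.Helper16.FusTr
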