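import Mathlib

set_option autoImplicit false
set_option linter.style.haveILetI false
set_option linter.unusedSectionVars false

namespace Cfsg.Agent.Helper16.SpFix

open Matrix

/-- brute force over the field with five elements -/
theorem zmod5_key : ∀ a b c d : ZMod 5, a * d - b * c = 1 →
    (a * a + b * c) * a + (a * b + b * d) * c = 1 →
    (a * a + b * c) * b + (a * b + b * d) * d = 0 →
    (c * a + d * c) * a + (c * b + d * d) * c = 0 →
    (c * a + d * c) * b + (c * b + d * d) * d = 1 →
    (a = 1 → b = 0 → c = 0 → d = 1 → False) →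
    ∃ p q r : ZMod 5, p * (a - d) + q * c + r * b = 0 ∧ -(p * p) - q * r = 1 := by
  decide

theorem field5_key {K : Type*} [Field K] [Fintype K] (hK : Fintype.card K = 5)
    (a b c d : K) (h1 : a * d - b * c = 1)
    (h2 : (a * a + b * c) * a + (a * b + b * d) * c = 1)
    (h3 : (a * a + b * c) * b + (a * b + b * d) * d = 0)
    (h4 : (c * a + d * c) * a + (c * b + d * d) * c = 0)
    (h5 : (c * a + d * c) * b + (c * b + d * d) * d = 1)
    (h6 : a = 1 → b = 0 → c = 0 → d = 1 → False) :
    ∃ p q r : K, p * (a - d) + q * c + r * b = 0 ∧ -(p * p) - q * r = 1 := by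
  have e : ZMod 5 ≃+* K := ZMod.ringEquivOfPrime K (by norm_num) hK
  have key := zmod5_key (e.symm a) (e.symm b) (e.symm c) (e.symm d)
    (by rw [← map_mul, ← map_mul, ← map_sub, h1, map_one])
    (by simp only [← map_mul, ← map_add]; rw [h2, map_one])
    (by simp only [← map_mul, ← map_add]; rw [h3, map_zero])
    (by simp only [← map_mul, ← map_add]; rw [h4, map_zero])
    (by simp only [← map_mul, ← map_add]; rw [h5, map_one])
    (by
      intro ha hb hc hd
      apply h6
      · have := congrArg e ha; simpa using this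
      · have := congrArg e hb; simpa using this
      · have := congrArg e hc; simpa using this
      · have := congrArg e hd; simpa using this)
  obtain ⟨p, q, r, hpq, hdet⟩ := key
  refine ⟨e p, e q, e r, ?_, ?_⟩
  · have := congrArg e hpq
    simpa using this
  · have := congrArg e hdet
    simpa using this

/-- the entries of the cube of a two by two matrix -/
theorem cube_fin_two {R : Type*} [CommRing R] (a b c d : R) :
    (!![a, b; c, d] : Matrix (Fin 2) (Fin 2) R) ^ 3 =
      !![(a * a + b * c) * a + (a * b + b * d) * c, (a * a + b * c) * b + (a * b + b * d) * d;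
         (c * a + d * c) * a + (c * b + d * d) * c, (c * a + d * c) * b + (c * b + d * d) * d] := by
  rw [pow_succ, pow_two, Matrix.mul_fin_two, Matrix.mul_fin_two]

/-- an element of order three of `SL₂` over the field with five elements is inverted by an
element whose square is the central involution -/
theorem exists_inverting {K : Type*} [Field K] [Fintype K] (hK : Fintype.card K = 5)
    (x : Matrix.SpecialLinearGroup (Fin 2) K) (hx : orderOf x = 3) :
    ∃ y : Matrix.SpecialLinearGroup (Fin 2) K,
      x * y * x = y ∧ (y * y : Matrix.SpecialLinearGroup (Fin 2) K).1 = -1 := by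
  have hx3 : x ^ 3 = 1 := by rw [← hx]; exact pow_orderOf_eq_one x
  have hx1 : x ≠ 1 := by
    intro h
    rw [h, orderOf_one] at hx
    norm_num at hx
  set a := x.1 0 0 with ha
  set b := x.1 0 1 with hb
  set c := x.1 1 0 with hc
  set d := x.1 1 1 with hd
  have hxm : x.1 = !![a, b; c, d] := Matrix.eta_fin_two x.1
  have hdet : a * d - b * c = 1 := by
    have := x.2
    rw [Matrix.det_fin_two] at this
    exact this
  have hcube : (x.1) ^ 3 = 1 := by
    have := congrArg Subtype.val hx3
    simpa using this
  rw [hxm, cube_fin_two] at hcube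
  have h2 : (a * a + b * c) * a + (a * b + b * d) * c = 1 := by
    have := congrFun (congrFun hcube 0) 0
    simpa using this
  have h3 : (a * a + b * c) * b + (a * b + b * d) * d = 0 := by
    have := congrFun (congrFun hcube 0) 1
    simpa using this
  have h4 : (c * a + d * c) * a + (c * b + d * d) * c = 0 := by
    have := congrFun (congrFun hcube 1) 0
    simpa using this
  have h5 : (c * a + d * c) * b + (c * b + d * d) * d = 1 := by
    have := congrFun (congrFun hcube 1) 1
    simpa using this
  have h6 : a = 1 → b = 0 → c = 0 → d = 1 → False := by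
    intro h1 h2 h3 h4
    apply hx1
    apply Subtype.ext
    rw [hxm, h1, h2, h3, h4]
    simp [Matrix.one_fin_two]
  obtain ⟨p, q, r, hpq, hpdet⟩ := field5_key hK a b c d hdet h2 h3 h4 h5 h6
  have hydet : (!![p, q; r, -p] : Matrix (Fin 2) (Fin 2) K).det = 1 := by
    rw [Matrix.det_fin_two_of]
    linear_combination hpdet
  have hxyx : x.1 * !![p, q; r, -p] * x.1 = !![p, q; r, -p] := by
    rw [hxm, Matrix.mul_fin_two, Matrix.mul_fin_two]
    have e1 : (a * p + b * r) * a + (a * q + b * -p) * c = p := by
      linear_combination p * hdet + a * hpq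
    have e2 : (a * p + b * r) * b + (a * q + b * -p) * d = q := by
      linear_combination q * hdet + b * hpq
    have e3 : (c * p + d * r) * a + (c * q + d * -p) * c = r := by
      linear_combination r * hdet + c * hpq
    have e4 : (c * p + d * r) * b + (c * q + d * -p) * d = -p := by
      linear_combination (-p) * hdet + d * hpq
    rw [e1, e2, e3, e4]
  have hyy : (!![p, q; r, -p] : Matrix (Fin 2) (Fin 2) K) * !![p, q; r, -p] = -1 := by
    rw [Matrix.mul_fin_two]
    have e1 : p * p + q * r = -1 := by linear_combination (-1 : K) * hpdet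
    have e2 : p * q + q * -p = 0 := by ring
    have e3 : r * p + -p * r = 0 := by ring
    have e4 : r * q + -p * -p = -1 := by linear_combination (-1 : K) * hpdet
    rw [e1, e2, e3, e4]
    ext i j
    fin_cases i <;> fin_cases j <;> simp
  refine ⟨⟨!![p, q; r, -p], hydet⟩, ?_, ?_⟩
  · apply Subtype.ext
    exact hxyx
  · exact hyy

/-- the standard transvection -/
def tv (R : Type*) [CommRing R] : Matrix.SpecialLinearGroup (Fin 2) R :=
  ⟨!![1, 1; 0, 1], by rw [Matrix.det_fin_two_of]; ring⟩

/-- the Weyl element -/
def wy (R : Type*) [CommRing R] : Matrix.SpecialLinearGroup (Fin 2) R :=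
  ⟨!![0, 1; -1, 0], by rw [Matrix.det_fin_two_of]; ring⟩

theorem tv_val {R : Type*} [CommRing R] : (tv R).1 = !![1, 1; 0, 1] := rfl

theorem wy_val {R : Type*} [CommRing R] : (wy R).1 = !![0, 1; -1, 0] := rfl

theorem wy_inv_val {R : Type*} [CommRing R] : ((wy R)⁻¹).1 = !![0, -1; 1, 0] := by
  rw [Matrix.SpecialLinearGroup.coe_inv, wy_val, Matrix.adjugate_fin_two_of]
  simp

theorem tv_conj_eq {R : Type*} [CommRing R] :
    tv R * (wy R * tv R * (wy R)⁻¹) * tv R = wy R := by
  apply Subtype.ext
  show (tv R).1 * ((wy R).1 * (tv R).1 * ((wy R)⁻¹).1) * (tv R).1 = (wy R).1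
  rw [wy_inv_val, tv_val, wy_val, Matrix.mul_fin_two, Matrix.mul_fin_two, Matrix.mul_fin_two,
    Matrix.mul_fin_two]
  ext i j
  fin_cases i <;> fin_cases j <;> simp

theorem wy_sq {R : Type*} [CommRing R] : (wy R * wy R).1 = -1 := by
  show (wy R).1 * (wy R).1 = -1
  rw [wy_val, Matrix.mul_fin_two]
  ext i j
  fin_cases i <;> fin_cases j <;> simp

/-- a normal subgroup of `SL₂` containing the standard transvection contains the central
involution -/
theorem neg_one_mem_of_normal {R : Type*} [CommRing R]
    (N : Subgroup (Matrix.SpecialLinearGroup (Fin 2) R)) [hN : N.Normal] (hg : tv R ∈ N)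
    (z : Matrix.SpecialLinearGroup (Fin 2) R) (hz : z.1 = -1) : z ∈ N := by
  have h1 : wy R * tv R * (wy R)⁻¹ ∈ N := hN.conj_mem _ hg _
  have h2 : wy R ∈ N := by
    rw [← tv_conj_eq]
    exact N.mul_mem (N.mul_mem hg h1) hg
  have h3 : z = wy R * wy R := by
    apply Subtype.ext
    rw [hz, wy_sq]
  rw [h3]
  exact N.mul_mem h2 h2

theorem tv_pow_five {K : Type*} [Field K] [Fintype K] (hK : Fintype.card K = 5) :
    tv K ^ 5 = 1 := by
  have h5 : (5 : K) = 0 := by
    have := Nat.cast_card_eq_zero K
    rw [hK] at this
    exact_mod_cast this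
  apply Subtype.ext
  show (tv K).1 ^ 5 = 1
  rw [tv_val, pow_succ, pow_succ, pow_succ, pow_succ, pow_one, Matrix.mul_fin_two,
    Matrix.mul_fin_two, Matrix.mul_fin_two, Matrix.mul_fin_two]
  ext i j
  fin_cases i <;> fin_cases j <;> simp
  linear_combination h5

end Cfsg.Agent.Helper16.SpFix
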