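import Mathlib
import Cfsg.Agent.Lib.Helper16.SpFixA

set_option autoImplicit false
set_option linter.style.haveILetI false
set_option linter.unusedSectionVars false

namespace Cfsg.Agent.Helper16.Gl52

open Matrix

section eight

variable {F : Type*} [Field F] [Fintype F]

theorem two_eq_zero_of_card (hF : Fintype.card F = 8) : (2 : F) = 0 := by
  have h8 : (8 : F) = 0 := by
    have := Nat.cast_card_eq_zero F
    rw [hF] at this
    exact_mod_cast this
  have : (2 : F) ^ 3 = 0 := by
    rw [← h8]; norm_num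
  exact pow_eq_zero_iff (by norm_num) |>.mp this

theorem exists_root (hF : Fintype.card F = 8) : ∃ a : F, a ^ 3 + a + 1 = 0 := by
  classical
  have h2 := two_eq_zero_of_card hF
  obtain ⟨b, hb⟩ : ∃ b : F, b ∉ ({0, 1} : Finset F) := by
    by_contra hcon
    push Not at hcon
    have : (Finset.univ : Finset F) ⊆ {0, 1} := fun x _ => hcon x
    have h1 := Finset.card_le_card this
    rw [Finset.card_univ, hF] at h1
    have h3 : ({0, 1} : Finset F).card ≤ 2 := Finset.card_le_two
    omega
  rw [Finset.mem_insert, Finset.mem_singleton, not_or] at hb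
  obtain ⟨hb0, hb1⟩ := hb
  have hb7 : b ^ 7 = 1 := by
    have := FiniteField.pow_card_sub_one_eq_one b hb0
    rwa [hF] at this
  have hprod : (b - 1) * ((b ^ 3 + b + 1) * (b ^ 3 + b ^ 2 + 1)) = 0 := by
    linear_combination hb7 + (b ^ 4 - b ^ 3) * h2
  rcases mul_eq_zero.mp hprod with h | h
  · exact absurd (sub_eq_zero.mp h) hb1
  rcases mul_eq_zero.mp h with h | h
  · exact ⟨b, h⟩
  · refine ⟨b⁻¹, ?_⟩
    have hb3 : b ^ 3 ≠ 0 := pow_ne_zero _ hb0
    field_simp
    linear_combination h

/-- trace formula for the cube of a matrix of determinant one -/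
theorem cube_of_det_one {R : Type*} [CommRing R] (p q r s : R) (hdet : p * s - q * r = 1) :
    (!![p, q; r, s] : Matrix (Fin 2) (Fin 2) R) ^ 3 =
      !![((p + s) ^ 2 - 1) * p - (p + s), ((p + s) ^ 2 - 1) * q;
         ((p + s) ^ 2 - 1) * r, ((p + s) ^ 2 - 1) * s - (p + s)] := by
  rw [Cfsg.Agent.Helper16.SpFix.cube_fin_two]
  have e1 : (p * p + q * r) * p + (p * q + q * s) * r = ((p + s) ^ 2 - 1) * p - (p + s) := by
    linear_combination (-(2 * p + s)) * hdet
  have e2 : (p * p + q * r) * q + (p * q + q * s) * s = ((p + s) ^ 2 - 1) * q := by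
    linear_combination (-q) * hdet
  have e3 : (r * p + s * r) * p + (r * q + s * s) * r = ((p + s) ^ 2 - 1) * r := by
    linear_combination (-r) * hdet
  have e4 : (r * p + s * r) * q + (r * q + s * s) * s = ((p + s) ^ 2 - 1) * s - (p + s) := by
    linear_combination (-(p + 2 * s)) * hdet
  rw [e1, e2, e3, e4]

/-- `SL₂` over the field with eight elements has an element of order nine that stays of order
nine modulo the centre -/
theorem exists_order_nine (hF : Fintype.card F = 8) :
    ∃ x : Matrix.SpecialLinearGroup (Fin 2) F, x ^ 9 = 1 ∧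
      x ^ 3 ∉ Subgroup.center (Matrix.SpecialLinearGroup (Fin 2) F) := by
  have h2 := two_eq_zero_of_card hF
  obtain ⟨a, ha⟩ := exists_root hF
  have hdet : (!![0, 1; 1, a] : Matrix (Fin 2) (Fin 2) F).det = 1 := by
    rw [Matrix.det_fin_two_of]
    linear_combination (-1 : F) * h2
  have hx3 : (!![0, 1; 1, a] : Matrix (Fin 2) (Fin 2) F) ^ 3 = !![a, 1 + a ^ 2; 1 + a ^ 2, a ^ 3] := by
    rw [cube_of_det_one 0 1 1 a (by linear_combination (-1 : F) * h2)]
    have e1 : ((0 + a) ^ 2 - 1) * 0 - (0 + a) = a := by linear_combination (-a) * h2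
    have e2 : ((0 + a) ^ 2 - 1) * 1 = 1 + a ^ 2 := by linear_combination (-1 : F) * h2
    have e4 : ((0 + a) ^ 2 - 1) * a - (0 + a) = a ^ 3 := by linear_combination (-a) * h2
    rw [e1, e2, e4]
  have hx9 : (!![0, 1; 1, a] : Matrix (Fin 2) (Fin 2) F) ^ 9 = 1 := by
    rw [show 9 = 3 * 3 from rfl, pow_mul, hx3,
      cube_of_det_one a (1 + a ^ 2) (1 + a ^ 2) (a ^ 3)
        (by linear_combination (-(1 + a ^ 2)) * h2)]
    have ht : a + a ^ 3 = 1 := by linear_combination ha - h2
    rw [ht]
    ext i j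
    fin_cases i <;> fin_cases j <;> simp
    · linear_combination (-1 : F) * h2
    · linear_combination (-1 : F) * h2
  let x : Matrix.SpecialLinearGroup (Fin 2) F := ⟨!![0, 1; 1, a], hdet⟩
  have hxv : x.1 = !![0, 1; 1, a] := rfl
  refine ⟨x, ?_, ?_⟩
  · apply Subtype.ext
    rw [Matrix.SpecialLinearGroup.coe_pow, hxv]
    exact hx9
  · intro hc
    rw [Matrix.SpecialLinearGroup.mem_center_iff] at hc
    obtain ⟨r, -, hr⟩ := hc
    have hval : (x ^ 3).1 = !![a, 1 + a ^ 2; 1 + a ^ 2, a ^ 3] := by
      rw [Matrix.SpecialLinearGroup.coe_pow, hxv]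
      exact hx3
    rw [hval] at hr
    have h01 := congrFun (congrFun hr 0) 1
    simp at h01
    -- `1 + a ^ 2 = 0` forces `a = 1`
    have ha1 : (a - 1) ^ 2 = 0 := by linear_combination (-1 : F) * h01 - a * h2
    have ha1' : a = 1 := by
      have := pow_eq_zero_iff (two_ne_zero) |>.mp ha1
      exact sub_eq_zero.mp this
    rw [ha1'] at ha
    have : (1 : F) = 0 := by linear_combination ha - h2
    exact one_ne_zero this

end eight

end Cfsg.Agent.Helper16.Gl52
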