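import Mathlib

set_option autoImplicit false
set_option linter.style.haveILetI false
set_option linter.unusedSectionVars false

namespace Cfsg.Agent.Helper16.Gl52

open Matrix

/-- first block element of order three -/
def m1 : Matrix (Fin 5) (Fin 5) (ZMod 2) :=
  !![0, 1, 0, 0, 0; 1, 1, 0, 0, 0; 0, 0, 1, 0, 0; 0, 0, 0, 1, 0; 0, 0, 0, 0, 1]

/-- second block element of order three -/
def m2 : Matrix (Fin 5) (Fin 5) (ZMod 2) :=
  !![1, 0, 0, 0, 0; 0, 1, 0, 0, 0; 0, 0, 0, 1, 0; 0, 0, 1, 1, 0; 0, 0, 0, 0, 1]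

theorem m1_cube : m1 * (m1 * m1) = 1 := by decide
theorem m1_cube' : (m1 * m1) * m1 = 1 := by decide
theorem m2_cube : m2 * (m2 * m2) = 1 := by decide
theorem m2_cube' : (m2 * m2) * m2 = 1 := by decide
theorem m1_m2_comm : m1 * m2 = m2 * m1 := by decide
theorem m1_ne_one : m1 ≠ 1 := by decide
theorem m1_sq_ne_one : m1 * m1 ≠ 1 := by decide
theorem m2_ne_one : m2 ≠ 1 := by decide
theorem m2_ne_m1 : m2 ≠ m1 := by decide
theorem m2_ne_m1_sq : m2 ≠ m1 * m1 := by decide

/-- the two block elements as units -/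
def g1 : GL (Fin 5) (ZMod 2) := ⟨m1, m1 * m1, m1_cube, m1_cube'⟩

/-- the two block elements as units -/
def g2 : GL (Fin 5) (ZMod 2) := ⟨m2, m2 * m2, m2_cube, m2_cube'⟩

theorem g1_cube : g1 ^ 3 = 1 := by
  apply Units.ext
  show m1 ^ 3 = 1
  rw [pow_succ, pow_two]
  exact m1_cube'

theorem g2_cube : g2 ^ 3 = 1 := by
  apply Units.ext
  show m2 ^ 3 = 1
  rw [pow_succ, pow_two]
  exact m2_cube'

theorem g1_g2_comm : g1 * g2 = g2 * g1 := by
  apply Units.ext
  exact m1_m2_comm

theorem card_GL52 : Nat.card (GL (Fin 5) (ZMod 2)) = 9999360 := by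
  rw [Matrix.card_GL_field, ZMod.card, Fin.prod_univ_five]
  rfl

/-- the closure of two commuting elements of order dividing three is a `3`-group -/
theorem isPGroup_closure_pair {G : Type*} [Group G] (a b : G) (ha : a ^ 3 = 1) (hb : b ^ 3 = 1)
    (hab : a * b = b * a) : IsPGroup 3 (Subgroup.closure ({a, b} : Set G)) := by
  have hsub : ({a, b} : Set G) ⊆ Subgroup.centralizer ({a, b} : Set G) := by
    intro x hx
    rw [SetLike.mem_coe, Subgroup.mem_centralizer_iff]
    intro h hh
    rcases hx with rfl | rfl <;> rcases hh with rfl | rfl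
    · rfl
    · exact hab.symm
    · exact hab
    · rfl
  have hle : Subgroup.closure ({a, b} : Set G) ≤ Subgroup.centralizer ({a, b} : Set G) :=
    (Subgroup.closure_le _).mpr hsub
  have hcomm : ∀ x ∈ Subgroup.closure ({a, b} : Set G), ∀ y ∈ Subgroup.closure ({a, b} : Set G),
      x * y = y * x := by
    intro x hx y hy
    have h1 := Subgroup.closure_le_centralizer_centralizer ({a, b} : Set G) hx
    rw [Subgroup.mem_centralizer_iff] at h1
    exact (h1 y (hle hy)).symm
  have hexp : ∀ x ∈ Subgroup.closure ({a, b} : Set G), x ^ 3 = 1 := by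
    intro x hx
    induction hx using Subgroup.closure_induction with
    | mem x hx =>
      rcases hx with rfl | rfl
      · exact ha
      · exact hb
    | one => exact one_pow 3
    | mul x y hx hy ihx ihy =>
      have : Commute x y := hcomm x hx y hy
      rw [this.mul_pow, ihx, ihy, one_mul]
    | inv x hx ihx => rw [inv_pow, ihx, inv_one]
  intro ⟨x, hx⟩
  refine ⟨1, ?_⟩
  apply Subtype.ext
  rw [pow_one]
  exact hexp x hx

/-- `GL₅(2)` has no element of order nine -/
theorem no_order_nine (g : GL (Fin 5) (ZMod 2)) : orderOf g ≠ 9 := by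
  classical
  intro hg
  haveI : Fact (Nat.Prime 3) := ⟨by norm_num⟩
  have hcard : Nat.card (Subgroup.zpowers g) = 9 := by rw [Nat.card_zpowers, hg]
  have hP : IsPGroup 3 (Subgroup.zpowers g) := IsPGroup.of_card (n := 2) (by rw [hcard]; norm_num)
  obtain ⟨S, hS⟩ := hP.exists_le_sylow
  -- `S` has order nine
  have hScard : Nat.card S = 9 := by
    obtain ⟨k, hk⟩ := IsPGroup.iff_card.mp S.isPGroup'
    have hdvd : Nat.card S ∣ 9999360 := by
      rw [← card_GL52]
      exact Subgroup.card_subgroup_dvd_card _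
    have hle : 9 ≤ Nat.card S := by
      rw [← hcard]
      exact Subgroup.card_le_of_le hS
    have hk2 : k ≤ 2 := by
      by_contra hk3
      push Not at hk3
      have : 3 ^ 3 ∣ 3 ^ k := pow_dvd_pow 3 hk3
      rw [← hk] at this
      have := this.trans hdvd
      norm_num at this
    rw [hk] at hle ⊢
    interval_cases k <;> simp_all
  have hSeq : Subgroup.zpowers g = S := by
    apply Subgroup.eq_of_le_of_card_ge hS
    rw [hScard, hcard]
  -- the noncyclic subgroup
  obtain ⟨Q, hQ⟩ := (isPGroup_closure_pair g1 g2 g1_cube g2_cube g1_g2_comm).exists_le_sylow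
  obtain ⟨c, hc⟩ := MulAction.exists_smul_eq (GL (Fin 5) (ZMod 2)) S Q
  haveI hcyc : IsCyclic (S : Subgroup (GL (Fin 5) (ZMod 2))) := by
    rw [← hSeq]
    infer_instance
  -- conjugate back into `S`
  have hmem : ∀ x ∈ Subgroup.closure ({g1, g2} : Set (GL (Fin 5) (ZMod 2))),
      c⁻¹ * x * c ∈ (S : Subgroup (GL (Fin 5) (ZMod 2))) := by
    intro x hx
    have hxQ : x ∈ ((c • S : Sylow 3 (GL (Fin 5) (ZMod 2))) : Subgroup (GL (Fin 5) (ZMod 2))) := by
      rw [hc]; exact hQ hx
    rw [Sylow.coe_subgroup_smul, Subgroup.mem_pointwise_smul_iff_inv_smul_mem] at hxQ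
    simpa [MulAut.smul_def, MulAut.conj_apply] using hxQ
  haveI : Fintype (S : Subgroup (GL (Fin 5) (ZMod 2))) := Fintype.ofFinite _
  have hin : ∀ (x : GL (Fin 5) (ZMod 2))
      (hx : x ∈ Subgroup.closure ({g1, g2} : Set (GL (Fin 5) (ZMod 2)))), x ^ 3 = 1 →
      (⟨c⁻¹ * x * c, hmem x hx⟩ : (S : Subgroup (GL (Fin 5) (ZMod 2)))) ∈
        (Finset.univ.filter fun a : (S : Subgroup (GL (Fin 5) (ZMod 2))) => a ^ 3 = 1) := by
    intro x hx h3
    rw [Finset.mem_filter]
    refine ⟨Finset.mem_univ _, ?_⟩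
    apply Subtype.ext
    show (c⁻¹ * x * c) ^ 3 = 1
    have : (c⁻¹ * x * c) ^ 3 = c⁻¹ * x ^ 3 * c := by
      rw [pow_succ, pow_two, pow_succ, pow_two]
      group
    rw [this, h3]
    group
  have hT := IsCyclic.card_pow_eq_one_le (α := (S : Subgroup (GL (Fin 5) (ZMod 2)))) (n := 3)
    (by norm_num)
  let l : Fin 4 → GL (Fin 5) (ZMod 2) := ![1, g1, g1 * g1, g2]
  have hlinj : Function.Injective l := by
    intro i j hij
    have hval : ((l i : GL (Fin 5) (ZMod 2)) : Matrix (Fin 5) (Fin 5) (ZMod 2)) = l j := by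
      rw [hij]
    fin_cases i <;> fin_cases j <;> first | rfl | (exfalso; revert hval; simp [l, g1, g2]; decide)
  have hlmem : ∀ i, l i ∈ Subgroup.closure ({g1, g2} : Set (GL (Fin 5) (ZMod 2))) := by
    intro i
    have h1 : g1 ∈ Subgroup.closure ({g1, g2} : Set (GL (Fin 5) (ZMod 2))) :=
      Subgroup.subset_closure (by simp)
    have h2 : g2 ∈ Subgroup.closure ({g1, g2} : Set (GL (Fin 5) (ZMod 2))) :=
      Subgroup.subset_closure (by simp)
    fin_cases i
    · exact Subgroup.one_mem _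
    · exact h1
    · exact Subgroup.mul_mem _ h1 h1
    · exact h2
  have hlcube : ∀ i, l i ^ 3 = 1 := by
    intro i
    fin_cases i
    · exact one_pow 3
    · exact g1_cube
    · show (g1 * g1) ^ 3 = 1
      rw [← pow_two, ← pow_mul, mul_comm, pow_mul, g1_cube, one_pow]
    · exact g2_cube
  let f : Fin 4 → (S : Subgroup (GL (Fin 5) (ZMod 2))) :=
    fun i => ⟨c⁻¹ * l i * c, hmem (l i) (hlmem i)⟩
  have hfinj : Function.Injective f := by
    intro i j hij
    have h1 : c⁻¹ * l i * c = c⁻¹ * l j * c := congrArg Subtype.val hij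
    apply hlinj
    have h2 := congrArg (fun t => c * t * c⁻¹) h1
    simpa [mul_assoc] using h2
  have hsub : Finset.univ.image f ⊆
      (Finset.univ.filter fun a : (S : Subgroup (GL (Fin 5) (ZMod 2))) => a ^ 3 = 1) := by
    intro y hy
    rw [Finset.mem_image] at hy
    obtain ⟨i, -, rfl⟩ := hy
    exact hin (l i) (hlmem i) (hlcube i)
  have h4 := Finset.card_le_card hsub
  rw [Finset.card_image_of_injective _ hfinj, Finset.card_univ, Fintype.card_fin] at h4
  omega

end Cfsg.Agent.Helper16.Gl52
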