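import Mathlib
import Cfsg.Agent.Lib.Helper16.Gl52A
import Cfsg.Agent.Lib.Helper16.Gl52B
import Cfsg.Agent.Lib.Helper2.CardSL
import Cfsg.Agent.Lib.Helper2.SzBridge
import Cfsg.Agent.Lib.Helper2.SzCard
import Cfsg.Agent.Lib.Helper12.PSUAdjArith

set_option autoImplicit false
set_option linter.style.haveILetI false
set_option linter.unusedSectionVars false

namespace Cfsg.Agent.Helper16.Gl52

open Matrix

/-- the order of a section divides the order of the group -/
theorem card_section_dvd {G : Type*} [Group G] [Finite G] (H : Subgroup G) (K : Subgroup H)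
    [K.Normal] : Nat.card (H ⧸ K) ∣ Nat.card G := by
  have h1 := Subgroup.card_eq_card_quotient_mul_card_subgroup K
  have h2 : Nat.card H ∣ Nat.card G := Subgroup.card_subgroup_dvd_card H
  exact (Dvd.intro _ h1.symm).trans h2

/-- an element of order `n` in a section lifts to one in the group -/
theorem exists_orderOf_of_section {G : Type*} [Group G] [Finite G] (H : Subgroup G)
    (K : Subgroup H) [K.Normal] (x : H ⧸ K) : ∃ g : G, orderOf g = orderOf x := by
  obtain ⟨h, rfl⟩ := QuotientGroup.mk_surjective x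
  have hdvd : orderOf (QuotientGroup.mk (s := K) h) ∣ orderOf h :=
    orderOf_map_dvd (QuotientGroup.mk' K) h
  have hpos : orderOf h ≠ 0 := (orderOf_pos h).ne'
  refine ⟨((h ^ (orderOf h / orderOf (QuotientGroup.mk (s := K) h)) : H) : G), ?_⟩
  rw [Subgroup.orderOf_coe]
  exact orderOf_pow_orderOf_div hpos hdvd

theorem card_PSL2_even {F : Type*} [Field F] [Fintype F] (n : ℕ) (hn : 1 ≤ n)
    (hF : Fintype.card F = 2 ^ n) :
    Nat.card (Matrix.ProjectiveSpecialLinearGroup (Fin 2) F) = 2 ^ n * (2 ^ n - 1) * (2 ^ n + 1) := by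
  have h := Cfsg.Agent.Helper2.card_PSL_mul (F := F) 2 (by norm_num)
  rw [hF, Fin.prod_univ_two] at h
  simp only [Fin.val_zero, Fin.val_one, pow_zero, pow_one] at h
  obtain ⟨k, rfl⟩ : ∃ k, n = k + 1 := ⟨n - 1, by omega⟩
  have hq : ∃ r, 2 ^ (k + 1) = 2 * r + 2 := by
    refine ⟨2 ^ k - 1, ?_⟩
    have : 1 ≤ 2 ^ k := Nat.one_le_two_pow
    rw [pow_succ]; omega
  obtain ⟨r, hr⟩ := hq
  rw [hr] at h ⊢
  have hg : Nat.gcd 2 (2 * r + 2 - 1) = 1 := by
    have : 2 * r + 2 - 1 = 2 * r + 1 := by omega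
    rw [this]
    simp
  rw [hg, one_mul] at h
  have e1 : 2 * r + 2 - 1 = 2 * r + 1 := by omega
  have e2 : (2 * r + 2) ^ 2 - 1 = (2 * r + 1) * (2 * r + 3) := by
    have : (2 * r + 2) ^ 2 = (2 * r + 1) * (2 * r + 3) + 1 := by ring
    omega
  have e3 : (2 * r + 2) ^ 2 - (2 * r + 2) = (2 * r + 2) * (2 * r + 1) := by
    have : (2 * r + 2) ^ 2 = (2 * r + 2) * (2 * r + 1) + (2 * r + 2) := by ring
    omega
  rw [e1, e2, e3] at h
  rw [e1]
  have h' : (2 * r + 1) * Nat.card (Matrix.ProjectiveSpecialLinearGroup (Fin 2) F) =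
      (2 * r + 1) * ((2 * r + 2) * (2 * r + 1) * (2 * r + 2 + 1)) := by
    rw [h]; ring
  exact Nat.eq_of_mul_eq_mul_left (by omega) h'

theorem le_ten_of_two_pow_dvd {k : ℕ} (h : 2 ^ k ∣ 9999360) : k ≤ 10 := by
  by_contra hk
  push Not at hk
  have : 2 ^ 11 ∣ 2 ^ k := pow_dvd_pow 2 hk
  have := this.trans h
  norm_num at this

theorem le_ten_of_two_pow_dvd' {k : ℕ} (h : 2 ^ k ∣ 9999360 * 3) : k ≤ 10 := by
  by_contra hk
  push Not at hk
  have : 2 ^ 11 ∣ 2 ^ k := pow_dvd_pow 2 hk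
  have := this.trans h
  norm_num at this

end Cfsg.Agent.Helper16.Gl52
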