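import Mathlib
import Cfsg.Prelude.Def_CaseTheorems
import Cfsg.Agent.Lib.Helper8.HTDefs
import Cfsg.Agent.Lib.Helper16.UniqueOrderP

/-!
# S3371 piece HTB2b: from the basis form to the coordinate form
-/

set_option autoImplicit false
set_option linter.unusedSectionVars false

namespace Cfsg.Agent.Helper8.HT

open Cfsg.Agent.Helper16 (UniqueOrderP)

variable {q : ℕ} [Fact q.Prime] {V : Type*} [AddCommGroup V] [Module (ZMod q) V] [Finite V]
  {G : Type*} [Group G] [Finite G] (ρ : G →* (V ≃ₗ[ZMod q] V))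

/-- PIECE HTB2b. Conversion of HTB2a to the coordinate form of the frozen statement.
(Pure linear algebra; no hypotheses on `G` needed beyond the conclusion of HTB2a.) -/
theorem caseB_coords_of_basis (e₀ e₁ : V)
    (hspan : ∀ v : V, ∃ x y : ZMod q, v = x • e₀ + y • e₁)
    (hind : ∀ x y : ZMod q, x • e₀ + y • e₁ = 0 → x = 0 ∧ y = 0)
    (hform : ∀ g : G, ∃ α s : ZMod q, α ≠ 0 ∧ (s = 1 ∨ s = -1) ∧
        ((ρ g e₀ = α • e₀ ∧ ρ g e₁ = (s * α⁻¹) • e₁) ∨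
          (ρ g e₀ = α • e₁ ∧ ρ g e₁ = (s * α⁻¹) • e₀)))
    (hall : ∀ α s : ZMod q, α ≠ 0 → (s = 1 ∨ s = -1) →
        (∃ g : G, ρ g e₀ = α • e₀ ∧ ρ g e₁ = (s * α⁻¹) • e₁) ∧
          (∃ g : G, ρ g e₀ = α • e₁ ∧ ρ g e₁ = (s * α⁻¹) • e₀)) :
    ∃ e : V ≃ₗ[ZMod q] (Fin 2 → ZMod q),
      ∀ f : (Fin 2 → ZMod q) ≃ₗ[ZMod q] (Fin 2 → ZMod q),
        (∃ g : G, f = e.symm.trans ((ρ g).trans e)) ↔
        ∃ a s : ZMod q, a ≠ 0 ∧ (s = 1 ∨ s = -1) ∧
          ((∀ v, f v = ![a * v 0, s * a⁻¹ * v 1]) ∨ (∀ v, f v = ![s * a⁻¹ * v 1, a * v 0])) := by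
  let L : (Fin 2 → ZMod q) →ₗ[ZMod q] V :=
    { toFun := fun v => v 0 • e₀ + v 1 • e₁
      map_add' := by
        intro v w
        simp only [Pi.add_apply, add_smul]
        abel
      map_smul' := by
        intro c v
        simp only [Pi.smul_apply, smul_eq_mul, RingHom.id_apply, smul_add, mul_smul] }
  have hLapp : ∀ v, L v = v 0 • e₀ + v 1 • e₁ := fun v => rfl
  have hLinj : Function.Injective L := by
    rw [← LinearMap.ker_eq_bot, LinearMap.ker_eq_bot']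
    intro v hv
    rw [hLapp] at hv
    obtain ⟨h0, h1⟩ := hind (v 0) (v 1) hv
    funext i
    fin_cases i
    · exact h0
    · exact h1
  have hLsurj : Function.Surjective L := by
    intro v
    obtain ⟨x, y, hxy⟩ := hspan v
    refine ⟨![x, y], ?_⟩
    rw [hLapp, hxy]
    simp
  have hb : Function.Bijective L := ⟨hLinj, hLsurj⟩
  obtain ⟨E, hEapp⟩ : ∃ E : (Fin 2 → ZMod q) ≃ₗ[ZMod q] V, ∀ v, E v = v 0 • e₀ + v 1 • e₁ :=
    ⟨LinearEquiv.ofBijective L hb, fun v => rfl⟩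
  have hE : ∀ x y : ZMod q, E.symm (x • e₀ + y • e₁) = ![x, y] := by
    intro x y
    rw [LinearEquiv.symm_apply_eq, hEapp]
    simp
  refine ⟨E.symm, ?_⟩
  have hkey : ∀ (g : G) (v : Fin 2 → ZMod q),
      (E.symm.symm.trans ((ρ g).trans E.symm)) v = E.symm (v 0 • ρ g e₀ + v 1 • ρ g e₁) := by
    intro g v
    rw [LinearEquiv.symm_symm, LinearEquiv.trans_apply, LinearEquiv.trans_apply, hEapp, map_add,
      map_smul, map_smul]
  have hdiag : ∀ (g : G) (α β : ZMod q), ρ g e₀ = α • e₀ → ρ g e₁ = β • e₁ →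
      ∀ v : Fin 2 → ZMod q, (E.symm.symm.trans ((ρ g).trans E.symm)) v =
        ![α * v 0, β * v 1] := by
    intro g α β h0 h1 v
    rw [hkey, h0, h1, smul_smul, smul_smul, hE, mul_comm (v 0), mul_comm (v 1)]
  have hswap : ∀ (g : G) (α β : ZMod q), ρ g e₀ = α • e₁ → ρ g e₁ = β • e₀ →
      ∀ v : Fin 2 → ZMod q, (E.symm.symm.trans ((ρ g).trans E.symm)) v =
        ![β * v 1, α * v 0] := by
    intro g α β h0 h1 v
    rw [hkey, h0, h1, smul_smul, smul_smul, add_comm, hE, mul_comm (v 0), mul_comm (v 1)]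
  intro f
  constructor
  · rintro ⟨g, rfl⟩
    obtain ⟨α, s, hα, hs, h | h⟩ := hform g
    · exact ⟨α, s, hα, hs, Or.inl (hdiag g α _ h.1 h.2)⟩
    · exact ⟨α, s, hα, hs, Or.inr (hswap g α _ h.1 h.2)⟩
  · rintro ⟨a, s, ha, hs, h | h⟩
    · obtain ⟨g, h0, h1⟩ := (hall a s ha hs).1
      refine ⟨g, LinearEquiv.ext fun v => ?_⟩
      rw [h v, hdiag g a _ h0 h1 v]
    · obtain ⟨g, h0, h1⟩ := (hall a s ha hs).2
      refine ⟨g, LinearEquiv.ext fun v => ?_⟩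
      rw [h v, hswap g a _ h0 h1 v]

end Cfsg.Agent.Helper8.HT
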