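import Mathlib
import Cfsg.Prelude.Def_CaseTheorems
import Cfsg.Agent.Lib.Helper8.HTDefs
import Cfsg.Agent.Lib.Helper8.HTCNT
import Cfsg.Agent.Lib.Helper16.UniqueOrderP
import Cfsg.Agent.Lib.Helper20.PowSubOne

/-!
# S3371 piece HTDIH: the dihedral case
-/

set_option autoImplicit false
set_option linter.unusedSectionVars false

namespace Cfsg.Agent.Helper8.HT

open Cfsg.Agent.Helper16 (UniqueOrderP)

variable {q : ℕ} [Fact q.Prime] {V : Type*} [AddCommGroup V] [Module (ZMod q) V] [Finite V]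
  {G : Type*} [Group G] [Finite G] (ρ : G →* (V ≃ₗ[ZMod q] V))

open DihedralGroup in
/-- the rotations of a dihedral group -/
def htdihRot (n : ℕ) : Subgroup (DihedralGroup n) where
  carrier := {g | ∃ i, g = r i}
  one_mem' := ⟨0, one_def⟩
  mul_mem' := by
    rintro a b ⟨i, rfl⟩ ⟨j, rfl⟩
    exact ⟨i + j, r_mul_r i j⟩
  inv_mem' := by
    rintro a ⟨i, rfl⟩
    exact ⟨-i, rfl⟩

open DihedralGroup in
theorem htdih_mem_rot {n : ℕ} (g : DihedralGroup n) : g ∈ htdihRot n ↔ ∃ i, g = r i := Iff.rfl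

open DihedralGroup in
theorem htdih_not_mem_rot {n : ℕ} (g : DihedralGroup n) : g ∉ htdihRot n ↔ ∃ i, g = sr i := by
  rw [htdih_mem_rot]
  rcases g with i | i
  · constructor
    · intro h; exact absurd ⟨i, rfl⟩ h
    · rintro ⟨j, hj⟩; cases hj
  · constructor
    · intro _; exact ⟨i, rfl⟩
    · rintro _ ⟨j, hj⟩; cases hj

open DihedralGroup in
theorem htdih_r_pow {n : ℕ} (i : ZMod n) (k : ℕ) : (r i : DihedralGroup n) ^ k = r ((k : ZMod n) * i) := by
  induction k with
  | zero => rw [pow_zero, Nat.cast_zero, zero_mul, one_def]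
  | succ k ih =>
    rw [pow_succ, ih, r_mul_r]
    congr 1
    push_cast
    ring

/-- in `ZMod n`, `n = h + h`, the only non-zero `j` with `j + j = 0` is `h` -/
theorem htdih_half {n h : ℕ} (hn : h + h = n) (hh : h ≠ 0) (j : ZMod n) (hj : j + j = 0)
    (hj0 : j ≠ 0) : j = (h : ZMod n) := by
  have hn0 : NeZero n := ⟨by omega⟩
  have hv : ((j.val + j.val : ℕ) : ZMod n) = 0 := by
    push_cast
    rw [ZMod.natCast_zmod_val]
    exact hj
  rw [ZMod.natCast_eq_zero_iff] at hv
  have hlt : j.val < n := ZMod.val_lt j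
  obtain ⟨c, hc⟩ := hv
  have hc3 : c < 2 := by
    apply Nat.lt_of_mul_lt_mul_left (a := n)
    omega
  have hi : j = ((j.val : ℕ) : ZMod n) := (ZMod.natCast_zmod_val j).symm
  interval_cases c
  · exfalso
    apply hj0
    rw [hi]
    have : j.val = 0 := by omega
    rw [this]
    simp
  · rw [hi]
    congr 1
    omega

open DihedralGroup in
/-- PIECE HTDIH. (Uses HTCNT and `Cfsg.Agent.Helper20.PowSubOne.mersenne_pow`.) -/
theorem dihedral_case [Nontrivial V] (hρ : Function.Injective ρ) (hhalf : Half ρ) (hq2 : q ≠ 2)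
    {n : ℕ} (hn : 8 ≤ n) (hG : IsPGroup 2 G) (e : G ≃* DihedralGroup n) :
    Nat.card V = q ^ 2 ∧ ∃ m : ℕ, q = 2 ^ m - 1 ∧ Nonempty (G ≃* DihedralGroup (2 ^ m)) := by
  have hq : q.Prime := Fact.out
  -- `n` is a power of two
  obtain ⟨K, hK⟩ : ∃ K : ℕ, n = 2 ^ K := by
    obtain ⟨a, ha⟩ := IsPGroup.iff_card.1 hG
    rw [Nat.card_congr e.toEquiv, DihedralGroup.nat_card] at ha
    have ha0 : a ≠ 0 := by
      rintro rfl
      omega
    refine ⟨a - 1, ?_⟩
    have : 2 ^ a = 2 * 2 ^ (a - 1) := by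
      rw [← pow_succ']
      congr 1
      omega
    rw [this] at ha
    omega
  have hK3 : 3 ≤ K := by
    by_contra hlt
    have : K ≤ 2 := by omega
    have h4 : 2 ^ K ≤ 2 ^ 2 := Nat.pow_le_pow_right (by norm_num) this
    omega
  -- `n = h + h`, `h = d + d`
  obtain ⟨h, hh⟩ : ∃ h : ℕ, h + h = n := by
    refine ⟨2 ^ (K - 1), ?_⟩
    rw [hK, ← two_mul, ← pow_succ']
    congr 1
    omega
  obtain ⟨d, hd⟩ : ∃ d : ℕ, d + d = h := by
    refine ⟨2 ^ (K - 2), ?_⟩
    have h1 : 2 ^ K = 2 ^ (K - 2) * 4 := by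
      rw [show (4 : ℕ) = 2 ^ 2 by norm_num, ← pow_add]
      congr 1
      omega
    omega
  have hh0 : h ≠ 0 := by omega
  have hn0 : NeZero n := ⟨by omega⟩
  have hhn : ((h : ℕ) : ZMod n) + ((h : ℕ) : ZMod n) = 0 := by
    rw [← Nat.cast_add, hh, ZMod.natCast_self]
  have hdh : ((d : ℕ) : ZMod n) + ((d : ℕ) : ZMod n) = ((h : ℕ) : ZMod n) := by
    rw [← Nat.cast_add, hd]
  have hhne : ((h : ℕ) : ZMod n) ≠ 0 := by
    intro h0
    rw [ZMod.natCast_eq_zero_iff] at h0
    have := Nat.le_of_dvd (by omega) h0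
    omega
  -- the data for HTCNT
  have hzcD : ∀ g : DihedralGroup n, g * r (h : ZMod n) = r (h : ZMod n) * g := by
    intro g
    rcases g with i | i
    · rw [r_mul_r, r_mul_r, add_comm]
    · rw [sr_mul_r, r_mul_sr]
      congr 1
      have : (h : ZMod n) = -(h : ZMod n) := eq_neg_of_add_eq_zero_left hhn
      rw [sub_eq_add_neg, ← this]
  have hzc : e.symm (r (h : ZMod n)) ∈ Subgroup.center G := by
    rw [Subgroup.mem_center_iff]
    intro g
    apply e.injective
    rw [map_mul, map_mul, MulEquiv.apply_symm_apply]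
    exact hzcD (e g)
  have hzo : orderOf (e.symm (r (h : ZMod n))) = 2 := by
    rw [MulEquiv.orderOf_eq]
    apply orderOf_eq_prime
    · rw [sq, r_mul_r, hhn, r_zero]
    · intro h1
      rw [one_def] at h1
      injection h1 with h2
      exact hhne h2
  have hR2 : ((htdihRot n).comap e.toMonoidHom).index = 2 := by
    rw [Subgroup.index_eq_two_iff]
    refine ⟨e.symm (sr 0), fun b => ?_⟩
    have hb1 : b * e.symm (sr 0) ∈ (htdihRot n).comap e.toMonoidHom ↔
        e b * sr 0 ∈ htdihRot n := by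
      rw [Subgroup.mem_comap]
      show e (b * e.symm (sr 0)) ∈ htdihRot n ↔ _
      rw [map_mul, MulEquiv.apply_symm_apply]
    have hb2 : b ∈ (htdihRot n).comap e.toMonoidHom ↔ e b ∈ htdihRot n := by
      rw [Subgroup.mem_comap]
      rfl
    rw [hb1, hb2]
    rcases hb : e b with i | i
    · have h1 : r i * sr 0 ∉ htdihRot n := by
        rw [htdih_not_mem_rot]
        exact ⟨0 - i, r_mul_sr i 0⟩
      have h2 : r i ∈ htdihRot n := ⟨i, rfl⟩
      exact Or.inr ⟨h2, h1⟩
    · have h1 : sr i * sr 0 ∈ htdihRot n := ⟨0 - i, sr_mul_sr i 0⟩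
      have h2 : sr i ∉ htdihRot n := by
        rw [htdih_not_mem_rot]
        exact ⟨i, rfl⟩
      exact Or.inl ⟨h1, h2⟩
  have hmemR : ∀ g : G, g ∈ (htdihRot n).comap e.toMonoidHom ↔ ∃ i, e g = r i := by
    intro g
    rw [Subgroup.mem_comap]
    rfl
  have hnmemR : ∀ g : G, g ∉ (htdihRot n).comap e.toMonoidHom ↔ ∃ i, e g = sr i := by
    intro g
    rw [Subgroup.mem_comap]
    exact htdih_not_mem_rot (e g)
  have hRz : ∀ g ∈ (htdihRot n).comap e.toMonoidHom, g ≠ 1 →
      ∃ k : ℕ, g ^ k = e.symm (r (h : ZMod n)) := by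
    intro g hg hg1
    obtain ⟨i, hi⟩ := (hmemR g).1 hg
    obtain ⟨b, hb⟩ := IsPGroup.iff_orderOf.1 hG g
    have hb0 : b ≠ 0 := by
      rintro rfl
      rw [pow_zero, orderOf_eq_one_iff] at hb
      exact hg1 hb
    refine ⟨2 ^ (b - 1), ?_⟩
    apply e.injective
    rw [map_pow, MulEquiv.apply_symm_apply, hi, htdih_r_pow]
    congr 1
    have h2b : 2 ^ b = 2 ^ (b - 1) + 2 ^ (b - 1) := by
      rw [← two_mul, ← pow_succ']
      congr 1
      omega
    have hpow : (r i : DihedralGroup n) ^ (2 ^ b) = 1 := by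
      rw [← hi, ← map_pow, ← hb, pow_orderOf_eq_one, map_one]
    have hpow' : (r i : DihedralGroup n) ^ (2 ^ (b - 1)) ≠ 1 := by
      rw [← hi, ← map_pow]
      intro h1
      have h2 : g ^ 2 ^ (b - 1) = 1 := e.injective (by rw [h1, map_one])
      have h3 := orderOf_dvd_of_pow_eq_one h2
      rw [hb] at h3
      have h4 := Nat.le_of_dvd (by positivity) h3
      have : 0 < 2 ^ (b - 1) := by positivity
      omega
    apply htdih_half hh hh0
    · rw [h2b, pow_add, htdih_r_pow, r_mul_r, one_def] at hpow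
      injection hpow
    · intro h0
      apply hpow'
      rw [htdih_r_pow, h0, r_zero]
  have hconj : ∀ t : G, t ∉ (htdihRot n).comap e.toMonoidHom → t ^ 2 = 1 →
      ∃ g : G, g * t * g⁻¹ = t * e.symm (r (h : ZMod n)) := by
    intro t ht _
    obtain ⟨i, hi⟩ := (hnmemR t).1 ht
    refine ⟨e.symm (r (d : ZMod n)), ?_⟩
    apply e.injective
    rw [map_mul, map_mul, map_inv, map_mul, MulEquiv.apply_symm_apply, MulEquiv.apply_symm_apply, hi]
    have hinv : (r (d : ZMod n) : DihedralGroup n)⁻¹ = r (-(d : ZMod n)) := rfl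
    rw [hinv, r_mul_sr, sr_mul_r, sr_mul_r]
    congr 1
    have : (h : ZMod n) = -(h : ZMod n) := eq_neg_of_add_eq_zero_left hhn
    rw [this, ← hdh]
    ring
  have hne : ∃ t : G, t ∉ (htdihRot n).comap e.toMonoidHom ∧ t ^ 2 = 1 := by
    refine ⟨e.symm (sr 0), (hnmemR _).2 ⟨0, by rw [MulEquiv.apply_symm_apply]⟩, ?_⟩
    apply e.injective
    rw [map_pow, MulEquiv.apply_symm_apply, sq, sr_mul_self, map_one]
  obtain ⟨dd, hdd1, hcardV, hcardT⟩ := count_index_two ρ hρ hhalf hq2 _ hR2 hzc hzo hRz hconj hne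
  -- the number of involutions outside `R` is `n`
  have hT : Nat.card {t : G | t ∉ (htdihRot n).comap e.toMonoidHom ∧ t ^ 2 = 1} = n := by
    have hsr : ∀ i : ZMod n, e.symm (sr i) ∈
        {t : G | t ∉ (htdihRot n).comap e.toMonoidHom ∧ t ^ 2 = 1} := by
      intro i
      refine ⟨(hnmemR _).2 ⟨i, by rw [MulEquiv.apply_symm_apply]⟩, ?_⟩
      apply e.injective
      rw [map_pow, MulEquiv.apply_symm_apply, sq, sr_mul_self, map_one]
    have hbij : Function.Bijective (fun i : ZMod n =>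
        (⟨e.symm (sr i), hsr i⟩ : {t : G | t ∉ (htdihRot n).comap e.toMonoidHom ∧ t ^ 2 = 1})) := by
      constructor
      · intro i j hij
        have h1 : e.symm (sr i) = e.symm (sr j) := congrArg Subtype.val hij
        have h2 := e.symm.injective h1
        injection h2
      · rintro ⟨t, ht1, ht2⟩
        obtain ⟨i, hi⟩ := (hnmemR t).1 ht1
        refine ⟨i, Subtype.ext ?_⟩
        show e.symm (sr i) = t
        rw [← hi, MulEquiv.symm_apply_apply]
    rw [← Nat.card_congr (Equiv.ofBijective _ hbij), Nat.card_zmod]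
  rw [hT] at hcardT
  have hd1 : dd = 1 := Cfsg.Agent.Helper20.PowSubOne.mersenne_pow q K dd hq (by omega)
    (by rw [← hK]; exact hcardT)
  subst hd1
  rw [pow_one] at hcardV hcardT
  refine ⟨hcardV, K, ?_, ?_⟩
  · rw [← hK, hcardT]
    omega
  · subst hK
    exact ⟨e⟩

end Cfsg.Agent.Helper8.HT
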