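import Mathlib
import Cfsg.Agent.Lib.Helper16.UniqueOrderP

/-!
# S3371 piece HTUNIQ: three small `UniqueOrderP` lemmas
-/

set_option autoImplicit false

namespace Cfsg.Agent.Helper8.HT

open Cfsg.Agent.Helper16 (UniqueOrderP)

/-- PIECE HTUNIQ (a). (Pure group theory.) -/
theorem uniqueOrderP_of_isCyclic {P : Type*} [Group P] [Finite P] (p : ℕ) [Fact p.Prime]
    (hc : IsCyclic P) : UniqueOrderP p P := by
  classical
  have := Fintype.ofFinite P
  intro x y hx hy
  have hp : 0 < p := (Fact.out : p.Prime).pos
  have hle := IsCyclic.card_pow_eq_one_le (α := P) hp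
  have hinj : Set.InjOn (fun i : ℕ => x ^ i) (Finset.range p : Set ℕ) := by
    have := pow_injOn_Iio_orderOf (x := x)
    rw [hx] at this
    intro i hi j hj hij
    exact this (by simpa using hi) (by simpa using hj) hij
  have hT : ((Finset.range p).image (fun i : ℕ => x ^ i)).card = p := by
    rw [Finset.card_image_of_injOn hinj, Finset.card_range]
  have hTS : (Finset.range p).image (fun i : ℕ => x ^ i) ⊆
      Finset.univ.filter fun a : P => a ^ p = 1 := by
    intro t ht
    obtain ⟨i, _, rfl⟩ := Finset.mem_image.1 ht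
    rw [Finset.mem_filter]
    refine ⟨Finset.mem_univ _, ?_⟩
    rw [← pow_mul, mul_comm, pow_mul, ← hx, pow_orderOf_eq_one, one_pow]
  have hTeq := Finset.eq_of_subset_of_card_le hTS (by rw [hT]; exact hle)
  have hy' : y ∈ Finset.univ.filter fun a : P => a ^ p = 1 := by
    rw [Finset.mem_filter]
    exact ⟨Finset.mem_univ _, by rw [← hy, pow_orderOf_eq_one]⟩
  rw [← hTeq] at hy'
  obtain ⟨i, _, hi⟩ := Finset.mem_image.1 hy'
  exact ⟨i, by simpa using hi⟩

theorem htuniq_quat_invol {n : ℕ} [NeZero n] (g : QuaternionGroup n) (hg : orderOf g = 2) :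
    g = QuaternionGroup.a (n : ZMod (2 * n)) := by
  rcases g with i | i
  · have h2 : (QuaternionGroup.a i : QuaternionGroup n) ^ 2 = 1 := by
      rw [← hg]; exact pow_orderOf_eq_one _
    have h1 : (QuaternionGroup.a i : QuaternionGroup n) ≠ 1 := by
      intro h
      rw [h, orderOf_one] at hg
      omega
    rw [sq, QuaternionGroup.a_mul_a, QuaternionGroup.one_def] at h2
    have h3 : i + i = 0 := by injection h2
    have h4 : i ≠ 0 := by
      rintro rfl
      exact h1 QuaternionGroup.one_def.symm
    congr 1
    have hv : ((i.val + i.val : ℕ) : ZMod (2 * n)) = 0 := by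
      push_cast
      rw [ZMod.natCast_zmod_val]
      exact h3
    rw [ZMod.natCast_eq_zero_iff] at hv
    have hlt : i.val < 2 * n := ZMod.val_lt i
    obtain ⟨c, hc⟩ := hv
    have hc2 : i.val = n * c := by
      apply Nat.eq_of_mul_eq_mul_left (two_pos)
      rw [two_mul, hc, mul_assoc]
    have hc3 : c < 2 := by
      apply Nat.lt_of_mul_lt_mul_left (a := n)
      have h5 : n * 2 = 2 * n := mul_comm _ _
      omega
    have hi : i = ((i.val : ℕ) : ZMod (2 * n)) := (ZMod.natCast_zmod_val i).symm
    interval_cases c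
    · exfalso
      apply h4
      rw [hi, hc2]
      simp
    · rw [hi, hc2, mul_one]
  · exfalso
    rw [QuaternionGroup.orderOf_xa] at hg
    omega

/-- PIECE HTUNIQ (b). (Pure group theory.) -/
theorem uniqueOrderP_two_of_quaternion {P : Type*} [Group P] [Finite P] {n : ℕ}
    (e : P ≃* QuaternionGroup n) : UniqueOrderP 2 P := by
  have hn : NeZero n := by
    constructor
    rintro rfl
    have hfin : Finite (QuaternionGroup 0) := Finite.of_equiv P e.toEquiv
    have h0 : orderOf (QuaternionGroup.a 1 : QuaternionGroup 0) = 2 * 0 :=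
      QuaternionGroup.orderOf_a_one
    have h00 : orderOf (QuaternionGroup.a 1 : QuaternionGroup 0) = 0 := by
      rw [h0]
    exact (orderOf_pos (QuaternionGroup.a 1 : QuaternionGroup 0)).ne' h00
  intro x y hx hy
  have hx' : orderOf (e x) = 2 := by rw [MulEquiv.orderOf_eq]; exact hx
  have hy' : orderOf (e y) = 2 := by rw [MulEquiv.orderOf_eq]; exact hy
  have h1 := htuniq_quat_invol (e x) hx'
  have h2 := htuniq_quat_invol (e y) hy'
  have hxy : x = y := e.injective (h1.trans h2.symm)
  rw [← hxy]
  exact Subgroup.mem_zpowers x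

/-- PIECE HTUNIQ (c). (Pure group theory.) -/
theorem uniqueOrderP_of_abelian_cyclic {P : Type*} [Group P] [Finite P] {p : ℕ} [Fact p.Prime]
    (hP : IsPGroup p P) (h : ∀ B : Subgroup P, IsMulCommutative B → IsCyclic B) :
    UniqueOrderP p P := by
  have hp : p.Prime := Fact.out
  -- key: for `x` of order `p` and a central `z` of order `p`, `zpowers z = zpowers x`
  have key : ∀ z : P, z ∈ Subgroup.center P → orderOf z = p → ∀ x : P, orderOf x = p →
      Subgroup.zpowers x = Subgroup.zpowers z := by
    intro z hzc hz x hx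
    have hB1 : Subgroup.closure ({x, z} : Set P) ≤ Subgroup.centralizer ({x, z} : Set P) := by
      rw [Subgroup.closure_le]
      intro g hg
      rw [SetLike.mem_coe, Subgroup.mem_centralizer_iff]
      intro t ht
      rcases hg with rfl | rfl <;> rcases ht with rfl | rfl
      · rfl
      · exact (Subgroup.mem_center_iff.1 hzc g).symm
      · exact (Subgroup.mem_center_iff.1 hzc t)
      · rfl
    have hB2 : Subgroup.closure ({x, z} : Set P) ≤
        Subgroup.centralizer (Subgroup.closure ({x, z} : Set P) : Set P) := by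
      rw [Subgroup.closure_le]
      intro g hg
      rw [SetLike.mem_coe, Subgroup.mem_centralizer_iff]
      intro t ht
      have := Subgroup.mem_centralizer_iff.1 (hB1 ht) g hg
      exact this.symm
    have hcomm : IsMulCommutative (Subgroup.closure ({x, z} : Set P)) :=
      IsMulCommutative.of_setLike_mul_comm fun a ha b hb =>
        (Subgroup.mem_centralizer_iff.1 (hB2 hb) a ha)
    have hcyc := h _ hcomm
    have hu := uniqueOrderP_of_isCyclic p hcyc
    have hxB : x ∈ Subgroup.closure ({x, z} : Set P) := Subgroup.subset_closure (by simp)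
    have hzB : z ∈ Subgroup.closure ({x, z} : Set P) := Subgroup.subset_closure (by simp)
    have h1 := hu ⟨z, hzB⟩ ⟨x, hxB⟩ (by rw [← Subgroup.orderOf_coe]; exact hz)
      (by rw [← Subgroup.orderOf_coe]; exact hx)
    rw [Subgroup.mem_zpowers_iff] at h1
    obtain ⟨i, hi⟩ := h1
    have hxz : x ∈ Subgroup.zpowers z := by
      rw [Subgroup.mem_zpowers_iff]
      refine ⟨i, ?_⟩
      have := congrArg Subtype.val hi
      simpa using this
    have hle : Subgroup.zpowers x ≤ Subgroup.zpowers z := Subgroup.zpowers_le.2 hxz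
    apply Subgroup.eq_of_le_of_card_ge hle
    rw [Nat.card_zpowers, Nat.card_zpowers, hx, hz]
  intro x y hx hy
  -- a central element of order `p`
  have hnt : Nontrivial P := by
    refine ⟨⟨x, 1, ?_⟩⟩
    intro h1
    rw [h1, orderOf_one] at hx
    exact hp.one_lt.ne hx
  have hcnt : Nontrivial (Subgroup.center P) := hP.center_nontrivial
  have hdvd : p ∣ Nat.card (Subgroup.center P) := by
    obtain ⟨k, hk⟩ := IsPGroup.iff_card.1 (hP.to_subgroup (Subgroup.center P))
    rw [hk]
    have hk0 : k ≠ 0 := by
      rintro rfl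
      rw [pow_zero] at hk
      have := (Nat.card_eq_one_iff_unique.1 hk).1
      exact not_nontrivial _ hcnt
    exact dvd_pow_self p hk0
  obtain ⟨z, hz⟩ := exists_prime_orderOf_dvd_card' p hdvd
  have hz' : orderOf (z : P) = p := by rw [Subgroup.orderOf_coe]; exact hz
  rw [key z z.2 hz' x hx, ← key z z.2 hz' y hy]
  exact Subgroup.mem_zpowers y

end Cfsg.Agent.Helper8.HT
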