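import Mathlib

set_option autoImplicit false
set_option linter.style.haveILetI false
set_option linter.unusedSectionVars false

/-! Higman's theorem on Suzuki 2-groups, part one: basic facts. -/

namespace Cfsg.Agent.Helper16.Higman

universe u v

/-- the group `K` acts (through `φ`) regularly on the involutions of `G` -/
def Reg {G : Type u} [Group G] {K : Type v} [Group K] (φ : K →* MulAut G) : Prop :=
  ∀ x y : G, x ≠ 1 → x * x = 1 → y ≠ 1 → y * y = 1 → ∃! k : K, φ k x = y

section basic

variable {G : Type u} [Group G]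

theorem aut_mem_center (f : MulAut G) {z : G} (hz : z ∈ Subgroup.center G) :
    f z ∈ Subgroup.center G := by
  rw [Subgroup.mem_center_iff] at hz ⊢
  intro g
  have h := hz (f.symm g)
  have h2 := congrArg f h
  rw [map_mul, map_mul, MulEquiv.apply_symm_apply] at h2
  exact h2

theorem aut_pow (f : MulAut G) (x : G) (n : ℕ) : f (x ^ n) = (f x) ^ n := map_pow f x n

/-- a nontrivial finite 2-group has a central involution -/
theorem exists_central_involution [Finite G] [Nontrivial G] (hG : IsPGroup 2 G) :
    ∃ z ∈ Subgroup.center G, z ≠ 1 ∧ z * z = 1 := by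
  haveI : Fact (Nat.Prime 2) := ⟨Nat.prime_two⟩
  haveI : Nontrivial (Subgroup.center G) := hG.center_nontrivial
  have hZ : IsPGroup 2 (Subgroup.center G) := hG.to_subgroup _
  obtain ⟨n, hn⟩ := IsPGroup.iff_card.mp hZ
  have hn0 : n ≠ 0 := by
    rintro rfl
    have : 1 < Nat.card (Subgroup.center G) := Finite.one_lt_card
    omega
  have hdvd : 2 ∣ Nat.card (Subgroup.center G) := by
    rw [hn]; exact dvd_pow_self 2 hn0
  obtain ⟨z, hz⟩ := exists_prime_orderOf_dvd_card' 2 hdvd
  refine ⟨z.1, z.2, ?_, ?_⟩
  · intro h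
    have : z = 1 := Subtype.ext h
    rw [this, orderOf_one] at hz
    omega
  · have := pow_orderOf_eq_one z
    rw [hz] at this
    have h2 := congrArg Subtype.val this
    simpa [pow_two] using h2

variable {K : Type v} [Group K] (φ : K →* MulAut G)

/-- all involutions are central -/
theorem inv_mem_center [Finite G] (hG : IsPGroup 2 G) (reg : Reg φ) {x : G} (hx : x * x = 1) :
    x ∈ Subgroup.center G := by
  by_cases hx1 : x = 1
  · rw [hx1]; exact Subgroup.one_mem _
  haveI : Nontrivial G := ⟨⟨x, 1, hx1⟩⟩
  obtain ⟨z, hz, hz1, hz2⟩ := exists_central_involution hG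
  obtain ⟨k, hk, -⟩ := reg z x hz1 hz2 hx1 hx
  rw [← hk]
  exact aut_mem_center _ hz

/-- an element of order four in the centre, given a central element of order more than 2 -/
theorem exists_order_four [Finite G] (hG : IsPGroup 2 G) {z : G} (hz : z ∈ Subgroup.center G)
    (hz2 : z * z ≠ 1) :
    ∃ a ∈ Subgroup.center G, a * a ≠ 1 ∧ (a * a) * (a * a) = 1 := by
  obtain ⟨m, hm⟩ := (IsPGroup.iff_orderOf.mp hG) z
  have hm2 : 2 ≤ m := by
    by_contra h
    push Not at h
    have : m = 0 ∨ m = 1 := by omega
    rcases this with rfl | rfl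
    · rw [pow_zero, orderOf_eq_one_iff] at hm
      rw [hm] at hz2; simp at hz2
    · have := pow_orderOf_eq_one z
      rw [hm, pow_one, pow_two] at this
      exact hz2 this
  refine ⟨z ^ (2 ^ (m - 2)), Subgroup.pow_mem _ hz _, ?_, ?_⟩
  · rw [← pow_two, ← pow_mul, ← pow_succ]
    intro h
    have hlt : 2 ^ (m - 2 + 1) < orderOf z := by
      rw [hm]; apply Nat.pow_lt_pow_right (by norm_num); omega
    have := orderOf_le_of_pow_eq_one (by positivity) h
    omega
  · rw [← pow_two, ← pow_two, ← pow_mul, ← pow_mul]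
    have : 2 ^ (m - 2) * (2 * 2) = 2 ^ m := by
      have : m = m - 2 + 1 + 1 := by omega
      conv_rhs => rw [this]
      rw [pow_succ, pow_succ, mul_assoc]
    rw [this, ← hm, pow_orderOf_eq_one]

end basic

end Cfsg.Agent.Helper16.Higman
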