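import Mathlib
import Cfsg.Agent.Lib.Helper16.HigmanA

set_option autoImplicit false
set_option linter.style.haveILetI false
set_option linter.unusedSectionVars false

/-! Higman's theorem on Suzuki 2-groups, part one: the subgroup of central involutions and
the induced action on the quotient. -/

namespace Cfsg.Agent.Helper16.Higman

universe u v

section omega

variable {G : Type u} [Group G]

/-- the central elements of order at most two -/
def Om (G : Type u) [Group G] : Subgroup G where
  carrier := {x | x ∈ Subgroup.center G ∧ x * x = 1}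
  one_mem' := ⟨Subgroup.one_mem _, by simp⟩
  mul_mem' := by
    rintro x y ⟨hx, hx2⟩ ⟨hy, hy2⟩
    refine ⟨Subgroup.mul_mem _ hx hy, ?_⟩
    rw [Subgroup.mem_center_iff] at hx
    calc x * y * (x * y) = x * (y * x) * y := by group
      _ = x * (x * y) * y := by rw [hx y]
      _ = (x * x) * (y * y) := by group
      _ = 1 := by rw [hx2, hy2, one_mul]
  inv_mem' := by
    rintro x ⟨hx, hx2⟩
    refine ⟨Subgroup.inv_mem _ hx, ?_⟩
    rw [← mul_inv_rev, hx2, inv_one]

theorem mem_Om {x : G} : x ∈ Om G ↔ x ∈ Subgroup.center G ∧ x * x = 1 := Iff.rfl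

theorem Om_le_center : Om G ≤ Subgroup.center G := fun _ hx => hx.1

instance Om_normal : (Om G).Normal := by
  constructor
  intro n hn g
  have h := hn.1
  rw [Subgroup.mem_center_iff] at h
  have : g * n * g⁻¹ = n := by rw [h g]; group
  rw [this]; exact hn

theorem Om_map (f : MulAut G) : (Om G).map f.toMonoidHom = Om G := by
  ext x
  constructor
  · rintro ⟨y, hy, rfl⟩
    refine ⟨aut_mem_center f hy.1, ?_⟩
    change f y * f y = 1
    rw [← map_mul, hy.2, map_one]
  · intro hx
    refine ⟨f.symm x, ⟨aut_mem_center f.symm hx.1, ?_⟩, ?_⟩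
    · rw [← map_mul, hx.2, map_one]
    · change f (f.symm x) = x
      exact MulEquiv.apply_symm_apply f x

end omega

section quot

variable {G : Type u} [Group G] {K : Type v} [Group K]

/-- the action induced on a quotient by an invariant normal subgroup -/
noncomputable def quotHom (N : Subgroup G) [N.Normal] (φ : K →* MulAut G)
    (hN : ∀ k, N.map (φ k).toMonoidHom = N) : K →* MulAut (G ⧸ N) where
  toFun k := QuotientGroup.congr N N (φ k) (hN k)
  map_one' := by
    ext x
    induction x using QuotientGroup.induction_on with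
    | H x => simp
  map_mul' a b := by
    ext x
    induction x using QuotientGroup.induction_on with
    | H x =>
      rw [MulAut.mul_apply]
      erw [QuotientGroup.congr_mk, QuotientGroup.congr_mk]
      rw [map_mul, MulAut.mul_apply]
      rfl

theorem quotHom_mk (N : Subgroup G) [N.Normal] (φ : K →* MulAut G)
    (hN : ∀ k, N.map (φ k).toMonoidHom = N) (k : K) (x : G) :
    quotHom N φ hN k (QuotientGroup.mk x) = QuotientGroup.mk (φ k x) := by
  change QuotientGroup.congr N N (φ k) (hN k) (QuotientGroup.mk x) = _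
  exact QuotientGroup.congr_mk N N (φ k) (hN k) x

end quot

section step

variable {G : Type u} [Group G] {K : Type v} [Group K] (φ : K →* MulAut G)

/-- every involution has a central square root, given a central element of order 4 -/
theorem exists_central_sqrt (reg : Reg φ) {a₀ : G} (ha : a₀ ∈ Subgroup.center G)
    (ha2 : a₀ * a₀ ≠ 1) (ha4 : (a₀ * a₀) * (a₀ * a₀) = 1) {c : G} (hc : c * c = 1) :
    ∃ a ∈ Subgroup.center G, a * a = c := by
  by_cases hc1 : c = 1
  · exact ⟨1, Subgroup.one_mem _, by simp [hc1]⟩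
  obtain ⟨k, hk, -⟩ := reg (a₀ * a₀) c ha2 ha4 hc1 hc
  refine ⟨φ k a₀, aut_mem_center _ ha, ?_⟩
  rw [← map_mul, hk]

/-- elements of order dividing 4 are central, given a central element of order 4 -/
theorem mem_center_of_pow_four [Finite G] (hG : IsPGroup 2 G) (reg : Reg φ) {a₀ : G}
    (ha : a₀ ∈ Subgroup.center G)
    (ha2 : a₀ * a₀ ≠ 1) (ha4 : (a₀ * a₀) * (a₀ * a₀) = 1) {x : G}
    (hx : (x * x) * (x * x) = 1) : x ∈ Subgroup.center G := by
  obtain ⟨a, hac, haa⟩ := exists_central_sqrt φ reg ha ha2 ha4 hx
  have hac' := hac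
  rw [Subgroup.mem_center_iff] at hac'
  have h1 : (x * a⁻¹) * (x * a⁻¹) = 1 := by
    have e1 : a⁻¹ * x = x * a⁻¹ := by
      have := hac' x
      calc a⁻¹ * x = a⁻¹ * (x * a) * a⁻¹ := by group
        _ = a⁻¹ * (a * x) * a⁻¹ := by rw [this]
        _ = x * a⁻¹ := by group
    calc (x * a⁻¹) * (x * a⁻¹) = x * (a⁻¹ * x) * a⁻¹ := by group
      _ = x * (x * a⁻¹) * a⁻¹ := by rw [e1]
      _ = (x * x) * (a * a)⁻¹ := by group
      _ = 1 := by rw [haa, mul_inv_cancel]
  have h2 := inv_mem_center φ hG reg h1
  have : x = (x * a⁻¹) * a := by group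
  rw [this]
  exact Subgroup.mul_mem _ h2 hac

end step

end Cfsg.Agent.Helper16.Higman
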