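import Mathlib
import Cfsg.Agent.Lib.Helper16.HigmanB

set_option autoImplicit false
set_option linter.style.haveILetI false
set_option linter.unusedSectionVars false

/-! Higman's theorem on Suzuki 2-groups, part one: the quotient by the involutions. -/

namespace Cfsg.Agent.Helper16.Higman

universe u v

open scoped commutatorElement

section quotreg

variable {G : Type u} [Group G] {K : Type v} [Group K] (φ : K →* MulAut G)

/-- the induced action on `G ⧸ Ω₁` -/
noncomputable def barHom : K →* MulAut (G ⧸ Om G) :=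
  quotHom (Om G) φ (fun k => Om_map (φ k))

theorem barHom_mk (k : K) (x : G) :
    barHom φ k (QuotientGroup.mk x) = QuotientGroup.mk (φ k x) :=
  quotHom_mk _ _ _ _ _

theorem mul_self_central {a b : G} (ha : a ∈ Subgroup.center G) :
    (a * b) * (a * b) = (a * a) * (b * b) := by
  rw [Subgroup.mem_center_iff] at ha
  calc (a * b) * (a * b) = a * (b * a) * b := by group
    _ = a * (a * b) * b := by rw [ha b]
    _ = (a * a) * (b * b) := by group

/-- if the centre has an element of order 4, the quotient by the involutions is again in the class -/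
theorem reg_bar [Finite G] (hG : IsPGroup 2 G) (reg : Reg φ) {a₀ : G}
    (ha : a₀ ∈ Subgroup.center G)
    (ha2 : a₀ * a₀ ≠ 1) (ha4 : (a₀ * a₀) * (a₀ * a₀) = 1) : Reg (barHom φ) := by
  intro X Y
  induction X using QuotientGroup.induction_on with
  | H x =>
  induction Y using QuotientGroup.induction_on with
  | H y =>
  intro hX1 hX2 hY1 hY2
  -- facts on x
  have key : ∀ w : G, (QuotientGroup.mk w : G ⧸ Om G) ≠ 1 →
      (QuotientGroup.mk w : G ⧸ Om G) * QuotientGroup.mk w = 1 →
      w ∈ Subgroup.center G ∧ w * w ≠ 1 ∧ (w * w) * (w * w) = 1 := by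
    intro w h1 h2
    rw [← QuotientGroup.mk_mul, QuotientGroup.eq_one_iff] at h2
    have h4 := h2.2
    have hc := mem_center_of_pow_four φ hG reg ha ha2 ha4 h4
    refine ⟨hc, ?_, h4⟩
    intro h
    apply h1
    rw [QuotientGroup.eq_one_iff]
    exact ⟨hc, h⟩
  obtain ⟨hxc, hx2, hx4⟩ := key x hX1 hX2
  obtain ⟨hyc, hy2, hy4⟩ := key y hY1 hY2
  obtain ⟨k, hk, hku⟩ := reg (x * x) (y * y) hx2 hx4 hy2 hy4
  have hkx : φ k x ∈ Subgroup.center G := aut_mem_center _ hxc
  refine ⟨k, ?_, ?_⟩
  · change barHom φ k (QuotientGroup.mk x) = QuotientGroup.mk y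
    rw [barHom_mk, QuotientGroup.eq]
    refine ⟨Subgroup.mul_mem _ (Subgroup.inv_mem _ hkx) hyc, ?_⟩
    rw [mul_self_central (Subgroup.inv_mem _ hkx), ← mul_inv_rev, ← map_mul, hk]
    group
  · intro k' hk'
    change barHom φ k' (QuotientGroup.mk x) = QuotientGroup.mk y at hk'
    rw [barHom_mk, QuotientGroup.eq] at hk'
    apply hku
    have hkx' : φ k' x ∈ Subgroup.center G := aut_mem_center _ hxc
    have hy : y = φ k' x * ((φ k' x)⁻¹ * y) := by group
    have e := hk'.2
    calc φ k' (x * x) = (φ k' x * φ k' x) * 1 := by rw [map_mul, mul_one]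
      _ = (φ k' x * φ k' x) * (((φ k' x)⁻¹ * y) * ((φ k' x)⁻¹ * y)) := by rw [e]
      _ = (φ k' x * ((φ k' x)⁻¹ * y)) * (φ k' x * ((φ k' x)⁻¹ * y)) :=
          (mul_self_central hkx').symm
      _ = y * y := by rw [← hy]

end quotreg

section second

variable {G : Type u} [Group G]

/-- a noncentral element of the second centre with central square -/
theorem exists_second_center [Finite G] (hG : IsPGroup 2 G) (hna : ∃ x y : G, x * y ≠ y * x) :
    ∃ x : G, x ∉ Subgroup.center G ∧ x * x ∈ Subgroup.center G ∧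
      ∀ g : G, ⁅x, g⁆ ∈ Subgroup.center G := by
  haveI : Nontrivial (G ⧸ Subgroup.center G) := by
    by_contra h
    rw [not_nontrivial_iff_subsingleton] at h
    obtain ⟨x, y, hxy⟩ := hna
    apply hxy
    have : (QuotientGroup.mk x : G ⧸ Subgroup.center G) = 1 := Subsingleton.elim _ _
    rw [QuotientGroup.eq_one_iff, Subgroup.mem_center_iff] at this
    exact (this y).symm
  have hQ : IsPGroup 2 (G ⧸ Subgroup.center G) := hG.to_quotient _
  obtain ⟨Z, hZ, hZ1, hZ2⟩ := exists_central_involution hQ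
  induction Z using QuotientGroup.induction_on with
  | H x =>
  refine ⟨x, ?_, ?_, ?_⟩
  · intro h
    apply hZ1
    rw [QuotientGroup.eq_one_iff]; exact h
  · rw [← QuotientGroup.mk_mul, QuotientGroup.eq_one_iff] at hZ2
    exact hZ2
  · intro g
    rw [← QuotientGroup.eq_one_iff, commutatorElement_def]
    rw [Subgroup.mem_center_iff] at hZ
    have := hZ (QuotientGroup.mk g)
    simp only [QuotientGroup.mk_mul, QuotientGroup.mk_inv]
    rw [← this]; group

/-- commutators with such an element are involutions -/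
theorem comm_sq_eq_one {x : G} (hx2 : x * x ∈ Subgroup.center G)
    {g : G} (hc : ⁅x, g⁆ ∈ Subgroup.center G) : ⁅x, g⁆ * ⁅x, g⁆ = 1 := by
  rw [Subgroup.mem_center_iff] at hx2 hc
  have h1 := hc x
  have h2 := hx2 g
  calc ⁅x, g⁆ * ⁅x, g⁆ = ⁅x, g⁆ * (x * g * x⁻¹ * g⁻¹) := by rw [commutatorElement_def]
    _ = (⁅x, g⁆ * x) * g * x⁻¹ * g⁻¹ := by group
    _ = (x * ⁅x, g⁆) * g * x⁻¹ * g⁻¹ := by rw [h1]
    _ = (x * (x * g * x⁻¹ * g⁻¹)) * g * x⁻¹ * g⁻¹ := by rw [commutatorElement_def]
    _ = ((x * x) * g) * x⁻¹ * x⁻¹ * g⁻¹ := by group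
    _ = (g * (x * x)) * x⁻¹ * x⁻¹ * g⁻¹ := by rw [h2]
    _ = 1 := by group

end second

section nonab

variable {G : Type u} [Group G] {K : Type v} [Group K] (φ : K →* MulAut G)

/-- the case of a nonabelian quotient -/
theorem nonab_quot_false [Finite G] (hG : IsPGroup 2 G) (reg : Reg φ) {a₀ : G}
    (ha : a₀ ∈ Subgroup.center G)
    (ha2 : a₀ * a₀ ≠ 1) (ha4 : (a₀ * a₀) * (a₀ * a₀) = 1)
    (hna : ∃ x y : G, x * y ≠ y * x)
    (IH : ∀ Z ∈ Subgroup.center (G ⧸ Om G), Z * Z = 1) : False := by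
  obtain ⟨x, hx, hx2, hxg⟩ := exists_second_center hG hna
  apply hx
  apply mem_center_of_pow_four φ hG reg ha ha2 ha4
  have hmem : (QuotientGroup.mk x : G ⧸ Om G) ∈ Subgroup.center (G ⧸ Om G) := by
    rw [Subgroup.mem_center_iff]
    intro Y
    induction Y using QuotientGroup.induction_on with
    | H g =>
    have h1 : ⁅x, g⁆ ∈ Om G := ⟨hxg g, comm_sq_eq_one hx2 (hxg g)⟩
    rw [← QuotientGroup.eq_one_iff (N := Om G), commutatorElement_def] at h1
    simp only [QuotientGroup.mk_mul, QuotientGroup.mk_inv] at h1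
    have h2 : ⁅(QuotientGroup.mk x : G ⧸ Om G), (QuotientGroup.mk g : G ⧸ Om G)⁆ = 1 := by
      rw [commutatorElement_def]; exact h1
    rw [commutatorElement_eq_one_iff_commute] at h2
    exact h2.eq.symm
  have := IH _ hmem
  rw [← QuotientGroup.mk_mul, QuotientGroup.eq_one_iff] at this
  exact this.2

end nonab

end Cfsg.Agent.Helper16.Higman
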