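import Mathlib
import Cfsg.Agent.Lib.Helper16.HigmanC

set_option autoImplicit false
set_option linter.style.haveILetI false
set_option linter.unusedSectionVars false

/-! Higman's theorem on Suzuki 2-groups, part one: calculus in groups whose commutators are
central involutions. -/

namespace Cfsg.Agent.Helper16.Higman

universe u v

open scoped commutatorElement

section cls2

variable {G : Type u} [Group G] (hcomm : ∀ x y : G, ⁅x, y⁆ ∈ Om G)

include hcomm

theorem mul_eq_comm_mul (x y : G) : x * y = ⁅x, y⁆ * (y * x) := by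
  rw [commutatorElement_def]; group

theorem comm_commute (x y g : G) : g * ⁅x, y⁆ = ⁅x, y⁆ * g := by
  have := (hcomm x y).1
  rw [Subgroup.mem_center_iff] at this
  exact this g

theorem comm_sq (x y : G) : ⁅x, y⁆ * ⁅x, y⁆ = 1 := (hcomm x y).2

theorem comm_mul_left (x x' y : G) : ⁅x * x', y⁆ = ⁅x, y⁆ * ⁅x', y⁆ := by
  have h := comm_commute hcomm x' y x
  calc ⁅x * x', y⁆ = (x * ⁅x', y⁆) * y * x⁻¹ * y⁻¹ := by
        simp only [commutatorElement_def]; group
    _ = (⁅x', y⁆ * x) * y * x⁻¹ * y⁻¹ := by rw [h]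
    _ = ⁅x', y⁆ * ⁅x, y⁆ := by simp only [commutatorElement_def]; group
    _ = ⁅x, y⁆ * ⁅x', y⁆ := comm_commute hcomm x y _

theorem comm_mul_right (x y y' : G) : ⁅x, y * y'⁆ = ⁅x, y⁆ * ⁅x, y'⁆ := by
  have h := comm_commute hcomm x y' y
  calc ⁅x, y * y'⁆ = (x * y * x⁻¹ * y⁻¹) * (y * ⁅x, y'⁆) * y⁻¹ := by
        simp only [commutatorElement_def]; group
    _ = (x * y * x⁻¹ * y⁻¹) * (⁅x, y'⁆ * y) * y⁻¹ := by rw [h]
    _ = ⁅x, y⁆ * ⁅x, y'⁆ := by simp only [commutatorElement_def]; group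

theorem comm_central_right {x n : G} (hn : n ∈ Subgroup.center G) : ⁅x, n⁆ = 1 := by
  rw [Subgroup.mem_center_iff] at hn
  rw [commutatorElement_def, hn x]; group

theorem comm_central_left {n y : G} (hn : n ∈ Subgroup.center G) : ⁅n, y⁆ = 1 := by
  rw [Subgroup.mem_center_iff] at hn
  rw [commutatorElement_def, ← hn y]; group

theorem comm_self (x : G) : ⁅x, x⁆ = 1 := by
  rw [commutatorElement_def]; group

theorem sq_mem_center' (x : G) : x * x ∈ Subgroup.center G := by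
  rw [Subgroup.mem_center_iff]
  intro g
  have h1 := mul_eq_comm_mul hcomm x g
  have h2 := comm_commute hcomm x g
  have h3 := comm_sq hcomm x g
  symm
  calc x * x * g = x * (x * g) := by group
    _ = x * (⁅x, g⁆ * (g * x)) := by rw [← h1]
    _ = (x * ⁅x, g⁆) * g * x := by group
    _ = (⁅x, g⁆ * x) * g * x := by rw [h2]
    _ = ⁅x, g⁆ * (x * g) * x := by group
    _ = ⁅x, g⁆ * (⁅x, g⁆ * (g * x)) * x := by rw [← h1]
    _ = (⁅x, g⁆ * ⁅x, g⁆) * g * x * x := by group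
    _ = g * (x * x) := by rw [h3]; group

theorem pow_two_pow_mem_center (x : G) {j : ℕ} (hj : 1 ≤ j) : x ^ (2 ^ j) ∈ Subgroup.center G := by
  obtain ⟨i, rfl⟩ : ∃ i, j = i + 1 := ⟨j - 1, by omega⟩
  rw [pow_succ', pow_mul, pow_two]
  exact Subgroup.pow_mem _ (sq_mem_center' hcomm x) _

theorem mul_pow_four (x y : G) : (x * y) ^ 4 = x ^ 4 * y ^ 4 := by
  have hx2 := sq_mem_center' hcomm x
  rw [Subgroup.mem_center_iff] at hx2
  have hc := comm_commute hcomm y x
  have hcs := comm_sq hcomm y x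
  have h1 : (x * y) * (x * y) = ⁅y, x⁆ * ((x * x) * (y * y)) := by
    calc (x * y) * (x * y) = x * (y * x) * y := by group
      _ = x * (⁅y, x⁆ * (x * y)) * y := by rw [← mul_eq_comm_mul hcomm y x]
      _ = (x * ⁅y, x⁆) * x * y * y := by group
      _ = (⁅y, x⁆ * x) * x * y * y := by rw [hc]
      _ = ⁅y, x⁆ * ((x * x) * (y * y)) := by group
  have h2 : (x * y) ^ 4 = ((x * y) * (x * y)) * ((x * y) * (x * y)) := by
    rw [show (4 : ℕ) = 2 * 2 from rfl, pow_mul, pow_two, pow_two]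
  rw [h2, h1]
  calc ⁅y, x⁆ * (x * x * (y * y)) * (⁅y, x⁆ * (x * x * (y * y)))
      = ⁅y, x⁆ * ((x * x * (y * y)) * ⁅y, x⁆) * (x * x * (y * y)) := by group
    _ = ⁅y, x⁆ * (⁅y, x⁆ * (x * x * (y * y))) * (x * x * (y * y)) := by rw [hc]
    _ = (⁅y, x⁆ * ⁅y, x⁆) * (x * x) * ((y * y) * (x * x)) * (y * y) := by group
    _ = (⁅y, x⁆ * ⁅y, x⁆) * (x * x) * ((x * x) * (y * y)) * (y * y) := by rw [hx2 (y * y)]
    _ = x ^ 4 * y ^ 4 := by
        rw [hcs]
        simp only [pow_succ, pow_zero, one_mul, mul_assoc]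

theorem mul_pow_two_pow (x y : G) {j : ℕ} (hj : 2 ≤ j) :
    (x * y) ^ (2 ^ j) = x ^ (2 ^ j) * y ^ (2 ^ j) := by
  induction j, hj using Nat.le_induction with
  | base => exact mul_pow_four hcomm x y
  | succ j hj ih =>
    rw [pow_succ, pow_mul, pow_mul, pow_mul, ih]
    have hc := pow_two_pow_mem_center hcomm x (j := j) (by omega)
    rw [Subgroup.mem_center_iff] at hc
    have : Commute (x ^ 2 ^ j) (y ^ 2 ^ j) := (hc _).symm
    exact this.mul_pow 2

end cls2

end Cfsg.Agent.Helper16.Higman
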