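import Mathlib
import Cfsg.Agent.Lib.Helper16.HigmanD

set_option autoImplicit false
set_option linter.style.haveILetI false
set_option linter.unusedSectionVars false

/-! Higman's theorem, part two: the character sum of the squaring map. -/

namespace Cfsg.Agent.Helper16.HigCount

universe u

open scoped commutatorElement
open Cfsg.Agent.Helper16.Higman

variable {G : Type u} [Group G]

open Classical in
/-- the sign attached to a subgroup -/
noncomputable def sgn (H : Subgroup G) (x : G) : ℤ := if x ∈ H then 1 else -1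

theorem sgn_of_mem {H : Subgroup G} {x : G} (h : x ∈ H) : sgn H x = 1 := by simp [sgn, h]

theorem sgn_of_not_mem {H : Subgroup G} {x : G} (h : x ∉ H) : sgn H x = -1 := by simp [sgn, h]

theorem sgn_sq (H : Subgroup G) (x : G) : sgn H x * sgn H x = 1 := by
  by_cases h : x ∈ H
  · rw [sgn_of_mem h]; norm_num
  · rw [sgn_of_not_mem h]; norm_num

theorem sgn_eq_one_iff {H : Subgroup G} {x : G} : sgn H x = 1 ↔ x ∈ H := by
  by_cases h : x ∈ H
  · simp [sgn_of_mem h, h]
  · simp [sgn_of_not_mem h, h]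

theorem sgn_cases (H : Subgroup G) (x : G) : sgn H x = 1 ∨ sgn H x = -1 := by
  by_cases h : x ∈ H
  · left; exact sgn_of_mem h
  · right; exact sgn_of_not_mem h

/-- `H` is a hyperplane of `V` -/
structure Hyp (V H : Subgroup G) : Prop where
  /-- containment -/
  le : H ≤ V
  /-- index two -/
  mul_iff : ∀ a ∈ V, ∀ b ∈ V, (a * b ∈ H ↔ (a ∈ H ↔ b ∈ H))
  /-- properness -/
  ne : ∃ v ∈ V, v ∉ H

theorem sgn_mul {V H : Subgroup G} (hyp : Hyp V H) {a b : G} (ha : a ∈ V) (hb : b ∈ V) :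
    sgn H (a * b) = sgn H a * sgn H b := by
  have := hyp.mul_iff a ha b hb
  by_cases h1 : a ∈ H <;> by_cases h2 : b ∈ H
  · rw [sgn_of_mem h1, sgn_of_mem h2, sgn_of_mem (this.mpr (by tauto))]; norm_num
  · rw [sgn_of_mem h1, sgn_of_not_mem h2, sgn_of_not_mem (fun h => by tauto)]; norm_num
  · rw [sgn_of_not_mem h1, sgn_of_mem h2, sgn_of_not_mem (fun h => by tauto)]; norm_num
  · rw [sgn_of_not_mem h1, sgn_of_not_mem h2, sgn_of_mem (this.mpr (by tauto))]; norm_num

/-- a multiplicative sign function which takes the value `-1` sums to zero -/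
theorem sum_char {R : Type*} [Group R] [Fintype R] (f : R → ℤ) (hf : ∀ x y, f (x * y) = f x * f y)
    {g₀ : R} (h : f g₀ = -1) : ∑ g, f g = 0 := by
  have h1 : ∑ g, f g = ∑ g, f (g₀ * g) := (Equiv.sum_comp (Equiv.mulLeft g₀) f).symm
  have h2 : ∑ g, f (g₀ * g) = - ∑ g, f g := by
    rw [← Finset.sum_neg_distrib]
    apply Finset.sum_congr rfl
    intro g _
    rw [hf, h]; ring
  rw [h2] at h1
  omega

theorem sum_char' {R : Type*} [Group R] [Fintype R] (f : R → ℤ)
    (hf : ∀ x y, f (x * y) = f x * f y) (hpm : ∀ x, f x = 1 ∨ f x = -1) :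
    ∑ g, f g = 0 ∨ ∑ g, f g = (Fintype.card R : ℤ) := by
  by_cases h : ∃ g₀, f g₀ = -1
  · obtain ⟨g₀, hg₀⟩ := h
    left; exact sum_char f hf hg₀
  · right
    push Not at h
    have : ∀ g, f g = 1 := fun g => (hpm g).resolve_right (h g)
    simp [this]

section main

variable (hsq : ∀ g : G, g * g ∈ Om G) (hcomm : ∀ x y : G, ⁅x, y⁆ ∈ Om G)

include hcomm in
/-- the square of a product -/
theorem mul_sq (g t : G) : (g * t) * (g * t) = ⁅t, g⁆ * (g * g) * (t * t) := by
  have h1 := mul_eq_comm_mul hcomm t g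
  have h2 := comm_commute hcomm t g g
  calc (g * t) * (g * t) = g * (t * g) * t := by group
    _ = g * (⁅t, g⁆ * (g * t)) * t := by rw [h1]
    _ = (g * ⁅t, g⁆) * g * t * t := by group
    _ = (⁅t, g⁆ * g) * g * t * t := by rw [h2]
    _ = ⁅t, g⁆ * (g * g) * (t * t) := by group

/-- the radical of the commutator form relative to `H` -/
def Rad (H : Subgroup G) : Subgroup G where
  carrier := {t | ∀ g, ⁅t, g⁆ ∈ H}
  one_mem' := by
    intro g
    rw [commutatorElement_one_left]; exact H.one_mem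
  mul_mem' := by
    intro a b ha hb g
    rw [comm_mul_left hcomm]
    exact H.mul_mem (ha g) (hb g)
  inv_mem' := by
    intro a ha g
    have h1 : ⁅a⁻¹, g⁆ * ⁅a, g⁆ = 1 := by
      rw [← comm_mul_left hcomm, inv_mul_cancel, commutatorElement_one_left]
    have h2 : ⁅a⁻¹, g⁆ = ⁅a, g⁆⁻¹ := eq_inv_of_mul_eq_one_left h1
    change ⁅a⁻¹, g⁆ ∈ H
    rw [h2]
    exact H.inv_mem (ha g)

theorem mem_Rad (H : Subgroup G) {t : G} : t ∈ Rad hcomm H ↔ ∀ g, ⁅t, g⁆ ∈ H := Iff.rfl

variable [Fintype G]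

open Classical

/-- the character sum of the squaring map -/
noncomputable def S (H : Subgroup G) : ℤ := ∑ g : G, sgn H (g * g)

include hsq hcomm in
theorem inner_sum {H : Subgroup G} (hyp : Hyp (Om G) H) (g : G) :
    ∑ h : G, sgn H (g * g) * sgn H (h * h) = ∑ t : G, sgn H (t * t) * sgn H ⁅t, g⁆ := by
  rw [← Equiv.sum_comp (Equiv.mulLeft g)]
  apply Finset.sum_congr rfl
  intro t _
  rw [Equiv.coe_mulLeft, mul_sq hcomm g t,
    sgn_mul hyp (Subgroup.mul_mem _ (hcomm t g) (hsq g)) (hsq t),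
    sgn_mul hyp (hcomm t g) (hsq g)]
  have := sgn_sq H (g * g)
  linear_combination (sgn H ⁅t, g⁆ * sgn H (t * t)) * this

theorem comm_sum {H : Subgroup G} (hyp : Hyp (Om G) H) (t : G) :
    ∑ g : G, sgn H ⁅t, g⁆ = if t ∈ Rad hcomm H then (Fintype.card G : ℤ) else 0 := by
  split_ifs with h
  · have : ∀ g, sgn H ⁅t, g⁆ = 1 := fun g => sgn_of_mem (h g)
    simp [this]
  · rw [mem_Rad] at h
    push Not at h
    obtain ⟨g₀, hg₀⟩ := h
    apply sum_char (fun g => sgn H ⁅t, g⁆) _ (sgn_of_not_mem hg₀)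
    intro x y
    rw [comm_mul_right hcomm, sgn_mul hyp (hcomm t x) (hcomm t y)]

include hsq in
/-- the square of the character sum -/
theorem S_sq {H : Subgroup G} (hyp : Hyp (Om G) H) :
    S H * S H = (Fintype.card G : ℤ) * ∑ t : Rad hcomm H, sgn H ((t : G) * t) := by
  classical
  unfold S
  rw [Finset.sum_mul_sum]
  have h1 : ∀ g : G, ∑ h : G, sgn H (g * g) * sgn H (h * h)
      = ∑ t : G, sgn H (t * t) * sgn H ⁅t, g⁆ := fun g => inner_sum hsq hcomm hyp g
  rw [Finset.sum_congr rfl (fun g _ => h1 g), Finset.sum_comm]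
  have h2 : ∀ t : G, ∑ g : G, sgn H (t * t) * sgn H ⁅t, g⁆
      = if t ∈ Rad hcomm H then (Fintype.card G : ℤ) * sgn H (t * t) else 0 := by
    intro t
    rw [← Finset.mul_sum, comm_sum hcomm hyp]
    split_ifs <;> ring
  rw [Finset.sum_congr rfl (fun t _ => h2 t), ← Finset.sum_filter, ← Finset.mul_sum]
  congr 1
  apply Finset.sum_subtype
  intro x
  simp

include hsq in
theorem rad_sum {H : Subgroup G} (hyp : Hyp (Om G) H) :
    ∑ t : Rad hcomm H, sgn H ((t : G) * t) = 0
      ∨ ∑ t : Rad hcomm H, sgn H ((t : G) * t) = (Nat.card (Rad hcomm H) : ℤ) := by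
  classical
  rw [Nat.card_eq_fintype_card]
  apply sum_char' (fun t : Rad hcomm H => sgn H ((t : G) * t))
  · intro x y
    change sgn H (((x * y : Rad hcomm H) : G) * ((x * y : Rad hcomm H) : G)) = _
    rw [Subgroup.coe_mul, mul_sq hcomm,
      sgn_mul hyp (Subgroup.mul_mem _ (hcomm _ _) (hsq _)) (hsq _),
      sgn_mul hyp (hcomm _ _) (hsq _), sgn_of_mem (y.2 x), one_mul]
  · intro x; exact sgn_cases _ _

include hsq in
/-- the square of the character sum is zero or the product of two group orders -/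
theorem S_sq_cases {H : Subgroup G} (hyp : Hyp (Om G) H) :
    S H * S H = 0 ∨ S H * S H = (Nat.card G : ℤ) * (Nat.card (Rad hcomm H) : ℤ) := by
  rw [S_sq hsq hcomm hyp, Nat.card_eq_fintype_card]
  rcases rad_sum hsq hcomm hyp with h | h
  · left; rw [h, mul_zero]
  · right; rw [h]

end main

end Cfsg.Agent.Helper16.HigCount
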