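import Mathlib

set_option autoImplicit false
set_option linter.style.haveILetI false
set_option linter.unusedSectionVars false

/-! Higman's theorem, part two: the arithmetic. -/

namespace Cfsg.Agent.Helper16.HigCount

theorem odd_pow_unique {u w x y : ℕ} (hu : Odd u) (hw : Odd w) (h : u * 2 ^ x = w * 2 ^ y) :
    u = w ∧ x = y := by
  rcases le_total x y with hxy | hxy
  · obtain ⟨d, rfl⟩ := Nat.exists_eq_add_of_le hxy
    rw [pow_add, ← mul_assoc] at h
    have h2 : u = w * 2 ^ d := by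
      have := Nat.eq_of_mul_eq_mul_right (show 0 < 2 ^ x by positivity)
        (show u * 2 ^ x = (w * 2 ^ d) * 2 ^ x by rw [h]; ring)
      exact this
    by_cases hd : d = 0
    · subst hd
      simp at h2
      exact ⟨h2, by omega⟩
    · exfalso
      obtain ⟨e, rfl⟩ := Nat.exists_eq_succ_of_ne_zero hd
      have h3 : u = 2 * (w * 2 ^ e) := by rw [h2, pow_succ]; ring
      rw [Nat.odd_iff] at hu
      omega
  · obtain ⟨d, rfl⟩ := Nat.exists_eq_add_of_le hxy
    rw [pow_add, ← mul_assoc] at h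
    have h2 : w = u * 2 ^ d := by
      have := Nat.eq_of_mul_eq_mul_right (show 0 < 2 ^ y by positivity)
        (show w * 2 ^ y = (u * 2 ^ d) * 2 ^ y by rw [← h]; ring)
      exact this
    by_cases hd : d = 0
    · subst hd
      simp at h2
      exact ⟨h2.symm, by omega⟩
    · exfalso
      obtain ⟨e, rfl⟩ := Nat.exists_eq_succ_of_ne_zero hd
      have h3 : w = 2 * (u * 2 ^ e) := by rw [h2, pow_succ]; ring
      rw [Nat.odd_iff] at hw
      omega

theorem exists_pred_two_pow {n : ℕ} (hn : 1 ≤ n) : ∃ A : ℕ, 2 ^ n = A + 1 ∧ Odd A := by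
  obtain ⟨m, rfl⟩ := Nat.exists_eq_add_of_le' hn
  refine ⟨2 ^ (m + 1) - 1, ?_, ?_⟩
  · have := Nat.one_le_two_pow (n := m + 1); omega
  · rw [Nat.odd_iff, pow_succ]
    have := Nat.one_le_two_pow (n := m); omega

/-- the arithmetic at the end of Higman's count -/
theorem arith {n a b : ℕ} (hn : 1 ≤ n) (hna : n < a) {S : ℤ}
    (h1 : ((2 : ℤ) ^ n - 1) * S = (2 ^ n) ^ 2 - 2 ^ a)
    (h2 : S * S = 0 ∨ S * S = 2 ^ a * 2 ^ b) : a = 2 * n ∨ a = 3 * n := by
  rcases h2 with h2 | h2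
  · left
    have hS : S = 0 := mul_self_eq_zero.mp h2
    rw [hS, mul_zero] at h1
    have h3 : ((2 : ℤ) ^ n) ^ 2 = 2 ^ a := by linarith
    rw [← pow_mul] at h3
    have h4 : (2 : ℕ) ^ (n * 2) = 2 ^ a := by exact_mod_cast h3
    have := Nat.pow_right_injective (le_refl 2) h4
    omega
  · have hsq : ((2 : ℤ) ^ n - 1) ^ 2 * (2 ^ a * 2 ^ b) = ((2 ^ n) ^ 2 - 2 ^ a) ^ 2 := by
      rw [← h1, ← h2]; ring
    obtain ⟨A, hA, hAodd⟩ := exists_pred_two_pow hn
    have hA' : (2 : ℤ) ^ n = A + 1 := by exact_mod_cast hA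
    have hA1 : ((2 : ℤ) ^ n - 1) = A := by rw [hA']; ring
    rcases lt_trichotomy a (2 * n) with hlt | heq | hgt
    · exfalso
      obtain ⟨c, hc⟩ : ∃ c, 2 * n = a + c := ⟨2 * n - a, by omega⟩
      have hc1 : 1 ≤ c := by omega
      obtain ⟨C, hC, hCodd⟩ := exists_pred_two_pow hc1
      have hC' : (2 : ℤ) ^ c = C + 1 := by exact_mod_cast hC
      have e1 : ((2 : ℤ) ^ n) ^ 2 = 2 ^ a * 2 ^ c := by
        rw [← pow_mul, ← pow_add]; congr 1; omega
      have hsq' : (A : ℤ) ^ 2 * (2 ^ a * 2 ^ b) = (C : ℤ) ^ 2 * (2 ^ a) ^ 2 := by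
        rw [hA1, e1, hC'] at hsq
        rw [hsq]; ring
      have hnat : A ^ 2 * 2 ^ (a + b) = C ^ 2 * 2 ^ (2 * a) := by
        rw [pow_add, pow_mul']
        exact_mod_cast hsq'
      obtain ⟨h3, -⟩ := odd_pow_unique hAodd.pow hCodd.pow hnat
      have h4 : A = C := Nat.pow_left_injective (by norm_num : (2 : ℕ) ≠ 0) h3
      have h5 : (2 : ℕ) ^ n = 2 ^ c := by rw [hA, hC, h4]
      have := Nat.pow_right_injective (le_refl 2) h5
      omega
    · left; exact heq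
    · right
      obtain ⟨c, hc⟩ : ∃ c, a = 2 * n + c := ⟨a - 2 * n, by omega⟩
      have hc1 : 1 ≤ c := by omega
      obtain ⟨C, hC, hCodd⟩ := exists_pred_two_pow hc1
      have hC' : (2 : ℤ) ^ c = C + 1 := by exact_mod_cast hC
      have e1 : (2 : ℤ) ^ a = ((2 : ℤ) ^ n) ^ 2 * 2 ^ c := by
        rw [← pow_mul, ← pow_add]; congr 1; omega
      have hsq' : (A : ℤ) ^ 2 * (2 ^ a * 2 ^ b) = (C : ℤ) ^ 2 * ((2 ^ n) ^ 2) ^ 2 := by
        rw [hA1] at hsq
        rw [hsq, e1, hC']; ring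
      have hnat : A ^ 2 * 2 ^ (a + b) = C ^ 2 * 2 ^ (4 * n) := by
        have e2 : (2 : ℕ) ^ (4 * n) = ((2 ^ n) ^ 2) ^ 2 := by
          rw [← pow_mul, ← pow_mul]; congr 1; omega
        rw [pow_add, e2]
        exact_mod_cast hsq'
      obtain ⟨h3, -⟩ := odd_pow_unique hAodd.pow hCodd.pow hnat
      have h4 : A = C := Nat.pow_left_injective (by norm_num : (2 : ℕ) ≠ 0) h3
      have h5 : (2 : ℕ) ^ n = 2 ^ c := by rw [hA, hC, h4]
      have := Nat.pow_right_injective (le_refl 2) h5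
      omega

end Cfsg.Agent.Helper16.HigCount
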