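import Mathlib
import Cfsg.Agent.Lib.Helper16.HigmanD

set_option autoImplicit false
set_option linter.style.haveILetI false
set_option linter.unusedSectionVars false

/-! Higman's theorem on Suzuki 2-groups, part one: the acting group. -/

namespace Cfsg.Agent.Helper16.Higman

universe u v

open scoped commutatorElement

section acting

variable {G : Type u} [Group G] {K : Type v} [Group K] (φ : K →* MulAut G)

theorem phi_mul (k m : K) (z : G) : φ (k * m) z = φ k (φ m z) := by
  rw [map_mul, MulAut.mul_apply]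

theorem phi_one (z : G) : φ 1 z = z := by
  rw [map_one, MulAut.one_apply]

theorem phi_comm (hK : ∀ a b : K, a * b = b * a) (k m : K) (z : G) :
    φ k (φ m z) = φ m (φ k z) := by
  rw [← phi_mul, ← phi_mul, hK k m]

theorem reg_inj (reg : Reg φ) {x : G} (hx1 : x ≠ 1) (hx2 : x * x = 1) {k k' : K}
    (h : φ k x = φ k' x) : k = k' := by
  have h1 : φ k' x ≠ 1 := by
    intro h0
    apply hx1
    exact (MulEquiv.map_eq_one_iff (φ k')).mp h0
  have h2 : φ k' x * φ k' x = 1 := by rw [← map_mul, hx2, map_one]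
  exact (reg x (φ k' x) hx1 hx2 h1 h2).unique h rfl

theorem K_finite [Finite G] (reg : Reg φ) {c₀ : G} (hc1 : c₀ ≠ 1) (hc2 : c₀ * c₀ = 1) :
    Finite K := by
  apply Finite.of_injective (fun k : K => φ k c₀)
  intro k k' h
  exact reg_inj φ reg hc1 hc2 h

theorem inv_eq_self_of_sq {c : G} (hc : c * c = 1) : c⁻¹ = c := by
  rw [inv_eq_iff_mul_eq_one]; exact hc

/-- the additive relations between the elements of `K` -/
theorem exists_rel (hK : ∀ a b : K, a * b = b * a) (reg : Reg φ)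
    (hinv : ∀ x : G, x * x = 1 → x ∈ Subgroup.center G)
    {c₀ : G} (hc1 : c₀ ≠ 1) (hc2 : c₀ * c₀ = 1) {k : K} (hk : k ≠ 1) :
    ∃ k' : K, ∀ c : G, c * c = 1 → c * φ k c = φ k' c := by
  have hne : φ k c₀ ≠ c₀ := by
    intro h
    apply hk
    apply reg_inj φ reg hc1 hc2
    rw [h, phi_one]
  have hb2 : φ k c₀ * φ k c₀ = 1 := by rw [← map_mul, hc2, map_one]
  have hd2 : (c₀ * φ k c₀) * (c₀ * φ k c₀) = 1 := by
    rw [mul_self_central (hinv c₀ hc2), hc2, hb2, one_mul]
  have hd1 : c₀ * φ k c₀ ≠ 1 := by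
    intro h
    apply hne
    have : φ k c₀ = c₀⁻¹ := by
      rw [eq_inv_iff_mul_eq_one, ← h]
      have := hinv c₀ hc2
      rw [Subgroup.mem_center_iff] at this
      exact this _
    rw [this, inv_eq_self_of_sq hc2]
  obtain ⟨k', hk', -⟩ := reg c₀ (c₀ * φ k c₀) hc1 hc2 hd1 hd2
  refine ⟨k', ?_⟩
  intro c hc
  by_cases hc0 : c = 1
  · rw [hc0, map_one, map_one, one_mul]
  obtain ⟨m, hm, -⟩ := reg c₀ c hc1 hc2 hc0 hc
  rw [← hm, phi_comm φ hK k m, ← map_mul, ← hk', phi_comm φ hK k' m]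

/-- `K` has no element of order two -/
theorem no_two_torsion (hK : ∀ a b : K, a * b = b * a) (reg : Reg φ)
    (hinv : ∀ x : G, x * x = 1 → x ∈ Subgroup.center G)
    {c₀ : G} (hc1 : c₀ ≠ 1) (hc2 : c₀ * c₀ = 1) {t : K} (ht : t * t = 1) : t = 1 := by
  by_contra hne
  obtain ⟨k', hk'⟩ := exists_rel φ hK reg hinv hc1 hc2 hne
  have hne' : φ t c₀ ≠ c₀ := by
    intro h
    apply hne
    apply reg_inj φ reg hc1 hc2
    rw [h, phi_one]
  have hb2 : φ t c₀ * φ t c₀ = 1 := by rw [← map_mul, hc2, map_one]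
  have hd2 : (c₀ * φ t c₀) * (c₀ * φ t c₀) = 1 := by
    rw [mul_self_central (hinv c₀ hc2), hc2, hb2, one_mul]
  have hd1 : c₀ * φ t c₀ ≠ 1 := by
    intro h
    apply hne'
    have : φ t c₀ = c₀⁻¹ := by
      rw [eq_inv_iff_mul_eq_one, ← h]
      have := hinv c₀ hc2
      rw [Subgroup.mem_center_iff] at this
      exact this _
    rw [this, inv_eq_self_of_sq hc2]
  have hfix : φ t (c₀ * φ t c₀) = c₀ * φ t c₀ := by
    rw [map_mul, ← phi_mul, ht, phi_one]
    have := hinv c₀ hc2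
    rw [Subgroup.mem_center_iff] at this
    exact this _
  apply hne
  apply reg_inj φ reg hd1 hd2
  rw [hfix, phi_one]

/-- every element of `K` is a square -/
theorem sq_surj [Finite G] (hK : ∀ a b : K, a * b = b * a) (reg : Reg φ)
    (hinv : ∀ x : G, x * x = 1 → x ∈ Subgroup.center G)
    {c₀ : G} (hc1 : c₀ ≠ 1) (hc2 : c₀ * c₀ = 1) (k : K) : ∃ m : K, m * m = k := by
  haveI : Finite K := K_finite φ reg hc1 hc2
  have hinj : Function.Injective (fun m : K => m * m) := by
    intro a b hab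
    have hab' : a * a = b * b := hab
    have : (a * b⁻¹) * (a * b⁻¹) = 1 := by
      calc (a * b⁻¹) * (a * b⁻¹) = a * (b⁻¹ * a) * b⁻¹ := by group
        _ = a * (a * b⁻¹) * b⁻¹ := by rw [hK b⁻¹ a]
        _ = (a * a) * (b * b)⁻¹ := by group
        _ = 1 := by rw [hab', mul_inv_cancel]
    have := no_two_torsion φ hK reg hinv hc1 hc2 this
    exact mul_inv_eq_one.mp this
  exact (Finite.injective_iff_surjective.mp hinj) k

end acting

end Cfsg.Agent.Helper16.Higman
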