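import Mathlib
import Cfsg.Agent.Lib.Helper16.HigmanE

set_option autoImplicit false
set_option linter.style.haveILetI false
set_option linter.unusedSectionVars false

/-! Higman's theorem on Suzuki 2-groups, part one: the case of an abelian quotient. -/

namespace Cfsg.Agent.Helper16.Higman

universe u v

open scoped commutatorElement

section abquot

variable {G : Type u} [Group G] {K : Type v} [Group K] (φ : K →* MulAut G)

/-- the kernel of the top power map is central -/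
theorem ker_central (hcomm : ∀ x y : G, ⁅x, y⁆ ∈ Om G) {e : ℕ}
    (hsurj : ∀ c : G, c * c = 1 → ∃ y : G, y ^ (2 ^ e) = c) :
    ∀ j : ℕ, j ≤ e → ∀ x : G, x ^ (2 ^ j) = 1 → x ∈ Subgroup.center G := by
  intro j
  induction j with
  | zero =>
    intro _ x hx
    rw [pow_zero, pow_one] at hx
    rw [hx]; exact Subgroup.one_mem _
  | succ j ih =>
    intro hj x hx
    have hcc : x ^ (2 ^ j) * x ^ (2 ^ j) = 1 := by
      rw [← pow_two, ← pow_mul, ← pow_succ]; exact hx
    obtain ⟨y, hy⟩ := hsurj _ hcc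
    have hw : y ^ (2 ^ (e - j)) ∈ Subgroup.center G :=
      pow_two_pow_mem_center hcomm y (by omega)
    have hwj : (y ^ (2 ^ (e - j))) ^ (2 ^ j) = x ^ (2 ^ j) := by
      rw [← pow_mul, ← pow_add, Nat.sub_add_cancel (by omega), hy]
    have hw' := hw
    rw [Subgroup.mem_center_iff] at hw'
    have hcm : Commute x (y ^ (2 ^ (e - j)))⁻¹ := by
      apply Commute.inv_right
      exact hw' x
    have h1 : (x * (y ^ (2 ^ (e - j)))⁻¹) ^ (2 ^ j) = 1 := by
      rw [hcm.mul_pow, inv_pow, hwj, mul_inv_cancel]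
    have h2 := ih (by omega) _ h1
    have : x = (x * (y ^ (2 ^ (e - j)))⁻¹) * y ^ (2 ^ (e - j)) := by group
    rw [this]
    exact Subgroup.mul_mem _ h2 hw

/-- the balanced identity gives commutativity -/
theorem ab_quot_false [Finite G] (hG : IsPGroup 2 G) (hK : ∀ a b : K, a * b = b * a)
    (reg : Reg φ) (hcomm : ∀ x y : G, ⁅x, y⁆ ∈ Om G)
    (h4 : ∀ x : G, (x * x) * (x * x) = 1 → x ∈ Subgroup.center G)
    (hna : ∃ x y : G, x * y ≠ y * x) : False := by
  have hinv : ∀ x : G, x * x = 1 → x ∈ Subgroup.center G :=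
    fun x hx => inv_mem_center φ hG reg hx
  obtain ⟨x₀, hx₀⟩ := Finite.exists_max (fun x : G => orderOf x)
  obtain ⟨E, hE⟩ := (IsPGroup.iff_orderOf.mp hG) x₀
  have hpowE : ∀ x : G, x ^ (2 ^ E) = 1 := by
    intro x
    obtain ⟨j, hj⟩ := (IsPGroup.iff_orderOf.mp hG) x
    have h1 := hx₀ x
    simp only [hj, hE] at h1
    have h2 : j ≤ E := (Nat.pow_le_pow_iff_right (by norm_num)).mp h1
    rw [← orderOf_dvd_iff_pow_eq_one, hj]
    exact pow_dvd_pow 2 h2
  have hE3 : 3 ≤ E := by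
    by_contra hlt
    push Not at hlt
    obtain ⟨x, y, hxy⟩ := hna
    apply hxy
    have hx : x ∈ Subgroup.center G := by
      apply h4
      have h1 := hpowE x
      have h2 : x ^ 4 = 1 := by
        rw [← orderOf_dvd_iff_pow_eq_one] at h1 ⊢
        apply dvd_trans h1
        have : (4 : ℕ) = 2 ^ 2 := by norm_num
        rw [this]
        exact pow_dvd_pow 2 (by omega)
      rw [← pow_two, ← pow_two, ← pow_mul]; exact h2
    rw [Subgroup.mem_center_iff] at hx
    exact (hx y).symm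
  obtain ⟨e, rfl⟩ : ∃ e, E = e + 1 := ⟨E - 1, by omega⟩
  have he : 2 ≤ e := by omega
  have hψsq : ∀ x : G, x ^ (2 ^ e) * x ^ (2 ^ e) = 1 := by
    intro x
    rw [← pow_two, ← pow_mul, ← pow_succ]; exact hpowE x
  have hψhom : ∀ x y : G, (x * y) ^ (2 ^ e) = x ^ (2 ^ e) * y ^ (2 ^ e) :=
    fun x y => mul_pow_two_pow hcomm x y he
  have hc1 : x₀ ^ (2 ^ e) ≠ 1 := by
    apply pow_ne_one_of_lt_orderOf (by positivity)
    rw [hE]
    exact Nat.pow_lt_pow_right (by norm_num) (by omega)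
  have hc2 := hψsq x₀
  have hsurj : ∀ c : G, c * c = 1 → ∃ y : G, y ^ (2 ^ e) = c := by
    intro c hc
    by_cases hc0 : c = 1
    · exact ⟨1, by rw [one_pow, hc0]⟩
    obtain ⟨k, hk, -⟩ := reg _ c hc1 hc2 hc0 hc
    exact ⟨φ k x₀, by rw [← map_pow, hk]⟩
  have hker := ker_central hcomm hsurj e le_rfl
  have hsq := sq_surj φ hK reg hinv hc1 hc2
  -- the balanced identity
  have hbal : ∀ (k : K) (x y : G), ⁅φ k x, y⁆ = ⁅x, φ k y⁆ := by
    intro k x y
    by_cases hk1 : k = 1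
    · rw [hk1, phi_one, phi_one]
    obtain ⟨k', hk'⟩ := exists_rel φ hK reg hinv hc1 hc2 hk1
    have hn : ∀ x : G, (φ k' x)⁻¹ * (x * φ k x) ∈ Subgroup.center G := by
      intro x
      apply hker
      rw [hψhom, hψhom, inv_pow, ← map_pow, ← map_pow, ← hk' _ (hψsq x), inv_mul_cancel]
    have hdec : ∀ x : G, ∃ n ∈ Subgroup.center G, x * φ k x = φ k' x * n := by
      intro x
      exact ⟨_, hn x, by group⟩
    have e1 : ⁅x * φ k x, y * φ k y⁆ = ⁅φ k' x, φ k' y⁆ := by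
      obtain ⟨n, hn1, hn2⟩ := hdec x
      obtain ⟨n', hn1', hn2'⟩ := hdec y
      rw [hn2, hn2', comm_mul_left hcomm, comm_mul_right hcomm, comm_mul_right hcomm,
        comm_central_left hcomm hn1, comm_central_left hcomm hn1,
        comm_central_right hcomm hn1']
      simp
    have e2 : ⁅φ k' x, φ k' y⁆ = ⁅x, y⁆ * φ k ⁅x, y⁆ := by
      rw [← map_commutatorElement, hk' _ (comm_sq hcomm x y)]
    have e3 : ⁅x * φ k x, y * φ k y⁆ =
        ⁅x, y⁆ * ⁅x, φ k y⁆ * (⁅φ k x, y⁆ * φ k ⁅x, y⁆) := by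
      rw [comm_mul_left hcomm, comm_mul_right hcomm, comm_mul_right hcomm,
        map_commutatorElement]
    have e4 : ⁅x, y⁆ * ⁅x, φ k y⁆ * (⁅φ k x, y⁆ * φ k ⁅x, y⁆) = ⁅x, y⁆ * φ k ⁅x, y⁆ := by
      rw [← e3, e1, e2]
    have e5 : ⁅x, φ k y⁆ * ⁅φ k x, y⁆ = 1 := by
      have h1 : ⁅x, y⁆ * ((⁅x, φ k y⁆ * ⁅φ k x, y⁆) * φ k ⁅x, y⁆) = ⁅x, y⁆ * φ k ⁅x, y⁆ := by
        rw [← e4]; group
      have h2 := mul_left_cancel h1
      exact mul_eq_right.mp h2
    have e6 : ⁅φ k x, y⁆ = (⁅x, φ k y⁆)⁻¹ := by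
      rw [eq_inv_iff_mul_eq_one, comm_commute hcomm x (φ k y)]
      exact e5
    rw [e6, inv_eq_self_of_sq (comm_sq hcomm x (φ k y))]
  have hself : ∀ (k : K) (x : G), ⁅x, φ k x⁆ = 1 := by
    intro k x
    obtain ⟨m, rfl⟩ := hsq k
    rw [phi_mul, ← hbal, comm_self hcomm]
  obtain ⟨x, y, hxy⟩ := hna
  apply hxy
  have key : ⁅x, y⁆ = 1 := by
    by_cases hx : x ^ (2 ^ e) = 1
    · exact comm_central_left hcomm (hker x hx)
    by_cases hy : y ^ (2 ^ e) = 1
    · exact comm_central_right hcomm (hker y hy)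
    obtain ⟨k, hk, -⟩ := reg _ _ hx (hψsq x) hy (hψsq y)
    have hn : (φ k x)⁻¹ * y ∈ Subgroup.center G := by
      apply hker
      rw [hψhom, inv_pow, ← map_pow, hk, inv_mul_cancel]
    have hy' : y = φ k x * ((φ k x)⁻¹ * y) := by group
    rw [hy', comm_mul_right hcomm, comm_central_right hcomm hn, mul_one, hself]
  rw [commutatorElement_eq_one_iff_commute] at key
  exact key.eq

end abquot

end Cfsg.Agent.Helper16.Higman
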