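import Mathlib
import Cfsg.Agent.Lib.Helper16.HigmanF

set_option autoImplicit false
set_option linter.style.haveILetI false
set_option linter.unusedSectionVars false

/-! Higman's theorem on Suzuki 2-groups, part one: the centre has exponent two. -/

namespace Cfsg.Agent.Helper16.Higman

universe u v

open scoped commutatorElement

theorem center_exp_two_aux {K : Type v} [Group K] (hK : ∀ a b : K, a * b = b * a) :
    ∀ (n : ℕ) (G : Type u) [Group G] [Finite G], Nat.card G = n → IsPGroup 2 G →
      ∀ φ : K →* MulAut G, Reg φ → (∃ x y : G, x * y ≠ y * x) →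
      ∀ z ∈ Subgroup.center G, z * z = 1 := by
  intro n
  induction n using Nat.strong_induction_on with
  | _ n ih =>
  intro G _ _ hn hG φ reg hna z hz
  by_contra hz2
  obtain ⟨a₀, ha, ha2, ha4⟩ := exists_order_four hG hz hz2
  have h4 : ∀ x : G, (x * x) * (x * x) = 1 → x ∈ Subgroup.center G :=
    fun x hx => mem_center_of_pow_four φ hG reg ha ha2 ha4 hx
  by_cases hab : ∀ a b : G ⧸ Om G, a * b = b * a
  · apply ab_quot_false φ hG hK reg _ h4 hna
    intro x y
    rw [← QuotientGroup.eq_one_iff, commutatorElement_def]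
    simp only [QuotientGroup.mk_mul, QuotientGroup.mk_inv]
    rw [hab (QuotientGroup.mk x) (QuotientGroup.mk y)]
    group
  · push Not at hab
    have hlt : Nat.card (G ⧸ Om G) < n := by
      have h1 := Subgroup.card_eq_card_quotient_mul_card_subgroup (Om G)
      haveI : Nontrivial (Om G) :=
        ⟨⟨⟨a₀ * a₀, ⟨Subgroup.mul_mem _ ha ha, ha4⟩⟩, 1, fun h => ha2 (congrArg Subtype.val h)⟩⟩
      have h2 : 1 < Nat.card (Om G) := Finite.one_lt_card
      have h3 : 0 < Nat.card (G ⧸ Om G) := Nat.card_pos
      rw [hn] at h1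
      rw [h1]
      nlinarith
    have IH := ih _ hlt (G ⧸ Om G) rfl (hG.to_quotient _) (barHom φ)
      (reg_bar φ hG reg ha ha2 ha4) hab
    exact nonab_quot_false φ hG reg ha ha2 ha4 hna IH

/-- **Higman**: in a nonabelian finite 2-group with a commutative group of automorphisms acting
regularly on the involutions, the centre has exponent two. -/
theorem center_exp_two {G : Type u} [Group G] [Finite G] (hG : IsPGroup 2 G)
    {K : Type v} [Group K] (hK : ∀ a b : K, a * b = b * a) (φ : K →* MulAut G) (reg : Reg φ)
    (hna : ∃ x y : G, x * y ≠ y * x) {z : G} (hz : z ∈ Subgroup.center G) : z * z = 1 :=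
  center_exp_two_aux hK _ G rfl hG φ reg hna z hz

end Cfsg.Agent.Helper16.Higman
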