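import Mathlib
import Cfsg.Agent.Lib.Helper16.HigmanG

set_option autoImplicit false
set_option linter.style.haveILetI false
set_option linter.unusedSectionVars false

/-! Higman's theorem, part two: restriction of the action and semiregularity on cosets. -/

namespace Cfsg.Agent.Helper16.Higman

universe u v

section res

variable {G : Type u} [Group G] {K : Type v} [Group K] (φ : K →* MulAut G)

/-- restriction of the action to an invariant subgroup -/
def resHom (H : Subgroup G) (hH : ∀ k x, x ∈ H → φ k x ∈ H) : K →* MulAut H where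
  toFun k :=
    { toFun := fun x => ⟨φ k x, hH k x x.2⟩
      invFun := fun x => ⟨φ k⁻¹ x, hH k⁻¹ x x.2⟩
      left_inv := fun x => by
        apply Subtype.ext
        change φ k⁻¹ (φ k x) = x
        rw [← phi_mul, inv_mul_cancel, phi_one]
      right_inv := fun x => by
        apply Subtype.ext
        change φ k (φ k⁻¹ x) = x
        rw [← phi_mul, mul_inv_cancel, phi_one]
      map_mul' := fun x y => by
        apply Subtype.ext
        change φ k (x * y) = φ k x * φ k y
        rw [map_mul] }
  map_one' := by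
    ext x
    change φ 1 (x : G) = x
    rw [phi_one]
  map_mul' a b := by
    ext x
    change φ (a * b) (x : G) = φ a (φ b x)
    rw [phi_mul]

theorem resHom_coe (H : Subgroup G) (hH : ∀ k x, x ∈ H → φ k x ∈ H) (k : K) (x : H) :
    ((resHom φ H hH k x : H) : G) = φ k x := rfl

theorem reg_res (reg : Reg φ) (H : Subgroup G) (hH : ∀ k x, x ∈ H → φ k x ∈ H) :
    Reg (resHom φ H hH) := by
  intro x y hx1 hx2 hy1 hy2
  have hx1' : (x : G) ≠ 1 := fun h => hx1 (Subtype.ext h)
  have hy1' : (y : G) ≠ 1 := fun h => hy1 (Subtype.ext h)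
  have hx2' : (x : G) * x = 1 := congrArg Subtype.val hx2
  have hy2' : (y : G) * y = 1 := congrArg Subtype.val hy2
  obtain ⟨k, hk, hku⟩ := reg x y hx1' hx2' hy1' hy2'
  refine ⟨k, Subtype.ext hk, ?_⟩
  intro k' hk'
  exact hku k' (congrArg Subtype.val hk')

/-- a nontrivial fixed point forces the acting element to be trivial -/
theorem eq_one_of_fix [Finite G] (hG : IsPGroup 2 G) (reg : Reg φ) {k : K} {x : G} (hx : x ≠ 1)
    (h : φ k x = x) : k = 1 := by
  obtain ⟨m, hm⟩ := (IsPGroup.iff_orderOf.mp hG) x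
  have hm1 : 1 ≤ m := by
    by_contra h0
    have : m = 0 := by omega
    rw [this, pow_zero, orderOf_eq_one_iff] at hm
    exact hx hm
  have hz1 : x ^ (2 ^ (m - 1)) ≠ 1 := by
    apply pow_ne_one_of_lt_orderOf (by positivity)
    rw [hm]
    exact Nat.pow_lt_pow_right (by norm_num) (by omega)
  have hz2 : x ^ (2 ^ (m - 1)) * x ^ (2 ^ (m - 1)) = 1 := by
    rw [← pow_two, ← pow_mul, ← pow_succ, Nat.sub_add_cancel hm1, ← hm, pow_orderOf_eq_one]
  apply reg_inj φ reg hz1 hz2
  rw [map_pow, h, phi_one]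

end res

section coset

variable {G : Type u} [Group G]

/-- a fixed-point-free automorphism of odd prime order fixes no nontrivial coset of an
invariant subgroup of a `2`-group -/
theorem coset_fix [Finite G] (hG : IsPGroup 2 G) (f : MulAut G) (hfix : ∀ x, f x = x → x = 1)
    {p : ℕ} [hp : Fact p.Prime] (hp2 : p ≠ 2) (hfp : ∀ x, (f ^ p) x = x) (C : Subgroup G)
    (hC : ∀ x ∈ C, f x ∈ C) {g : G} (hg : g⁻¹ * f g ∈ C) : g ∈ C := by
  classical
  let S : Set G := {x | g⁻¹ * x ∈ C}
  have hS : ∀ x ∈ S, f x ∈ S := by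
    intro x hx
    change g⁻¹ * f x ∈ C
    have h1 : g⁻¹ * f x = (g⁻¹ * f g) * f (g⁻¹ * x) := by
      rw [map_mul, map_inv]; group
    rw [h1]
    exact C.mul_mem hg (hC _ hx)
  haveI : Fintype S := Fintype.ofFinite S
  let F₀ : S → S := fun x => ⟨f x, hS x x.2⟩
  have hinj : Function.Injective F₀ := by
    intro x y hxy
    apply Subtype.ext
    have := congrArg Subtype.val hxy
    exact f.injective this
  let σ : Equiv.Perm S := Equiv.ofBijective F₀ (Finite.injective_iff_bijective.mp hinj)
  have hσpow : ∀ n : ℕ, ∀ x : S, ((σ ^ n) x : G) = (f ^ n) x := by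
    intro n
    induction n with
    | zero => intro x; simp
    | succ n ih =>
      intro x
      rw [pow_succ', Equiv.Perm.mul_apply, pow_succ', MulAut.mul_apply, ← ih x]
      rfl
  have hσ : σ ^ p ^ 1 = 1 := by
    ext x
    rw [pow_one, hσpow, hfp]
    rfl
  have hcard : Fintype.card S = Nat.card C := by
    rw [← Nat.card_eq_fintype_card]
    apply Nat.card_congr
    exact
      { toFun := fun x => ⟨g⁻¹ * x, x.2⟩
        invFun := fun c => ⟨g * c, by change g⁻¹ * (g * c) ∈ C; rw [inv_mul_cancel_left]; exact c.2⟩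
        left_inv := fun x => by apply Subtype.ext; simp
        right_inv := fun c => by apply Subtype.ext; simp }
  have hnd : ¬ p ∣ Fintype.card S := by
    rw [hcard]
    obtain ⟨a, ha⟩ := IsPGroup.iff_card.mp (hG.to_subgroup C)
    rw [ha]
    intro hdvd
    have := (Nat.prime_dvd_prime_iff_eq hp.out Nat.prime_two).mp (hp.out.dvd_of_dvd_pow hdvd)
    exact hp2 this
  obtain ⟨a, ha⟩ := Equiv.Perm.exists_fixed_point_of_prime hnd hσ
  have ha' : f a = a := congrArg Subtype.val ha
  have h1 := hfix _ ha'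
  have h2 : g⁻¹ * (a : G) ∈ C := a.2
  rw [h1, mul_one] at h2
  exact (Subgroup.inv_mem_iff C).mp h2

end coset

section semi

variable {G : Type u} [Group G] {K : Type v} [Group K] (φ : K →* MulAut G)

/-- the action on the cosets of an invariant subgroup is semiregular -/
theorem semireg_coset [Finite G] (hG : IsPGroup 2 G) (hK : ∀ a b : K, a * b = b * a)
    (reg : Reg φ) (hne : ∃ x : G, x ≠ 1) (C : Subgroup G) (hC : ∀ k x, x ∈ C → φ k x ∈ C)
    {k : K} {g : G} (hg : g ∉ C) (hk : g⁻¹ * φ k g ∈ C) : k = 1 := by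
  by_contra hk1
  have hinv : ∀ x : G, x * x = 1 → x ∈ Subgroup.center G :=
    fun x hx => inv_mem_center φ hG reg hx
  -- an involution
  haveI : Nontrivial G := by
    obtain ⟨x, hx⟩ := hne
    exact ⟨⟨x, 1, hx⟩⟩
  obtain ⟨c₀, -, hc1, hc2⟩ := exists_central_involution hG
  haveI : Finite K := K_finite φ reg hc1 hc2
  have hord : orderOf k ≠ 1 := fun h => hk1 (orderOf_eq_one_iff.mp h)
  have hpos : 0 < orderOf k := orderOf_pos k
  let p := (orderOf k).minFac
  have hpp : p.Prime := Nat.minFac_prime hord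
  haveI : Fact p.Prime := ⟨hpp⟩
  have hpd : p ∣ orderOf k := Nat.minFac_dvd _
  set k' := k ^ (orderOf k / p) with hk'
  have hk'ord : orderOf k' = p := orderOf_pow_orderOf_div hpos.ne' hpd
  have hk'p : k' ^ p = 1 := by rw [← hk'ord]; exact pow_orderOf_eq_one _
  have hk'1 : k' ≠ 1 := by
    intro h
    rw [h, orderOf_one] at hk'ord
    exact hpp.one_lt.ne hk'ord
  have hp2 : p ≠ 2 := by
    intro h2
    apply hk'1
    apply no_two_torsion φ hK reg hinv hc1 hc2
    rw [← pow_two, ← h2]; exact hk'p
  -- powers of k fix the coset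
  have hpow : ∀ n : ℕ, g⁻¹ * φ (k ^ n) g ∈ C := by
    intro n
    induction n with
    | zero => rw [pow_zero, phi_one, inv_mul_cancel]; exact C.one_mem
    | succ n ih =>
      rw [pow_succ', phi_mul]
      have : g⁻¹ * φ k (φ (k ^ n) g) = (g⁻¹ * φ k g) * φ k (g⁻¹ * φ (k ^ n) g) := by
        rw [map_mul, map_inv]; group
      rw [this]
      exact C.mul_mem hk (hC _ _ ih)
  apply hg
  apply coset_fix hG (φ k') ?_ hp2 ?_ C (fun x hx => hC k' x hx) (hpow _)
  · intro x hx
    by_contra hx1
    exact hk'1 (eq_one_of_fix φ hG reg hx1 hx)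
  · intro x
    rw [← map_pow, hk'p, phi_one]

end semi

end Cfsg.Agent.Helper16.Higman
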