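import Mathlib
import Cfsg.Agent.Lib.Helper16.HigGrpA
import Cfsg.Agent.Lib.Helper16.Center

set_option autoImplicit false
set_option linter.style.haveILetI false
set_option linter.unusedSectionVars false

/-! Higman's theorem, part two: the second centre. -/

namespace Cfsg.Agent.Helper16.Higman

universe u v

open scoped commutatorElement

/-- the standing hypotheses -/
structure Ctx (G : Type u) [Group G] (K : Type v) [Group K] where
  /-- finiteness -/
  fin : Finite G
  /-- a `2`-group -/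
  pg : IsPGroup 2 G
  /-- the action -/
  φ : K →* MulAut G
  /-- commutativity -/
  kcomm : ∀ a b : K, a * b = b * a
  /-- regularity on the involutions -/
  reg : Reg φ
  /-- the group is not abelian -/
  hna : ∃ x y : G, x * y ≠ y * x

variable {G : Type u} [Group G] {K : Type v} [Group K]

theorem Ctx.mem_V (X : Ctx G K) {x : G} : x ∈ Om G ↔ x * x = 1 := by
  haveI := X.fin
  constructor
  · intro h; exact h.2
  · intro h; exact ⟨inv_mem_center X.φ X.pg X.reg h, h⟩

theorem Ctx.center_le_V (X : Ctx G K) : Subgroup.center G ≤ Om G := by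
  haveI := X.fin
  intro z hz
  exact ⟨hz, center_exp_two X.pg X.kcomm X.φ X.reg X.hna hz⟩

theorem Ctx.V_commute (_X : Ctx G K) {v : G} (hv : v ∈ Om G) (g : G) : g * v = v * g := by
  have := hv.1
  rw [Subgroup.mem_center_iff] at this
  exact this g

theorem Ctx.phi_mem_V (X : Ctx G K) (k : K) {x : G} (hx : x ∈ Om G) : X.φ k x ∈ Om G := by
  rw [X.mem_V] at hx ⊢
  rw [← map_mul, hx, map_one]

theorem Ctx.inv_eq_of_mem_V (_X : Ctx G K) {v : G} (hv : v ∈ Om G) : v⁻¹ = v :=
  inv_eq_self_of_sq hv.2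

/-- the preimage of the central involutions of the quotient -/
def Ctx.M (_X : Ctx G K) : Subgroup G := (Om (G ⧸ Om G)).comap (QuotientGroup.mk' (Om G))

theorem Ctx.mem_M (X : Ctx G K) {x : G} : x ∈ X.M ↔ (∀ g : G, ⁅x, g⁆ ∈ Om G) ∧ x * x ∈ Om G := by
  unfold Ctx.M
  rw [Subgroup.mem_comap, mem_Om]
  simp only [QuotientGroup.mk'_apply]
  constructor
  · rintro ⟨h1, h2⟩
    constructor
    · intro g
      rw [Subgroup.mem_center_iff] at h1
      have := h1 (QuotientGroup.mk g)
      rw [← QuotientGroup.eq_one_iff, commutatorElement_def]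
      simp only [QuotientGroup.mk_mul, QuotientGroup.mk_inv]
      rw [← this]; group
    · rw [← QuotientGroup.mk_mul, QuotientGroup.eq_one_iff] at h2
      exact h2
  · rintro ⟨h1, h2⟩
    constructor
    · rw [Subgroup.mem_center_iff]
      intro Y
      induction Y using QuotientGroup.induction_on with
      | H g =>
      have h3 := h1 g
      rw [← QuotientGroup.eq_one_iff (N := Om G), commutatorElement_def] at h3
      simp only [QuotientGroup.mk_mul, QuotientGroup.mk_inv] at h3
      have h4 : ⁅(QuotientGroup.mk x : G ⧸ Om G), (QuotientGroup.mk g : G ⧸ Om G)⁆ = 1 := by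
        rw [commutatorElement_def]; exact h3
      rw [commutatorElement_eq_one_iff_commute] at h4
      exact h4.eq.symm
    · rw [← QuotientGroup.mk_mul, QuotientGroup.eq_one_iff]
      exact h2

instance Ctx.M_normal (X : Ctx G K) : X.M.Normal := by
  unfold Ctx.M
  infer_instance

theorem Ctx.V_le_M (X : Ctx G K) : Om G ≤ X.M := by
  intro v hv
  rw [X.mem_M]
  constructor
  · intro g
    have : ⁅v, g⁆ = 1 := by
      rw [commutatorElement_def, ← X.V_commute hv g]; group
    rw [this]; exact Subgroup.one_mem _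
  · rw [hv.2]; exact Subgroup.one_mem _

theorem Ctx.phi_mem_M (X : Ctx G K) (k : K) {x : G} (hx : x ∈ X.M) : X.φ k x ∈ X.M := by
  rw [X.mem_M] at hx ⊢
  constructor
  · intro g
    have h1 := hx.1 (X.φ k⁻¹ g)
    have h2 := X.phi_mem_V k h1
    rw [map_commutatorElement, ← phi_mul, mul_inv_cancel, phi_one] at h2
    exact h2
  · rw [← map_mul]
    exact X.phi_mem_V k hx.2

theorem Ctx.comm_mem_V (X : Ctx G K) {m : G} (hm : m ∈ X.M) (g : G) : ⁅m, g⁆ ∈ Om G := (X.mem_M.mp hm).1 g

theorem Ctx.sq_mem_V (X : Ctx G K) {m : G} (hm : m ∈ X.M) : m * m ∈ Om G := (X.mem_M.mp hm).2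

/-- `M` is strictly bigger than the involutions -/
theorem Ctx.exists_mem_M_not_mem_V (X : Ctx G K) : ∃ x ∈ X.M, x ∉ Om G := by
  haveI := X.fin
  haveI : Nontrivial (G ⧸ Om G) := by
    by_contra h
    rw [not_nontrivial_iff_subsingleton] at h
    obtain ⟨x, y, hxy⟩ := X.hna
    apply hxy
    have : (QuotientGroup.mk x : G ⧸ Om G) = 1 := Subsingleton.elim _ _
    rw [QuotientGroup.eq_one_iff] at this
    exact (X.V_commute this y).symm
  have hQ : IsPGroup 2 (G ⧸ Om G) := X.pg.to_quotient _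
  obtain ⟨Z, hZ, hZ1, hZ2⟩ := exists_central_involution hQ
  induction Z using QuotientGroup.induction_on with
  | H x =>
  refine ⟨x, ?_, ?_⟩
  · change QuotientGroup.mk' (Om G) x ∈ Om (G ⧸ Om G)
    exact ⟨hZ, hZ2⟩
  · intro h
    apply hZ1
    rw [QuotientGroup.eq_one_iff]; exact h

/-- if `m g m⁻¹ g⁻¹` is a central involution then `g²` commutes with `m` -/
theorem Ctx.sq_commute_of_comm_mem_V (X : Ctx G K) {m g : G} (h : ⁅m, g⁆ ∈ Om G) :
    m * (g * g) = (g * g) * m := by
  have h1 : m * g = ⁅m, g⁆ * (g * m) := by rw [commutatorElement_def]; group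
  have h2 := X.V_commute h g
  calc m * (g * g) = (m * g) * g := by group
    _ = ⁅m, g⁆ * (g * m) * g := by rw [h1]
    _ = ⁅m, g⁆ * g * (m * g) := by group
    _ = ⁅m, g⁆ * g * (⁅m, g⁆ * (g * m)) := by rw [← h1]
    _ = ⁅m, g⁆ * (g * ⁅m, g⁆) * g * m := by group
    _ = ⁅m, g⁆ * (⁅m, g⁆ * g) * g * m := by rw [h2]
    _ = (⁅m, g⁆ * ⁅m, g⁆) * (g * g) * m := by group
    _ = (g * g) * m := by rw [h.2, one_mul]

/-- if `M` is not abelian, all squares are central involutions -/
theorem Ctx.sq_mem_V_of_M_nonab (X : Ctx G K) (hM : ∃ x ∈ X.M, ∃ y ∈ X.M, x * y ≠ y * x) (g : G) :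
    g * g ∈ Om G := by
  haveI := X.fin
  haveI : Fact (Nat.Prime 2) := ⟨Nat.prime_two⟩
  -- the centre of M has exponent two
  have hMc : ∀ z ∈ Subgroup.center X.M, z * z = 1 := by
    intro z hz
    obtain ⟨x, hx, y, hy, hxy⟩ := hM
    exact center_exp_two (X.pg.to_subgroup X.M) X.kcomm
      (resHom X.φ X.M (fun k x hx => X.phi_mem_M k hx))
      (reg_res X.φ X.reg X.M _) ⟨⟨x, hx⟩, ⟨y, hy⟩, fun h => hxy (congrArg Subtype.val h)⟩ hz
  -- the centralizer of M consists of involutions
  have hC : Subgroup.centralizer (X.M : Set G) ≤ Om G := by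
    by_contra hnot
    let N : Subgroup (G ⧸ Om G) := (Subgroup.centralizer (X.M : Set G)).map (QuotientGroup.mk' (Om G))
    haveI : N.Normal := Subgroup.Normal.map inferInstance _ (QuotientGroup.mk'_surjective _)
    have hN : N ≠ ⊥ := by
      intro hbot
      apply hnot
      intro c hc
      have : QuotientGroup.mk' (Om G) c ∈ N := Subgroup.mem_map_of_mem _ hc
      rw [hbot, Subgroup.mem_bot, QuotientGroup.mk'_apply, QuotientGroup.eq_one_iff] at this
      exact this
    have hQ : IsPGroup 2 (G ⧸ Om G) := X.pg.to_quotient _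
    obtain ⟨z, hzN, hzc, hz1⟩ := exists_mem_center_of_normal_ne_bot' hQ N hN
    -- an element of order two
    obtain ⟨r, hr⟩ := (IsPGroup.iff_orderOf.mp hQ) z
    have hr1 : 1 ≤ r := by
      by_contra h0
      have : r = 0 := by omega
      rw [this, pow_zero, orderOf_eq_one_iff] at hr
      exact hz1 hr
    have hw1 : z ^ (2 ^ (r - 1)) ≠ 1 := by
      apply pow_ne_one_of_lt_orderOf (by positivity)
      rw [hr]
      exact Nat.pow_lt_pow_right (by norm_num) (by omega)
    have hw2 : z ^ (2 ^ (r - 1)) * z ^ (2 ^ (r - 1)) = 1 := by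
      rw [← pow_two, ← pow_mul, ← pow_succ, Nat.sub_add_cancel hr1, ← hr, pow_orderOf_eq_one]
    have hwN : z ^ (2 ^ (r - 1)) ∈ N := Subgroup.pow_mem _ hzN _
    have hwc : z ^ (2 ^ (r - 1)) ∈ Subgroup.center (G ⧸ Om G) := Subgroup.pow_mem _ hzc _
    obtain ⟨c, hc, hcw⟩ := hwN
    have hcM : c ∈ X.M := by
      change QuotientGroup.mk' (Om G) c ∈ Om (G ⧸ Om G)
      rw [hcw]
      exact ⟨hwc, hw2⟩
    have hcc : (⟨c, hcM⟩ : X.M) ∈ Subgroup.center X.M := by
      rw [Subgroup.mem_center_iff]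
      intro m
      apply Subtype.ext
      have hc' : c ∈ Subgroup.centralizer (X.M : Set G) := hc
      rw [Subgroup.mem_centralizer_iff] at hc'
      exact hc' m m.2
    have h3 := hMc _ hcc
    have h4 : c * c = 1 := congrArg Subtype.val h3
    apply hw1
    rw [← hcw, QuotientGroup.mk'_apply, QuotientGroup.eq_one_iff, X.mem_V]
    exact h4
  apply hC
  rw [Subgroup.mem_centralizer_iff]
  intro m hm
  exact X.sq_commute_of_comm_mem_V (X.comm_mem_V hm g)

end Cfsg.Agent.Helper16.Higman
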