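import Mathlib
import Cfsg.Agent.Lib.Helper16.HigGrpB
import Cfsg.Agent.Lib.Helper16.HigCountA
import Cfsg.Agent.Lib.Helper16.HigCountB

set_option autoImplicit false
set_option linter.style.haveILetI false
set_option linter.unusedSectionVars false

/-! Higman's theorem, part two: the order of a Suzuki 2-group. -/

namespace Cfsg.Agent.Helper16.HigCount

universe u v

open scoped commutatorElement
open Cfsg.Agent.Helper16.Higman

variable {G : Type u} [Group G] {K : Type v} [Group K]

theorem mem_map_subtype' {V : Subgroup G} {H' : Subgroup V} {x : G} :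
    x ∈ H'.map V.subtype ↔ ∃ hx : x ∈ V, (⟨x, hx⟩ : V) ∈ H' := by
  rw [Subgroup.mem_map]
  constructor
  · rintro ⟨y, hy, rfl⟩
    exact ⟨y.2, hy⟩
  · rintro ⟨hx, h⟩
    exact ⟨⟨x, hx⟩, h, rfl⟩

/-- a nontrivial subgroup of a finite 2-group has a hyperplane -/
theorem exists_hyp [Finite G] (hG : IsPGroup 2 G) (V : Subgroup G) (hV : ∃ v ∈ V, v ≠ 1) :
    ∃ H, Hyp V H := by
  haveI : Fact (Nat.Prime 2) := ⟨Nat.prime_two⟩
  obtain ⟨m, hm⟩ := IsPGroup.iff_card.mp (hG.to_subgroup V)
  have hm1 : 1 ≤ m := by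
    by_contra h
    have h0 : m = 0 := by omega
    rw [h0, pow_zero] at hm
    haveI : Subsingleton V := (Nat.card_eq_one_iff_unique.mp hm).1
    obtain ⟨v, hv, hv1⟩ := hV
    apply hv1
    have : (⟨v, hv⟩ : V) = 1 := Subsingleton.elim _ _
    exact congrArg Subtype.val this
  obtain ⟨H', hH'⟩ := Sylow.exists_subgroup_card_pow_prime (G := V) 2 (n := m - 1)
    (by rw [hm]; exact pow_dvd_pow 2 (by omega))
  have hidx : H'.index = 2 := by
    have h1 := Subgroup.card_mul_index H'
    rw [hH', hm] at h1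
    have h2 : 2 ^ m = 2 ^ (m - 1) * 2 := by
      rw [← pow_succ]; congr 1; omega
    rw [h2] at h1
    exact Nat.eq_of_mul_eq_mul_left (by positivity) h1
  refine ⟨H'.map V.subtype, Subgroup.map_subtype_le _, ?_, ?_⟩
  · intro a ha b hb
    have h1 := Subgroup.mul_mem_iff_of_index_two hidx (a := (⟨a, ha⟩ : V)) (b := ⟨b, hb⟩)
    rw [mem_map_subtype', mem_map_subtype', mem_map_subtype']
    constructor
    · rintro ⟨hx, h⟩
      have := h1.mp h
      constructor
      · rintro ⟨_, h'⟩; exact ⟨hb, this.mp h'⟩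
      · rintro ⟨_, h'⟩; exact ⟨ha, this.mpr h'⟩
    · intro h
      refine ⟨Subgroup.mul_mem _ ha hb, h1.mpr ?_⟩
      constructor
      · intro h'; exact (h.mp ⟨ha, h'⟩).2
      · intro h'; exact (h.mpr ⟨hb, h'⟩).2
  · have hne : H' ≠ ⊤ := by
      intro h
      rw [h, Subgroup.index_top] at hidx
      omega
    obtain ⟨v, hv⟩ : ∃ v : V, v ∉ H' := by
      by_contra h
      push Not at h
      exact hne ((Subgroup.eq_top_iff' H').mpr h)
    refine ⟨v, v.2, ?_⟩
    rw [mem_map_subtype']
    rintro ⟨_, h⟩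
    exact hv h

section avg

variable (X : Ctx G K) {H : Subgroup G} (hyp : Hyp (Om G) H)

include hyp in
theorem V_sum [Finite G] :
    ∀ [Fintype (Om G)], ∑ v : Om G, sgn H (v : G) = 0 := by
  intro _
  obtain ⟨v₀, hv₀, hv₀H⟩ := hyp.ne
  apply sum_char (fun v : Om G => sgn H (v : G)) _ (g₀ := ⟨v₀, hv₀⟩) (sgn_of_not_mem hv₀H)
  intro x y
  exact sgn_mul hyp x.2 y.2

include hyp in
theorem orbit_sum [Fintype K] [Finite G] {w : G} (hw : w ∈ Om G) (hw1 : w ≠ 1) :
    ∑ k : K, sgn H (X.φ k w) = -1 := by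
  classical
  haveI : Fintype (Om G) := Fintype.ofFinite _
  have h1 : ∑ k : K, sgn H (X.φ k w)
      = ∑ v ∈ (Finset.univ : Finset (Om G)).erase 1, sgn H (v : G) := by
    apply Finset.sum_bij (fun k _ => (⟨X.φ k w, X.phi_mem_V k hw⟩ : Om G))
    · intro k _
      rw [Finset.mem_erase]
      refine ⟨?_, Finset.mem_univ _⟩
      intro h
      apply hw1
      have : X.φ k w = 1 := congrArg Subtype.val h
      exact (MulEquiv.map_eq_one_iff (X.φ k)).mp this
    · intro k _ k' _ h
      have : X.φ k w = X.φ k' w := congrArg Subtype.val h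
      exact reg_inj X.φ X.reg hw1 hw.2 this
    · intro v hv
      rw [Finset.mem_erase] at hv
      have hv1 : (v : G) ≠ 1 := fun h => hv.1 (Subtype.ext h)
      obtain ⟨k, hk, -⟩ := X.reg w v hw1 hw.2 hv1 v.2.2
      exact ⟨k, Finset.mem_univ _, Subtype.ext hk⟩
    · intro k _; rfl
  have h2 := Finset.add_sum_erase (Finset.univ : Finset (Om G)) (fun v => sgn H (v : G))
    (Finset.mem_univ 1)
  have h3 : ∑ v : Om G, sgn H (v : G) = 0 := V_sum hyp
  have h4 : sgn H ((1 : Om G) : G) = 1 := sgn_of_mem H.one_mem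
  rw [h1]
  simp only [h3, h4] at h2
  linarith

include X hyp in
theorem card_K [Fintype K] [Finite G] : Fintype.card K + 1 = Nat.card (Om G) := by
  classical
  haveI : Fintype (Om G) := Fintype.ofFinite _
  obtain ⟨w, hw, hwH⟩ := hyp.ne
  have hw1 : w ≠ 1 := fun h => hwH (by rw [h]; exact H.one_mem)
  have h1 : (Finset.univ : Finset K).card = ((Finset.univ : Finset (Om G)).erase 1).card := by
    apply Finset.card_bij (fun k _ => (⟨X.φ k w, X.phi_mem_V k hw⟩ : Om G))
    · intro k _
      rw [Finset.mem_erase]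
      refine ⟨?_, Finset.mem_univ _⟩
      intro h
      apply hw1
      have : X.φ k w = 1 := congrArg Subtype.val h
      exact (MulEquiv.map_eq_one_iff (X.φ k)).mp this
    · intro k _ k' _ h
      have : X.φ k w = X.φ k' w := congrArg Subtype.val h
      exact reg_inj X.φ X.reg hw1 hw.2 this
    · intro v hv
      rw [Finset.mem_erase] at hv
      have hv1 : (v : G) ≠ 1 := fun h => hv.1 (Subtype.ext h)
      obtain ⟨k, hk, -⟩ := X.reg w v hw1 hw.2 hv1 v.2.2
      exact ⟨k, Finset.mem_univ _, Subtype.ext hk⟩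
  rw [Finset.card_erase_of_mem (Finset.mem_univ _), Finset.card_univ, Finset.card_univ] at h1
  rw [Nat.card_eq_fintype_card, h1]
  have : 0 < Fintype.card (Om G) := Fintype.card_pos
  omega

include X hyp in
theorem avg [Fintype K] [Fintype G] (hsq : ∀ g : G, g * g ∈ Om G) :
    (Fintype.card K : ℤ) * S H
      = (Fintype.card K : ℤ) * (Nat.card (Om G) : ℤ)
        - ((Fintype.card G : ℤ) - (Nat.card (Om G) : ℤ)) := by
  classical
  have h1 : ∀ k : K, ∑ g : G, sgn H (X.φ k (g * g)) = S H := by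
    intro k
    unfold S
    rw [← Equiv.sum_comp (X.φ k).toEquiv (fun g => sgn H (g * g))]
    apply Finset.sum_congr rfl
    intro g _
    rw [map_mul]; rfl
  have h2 : ∑ k : K, ∑ g : G, sgn H (X.φ k (g * g)) = (Fintype.card K : ℤ) * S H := by
    rw [Finset.sum_congr rfl (fun k _ => h1 k)]
    simp
  have h3 : ∀ g : G, ∑ k : K, sgn H (X.φ k (g * g))
      = if g ∈ Om G then (Fintype.card K : ℤ) else -1 := by
    intro g
    split_ifs with hg
    · have : g * g = 1 := hg.2
      simp [this, sgn_of_mem H.one_mem]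
    · apply orbit_sum X hyp (hsq g)
      intro h
      exact hg (X.mem_V.mpr h)
  rw [← h2, Finset.sum_comm, Finset.sum_congr rfl (fun g _ => h3 g), Finset.sum_ite]
  simp only [Finset.sum_const, nsmul_eq_mul]
  have h4 : (Finset.univ.filter (fun g : G => g ∈ Om G)).card = Nat.card (Om G) := by
    rw [Nat.card_eq_fintype_card, Fintype.card_subtype]
  have h5 := Finset.card_filter_add_card_filter_not (s := (Finset.univ : Finset G))
    (fun g : G => g ∈ Om G)
  rw [Finset.card_univ, h4] at h5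
  rw [h4]
  have h6 : ((Finset.univ.filter (fun g : G => ¬ g ∈ Om G)).card : ℤ)
      = (Fintype.card G : ℤ) - (Nat.card (Om G) : ℤ) := by
    rw [← h5]; push_cast; ring
  rw [h6]; ring

end avg

end Cfsg.Agent.Helper16.HigCount
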