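import Mathlib

set_option autoImplicit false
set_option linter.style.haveILetI false
set_option linter.unusedSectionVars false

/-! The field attached to a commutative group acting regularly on the non-identity elements of
a group of exponent two. -/

namespace Cfsg.Agent.Helper16.HigField

universe u v

/-- a commutative group `K` acting regularly on the non-identity elements of `V` -/
structure Dat (V : Type u) [Group V] (K : Type v) [Group K] where
  /-- the action -/
  ρ : K →* MulAut V
  /-- `K` is commutative -/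
  kcomm : ∀ a b : K, a * b = b * a
  /-- `V` is commutative -/
  vcomm : ∀ a b : V, a * b = b * a
  /-- `V` has exponent two -/
  exp2 : ∀ v : V, v * v = 1
  /-- the base point -/
  one : V
  /-- the base point is not the identity -/
  one_ne : one ≠ 1
  /-- regularity -/
  reg : ∀ a b : V, a ≠ 1 → b ≠ 1 → ∃! k : K, ρ k a = b

variable {V : Type u} [Group V] {K : Type v} [Group K] (d : Dat V K)

/-- the discrete logarithm -/
noncomputable def log (a : V) (ha : a ≠ 1) : K := (d.reg d.one a d.one_ne ha).choose

theorem log_spec (a : V) (ha : a ≠ 1) : d.ρ (log d a ha) d.one = a :=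
  (d.reg d.one a d.one_ne ha).choose_spec.1

theorem log_unique {a : V} (ha : a ≠ 1) {k : K} (hk : d.ρ k d.one = a) : k = log d a ha :=
  (d.reg d.one a d.one_ne ha).unique hk (log_spec d a ha)

theorem rho_ne_one (k : K) {a : V} (ha : a ≠ 1) : d.ρ k a ≠ 1 := by
  intro h
  exact ha ((MulEquiv.map_eq_one_iff (d.ρ k)).mp h)

theorem rho_mul (k m : K) (a : V) : d.ρ (k * m) a = d.ρ k (d.ρ m a) := by
  rw [map_mul, MulAut.mul_apply]

theorem rho_one (a : V) : d.ρ 1 a = a := by
  rw [map_one, MulAut.one_apply]

theorem rho_comm (k m : K) (a : V) : d.ρ k (d.ρ m a) = d.ρ m (d.ρ k a) := by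
  rw [← rho_mul, ← rho_mul, d.kcomm]

theorem log_rho (k : K) : log d (d.ρ k d.one) (rho_ne_one d k d.one_ne) = k :=
  (log_unique d _ rfl).symm

theorem log_one : log d d.one d.one_ne = 1 :=
  (log_unique d _ (rho_one d _)).symm

open Classical in
/-- multiplication -/
noncomputable def mulV (a b : V) : V := if h : a = 1 then 1 else d.ρ (log d a h) b

open Classical in
/-- inversion -/
noncomputable def invV (a : V) : V := if h : a = 1 then 1 else d.ρ (log d a h)⁻¹ d.one

theorem mulV_one_left (b : V) : mulV d 1 b = 1 := by simp [mulV]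

theorem mulV_one_right (a : V) : mulV d a 1 = 1 := by
  unfold mulV
  split_ifs with h
  · rfl
  · exact map_one _

theorem mulV_of_ne {a : V} (ha : a ≠ 1) (b : V) : mulV d a b = d.ρ (log d a ha) b := by
  simp [mulV, ha]

theorem mulV_ne {a b : V} (ha : a ≠ 1) (hb : b ≠ 1) : mulV d a b ≠ 1 := by
  rw [mulV_of_ne d ha]
  exact rho_ne_one d _ hb

theorem log_mulV {a b : V} (ha : a ≠ 1) (hb : b ≠ 1) :
    log d (mulV d a b) (mulV_ne d ha hb) = log d a ha * log d b hb := by
  symm
  apply log_unique
  rw [rho_mul, log_spec, mulV_of_ne d ha]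

theorem mulV_comm (a b : V) : mulV d a b = mulV d b a := by
  by_cases ha : a = 1
  · rw [ha, mulV_one_left, mulV_one_right]
  by_cases hb : b = 1
  · rw [hb, mulV_one_left, mulV_one_right]
  rw [mulV_of_ne d ha, mulV_of_ne d hb]
  conv_lhs => rw [← log_spec d b hb]
  conv_rhs => rw [← log_spec d a ha]
  exact rho_comm d _ _ _

theorem mulV_assoc (a b c : V) : mulV d (mulV d a b) c = mulV d a (mulV d b c) := by
  by_cases ha : a = 1
  · rw [ha, mulV_one_left, mulV_one_left, mulV_one_left]
  by_cases hb : b = 1
  · simp only [hb, mulV_one_left, mulV_one_right]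
  rw [mulV_of_ne d (mulV_ne d ha hb), log_mulV d ha hb, rho_mul, mulV_of_ne d ha,
    mulV_of_ne d hb]

theorem mulV_base_left (b : V) : mulV d d.one b = b := by
  rw [mulV_of_ne d d.one_ne, log_one, rho_one]

theorem mulV_mul (a b c : V) : mulV d a (b * c) = mulV d a b * mulV d a c := by
  by_cases ha : a = 1
  · rw [ha, mulV_one_left, mulV_one_left, mulV_one_left, one_mul]
  rw [mulV_of_ne d ha, mulV_of_ne d ha, mulV_of_ne d ha, map_mul]

theorem mulV_invV {a : V} (ha : a ≠ 1) : mulV d a (invV d a) = d.one := by
  rw [mulV_of_ne d ha]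
  simp only [invV, ha, dite_false]
  rw [← rho_mul, mul_inv_cancel, rho_one]

theorem mulV_rho (k : K) (b : V) : mulV d (d.ρ k d.one) b = d.ρ k b := by
  rw [mulV_of_ne d (rho_ne_one d k d.one_ne), log_rho]

/-- the underlying type of the field -/
structure FV (d : Dat V K) where
  /-- the underlying element -/
  val : V

theorem FV.ext' {a b : FV d} (h : a.val = b.val) : a = b := by
  cases a; cases b; simp only [FV.mk.injEq]; exact h

instance : Zero (FV d) := ⟨⟨1⟩⟩
instance : Add (FV d) := ⟨fun a b => ⟨a.val * b.val⟩⟩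
instance : Neg (FV d) := ⟨fun a => ⟨a.val⁻¹⟩⟩

instance : AddCommGroup (FV d) where
  add_assoc a b c := FV.ext' d (mul_assoc _ _ _)
  zero_add a := FV.ext' d (one_mul _)
  add_zero a := FV.ext' d (mul_one _)
  nsmul := nsmulRec
  zsmul := zsmulRec
  neg_add_cancel a := FV.ext' d (inv_mul_cancel _)
  add_comm a b := FV.ext' d (d.vcomm _ _)

noncomputable instance : CommRing (FV d) where
  mul a b := ⟨mulV d a.val b.val⟩
  left_distrib a b c := FV.ext' d (mulV_mul d _ _ _)
  right_distrib a b c := FV.ext' d (by
    change mulV d (a.val * b.val) c.val = mulV d a.val c.val * mulV d b.val c.val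
    rw [mulV_comm d _ c.val, mulV_mul, mulV_comm d c.val, mulV_comm d c.val])
  zero_mul a := FV.ext' d (mulV_one_left d _)
  mul_zero a := FV.ext' d (mulV_one_right d _)
  mul_assoc a b c := FV.ext' d (mulV_assoc d _ _ _)
  one := ⟨d.one⟩
  one_mul a := FV.ext' d (mulV_base_left d _)
  mul_one a := FV.ext' d (by
    change mulV d a.val d.one = a.val
    rw [mulV_comm, mulV_base_left])
  mul_comm a b := FV.ext' d (mulV_comm d _ _)

theorem val_add (a b : FV d) : (a + b).val = a.val * b.val := rfl
theorem val_zero : (0 : FV d).val = 1 := rfl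
theorem val_one : (1 : FV d).val = d.one := rfl
theorem val_mul (a b : FV d) : (a * b).val = mulV d a.val b.val := rfl
theorem val_neg (a : FV d) : (-a).val = a.val⁻¹ := rfl

theorem eq_zero_iff (a : FV d) : a = 0 ↔ a.val = 1 := by
  constructor
  · intro h; rw [h]; rfl
  · intro h; exact FV.ext' d h

noncomputable instance : Field (FV d) where
  inv a := ⟨invV d a.val⟩
  exists_pair_ne := ⟨0, 1, fun h => d.one_ne (congrArg FV.val h).symm⟩
  mul_inv_cancel a ha := FV.ext' d (by
    have : a.val ≠ 1 := fun h => ha ((eq_zero_iff d a).mpr h)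
    exact mulV_invV d this)
  inv_zero := FV.ext' d (by
    change invV d 1 = 1
    simp [invV])
  nnqsmul := _
  qsmul := _

theorem two_eq_zero : (2 : FV d) = 0 := by
  rw [← one_add_one_eq_two]
  exact FV.ext' d (d.exp2 _)

instance : CharP (FV d) 2 := by
  apply CharTwo.of_one_ne_zero_of_two_eq_zero one_ne_zero (two_eq_zero d)

theorem add_self (a : FV d) : a + a = 0 := FV.ext' d (d.exp2 _)

theorem neg_eq (a : FV d) : -a = a := by
  rw [neg_eq_iff_add_eq_zero]; exact add_self d a

/-- the equivalence with `V` -/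
def equivV : FV d ≃ V where
  toFun := FV.val
  invFun := FV.mk
  left_inv _ := rfl
  right_inv _ := rfl

instance [Finite V] : Finite (FV d) := Finite.of_equiv V (equivV d).symm

theorem card_eq [Finite V] : Nat.card (FV d) = Nat.card V := Nat.card_congr (equivV d)

end Cfsg.Agent.Helper16.HigField
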