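import Mathlib
import Cfsg.Agent.Lib.Helper16.HigGrpB

set_option autoImplicit false
set_option linter.style.haveILetI false
set_option linter.unusedSectionVars false

/-! Higman's theorem, part two: the case of an abelian second centre, group-theoretic part. -/

namespace Cfsg.Agent.Helper16.Higman

universe u v

open scoped commutatorElement

/-- the standing hypotheses in the abelian case -/
structure AbCtx (G : Type u) [Group G] (K : Type v) [Group K] extends Ctx G K where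
  /-- `M` is abelian -/
  hM : ∀ x ∈ toCtx.M, ∀ y ∈ toCtx.M, x * y = y * x
  /-- an involution -/
  c₀ : G
  /-- it is not the identity -/
  c₀_ne : c₀ ≠ 1
  /-- it is an involution -/
  c₀_sq : c₀ * c₀ = 1
  /-- another involution -/
  c₁ : G
  /-- it is not the identity -/
  c₁_ne : c₁ ≠ 1
  /-- it is an involution -/
  c₁_sq : c₁ * c₁ = 1
  /-- the two are different -/
  c₁_ne' : c₁ ≠ c₀

variable {G : Type u} [Group G] {K : Type v} [Group K]

/-- the centralizer of `M` -/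
def AbCtx.C (Y : AbCtx G K) : Subgroup G := Subgroup.centralizer (Y.toCtx.M : Set G)

theorem AbCtx.mem_C (Y : AbCtx G K) {c : G} : c ∈ Y.C ↔ ∀ m ∈ Y.toCtx.M, m * c = c * m := by
  unfold AbCtx.C
  rw [Subgroup.mem_centralizer_iff]
  rfl

theorem AbCtx.M_le_C (Y : AbCtx G K) : Y.toCtx.M ≤ Y.C := by
  intro x hx
  rw [Y.mem_C]
  intro m hm
  exact Y.hM m hm x hx

instance AbCtx.C_normal (Y : AbCtx G K) : Y.C.Normal := by
  unfold AbCtx.C
  infer_instance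

theorem AbCtx.phi_mem_C (Y : AbCtx G K) (k : K) {c : G} (hc : c ∈ Y.C) : Y.φ k c ∈ Y.C := by
  rw [Y.mem_C] at hc ⊢
  intro m hm
  have h1 : m = Y.φ k (Y.φ k⁻¹ m) := by rw [← phi_mul, mul_inv_cancel, phi_one]
  have h2 := hc _ (Y.toCtx.phi_mem_M k⁻¹ hm)
  rw [h1, ← map_mul, h2, map_mul]

/-- the centralizer of `M` is abelian -/
theorem AbCtx.C_comm (Y : AbCtx G K) {a b : G} (ha : a ∈ Y.C) (hb : b ∈ Y.C) : a * b = b * a := by
  haveI := Y.fin
  by_contra hab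
  obtain ⟨x, hxM, hxV⟩ := Y.toCtx.exists_mem_M_not_mem_V
  have hxC : x ∈ Y.C := Y.M_le_C hxM
  have hz : (⟨x, hxC⟩ : Y.C) ∈ Subgroup.center Y.C := by
    rw [Subgroup.mem_center_iff]
    intro c
    apply Subtype.ext
    have := (Y.mem_C.mp c.2) x hxM
    exact this.symm
  have h1 := center_exp_two (Y.pg.to_subgroup Y.C) Y.kcomm
    (resHom Y.φ Y.C (fun k x hx => Y.phi_mem_C k hx))
    (reg_res Y.φ Y.reg Y.C _) ⟨⟨a, ha⟩, ⟨b, hb⟩, fun h => hab (congrArg Subtype.val h)⟩ hz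
  have h2 : x * x = 1 := congrArg Subtype.val h1
  exact hxV (Y.toCtx.mem_V.mpr h2)

theorem AbCtx.exists_not_mem_C (Y : AbCtx G K) : ∃ g : G, g ∉ Y.C := by
  by_contra h
  push Not at h
  obtain ⟨x, y, hxy⟩ := Y.hna
  exact hxy (Y.C_comm (h x) (h y))

theorem AbCtx.sq_mem_C (Y : AbCtx G K) (g : G) : g * g ∈ Y.C := by
  rw [Y.mem_C]
  intro m hm
  exact Y.toCtx.sq_commute_of_comm_mem_V (Y.toCtx.comm_mem_V hm g)

/-- every involution is a square of an element of `M` -/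
theorem AbCtx.exists_sqrt (Y : AbCtx G K) {v : G} (hv : v ∈ Om G) :
    ∃ m ∈ Y.toCtx.M, m * m = v := by
  obtain ⟨x, hxM, hxV⟩ := Y.toCtx.exists_mem_M_not_mem_V
  by_cases hv1 : v = 1
  · exact ⟨1, Subgroup.one_mem _, by rw [hv1, one_mul]⟩
  have hx1 : x * x ≠ 1 := fun h => hxV (Y.toCtx.mem_V.mpr h)
  have hx2 : (x * x) * (x * x) = 1 := (Y.toCtx.sq_mem_V hxM).2
  obtain ⟨k, hk, -⟩ := Y.reg (x * x) v hx1 hx2 hv1 hv.2
  refine ⟨Y.φ k x, Y.toCtx.phi_mem_M k hxM, ?_⟩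
  rw [← map_mul]; exact hk

/-- elements of the centralizer with square in `V` lie in `M` -/
theorem AbCtx.mem_M_of_mem_C (Y : AbCtx G K) {c : G} (hc : c ∈ Y.C) (hc2 : c * c ∈ Om G) :
    c ∈ Y.toCtx.M := by
  obtain ⟨m, hm, hmc⟩ := Y.exists_sqrt hc2
  have h1 : m⁻¹ * c = c * m⁻¹ := (Y.mem_C.mp hc) _ (Subgroup.inv_mem _ hm)
  have h2 : (c * m⁻¹) * (c * m⁻¹) = 1 := by
    calc (c * m⁻¹) * (c * m⁻¹) = c * (m⁻¹ * c) * m⁻¹ := by group
      _ = c * (c * m⁻¹) * m⁻¹ := by rw [h1]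
      _ = (c * c) * (m * m)⁻¹ := by group
      _ = 1 := by rw [hmc, mul_inv_cancel]
  have h3 : c * m⁻¹ ∈ Y.toCtx.M := Y.toCtx.V_le_M (Y.toCtx.mem_V.mpr h2)
  have h4 : c = (c * m⁻¹) * m := by group
  rw [h4]
  exact Subgroup.mul_mem _ h3 hm

theorem AbCtx.comm_M_mul (Y : AbCtx G K) {m n : G} (_hm : m ∈ Y.toCtx.M) (hn : n ∈ Y.toCtx.M)
    (g : G) : ⁅m * n, g⁆ = ⁅m, g⁆ * ⁅n, g⁆ := by
  have h1 := Y.toCtx.V_commute (Y.toCtx.comm_mem_V hn g) m
  calc ⁅m * n, g⁆ = (m * ⁅n, g⁆) * g * m⁻¹ * g⁻¹ := by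
        simp only [commutatorElement_def]; group
    _ = (⁅n, g⁆ * m) * g * m⁻¹ * g⁻¹ := by rw [h1]
    _ = ⁅n, g⁆ * ⁅m, g⁆ := by simp only [commutatorElement_def]; group
    _ = ⁅m, g⁆ * ⁅n, g⁆ := Y.toCtx.V_commute (Y.toCtx.comm_mem_V _hm g) _

theorem AbCtx.comm_M_mul_right (Y : AbCtx G K) {m : G} (hm : m ∈ Y.toCtx.M)
    (g h : G) : ⁅m, g * h⁆ = ⁅m, g⁆ * ⁅m, h⁆ := by
  have h1 := Y.toCtx.V_commute (Y.toCtx.comm_mem_V hm h) g
  calc ⁅m, g * h⁆ = (m * g * m⁻¹ * g⁻¹) * (g * ⁅m, h⁆) * g⁻¹ := by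
        simp only [commutatorElement_def]; group
    _ = (m * g * m⁻¹ * g⁻¹) * (⁅m, h⁆ * g) * g⁻¹ := by rw [h1]
    _ = ⁅m, g⁆ * ⁅m, h⁆ := by simp only [commutatorElement_def]; group

theorem AbCtx.comm_V_mul (Y : AbCtx G K) {v : G} (hv : v ∈ Om G) (m g : G) :
    ⁅v * m, g⁆ = ⁅m, g⁆ := by
  have h1 := Y.toCtx.V_commute hv (m * g * m⁻¹)
  calc ⁅v * m, g⁆ = v * (m * g * m⁻¹) * v⁻¹ * g⁻¹ := by
        simp only [commutatorElement_def]; group
    _ = (m * g * m⁻¹) * v * v⁻¹ * g⁻¹ := by rw [← h1]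
    _ = ⁅m, g⁆ := by simp only [commutatorElement_def]; group

/-- the number of involutions together with the identity is at least four -/
theorem AbCtx.four_le (Y : AbCtx G K) : 4 ≤ Nat.card (Om G) := by
  haveI := Y.fin
  obtain ⟨n, hn⟩ := IsPGroup.iff_card.mp (Y.pg.to_subgroup (Om G))
  have h3 : 3 ≤ Nat.card (Om G) := by
    classical
    haveI : Fintype (Om G) := Fintype.ofFinite _
    rw [Nat.card_eq_fintype_card]
    let a : Om G := ⟨Y.c₀, Y.toCtx.mem_V.mpr Y.c₀_sq⟩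
    let b : Om G := ⟨Y.c₁, Y.toCtx.mem_V.mpr Y.c₁_sq⟩
    have ha : a ≠ 1 := fun h => Y.c₀_ne (congrArg Subtype.val h)
    have hb : b ≠ 1 := fun h => Y.c₁_ne (congrArg Subtype.val h)
    have hab : b ≠ a := fun h => Y.c₁_ne' (congrArg Subtype.val h)
    have : ({1, a, b} : Finset (Om G)).card = 3 := by
      rw [Finset.card_insert_of_notMem, Finset.card_insert_of_notMem, Finset.card_singleton]
      · simpa using hab.symm
      · simp only [Finset.mem_insert, Finset.mem_singleton, not_or]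
        exact ⟨ha.symm, hb.symm⟩
    rw [← this]
    exact Finset.card_le_univ _
  rw [hn] at h3 ⊢
  have : 2 ≤ n := by
    by_contra h
    have : n ≤ 1 := by omega
    have := Nat.pow_le_pow_right (show 0 < 2 by norm_num) this
    omega
  calc 4 = 2 ^ 2 := by norm_num
    _ ≤ 2 ^ n := Nat.pow_le_pow_right (by norm_num) this

end Cfsg.Agent.Helper16.Higman
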