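import Mathlib

set_option autoImplicit false
set_option linter.style.haveILetI false
set_option linter.unusedSectionVars false

/-! Weight decomposition of the additive endomorphisms of a finite field of characteristic two
under conjugation by the multiplicative group. -/

namespace Cfsg.Agent.Helper16.HigWt

variable {F : Type*} [Field F]

/-- conjugation of an additive endomorphism by a unit -/
def cj (k : Fˣ) (δ : F →+ F) : F →+ F :=
  (AddMonoidHom.mulLeft (k : F)).comp (δ.comp (AddMonoidHom.mulLeft ((k⁻¹ : Fˣ) : F)))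

@[simp] theorem cj_apply (k : Fˣ) (δ : F →+ F) (x : F) :
    cj k δ x = (k : F) * δ (((k⁻¹ : Fˣ) : F) * x) := rfl

theorem cj_add (k : Fˣ) (δ ε : F →+ F) : cj k (δ + ε) = cj k δ + cj k ε := by
  ext x; simp [mul_add]

theorem cj_zero (k : Fˣ) : cj k (0 : F →+ F) = 0 := by
  ext x; simp

theorem cj_smul (k : Fˣ) (a : F) (δ : F →+ F) : cj k (a • δ) = a • cj k δ := by
  ext x; simp; ring

theorem cj_sum {ι : Type*} (s : Finset ι) (k : Fˣ) (f : ι → (F →+ F)) :
    cj k (∑ i ∈ s, f i) = ∑ i ∈ s, cj k (f i) := by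
  classical
  induction s using Finset.induction_on with
  | empty => simp [cj_zero]
  | insert a s ha ih => rw [Finset.sum_insert ha, Finset.sum_insert ha, cj_add, ih]

theorem cj_mul (k m : Fˣ) (δ : F →+ F) : cj k (cj m δ) = cj (k * m) δ := by
  ext x
  simp only [cj_apply, Units.val_mul, mul_inv_rev]
  rw [mul_assoc, mul_assoc]

theorem cj_one (δ : F →+ F) : cj 1 δ = δ := by
  ext x; simp

variable [Fintype F] [DecidableEq F]

/-- the projection to the weight `j` part -/
noncomputable def proj (j : ℕ) (δ : F →+ F) : F →+ F :=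
  ∑ k : Fˣ, (((k⁻¹ : Fˣ) : F) ^ j) • cj k δ

theorem proj_apply (j : ℕ) (δ : F →+ F) (x : F) :
    proj j δ x = ∑ k : Fˣ, (((k⁻¹ : Fˣ) : F) ^ j) * ((k : F) * δ (((k⁻¹ : Fˣ) : F) * x)) := by
  simp [proj, AddMonoidHom.finsetSum_apply]

/-- W1 : the projection lands in the weight space -/
theorem cj_proj (j : ℕ) (k' : Fˣ) (δ : F →+ F) :
    cj k' (proj j δ) = ((k' : F) ^ j) • proj j δ := by
  unfold proj
  rw [cj_sum, Finset.smul_sum]
  rw [← Equiv.sum_comp (Equiv.mulLeft k') (fun k : Fˣ => ((k' : F) ^ j) • ((((k⁻¹ : Fˣ) : F) ^ j) • cj k δ))]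
  apply Finset.sum_congr rfl
  intro k _
  rw [cj_smul, cj_mul, smul_smul]
  congr 1
  simp only [Equiv.coe_mulLeft, mul_inv_rev, Units.val_mul]
  have h1 : (k' : F) ^ j * ((k'⁻¹ : Fˣ) : F) ^ j = 1 := by
    rw [← mul_pow]; simp
  rw [mul_pow, mul_left_comm, h1, mul_one]

theorem proj_cj (j : ℕ) (k' : Fˣ) (δ : F →+ F) :
    proj j (cj k' δ) = ((k' : F) ^ j) • proj j δ := by
  unfold proj
  rw [Finset.smul_sum]
  rw [← Equiv.sum_comp (Equiv.mulRight k') (fun k : Fˣ => ((k' : F) ^ j) • ((((k⁻¹ : Fˣ) : F) ^ j) • cj k δ))]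
  apply Finset.sum_congr rfl
  intro k _
  rw [cj_mul, smul_smul]
  simp only [Equiv.coe_mulRight, mul_inv_rev, Units.val_mul]
  congr 1
  have h1 : (k' : F) ^ j * ((k'⁻¹ : Fˣ) : F) ^ j = 1 := by
    rw [← mul_pow]; simp
  rw [mul_pow, ← mul_assoc, h1, one_mul]

theorem proj_add (j : ℕ) (δ ε : F →+ F) : proj j (δ + ε) = proj j δ + proj j ε := by
  unfold proj
  rw [← Finset.sum_add_distrib]
  apply Finset.sum_congr rfl
  intro k _
  rw [cj_add, smul_add]

theorem proj_zero (j : ℕ) : proj j (0 : F →+ F) = 0 := by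
  unfold proj
  simp [cj_zero]

theorem proj_sum {ι : Type*} (s : Finset ι) (j : ℕ) (f : ι → (F →+ F)) :
    proj j (∑ i ∈ s, f i) = ∑ i ∈ s, proj j (f i) := by
  classical
  induction s using Finset.induction_on with
  | empty => simp [proj_zero]
  | insert a s ha ih => rw [Finset.sum_insert ha, Finset.sum_insert ha, proj_add, ih]

variable [CharP F 2]

theorem card_sub_one_cast : ((Fintype.card F - 1 : ℕ) : F) = 1 := by
  have h1 : 1 ≤ Fintype.card F := Fintype.card_pos
  rw [Nat.cast_sub h1, FiniteField.cast_card_eq_zero, Nat.cast_one, zero_sub]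
  exact CharTwo.neg_eq 1

theorem geom_unit (k : Fˣ) :
    ∑ j ∈ Finset.range (Fintype.card F - 1), ((k : F)) ^ j = if k = 1 then 1 else 0 := by
  split_ifs with h
  · rw [h]; simp [card_sub_one_cast]
  · have hk : (k : F) ≠ 1 := fun h1 => h (Units.ext h1)
    rw [geom_sum_eq hk, FiniteField.pow_card_sub_one_eq_one _ k.ne_zero, sub_self, zero_div]

/-- W2 : an endomorphism is the sum of its weight components -/
theorem sum_proj (δ : F →+ F) :
    ∑ j ∈ Finset.range (Fintype.card F - 1), proj j δ = δ := by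
  classical
  unfold proj
  rw [Finset.sum_comm]
  have : ∀ k : Fˣ, ∑ j ∈ Finset.range (Fintype.card F - 1), (((k⁻¹ : Fˣ) : F) ^ j) • cj k δ
      = if k = 1 then δ else 0 := by
    intro k
    rw [← Finset.sum_smul, geom_unit]
    by_cases h : k = 1
    · simp [h, cj_one]
    · have h' : k⁻¹ ≠ 1 := fun h1 => h (inv_eq_one.mp h1)
      simp [h, h']
  rw [Finset.sum_congr rfl (fun k _ => this k)]
  simp

/-- the weight condition -/
def IsWtVec (j : ℕ) (ε : F →+ F) : Prop := ∀ k : Fˣ, cj k ε = ((k : F) ^ j) • ε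

theorem isWtVec_proj (j : ℕ) (δ : F →+ F) : IsWtVec j (proj j δ) := fun k => cj_proj j k δ

/-- the semilinearity character -/
def psi (j : ℕ) (y : F) : F := y * (y⁻¹) ^ j

/-- W3 : a weight vector is semilinear -/
theorem wt_apply {j : ℕ} {ε : F →+ F} (h : IsWtVec j ε) (y : F) :
    ε y = psi j y * ε 1 := by
  by_cases hy : y = 0
  · rw [hy, map_zero, psi, zero_mul, zero_mul]
  have := congrArg (fun f : F →+ F => f y) (h (Units.mk0 y hy))
  simp only [cj_apply, Units.val_mk0, AddMonoidHom.smul_apply, smul_eq_mul] at this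
  have h1 : ((Units.mk0 y hy)⁻¹ : Fˣ) = Units.mk0 y⁻¹ (inv_ne_zero hy) := by
    ext; simp
  rw [h1, Units.val_mk0, inv_mul_cancel₀ hy] at this
  unfold psi
  have hyj : y ^ j ≠ 0 := pow_ne_zero _ hy
  rw [inv_pow]
  field_simp
  rw [mul_comm (ε y)]
  exact this.symm

theorem wt_one_ne {j : ℕ} {ε : F →+ F} (h : IsWtVec j ε) (hε : ε ≠ 0) : ε 1 ≠ 0 := by
  intro h1
  apply hε
  ext y
  rw [wt_apply h y, h1, mul_zero, AddMonoidHom.zero_apply]

theorem psi_ne_zero (j : ℕ) {y : F} (hy : y ≠ 0) : psi j y ≠ 0 := by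
  unfold psi
  exact mul_ne_zero hy (pow_ne_zero _ (inv_ne_zero hy))

theorem wt_injective {j : ℕ} {ε : F →+ F} (h : IsWtVec j ε) (hε : ε ≠ 0) {y : F}
    (hy : ε y = 0) : y = 0 := by
  by_contra hne
  rw [wt_apply h y] at hy
  exact mul_ne_zero (psi_ne_zero j hne) (wt_one_ne h hε) hy

theorem psi_zero (j : ℕ) : psi j (0 : F) = 0 := by simp [psi]

theorem psi_one (j : ℕ) : psi j (1 : F) = 1 := by simp [psi]

theorem psi_mul (j : ℕ) (x y : F) : psi j (x * y) = psi j x * psi j y := by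
  unfold psi
  rw [mul_inv, mul_pow]; ring

/-- a weight occurs -/
def IsWt (F : Type*) [Field F] (j : ℕ) : Prop := ∃ ε : F →+ F, ε ≠ 0 ∧ IsWtVec j ε

theorem psi_add {j : ℕ} (h : IsWt F j) (x y : F) : psi j (x + y) = psi j x + psi j y := by
  obtain ⟨ε, hε, hw⟩ := h
  have h1 := wt_one_ne hw hε
  have h2 : ε (x + y) = ε x + ε y := map_add ε x y
  rw [wt_apply hw, wt_apply hw x, wt_apply hw y, ← add_mul] at h2
  exact mul_right_cancel₀ h1 h2

/-- the ring homomorphism of a weight -/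
def psiHom {j : ℕ} (h : IsWt F j) : F →+* F where
  toFun := psi j
  map_one' := psi_one j
  map_mul' := psi_mul j
  map_zero' := psi_zero j
  map_add' := psi_add h

@[simp] theorem psiHom_apply {j : ℕ} (h : IsWt F j) (y : F) : psiHom h y = psi j y := rfl

end Cfsg.Agent.Helper16.HigWt
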