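import Mathlib
import Cfsg.Agent.Lib.Helper16.HigWtA

set_option autoImplicit false
set_option linter.style.haveILetI false
set_option linter.unusedSectionVars false

/-! Two ring endomorphisms of a field of characteristic two whose product is the identity times
a third one. -/

namespace Cfsg.Agent.Helper16.HigWt

variable {F : Type*} [Field F] [CharP F 2]

theorem char2_eq_of_add_eq_zero {x y : F} (h : x + y = 0) : x = y := by
  have := CharTwo.add_self_eq_zero y
  have h2 : x + y = y + y := by rw [h, this]
  exact add_right_cancel h2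

theorem two_aut (a b d : F →+* F) (h : ∀ y, a y * b y = y * d y) :
    (∀ y, a y = y) ∨ (∀ y, b y = y) := by
  have h2 : (2 : F) = 0 := CharTwo.two_eq_zero
  have hpol : ∀ x y, a x * b y + a y * b x = x * d y + y * d x := by
    intro x y
    have h1 := h (x + y)
    simp only [map_add] at h1
    have hx := h x
    have hy := h y
    linear_combination h1 - hx - hy
  have hdag : ∀ x, a x + b x = x + d x := by
    intro x
    have := hpol x 1
    simp only [map_one, mul_one, one_mul] at this
    exact this
  have hAB : ∀ x y, (a x + x) * (b y + y) = (a y + y) * (b x + x) := by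
    intro x y
    apply char2_eq_of_add_eq_zero
    have h1 := hpol x y
    have hx := hdag x
    have hy := hdag y
    linear_combination h1 + y * hx + x * hy + (x * d y + y * d x + 2 * x * y) * h2
  by_cases hA : ∀ x, a x + x = 0
  · left
    intro y
    exact char2_eq_of_add_eq_zero (hA y)
  by_cases hB : ∀ x, b x + x = 0
  · right
    intro y
    exact char2_eq_of_add_eq_zero (hB y)
  exfalso
  push Not at hA hB
  obtain ⟨y₀, hy₀⟩ := hA
  have hBt' : ∃ t : F, ∀ x, b x + x = t * (a x + x) := by
    refine ⟨(b y₀ + y₀) / (a y₀ + y₀), ?_⟩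
    intro x
    have := hAB x y₀
    field_simp
    linear_combination -this
  obtain ⟨t, hBt⟩ := hBt'
  have ht0 : t ≠ 0 := by
    intro h0
    obtain ⟨x, hx⟩ := hB
    apply hx
    rw [hBt, h0, zero_mul]
  have hb : ∀ z, b z = t * (a z + z) + z := by
    intro z
    have := hBt z
    linear_combination this - z * h2
  have hmul := map_mul b y₀ y₀
  rw [hb (y₀ * y₀), hb y₀, map_mul] at hmul
  have ht1 : t * (a y₀ + y₀) ^ 2 = t ^ 2 * (a y₀ + y₀) ^ 2 := by
    linear_combination hmul + (2 * t * a y₀ * y₀ + t * y₀ * y₀) * h2
  have ht2 : t = 1 := by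
    have h3 : (a y₀ + y₀) ^ 2 ≠ 0 := pow_ne_zero _ hy₀
    have h4 : t = t ^ 2 := mul_right_cancel₀ h3 ht1
    have h5 : t * (t - 1) = 0 := by linear_combination -h4
    rcases mul_eq_zero.mp h5 with h6 | h6
    · exact absurd h6 ht0
    · linear_combination h6
  have hba : ∀ z, b z = a z := by
    intro z
    rw [hb z, ht2]
    linear_combination z * h2
  have hd : ∀ z, d z = z := by
    intro z
    have := hdag z
    rw [hba z] at this
    linear_combination -this + (a z - z) * h2
  apply hy₀
  have h5 := h y₀
  rw [hba, hd] at h5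
  have h6 : (a y₀ + y₀) ^ 2 = 0 := by
    linear_combination h5 + (a y₀ * y₀ + y₀ * y₀) * h2
  exact pow_eq_zero_iff (two_ne_zero) |>.mp h6

end Cfsg.Agent.Helper16.HigWt
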