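import Mathlib
import Cfsg.Agent.Lib.Helper16.HigWtB

set_option autoImplicit false
set_option linter.style.haveILetI false
set_option linter.unusedSectionVars false

/-! Conjugate weights do not occur together; the trace function. -/

namespace Cfsg.Agent.Helper16.HigWt

variable {F : Type*} [Field F] [Fintype F] [DecidableEq F] [CharP F 2]

/-- if `j` and `j * 2 ^ i` are both weights then one of two degenerate things happens -/
theorem conj_wt {j i : ℕ} (h : IsWt F j) (h' : IsWt F (j * 2 ^ i)) :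
    (∀ y : F, psi (j * 2 ^ i) y = y) ∨ (∀ y : F, y ^ (2 ^ i) = y) := by
  haveI : Fact (Nat.Prime 2) := ⟨Nat.prime_two⟩
  have key := two_aut (psiHom h') (iterateFrobenius F 2 i)
    ((iterateFrobenius F 2 i).comp (psiHom h)) ?_
  · rcases key with h1 | h1
    · left; intro y; exact h1 y
    · right; intro y
      have := h1 y
      rwa [iterateFrobenius_def] at this
  · intro y
    simp only [psiHom_apply, RingHom.comp_apply, iterateFrobenius_def]
    unfold psi
    rw [mul_pow, ← pow_mul]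
    ring

/-- the field has `2 ^ n` elements -/
theorem exists_card_eq (F : Type*) [Field F] [Fintype F] [h2 : CharP F 2] :
    ∃ n : ℕ, 0 < n ∧ Fintype.card F = 2 ^ n := by
  obtain ⟨p, hp, n, hpp, hn⟩ := FiniteField.card' F
  have : p = 2 := CharP.eq F hp h2
  subst this
  exact ⟨n, n.pos, hn⟩

/-- the absolute trace -/
def tr (n : ℕ) (y : F) : F := ∑ i ∈ Finset.range n, y ^ (2 ^ i)

theorem tr_sq {n : ℕ} (hn : Fintype.card F = 2 ^ n) (y : F) : tr n y ^ 2 = tr n y := by
  haveI : Fact (Nat.Prime 2) := ⟨Nat.prime_two⟩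
  unfold tr
  rw [sum_pow_char]
  have h1 : ∀ i, (y ^ 2 ^ i) ^ 2 = y ^ 2 ^ (i + 1) := by
    intro i; rw [← pow_mul, ← pow_succ]
  simp only [h1]
  have h2 := Finset.sum_range_succ' (fun i => y ^ 2 ^ i) n
  have h3 := Finset.sum_range_succ (fun i => y ^ 2 ^ i) n
  have h4 : y ^ 2 ^ n = y := by rw [← hn]; exact FiniteField.pow_card y
  simp only [pow_zero, pow_one] at h2
  rw [h3, h4] at h2
  exact add_right_cancel h2.symm

theorem tr_zero_or_one {n : ℕ} (hn : Fintype.card F = 2 ^ n) (y : F) : tr n y = 0 ∨ tr n y = 1 := by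
  have h := tr_sq hn y
  have : tr n y * (tr n y - 1) = 0 := by linear_combination h
  rcases mul_eq_zero.mp this with h1 | h1
  · left; exact h1
  · right; linear_combination h1

theorem card_units_odd : Odd (Fintype.card Fˣ) := by
  obtain ⟨n, hn0, hn⟩ := exists_card_eq F
  rw [Fintype.card_units, hn]
  have : 2 ^ n = 2 * 2 ^ (n - 1) := by
    rw [← pow_succ']; congr 1; omega
  rw [this]
  have hpos : 0 < 2 ^ (n - 1) := by positivity
  exact ⟨2 ^ (n - 1) - 1, by omega⟩

/-- a `2`-power root of unity is trivial -/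
theorem eq_one_of_pow_two_pow {z : F} {i : ℕ} (h : z ^ (2 ^ i) = 1) : z = 1 := by
  haveI : Fact (Nat.Prime 2) := ⟨Nat.prime_two⟩
  have h1 : (z - 1) ^ (2 ^ i) = 0 := by
    rw [sub_pow_char_pow, h, one_pow, sub_self]
  have := pow_eq_zero_iff (pow_ne_zero i two_ne_zero) |>.mp h1
  linear_combination this

/-- the Frobenius powers below the degree are nontrivial -/
theorem not_frob_id {n i : ℕ} (hn : Fintype.card F = 2 ^ n) (hi0 : 0 < i) (hin : i < n) :
    ¬ ∀ y : F, y ^ (2 ^ i) = y := by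
  intro h
  obtain ⟨ζ, hζ⟩ := IsCyclic.exists_generator (α := Fˣ)
  have hord := orderOf_eq_card_of_forall_mem_zpowers hζ
  rw [Nat.card_eq_fintype_card, Fintype.card_units, hn] at hord
  have h1 : (ζ : F) ^ (2 ^ i) = ζ := h ζ
  have h2 : ζ ^ (2 ^ i - 1) = 1 := by
    ext
    push_cast
    have hpos : 1 ≤ 2 ^ i := Nat.one_le_two_pow
    have : (ζ : F) ^ (2 ^ i - 1) * ζ = ζ := by
      rw [← pow_succ, Nat.sub_add_cancel hpos, h1]
    exact mul_right_cancel₀ ζ.ne_zero (by rw [this, one_mul])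
  have h3 := orderOf_dvd_of_pow_eq_one h2
  rw [hord] at h3
  have h4 : 2 ^ i < 2 ^ n := Nat.pow_lt_pow_right (by norm_num) hin
  have h5 : 2 ≤ 2 ^ i := by
    calc 2 = 2 ^ 1 := by norm_num
      _ ≤ 2 ^ i := Nat.pow_le_pow_right (by norm_num) hi0
  have h6 := Nat.le_of_dvd (by omega) h3
  omega

end Cfsg.Agent.Helper16.HigWt
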