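import Mathlib
import Cfsg.Agent.Lib.Helper16.HigWtC

set_option autoImplicit false
set_option linter.style.haveILetI false
set_option linter.unusedSectionVars false

/-! Groups mapping equivariantly and semiregularly into the additive endomorphisms of a finite
field of characteristic two: the image is a sum of weight spaces. -/

namespace Cfsg.Agent.Helper16.HigWt

/-- a group with an action of the units of `F`, mapping equivariantly to `F →+ F` -/
structure Act (F : Type*) [Field F] (G : Type*) [Group G] where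
  /-- the action -/
  act : Fˣ →* MulAut G
  /-- the map -/
  δ : G → (F →+ F)
  /-- additivity -/
  δ_mul : ∀ g h, δ (g * h) = δ g + δ h
  /-- equivariance -/
  δ_act : ∀ k g, δ (act k g) = cj k (δ g)
  /-- semiregularity -/
  semireg : ∀ k g, δ g ≠ 0 → cj k (δ g) = δ g → k = 1

variable {F : Type*} [Field F] [Fintype F] [DecidableEq F] [CharP F 2]
variable {G : Type*} [Group G] (A : Act F G)

theorem Act.δ_one : A.δ 1 = 0 := by
  have := A.δ_mul 1 1
  rw [mul_one] at this
  exact left_eq_add.mp this

/-- zero-one combinations of conjugates stay in the image -/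
theorem Act.exists_sum01 (s : Finset Fˣ) (c : Fˣ → F) (hc : ∀ k, c k = 0 ∨ c k = 1) (g : G) :
    ∃ g' : G, A.δ g' = ∑ k ∈ s, c k • cj k (A.δ g) := by
  classical
  induction s using Finset.induction_on with
  | empty => exact ⟨1, by rw [A.δ_one, Finset.sum_empty]⟩
  | insert a s ha ih =>
    obtain ⟨g', hg'⟩ := ih
    rcases hc a with h0 | h1
    · refine ⟨g', ?_⟩
      rw [Finset.sum_insert ha, h0, zero_smul, zero_add, hg']
    · refine ⟨A.act a g * g', ?_⟩
      rw [Finset.sum_insert ha, h1, one_smul, A.δ_mul, A.δ_act, hg']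

/-- a weight occurring in the image is coprime to the order of the multiplicative group -/
theorem Act.pow_injective {g : G} {j : ℕ} (hne : proj j (A.δ g) ≠ 0) {k : Fˣ} (hk : k ^ j = 1) :
    k = 1 := by
  classical
  let H : Subgroup Fˣ := (powMonoidHom j : Fˣ →* Fˣ).ker
  have hkH : k ∈ H := by
    change (powMonoidHom j : Fˣ →* Fˣ) k = 1
    simpa using hk
  have hmem : ∀ m : H, ((m : Fˣ) : F) ^ j = 1 := by
    intro m
    have : (powMonoidHom j : Fˣ →* Fˣ) m = 1 := m.2
    have h2 : (m : Fˣ) ^ j = 1 := by simpa using this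
    have := congrArg (fun u : Fˣ => (u : F)) h2
    simpa using this
  obtain ⟨g', hg'⟩ := A.exists_sum01 (Finset.univ.filter (· ∈ H)) (fun _ => 1) (fun _ => Or.inr rfl) g
  simp only [one_smul] at hg'
  have hsum : ∑ k ∈ Finset.univ.filter (· ∈ H), cj k (A.δ g) = ∑ m : H, cj (m : Fˣ) (A.δ g) := by
    rw [← Finset.sum_subtype (Finset.univ.filter (· ∈ H)) (by simp) (fun k => cj k (A.δ g))]
  rw [hsum] at hg'
  -- the weight j part of δ g' is the weight j part of δ g
  have hproj : proj j (A.δ g') = proj j (A.δ g) := by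
    rw [hg', proj_sum]
    have : ∀ m : H, proj j (cj (m : Fˣ) (A.δ g)) = proj j (A.δ g) := by
      intro m
      rw [proj_cj, hmem m, one_smul]
    rw [Finset.sum_congr rfl (fun m _ => this m)]
    rw [Finset.sum_const, Finset.card_univ]
    have hodd : Odd (Fintype.card H) := by
      have h1 : Fintype.card H ∣ Fintype.card Fˣ := by
        have := Subgroup.card_subgroup_dvd_card H
        rwa [Nat.card_eq_fintype_card, Nat.card_eq_fintype_card] at this
      exact Odd.of_dvd_nat card_units_odd h1
    obtain ⟨r, hr⟩ := hodd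
    rw [hr, add_smul, one_smul, mul_smul]
    have : (2 : ℕ) • (r • proj j (A.δ g)) = 0 := by
      rw [two_smul]
      ext x
      simp only [AddMonoidHom.add_apply, AddMonoidHom.zero_apply]
      exact CharTwo.add_self_eq_zero _
    rw [this, zero_add]
  have hne' : A.δ g' ≠ 0 := by
    intro h0
    apply hne
    rw [← hproj, h0, proj_zero]
  apply A.semireg k g' hne'
  rw [hg', cj_sum]
  rw [← Equiv.sum_comp (Equiv.mulLeft (⟨k, hkH⟩ : H)) (fun m : H => cj (m : Fˣ) (A.δ g))]
  apply Finset.sum_congr rfl
  intro m _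
  rw [cj_mul]
  rfl

/-- the weight components of an element of the image lie in the image -/
theorem Act.exists_proj (hF : 4 ≤ Fintype.card F) (g : G) (j : ℕ) :
    ∃ g' : G, A.δ g' = proj j (A.δ g) := by
  classical
  by_cases hne : proj j (A.δ g) = 0
  · exact ⟨1, by rw [A.δ_one, hne]⟩
  obtain ⟨n, hn0, hn⟩ := exists_card_eq F
  obtain ⟨g', hg'⟩ := A.exists_sum01 Finset.univ (fun k => tr n ((((k⁻¹ : Fˣ) : F)) ^ j))
    (fun k => tr_zero_or_one hn _) g
  refine ⟨g', ?_⟩
  rw [hg']
  have h1 : ∑ k : Fˣ, tr n ((((k⁻¹ : Fˣ) : F)) ^ j) • cj k (A.δ g)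
      = ∑ i ∈ Finset.range n, proj (j * 2 ^ i) (A.δ g) := by
    unfold tr proj
    rw [Finset.sum_comm]
    apply Finset.sum_congr rfl
    intro k _
    rw [Finset.sum_smul]
    apply Finset.sum_congr rfl
    intro i _
    rw [pow_mul]
  rw [h1]
  have hwj : IsWt F j := ⟨_, hne, isWtVec_proj j _⟩
  have h2 : ∀ i ∈ Finset.range n, i ≠ 0 → proj (j * 2 ^ i) (A.δ g) = 0 := by
    intro i hi hi0
    by_contra hne2
    have hwi : IsWt F (j * 2 ^ i) := ⟨_, hne2, isWtVec_proj _ _⟩
    rcases conj_wt hwj hwi with h3 | h3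
    · -- all units have trivial j-th power
      have hall : ∀ k : Fˣ, k = 1 := by
        intro k
        apply A.pow_injective hne
        have h4 := h3 ((k : F))
        unfold psi at h4
        have h5 : ((k : F)⁻¹) ^ (j * 2 ^ i) = 1 := by
          have := mul_left_cancel₀ k.ne_zero (h4.trans (mul_one _).symm)
          exact this
        rw [pow_mul] at h5
        have h6 := eq_one_of_pow_two_pow h5
        have h7 : ((k⁻¹ : Fˣ)) ^ j = 1 := by
          ext; push_cast; exact h6
        have h8 : (k ^ j)⁻¹ = 1 := by rw [← inv_pow]; exact h7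
        exact inv_eq_one.mp h8
      have hcard : Fintype.card Fˣ = 1 := by
        rw [Fintype.card_eq_one_iff]
        exact ⟨1, hall⟩
      rw [Fintype.card_units] at hcard
      omega
    · exact not_frob_id hn (Nat.pos_of_ne_zero hi0) (Finset.mem_range.mp hi) h3
  rw [Finset.sum_eq_single 0]
  · simp
  · intro i hi hi0; exact h2 i hi hi0
  · intro h0
    exact absurd (Finset.mem_range.mpr hn0) h0

end Cfsg.Agent.Helper16.HigWt
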