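import Mathlib
import Cfsg.Agent.Lib.Helper16.HigWtD

set_option autoImplicit false
set_option linter.style.haveILetI false
set_option linter.unusedSectionVars false

/-! Consequences of the weight decomposition: idempotent images vanish. -/

namespace Cfsg.Agent.Helper16.HigWt

variable {F : Type*} [Field F] [Fintype F] [DecidableEq F] [CharP F 2]
variable {G : Type*} [Group G] (A : Act F G)

theorem exists_unit_ne_one (hF : 4 ≤ Fintype.card F) : ∃ k : Fˣ, k ≠ 1 := by
  by_contra h
  push Not at h
  have hcard : Fintype.card Fˣ = 1 := by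
    rw [Fintype.card_eq_one_iff]
    exact ⟨1, h⟩
  rw [Fintype.card_units] at hcard
  omega

theorem cj_id (k : Fˣ) : cj k (AddMonoidHom.id F) = AddMonoidHom.id F := by
  ext x
  simp

/-- a homogeneous element: its image is a weight vector -/
def Act.Hom (g : G) : Prop := ∃ j : ℕ, IsWtVec j (A.δ g)

theorem Act.hom_of_ker {g : G} (h : A.δ g = 0) : A.Hom g := by
  refine ⟨0, ?_⟩
  intro k
  rw [h, cj_zero, smul_zero]

theorem Act.hom_act {g : G} (h : A.Hom g) (k : Fˣ) : A.Hom (A.act k g) := by
  obtain ⟨j, hj⟩ := h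
  refine ⟨j, ?_⟩
  intro m
  rw [A.δ_act, cj_mul, mul_comm, ← cj_mul, hj m, cj_smul]

/-- the fixed vectors of a nonzero homogeneous element: at most one nonzero one -/
theorem Act.fix_unique {g : G} {j : ℕ} (hj : IsWtVec j (A.δ g)) (hne : A.δ g ≠ 0) {x y : F}
    (hx : A.δ g x = x) (hy : A.δ g y = y) (hx0 : x ≠ 0) (hy0 : y ≠ 0) : x = y := by
  have hk0 : y / x ≠ 0 := div_ne_zero hy0 hx0
  have hyx : y = (y / x) * x := by field_simp
  have h1 : A.δ g y = psi j (y / x) * A.δ g x := by
    rw [wt_apply hj y, wt_apply hj x, ← mul_assoc, ← psi_mul, ← hyx]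
  rw [hy, hx] at h1
  have h2 : psi j (y / x) = y / x := by
    have : (y / x) * x = psi j (y / x) * x := by rw [← hyx]; exact h1
    exact (mul_right_cancel₀ hx0 this).symm
  unfold psi at h2
  have h3 : ((y / x)⁻¹) ^ j = 1 := by
    have := mul_left_cancel₀ hk0 (h2.trans (mul_one _).symm)
    exact this
  have h4 : (Units.mk0 (y / x) hk0) ^ j = 1 := by
    ext
    push_cast
    rw [Units.val_mk0]
    rw [inv_pow] at h3
    exact inv_eq_one.mp h3
  have h5 : (Units.mk0 (y / x) hk0) = 1 := by
    apply A.semireg _ g hne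
    rw [hj, ← Units.val_pow_eq_pow_val, h4, Units.val_one, one_smul]
  have h6 : y / x = 1 := by
    have := congrArg (fun u : Fˣ => (u : F)) h5
    simpa using this
  rw [hyx, h6, one_mul]

/-- ATα : if all the images are idempotent, they all vanish -/
theorem Act.eq_zero_of_idem (hF : 4 ≤ Fintype.card F)
    (hid : ∀ g x, A.δ g (A.δ g x) = A.δ g x) (g : G) : A.δ g = 0 := by
  rw [← sum_proj (A.δ g)]
  apply Finset.sum_eq_zero
  intro j _
  obtain ⟨g', hg'⟩ := A.exists_proj hF g j
  rw [← hg']
  by_contra hne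
  have hw : IsWtVec j (A.δ g') := by rw [hg']; exact isWtVec_proj j _
  have hidg : ∀ x, A.δ g' x = x := by
    intro x
    have h1 : A.δ g' (A.δ g' x - x) = 0 := by
      rw [map_sub, hid, sub_self]
    have := wt_injective hw hne h1
    linear_combination this
  have heq : A.δ g' = AddMonoidHom.id F := by
    ext x; exact hidg x
  obtain ⟨k, hk⟩ := exists_unit_ne_one hF
  apply hk
  apply A.semireg k g' hne
  rw [heq, cj_id]

end Cfsg.Agent.Helper16.HigWt
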