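import Mathlib
import Cfsg.Agent.Lib.Helper16.HigWtE

set_option autoImplicit false
set_option linter.style.haveILetI false
set_option linter.unusedSectionVars false

/-! Consequences of the weight decomposition: the squaring and commutator data vanish. -/

namespace Cfsg.Agent.Helper16.HigWt

/-- an `Act` together with a quadratic map and its polarization, linked to the action -/
structure ActB (F : Type*) [Field F] (G : Type*) [Group G] extends Act F G where
  /-- the quadratic map -/
  P : G → F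
  /-- its polarization -/
  β : G → G → F
  /-- polarization identity -/
  P_mul : ∀ g h, P (g * h) = P g + P h + β g h
  /-- additivity -/
  β_mul : ∀ g g' h, β (g * g') h = β g h + β g' h
  /-- symmetry -/
  β_symm : ∀ g h, β g h = β h g
  /-- alternating -/
  β_self : ∀ g, β g g = 0
  /-- the link -/
  key : ∀ g h, δ h (P g) = β g h + δ g (β g h)
  /-- the kernel -/
  P_ker : ∀ g, δ g = 0 → P g = 0
  /-- the kernel -/
  β_ker : ∀ g h, δ g = 0 → β g h = 0

variable {F : Type*} [Field F] [Fintype F] [DecidableEq F] [CharP F 2]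
variable {G : Type*} [Group G] (B : ActB F G)

theorem ActB.β_mul_right (g h h' : G) : B.β g (h * h') = B.β g h + B.β g h' := by
  rw [B.β_symm, B.β_mul, B.β_symm h, B.β_symm h']

theorem ActB.β_one (h : G) : B.β 1 h = 0 := B.β_ker 1 h B.toAct.δ_one

theorem ActB.β_one_right (g : G) : B.β g 1 = 0 := by rw [B.β_symm, B.β_one]

theorem ActB.β_inv (g h : G) : B.β g⁻¹ h = B.β g h := by
  have := B.β_mul g g⁻¹ h
  rw [mul_inv_cancel, B.β_one] at this
  have h2 : B.β g h + B.β g⁻¹ h = 0 := this.symm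
  exact (char2_eq_of_add_eq_zero h2).symm

theorem ActB.β_inv_right (g h : G) : B.β g h⁻¹ = B.β g h := by
  rw [B.β_symm, B.β_inv, B.β_symm]

/-- homogeneous elements have trivial square datum -/
theorem ActB.P_hom {g : G} (h : B.toAct.Hom g) : B.P g = 0 := by
  by_cases h0 : B.δ g = 0
  · exact B.P_ker g h0
  obtain ⟨j, hj⟩ := h
  have := B.key g g
  rw [B.β_self, map_zero, add_zero] at this
  exact wt_injective hj h0 this

/-- sums over the orbit -/
theorem ActB.exists_orbit_prod (s : Finset Fˣ) (g h : G) :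
    ∃ h' : G, B.δ h' = ∑ k ∈ s, cj k (B.δ h) ∧ B.β g h' = ∑ k ∈ s, B.β g (B.act k h) := by
  classical
  induction s using Finset.induction_on with
  | empty => exact ⟨1, by rw [B.toAct.δ_one, Finset.sum_empty], by rw [B.β_one_right, Finset.sum_empty]⟩
  | insert a s ha ih =>
    obtain ⟨h', h1, h2⟩ := ih
    refine ⟨B.act a h * h', ?_, ?_⟩
    · rw [Finset.sum_insert ha, B.δ_mul, B.δ_act, h1]
    · rw [Finset.sum_insert ha, B.β_mul_right, h2]

theorem sum_units_pow {j : ℕ} {k₀ : Fˣ} (hk : (k₀ : F) ^ j ≠ 1) : ∑ k : Fˣ, (k : F) ^ j = 0 := by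
  have h1 : (k₀ : F) ^ j * ∑ k : Fˣ, (k : F) ^ j = ∑ k : Fˣ, (k : F) ^ j := by
    rw [Finset.mul_sum]
    rw [← Equiv.sum_comp (Equiv.mulLeft k₀) (fun k : Fˣ => (k : F) ^ j)]
    apply Finset.sum_congr rfl
    intro k _
    simp [mul_pow]
  have h2 : ((k₀ : F) ^ j - 1) * ∑ k : Fˣ, (k : F) ^ j = 0 := by
    rw [sub_mul, h1, one_mul, sub_self]
  rcases mul_eq_zero.mp h2 with h3 | h3
  · exact absurd (sub_eq_zero.mp h3) hk
  · exact h3

/-- homogeneous elements have trivial commutator datum -/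
theorem ActB.β_hom (hF : 4 ≤ Fintype.card F) {g h : G} (hg : B.toAct.Hom g) (hh : B.toAct.Hom h) :
    B.β g h = 0 := by
  classical
  by_cases hg0 : B.δ g = 0
  · exact B.β_ker g h hg0
  by_cases hh0 : B.δ h = 0
  · rw [B.β_symm]; exact B.β_ker h g hh0
  obtain ⟨j, hj⟩ := hg
  obtain ⟨j', hj'⟩ := hh
  -- fixed vectors
  have fixg : ∀ h₁ : G, B.toAct.Hom h₁ → B.δ g (B.β g h₁) = B.β g h₁ := by
    intro h₁ _
    have := B.key g h₁
    rw [B.P_hom ⟨j, hj⟩, map_zero] at this
    have h2 : B.β g h₁ + B.δ g (B.β g h₁) = 0 := this.symm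
    exact (char2_eq_of_add_eq_zero h2).symm
  have fixh : ∀ h₁ : G, B.toAct.Hom h₁ → B.δ h₁ (B.β g h₁) = B.β g h₁ := by
    intro h₁ hh₁
    have := B.key h₁ g
    rw [B.P_hom hh₁, map_zero, B.β_symm h₁ g] at this
    have h2 : B.β g h₁ + B.δ h₁ (B.β g h₁) = 0 := this.symm
    exact (char2_eq_of_add_eq_zero h2).symm
  by_contra hv
  have hhom : B.toAct.Hom h := ⟨j', hj'⟩
  -- the other translates pair trivially with g
  have hk : ∀ k : Fˣ, k ≠ 1 → B.β g (B.act k h) = 0 := by
    intro k hk1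
    by_contra hvk
    have hhk : B.toAct.Hom (B.act k h) := B.toAct.hom_act hhom k
    have e1 := B.toAct.fix_unique hj hg0 (fixg _ hhk) (fixg _ hhom) hvk hv
    have e2 := fixh _ hhk
    rw [B.δ_act, cj_apply, e1] at e2
    have e3 : B.δ h (((k⁻¹ : Fˣ) : F) * B.β g h) = ((k⁻¹ : Fˣ) : F) * B.β g h := by
      have : (k : F) * B.δ h (((k⁻¹ : Fˣ) : F) * B.β g h) =
          (k : F) * (((k⁻¹ : Fˣ) : F) * B.β g h) := by
        rw [e2, ← mul_assoc, ← Units.val_mul, mul_inv_cancel, Units.val_one, one_mul]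
      exact mul_left_cancel₀ k.ne_zero this
    have e4 := B.toAct.fix_unique hj' hh0 e3 (fixh _ hhom)
      (mul_ne_zero (k⁻¹).ne_zero hv) hv
    have e5 : ((k⁻¹ : Fˣ) : F) = 1 := by
      have : ((k⁻¹ : Fˣ) : F) * B.β g h = 1 * B.β g h := by rw [one_mul]; exact e4
      exact mul_right_cancel₀ hv this
    apply hk1
    have : k⁻¹ = 1 := Units.ext e5
    exact inv_eq_one.mp this
  obtain ⟨h', h1, h2⟩ := B.exists_orbit_prod Finset.univ g h
  have h3 : B.δ h' = 0 := by
    rw [h1]
    have : ∀ k : Fˣ, cj k (B.δ h) = ((k : F) ^ j') • B.δ h := fun k => hj' k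
    rw [Finset.sum_congr rfl (fun k _ => this k), ← Finset.sum_smul]
    obtain ⟨k₀, hk₀⟩ := exists_unit_ne_one hF
    have hk₀' : (k₀ : F) ^ j' ≠ 1 := by
      intro h4
      apply hk₀
      apply B.semireg k₀ h hh0
      rw [hj' k₀, h4, one_smul]
    rw [sum_units_pow hk₀', zero_smul]
  have h4 : B.β g h' = 0 := by rw [B.β_symm]; exact B.β_ker h' g h3
  rw [h4] at h2
  rw [Finset.sum_eq_single (1 : Fˣ)] at h2
  · apply hv
    rw [map_one, MulAut.one_apply] at h2
    exact h2.symm
  · intro k _ hk1; exact hk k hk1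
  · intro h5; exact absurd (Finset.mem_univ _) h5

/-- homogeneous elements generate -/
theorem Act.closure_hom (A : Act F G) (hF : 4 ≤ Fintype.card F) :
    Subgroup.closure {g : G | A.Hom g} = ⊤ := by
  rw [eq_top_iff]
  intro g _
  have key : ∀ m : ℕ, ∃ p ∈ Subgroup.closure {g : G | A.Hom g},
      A.δ p = ∑ j ∈ Finset.range m, proj j (A.δ g) := by
    intro m
    induction m with
    | zero => exact ⟨1, Subgroup.one_mem _, by rw [A.δ_one, Finset.sum_range_zero]⟩
    | succ m ih =>
      obtain ⟨p, hp, hp2⟩ := ih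
      obtain ⟨g', hg'⟩ := A.exists_proj hF g m
      refine ⟨p * g', Subgroup.mul_mem _ hp (Subgroup.subset_closure ?_), ?_⟩
      · refine ⟨m, ?_⟩
        rw [hg']; exact isWtVec_proj m _
      · rw [Finset.sum_range_succ, A.δ_mul, hp2, hg']
  obtain ⟨p, hp, hp2⟩ := key (Fintype.card F - 1)
  rw [sum_proj] at hp2
  have h1 : A.δ (g * p⁻¹) = 0 := by
    have h2 : A.δ (g * p⁻¹ * p) = A.δ (g * p⁻¹) + A.δ p := A.δ_mul _ _
    rw [inv_mul_cancel_right, hp2] at h2
    exact add_eq_right.mp h2.symm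
  have h3 : g = (g * p⁻¹) * p := by group
  rw [h3]
  exact Subgroup.mul_mem _ (Subgroup.subset_closure (A.hom_of_ker h1)) hp

/-- ATβ : the data vanish -/
theorem ActB.β_eq_zero (hF : 4 ≤ Fintype.card F) (g h : G) : B.β g h = 0 := by
  have hcl := B.toAct.closure_hom hF
  have hg : g ∈ Subgroup.closure {g : G | B.toAct.Hom g} := by rw [hcl]; trivial
  have hh : h ∈ Subgroup.closure {g : G | B.toAct.Hom g} := by rw [hcl]; trivial
  induction hg using Subgroup.closure_induction with
  | mem x hx =>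
    induction hh using Subgroup.closure_induction with
    | mem y hy => exact B.β_hom hF hx hy
    | one => exact B.β_one_right x
    | mul y z _ _ hy hz => rw [B.β_mul_right, hy, hz, add_zero]
    | inv y _ hy => rw [B.β_inv_right, hy]
  | one => exact B.β_one h
  | mul x y _ _ hx hy => rw [B.β_mul, hx, hy, add_zero]
  | inv x _ hx => rw [B.β_inv, hx]

theorem ActB.P_eq_zero (hF : 4 ≤ Fintype.card F) (g : G) : B.P g = 0 := by
  have hcl := B.toAct.closure_hom hF
  have hg : g ∈ Subgroup.closure {g : G | B.toAct.Hom g} := by rw [hcl]; trivial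
  induction hg using Subgroup.closure_induction with
  | mem x hx => exact B.P_hom hx
  | one => exact B.P_ker 1 B.toAct.δ_one
  | mul x y _ _ hx hy => rw [B.P_mul, hx, hy, B.β_eq_zero hF, add_zero, add_zero]
  | inv x _ hx =>
    have := B.P_mul x x⁻¹
    rw [mul_inv_cancel, B.P_ker 1 B.toAct.δ_one, hx, B.β_eq_zero hF, zero_add, add_zero] at this
    exact this.symm

end Cfsg.Agent.Helper16.HigWt
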