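import Mathlib
import Cfsg.Agent.Lib.Helper16.HigGrpC
import Cfsg.Agent.Lib.Helper16.HigFieldA
import Cfsg.Agent.Lib.Helper16.HigWtF

set_option autoImplicit false
set_option linter.style.haveILetI false
set_option linter.unusedSectionVars false

/-! Higman's theorem, part two: the field and the linearised action in the abelian case. -/

namespace Cfsg.Agent.Helper16.Higman

universe u v

open scoped commutatorElement
open Cfsg.Agent.Helper16.HigField Cfsg.Agent.Helper16.HigWt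

variable {G : Type u} [Group G] {K : Type v} [Group K]

/-- the regular action on the involutions -/
noncomputable def AbCtx.dat (Y : AbCtx G K) : Dat ↥(Om G) K where
  ρ := resHom Y.φ (Om G) (fun k _ hx => Y.toCtx.phi_mem_V k hx)
  kcomm := Y.kcomm
  vcomm := fun a b => Subtype.ext (Y.toCtx.V_commute b.2 a)
  exp2 := fun v => Subtype.ext v.2.2
  one := ⟨Y.c₀, Y.toCtx.mem_V.mpr Y.c₀_sq⟩
  one_ne := fun h => Y.c₀_ne (congrArg Subtype.val h)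
  reg := fun a b ha hb =>
    reg_res Y.φ Y.reg (Om G) _ a b ha (Subtype.ext a.2.2) hb (Subtype.ext b.2.2)

/-- the field -/
abbrev AbCtx.F (Y : AbCtx G K) : Type u := FV Y.dat

theorem AbCtx.dat_rho (Y : AbCtx G K) (k : K) (x : Om G) : ((Y.dat.ρ k x : Om G) : G) = Y.φ k x :=
  rfl

open Classical in
/-- the coordinate map -/
noncomputable def AbCtx.toF (Y : AbCtx G K) (x : G) : Y.F :=
  if h : x ∈ Om G then ⟨⟨x, h⟩⟩ else 0

theorem AbCtx.toF_of_mem (Y : AbCtx G K) {x : G} (hx : x ∈ Om G) : Y.toF x = ⟨⟨x, hx⟩⟩ := by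
  simp [AbCtx.toF, hx]

theorem AbCtx.toF_val (Y : AbCtx G K) {x : G} (hx : x ∈ Om G) : ((Y.toF x).val : G) = x := by
  rw [Y.toF_of_mem hx]

theorem AbCtx.toF_val' (Y : AbCtx G K) (a : Y.F) : Y.toF (a.val : G) = a := by
  rw [Y.toF_of_mem a.val.2]

theorem AbCtx.toF_one (Y : AbCtx G K) : Y.toF 1 = 0 := by
  rw [Y.toF_of_mem (Subgroup.one_mem _)]; rfl

theorem AbCtx.toF_mul (Y : AbCtx G K) {x y : G} (hx : x ∈ Om G) (hy : y ∈ Om G) :
    Y.toF (x * y) = Y.toF x + Y.toF y := by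
  rw [Y.toF_of_mem hx, Y.toF_of_mem hy, Y.toF_of_mem (Subgroup.mul_mem _ hx hy)]; rfl

theorem AbCtx.toF_eq_zero (Y : AbCtx G K) {x : G} (hx : x ∈ Om G) : Y.toF x = 0 ↔ x = 1 := by
  rw [Y.toF_of_mem hx, eq_zero_iff]
  constructor
  · intro h; exact congrArg Subtype.val h
  · intro h; exact Subtype.ext h

theorem AbCtx.toF_inj (Y : AbCtx G K) {x y : G} (hx : x ∈ Om G) (hy : y ∈ Om G)
    (h : Y.toF x = Y.toF y) : x = y := by
  rw [Y.toF_of_mem hx, Y.toF_of_mem hy] at h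
  have := congrArg FV.val h
  exact congrArg Subtype.val this

theorem AbCtx.unit_val_ne (Y : AbCtx G K) (u : (Y.F)ˣ) : (u : Y.F).val ≠ 1 := by
  intro h
  exact u.ne_zero ((eq_zero_iff Y.dat _).mpr h)

theorem log_congr {V : Type u} [Group V] (d : Dat V K) {a b : V} (h : a = b) (ha : a ≠ 1)
    (hb : b ≠ 1) : log d a ha = log d b hb := by
  subst h; rfl

/-- the logarithm, as a homomorphism from the units -/
noncomputable def AbCtx.logU (Y : AbCtx G K) : (Y.F)ˣ →* K where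
  toFun u := log Y.dat (u : Y.F).val (Y.unit_val_ne u)
  map_one' := by
    have h := log_one Y.dat
    rw [← h]
    exact log_congr Y.dat rfl _ _
  map_mul' u w := by
    rw [← log_mulV Y.dat (Y.unit_val_ne u) (Y.unit_val_ne w)]
    exact log_congr Y.dat rfl _ _

theorem AbCtx.logU_inj (Y : AbCtx G K) {u : (Y.F)ˣ} (h : Y.logU u = 1) : u = 1 := by
  have h1 := log_spec Y.dat (u : Y.F).val (Y.unit_val_ne u)
  have h2 : log Y.dat (u : Y.F).val (Y.unit_val_ne u) = 1 := h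
  rw [h2, rho_one] at h1
  apply Units.ext
  apply FV.ext'
  exact h1.symm

theorem AbCtx.toF_act (Y : AbCtx G K) (u : (Y.F)ˣ) {x : G} (hx : x ∈ Om G) :
    Y.toF (Y.φ (Y.logU u) x) = (u : Y.F) * Y.toF x := by
  rw [Y.toF_of_mem hx, Y.toF_of_mem (Y.toCtx.phi_mem_V _ hx)]
  apply FV.ext'
  rw [val_mul, mulV_of_ne Y.dat (Y.unit_val_ne u)]
  apply Subtype.ext
  rfl

/-- the action of the units on the group -/
noncomputable def AbCtx.actHom (Y : AbCtx G K) : (Y.F)ˣ →* MulAut G := Y.φ.comp Y.logU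

theorem AbCtx.actHom_apply (Y : AbCtx G K) (u : (Y.F)ˣ) (g : G) :
    Y.actHom u g = Y.φ (Y.logU u) g := rfl

/-- a square root in `M` -/
noncomputable def AbCtx.sqrtM (Y : AbCtx G K) (x : Y.F) : G := (Y.exists_sqrt x.val.2).choose

theorem AbCtx.sqrtM_mem (Y : AbCtx G K) (x : Y.F) : Y.sqrtM x ∈ Y.toCtx.M :=
  (Y.exists_sqrt x.val.2).choose_spec.1

theorem AbCtx.sqrtM_sq (Y : AbCtx G K) (x : Y.F) : Y.sqrtM x * Y.sqrtM x = x.val :=
  (Y.exists_sqrt x.val.2).choose_spec.2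

theorem AbCtx.toF_sqrtM (Y : AbCtx G K) (x : Y.F) : Y.toF (Y.sqrtM x * Y.sqrtM x) = x := by
  rw [Y.sqrtM_sq, Y.toF_val']

/-- the linearised commutator -/
noncomputable def AbCtx.δfun (Y : AbCtx G K) (g : G) (x : Y.F) : Y.F := Y.toF ⁅Y.sqrtM x, g⁆

theorem AbCtx.delta_sq (Y : AbCtx G K) {m : G} (hm : m ∈ Y.toCtx.M) (g : G) :
    Y.δfun g (Y.toF (m * m)) = Y.toF ⁅m, g⁆ := by
  unfold AbCtx.δfun
  set m' := Y.sqrtM (Y.toF (m * m)) with hm'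
  have h1 : m' * m' = m * m := by
    rw [hm', Y.sqrtM_sq, Y.toF_val (Y.toCtx.sq_mem_V hm)]
  have hm'M : m' ∈ Y.toCtx.M := Y.sqrtM_mem _
  have h2 : m⁻¹ * m' = m' * m⁻¹ := Y.hM _ (Subgroup.inv_mem _ hm) _ hm'M
  have h3 : (m' * m⁻¹) * (m' * m⁻¹) = 1 := by
    calc (m' * m⁻¹) * (m' * m⁻¹) = m' * (m⁻¹ * m') * m⁻¹ := by group
      _ = m' * (m' * m⁻¹) * m⁻¹ := by rw [h2]
      _ = (m' * m') * (m * m)⁻¹ := by group
      _ = 1 := by rw [h1, mul_inv_cancel]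
  have h4 : m' = (m' * m⁻¹) * m := by group
  rw [h4, Y.comm_V_mul (Y.toCtx.mem_V.mpr h3)]

theorem AbCtx.δfun_add (Y : AbCtx G K) (g : G) (x y : Y.F) :
    Y.δfun g (x + y) = Y.δfun g x + Y.δfun g y := by
  have hm := Y.sqrtM_mem x
  have hn := Y.sqrtM_mem y
  have h1 : x + y = Y.toF ((Y.sqrtM x * Y.sqrtM y) * (Y.sqrtM x * Y.sqrtM y)) := by
    have h2 : (Y.sqrtM x * Y.sqrtM y) * (Y.sqrtM x * Y.sqrtM y)
        = (Y.sqrtM x * Y.sqrtM x) * (Y.sqrtM y * Y.sqrtM y) := by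
      have := Y.hM _ hm _ hn
      calc (Y.sqrtM x * Y.sqrtM y) * (Y.sqrtM x * Y.sqrtM y)
          = Y.sqrtM x * (Y.sqrtM y * Y.sqrtM x) * Y.sqrtM y := by group
        _ = Y.sqrtM x * (Y.sqrtM x * Y.sqrtM y) * Y.sqrtM y := by rw [this]
        _ = (Y.sqrtM x * Y.sqrtM x) * (Y.sqrtM y * Y.sqrtM y) := by group
    rw [h2, Y.toF_mul (Y.toCtx.sq_mem_V hm) (Y.toCtx.sq_mem_V hn), Y.toF_sqrtM, Y.toF_sqrtM]
  rw [h1, Y.delta_sq (Subgroup.mul_mem _ hm hn), Y.comm_M_mul hm hn,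
    Y.toF_mul (Y.toCtx.comm_mem_V hm g) (Y.toCtx.comm_mem_V hn g)]
  rfl

/-- the linearised commutator, as an additive map -/
noncomputable def AbCtx.δ (Y : AbCtx G K) (g : G) : Y.F →+ Y.F :=
  AddMonoidHom.mk' (Y.δfun g) (Y.δfun_add g)

theorem AbCtx.δ_apply (Y : AbCtx G K) (g : G) (x : Y.F) : Y.δ g x = Y.toF ⁅Y.sqrtM x, g⁆ := rfl

theorem AbCtx.δ_sq (Y : AbCtx G K) {m : G} (hm : m ∈ Y.toCtx.M) (g : G) :
    Y.δ g (Y.toF (m * m)) = Y.toF ⁅m, g⁆ := Y.delta_sq hm g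

theorem AbCtx.δ_eq_zero_iff (Y : AbCtx G K) (g : G) : Y.δ g = 0 ↔ g ∈ Y.C := by
  constructor
  · intro h
    rw [Y.mem_C]
    intro m hm
    have h1 := Y.δ_sq hm g
    rw [h, AddMonoidHom.zero_apply] at h1
    have h2 := (Y.toF_eq_zero (Y.toCtx.comm_mem_V hm g)).mp h1.symm
    rw [commutatorElement_eq_one_iff_commute] at h2
    exact h2.eq
  · intro h
    ext x
    rw [Y.δ_apply, AddMonoidHom.zero_apply]
    have h1 := (Y.mem_C.mp h) _ (Y.sqrtM_mem x)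
    have h2 : ⁅Y.sqrtM x, g⁆ = 1 := by
      rw [commutatorElement_eq_one_iff_commute]; exact h1
    rw [h2, Y.toF_one]

theorem AbCtx.δ_mul (Y : AbCtx G K) (g h : G) : Y.δ (g * h) = Y.δ g + Y.δ h := by
  ext x
  rw [AddMonoidHom.add_apply, Y.δ_apply, Y.δ_apply, Y.δ_apply,
    Y.comm_M_mul_right (Y.sqrtM_mem x),
    Y.toF_mul (Y.toCtx.comm_mem_V (Y.sqrtM_mem x) g) (Y.toCtx.comm_mem_V (Y.sqrtM_mem x) h)]

theorem AbCtx.δ_act (Y : AbCtx G K) (k : (Y.F)ˣ) (g : G) :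
    Y.δ (Y.actHom k g) = cj k (Y.δ g) := by
  ext x
  rw [cj_apply, Y.actHom_apply]
  have hm := Y.sqrtM_mem x
  set m := Y.sqrtM x with hmdef
  have hx : x = Y.toF (m * m) := (Y.toF_sqrtM x).symm
  have h1 : ((k⁻¹ : (Y.F)ˣ) : Y.F) * x
      = Y.toF ((Y.φ (Y.logU k⁻¹) m) * (Y.φ (Y.logU k⁻¹) m)) := by
    rw [← map_mul, Y.toF_act _ (Y.toCtx.sq_mem_V hm), ← hx]
  have hm2 : Y.φ (Y.logU k⁻¹) m ∈ Y.toCtx.M := Y.toCtx.phi_mem_M _ hm
  rw [h1, Y.δ_sq hm2, ← Y.toF_act _ (Y.toCtx.comm_mem_V hm2 g), map_commutatorElement,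
    ← phi_mul, ← map_mul, mul_inv_cancel, map_one, phi_one, Y.δ_apply]

theorem AbCtx.δ_semireg (Y : AbCtx G K) (k : (Y.F)ˣ) (g : G) (hg : Y.δ g ≠ 0)
    (h : cj k (Y.δ g) = Y.δ g) : k = 1 := by
  haveI := Y.fin
  apply Y.logU_inj
  have hgC : g ∉ Y.C := fun hc => hg ((Y.δ_eq_zero_iff g).mpr hc)
  apply semireg_coset Y.φ Y.pg Y.kcomm Y.reg ⟨Y.c₀, Y.c₀_ne⟩ Y.C (fun k x hx => Y.phi_mem_C k hx) hgC
  rw [← Y.δ_eq_zero_iff, Y.δ_mul, ← Y.actHom_apply, Y.δ_act, h, ← Y.δ_mul, inv_mul_cancel]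
  rw [Y.δ_eq_zero_iff]
  exact Subgroup.one_mem _

/-- the linearised action -/
noncomputable def AbCtx.act (Y : AbCtx G K) : Act Y.F G where
  act := Y.actHom
  δ := Y.δ
  δ_mul := Y.δ_mul
  δ_act := Y.δ_act
  semireg := Y.δ_semireg

theorem AbCtx.card_F (Y : AbCtx G K) : 4 ≤ Nat.card Y.F := by
  haveI := Y.fin
  rw [card_eq]
  exact Y.four_le

end Cfsg.Agent.Helper16.Higman
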