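import Mathlib
import Cfsg.Agent.Lib.Helper16.HigGrpD

set_option autoImplicit false
set_option linter.style.haveILetI false
set_option linter.unusedSectionVars false

/-! Higman's theorem, part two: the abelian case is impossible when the centralizer has an
element of order eight. -/

namespace Cfsg.Agent.Helper16.Higman

universe u v

open scoped commutatorElement
open Cfsg.Agent.Helper16.HigField Cfsg.Agent.Helper16.HigWt

variable {G : Type u} [Group G] {K : Type v} [Group K]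

/-- a suitable power has order exactly `2 ^ (j + 1)` -/
theorem exists_pow_of_pow_ne_one [Finite G] (hG : IsPGroup 2 G) {c : G} {j : ℕ}
    (hc : c ^ (2 ^ j) ≠ 1) : ∃ n : ℕ, (c ^ n) ^ (2 ^ j) ≠ 1 ∧ (c ^ n) ^ (2 ^ (j + 1)) = 1 := by
  obtain ⟨r, hr⟩ := (IsPGroup.iff_orderOf.mp hG) c
  have hrj : j < r := by
    by_contra h
    have h1 : r ≤ j := by omega
    apply hc
    rw [← orderOf_dvd_iff_pow_eq_one, hr]
    exact pow_dvd_pow 2 h1
  refine ⟨2 ^ (r - j - 1), ?_, ?_⟩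
  · rw [← pow_mul, ← pow_add]
    apply pow_ne_one_of_lt_orderOf (by positivity)
    rw [hr]
    exact Nat.pow_lt_pow_right (by norm_num) (by omega)
  · rw [← pow_mul, ← pow_add]
    have : r - j - 1 + (j + 1) = r := by omega
    rw [this, ← hr, pow_orderOf_eq_one]

theorem four_eq (c : G) : (c * c) * (c * c) = c ^ 4 := by
  rw [show (4 : ℕ) = 2 + 2 by norm_num, pow_add, pow_two]

/-- in case (α) every involution is a fourth power from the centralizer -/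
theorem AbCtx.alpha_surj (Y : AbCtx G K) (hα : ∃ c ∈ Y.C, (c * c) * (c * c) ≠ 1) {x : G}
    (hx : x ∈ Om G) : ∃ c ∈ Y.C, (c * c) * (c * c) = x := by
  haveI := Y.fin
  by_cases hx1 : x = 1
  · exact ⟨1, Subgroup.one_mem _, by rw [hx1]; group⟩
  obtain ⟨c, hc, hc4⟩ := hα
  rw [four_eq] at hc4
  obtain ⟨n, hn1, hn2⟩ := exists_pow_of_pow_ne_one Y.pg (j := 2) hc4
  have hc' : c ^ n ∈ Y.C := Subgroup.pow_mem _ hc n
  have hw2 : (c ^ n) ^ 4 * (c ^ n) ^ 4 = 1 := by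
    rw [← pow_add]; exact hn2
  obtain ⟨k, hk, -⟩ := Y.reg ((c ^ n) ^ 4) x hn1 hw2 hx1 hx.2
  refine ⟨Y.φ k (c ^ n), Y.phi_mem_C k hc', ?_⟩
  rw [four_eq, ← map_pow]
  exact hk

/-- in case (α) the linearised commutators are idempotent -/
theorem AbCtx.alpha_idem (Y : AbCtx G K) (hα : ∃ c ∈ Y.C, (c * c) * (c * c) ≠ 1) (g : G)
    (y : Y.F) : Y.δ g (Y.δ g y) = Y.δ g y := by
  obtain ⟨c, hc, hcy⟩ := Y.alpha_surj hα y.val.2
  have hs : c * c ∈ Y.C := Subgroup.mul_mem _ hc hc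
  have hsV : (c * c) * (c * c) ∈ Om G := by rw [hcy]; exact y.val.2
  have hsM : c * c ∈ Y.toCtx.M := Y.mem_M_of_mem_C hs hsV
  have hy : y = Y.toF ((c * c) * (c * c)) := by rw [hcy, Y.toF_val']
  -- the commutator u
  have heC : g * c⁻¹ * g⁻¹ ∈ Y.C := Y.C_normal.conj_mem _ (Subgroup.inv_mem _ hc) g
  have hu : ⁅c, g⁆ = c * (g * c⁻¹ * g⁻¹) := by rw [commutatorElement_def]; group
  have huC : ⁅c, g⁆ ∈ Y.C := by rw [hu]; exact Subgroup.mul_mem _ hc heC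
  have he : (g * c⁻¹ * g⁻¹) * c = c * (g * c⁻¹ * g⁻¹) := Y.C_comm heC hc
  have hsq : ⁅c * c, g⁆ = ⁅c, g⁆ * ⁅c, g⁆ := by
    calc ⁅c * c, g⁆ = c * (c * (g * c⁻¹ * g⁻¹)) * (g * c⁻¹ * g⁻¹) := by
          rw [commutatorElement_def]; group
      _ = c * ((g * c⁻¹ * g⁻¹) * c) * (g * c⁻¹ * g⁻¹) := by rw [he]
      _ = (c * (g * c⁻¹ * g⁻¹)) * (c * (g * c⁻¹ * g⁻¹)) := by group
      _ = ⁅c, g⁆ * ⁅c, g⁆ := by rw [hu]
  have huV : ⁅c, g⁆ * ⁅c, g⁆ ∈ Om G := by rw [← hsq]; exact Y.toCtx.comm_mem_V hsM g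
  have huM : ⁅c, g⁆ ∈ Y.toCtx.M := Y.mem_M_of_mem_C huC huV
  -- the action of g on u
  have h1 : c * (g * g) = (g * g) * c := Y.C_comm hc (Y.sq_mem_C g)
  have h2 : ⁅c, g⁆ * (g * ⁅c, g⁆ * g⁻¹) = 1 := by
    calc ⁅c, g⁆ * (g * ⁅c, g⁆ * g⁻¹) = c * (g * g) * c⁻¹ * g⁻¹ * g⁻¹ := by
          simp only [commutatorElement_def]; group
      _ = (g * g) * c * c⁻¹ * g⁻¹ * g⁻¹ := by rw [h1]
      _ = 1 := by group
  have h3 : g * ⁅c, g⁆ * g⁻¹ = ⁅c, g⁆⁻¹ := eq_inv_of_mul_eq_one_right h2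
  have h4 : ⁅⁅c, g⁆, g⁆ = ⁅c, g⁆ * ⁅c, g⁆ := by
    have : ⁅⁅c, g⁆, g⁆ = ⁅c, g⁆ * (g * ⁅c, g⁆ * g⁻¹)⁻¹ := by
      rw [commutatorElement_def ⁅c, g⁆ g]; group
    rw [this, h3, inv_inv]
  have h5 : Y.δ g y = Y.toF (⁅c, g⁆ * ⁅c, g⁆) := by
    rw [hy, Y.δ_sq hsM, hsq]
  rw [h5, Y.δ_sq huM, h4]

/-- case (α) is impossible -/
theorem AbCtx.alpha_false (Y : AbCtx G K) (hα : ∃ c ∈ Y.C, (c * c) * (c * c) ≠ 1) : False := by
  classical
  haveI := Y.fin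
  letI : Fintype Y.F := Fintype.ofFinite _
  obtain ⟨g, hg⟩ := Y.exists_not_mem_C
  have hF : 4 ≤ Fintype.card Y.F := by
    rw [← Nat.card_eq_fintype_card]; exact Y.card_F
  have h := Y.act.eq_zero_of_idem hF (fun g x => Y.alpha_idem hα g x) g
  exact hg ((Y.δ_eq_zero_iff g).mp h)

end Cfsg.Agent.Helper16.Higman
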