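import Mathlib
import Cfsg.Agent.Lib.Helper16.HigGrpE

set_option autoImplicit false
set_option linter.style.haveILetI false
set_option linter.unusedSectionVars false

/-! Higman's theorem, part two: the abelian case is impossible, and all squares are central. -/

namespace Cfsg.Agent.Helper16.Higman

universe u v

open scoped commutatorElement
open Cfsg.Agent.Helper16.HigField Cfsg.Agent.Helper16.HigWt

variable {G : Type u} [Group G] {K : Type v} [Group K]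

/-- the hypothesis of case (β) -/
def AbCtx.Beta (Y : AbCtx G K) : Prop := ∀ c ∈ Y.C, (c * c) * (c * c) = 1

theorem AbCtx.C_le_M (Y : AbCtx G K) (hβ : Y.Beta) {c : G} (hc : c ∈ Y.C) : c ∈ Y.toCtx.M :=
  Y.mem_M_of_mem_C hc (Y.toCtx.mem_V.mpr (hβ c hc))

theorem AbCtx.sq_mem_M (Y : AbCtx G K) (hβ : Y.Beta) (g : G) : g * g ∈ Y.toCtx.M :=
  Y.C_le_M hβ (Y.sq_mem_C g)

theorem AbCtx.conj_mem_M (Y : AbCtx G K) {m : G} (hm : m ∈ Y.toCtx.M) (g : G) :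
    g * m * g⁻¹ ∈ Y.toCtx.M := Y.toCtx.M_normal.conj_mem m hm g

theorem AbCtx.comm_mem_M (Y : AbCtx G K) (hβ : Y.Beta) (g h : G) : ⁅g, h⁆ ∈ Y.toCtx.M := by
  have h1 : ⁅g, h⁆ = ((g * h) * (g * h)) * (h⁻¹ * (g⁻¹ * g⁻¹) * h⁻¹⁻¹) * (h⁻¹ * h⁻¹) := by
    rw [commutatorElement_def]; group
  rw [h1]
  exact Subgroup.mul_mem _ (Subgroup.mul_mem _ (Y.sq_mem_M hβ _)
    (Y.conj_mem_M (Y.sq_mem_M hβ _) _)) (Y.sq_mem_M hβ _)

theorem AbCtx.sq_conj (Y : AbCtx G K) {m : G} (hm : m ∈ Y.toCtx.M) (g : G) :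
    (g * m * g⁻¹) * (g * m * g⁻¹) = m * m := by
  have h1 := Y.toCtx.V_commute (Y.toCtx.sq_mem_V hm) g
  calc (g * m * g⁻¹) * (g * m * g⁻¹) = (g * (m * m)) * g⁻¹ := by group
    _ = ((m * m) * g) * g⁻¹ := by rw [h1]
    _ = m * m := by group

theorem AbCtx.sq_mul_M (Y : AbCtx G K) {m n : G} (hm : m ∈ Y.toCtx.M) (hn : n ∈ Y.toCtx.M) :
    (m * n) * (m * n) = (m * m) * (n * n) := by
  have := Y.hM _ hm _ hn
  calc (m * n) * (m * n) = m * (n * m) * n := by group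
    _ = m * (m * n) * n := by rw [this]
    _ = (m * m) * (n * n) := by group

theorem AbCtx.sq_inv_M (Y : AbCtx G K) {m : G} (hm : m ∈ Y.toCtx.M) :
    m⁻¹ * m⁻¹ = m * m := by
  have h1 : m⁻¹ * m⁻¹ = (m * m)⁻¹ := by group
  rw [h1, Y.toCtx.inv_eq_of_mem_V (Y.toCtx.sq_mem_V hm)]

/-- the quadratic map -/
noncomputable def AbCtx.Pfun (Y : AbCtx G K) (g : G) : Y.F := Y.toF ((g * g) * (g * g))

/-- its polarization -/
noncomputable def AbCtx.βfun (Y : AbCtx G K) (g h : G) : Y.F := Y.toF (⁅g, h⁆ * ⁅g, h⁆)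

theorem AbCtx.P_mul (Y : AbCtx G K) (hβ : Y.Beta) (g h : G) :
    Y.Pfun (g * h) = Y.Pfun g + Y.Pfun h + Y.βfun g h := by
  unfold AbCtx.Pfun AbCtx.βfun
  have ha : ⁅h, g⁆ ∈ Y.toCtx.M := Y.comm_mem_M hβ h g
  have ha' : g * ⁅h, g⁆ * g⁻¹ ∈ Y.toCtx.M := Y.conj_mem_M ha g
  have hg : g * g ∈ Y.toCtx.M := Y.sq_mem_M hβ g
  have hh : h * h ∈ Y.toCtx.M := Y.sq_mem_M hβ h
  have h1 : (g * h) * (g * h) = (g * ⁅h, g⁆ * g⁻¹) * (g * g) * (h * h) := by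
    rw [commutatorElement_def]; group
  have h2 : ⁅h, g⁆ * ⁅h, g⁆ = ⁅g, h⁆ * ⁅g, h⁆ := by
    rw [← commutatorElement_inv g h, Y.sq_inv_M (Y.comm_mem_M hβ g h)]
  rw [h1, Y.sq_mul_M (Subgroup.mul_mem _ ha' hg) hh, Y.sq_mul_M ha' hg, Y.sq_conj ha, h2,
    Y.toF_mul (Subgroup.mul_mem _ (Y.toCtx.sq_mem_V (Y.comm_mem_M hβ g h)) (Y.toCtx.sq_mem_V hg))
      (Y.toCtx.sq_mem_V hh),
    Y.toF_mul (Y.toCtx.sq_mem_V (Y.comm_mem_M hβ g h)) (Y.toCtx.sq_mem_V hg)]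
  abel

theorem AbCtx.β_mul (Y : AbCtx G K) (hβ : Y.Beta) (g g' h : G) :
    Y.βfun (g * g') h = Y.βfun g h + Y.βfun g' h := by
  unfold AbCtx.βfun
  have ha : ⁅g', h⁆ ∈ Y.toCtx.M := Y.comm_mem_M hβ g' h
  have hb : ⁅g, h⁆ ∈ Y.toCtx.M := Y.comm_mem_M hβ g h
  have ha' : g * ⁅g', h⁆ * g⁻¹ ∈ Y.toCtx.M := Y.conj_mem_M ha g
  have h1 : ⁅g * g', h⁆ = (g * ⁅g', h⁆ * g⁻¹) * ⁅g, h⁆ := by
    simp only [commutatorElement_def]; group
  rw [h1, Y.sq_mul_M ha' hb, Y.sq_conj ha,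
    Y.toF_mul (Y.toCtx.sq_mem_V ha) (Y.toCtx.sq_mem_V hb)]
  abel

theorem AbCtx.β_symm (Y : AbCtx G K) (hβ : Y.Beta) (g h : G) : Y.βfun g h = Y.βfun h g := by
  unfold AbCtx.βfun
  rw [← commutatorElement_inv h g, Y.sq_inv_M (Y.comm_mem_M hβ h g)]

theorem AbCtx.β_self (Y : AbCtx G K) (g : G) : Y.βfun g g = 0 := by
  unfold AbCtx.βfun
  rw [commutatorElement_self, one_mul, Y.toF_one]

theorem AbCtx.key (Y : AbCtx G K) (hβ : Y.Beta) (g h : G) :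
    Y.δ h (Y.Pfun g) = Y.βfun g h + Y.δ g (Y.βfun g h) := by
  unfold AbCtx.Pfun AbCtx.βfun
  have ha : ⁅g, h⁆ ∈ Y.toCtx.M := Y.comm_mem_M hβ g h
  rw [Y.δ_sq (Y.sq_mem_M hβ g), Y.δ_sq ha]
  have h1 : ⁅g * g, h⁆ = ⁅⁅g, h⁆, g⁆⁻¹ * (⁅g, h⁆ * ⁅g, h⁆) := by
    simp only [commutatorElement_def, mul_inv_rev, inv_inv, mul_assoc, inv_mul_cancel_left,
      mul_inv_cancel_left]
  have h2 : ⁅⁅g, h⁆, g⁆ ∈ Om G := Y.toCtx.comm_mem_V ha g
  rw [h1, Y.toCtx.inv_eq_of_mem_V h2, Y.toF_mul h2 (Y.toCtx.sq_mem_V ha)]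
  abel

theorem AbCtx.P_ker (Y : AbCtx G K) (hβ : Y.Beta) (g : G) (h : Y.δ g = 0) : Y.Pfun g = 0 := by
  unfold AbCtx.Pfun
  rw [hβ g ((Y.δ_eq_zero_iff g).mp h), Y.toF_one]

theorem AbCtx.β_ker (Y : AbCtx G K) (hβ : Y.Beta) (g h : G) (h0 : Y.δ g = 0) :
    Y.βfun g h = 0 := by
  unfold AbCtx.βfun
  have hg : g ∈ Y.toCtx.M := Y.C_le_M hβ ((Y.δ_eq_zero_iff g).mp h0)
  rw [(Y.toCtx.comm_mem_V hg h).2, Y.toF_one]

/-- the quadratic data -/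
noncomputable def AbCtx.actB (Y : AbCtx G K) (hβ : Y.Beta) : ActB Y.F G where
  toAct := Y.act
  P := Y.Pfun
  β := Y.βfun
  P_mul := Y.P_mul hβ
  β_mul := Y.β_mul hβ
  β_symm := Y.β_symm hβ
  β_self := Y.β_self
  key := Y.key hβ
  P_ker := Y.P_ker hβ
  β_ker := Y.β_ker hβ

/-- case (β) is impossible -/
theorem AbCtx.beta_false (Y : AbCtx G K) (hβ : Y.Beta) : False := by
  classical
  haveI := Y.fin
  letI : Fintype Y.F := Fintype.ofFinite _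
  have hF : 4 ≤ Fintype.card Y.F := by
    rw [← Nat.card_eq_fintype_card]; exact Y.card_F
  have hall : ∀ g : G, g ∈ Y.toCtx.M := by
    intro g
    rw [Y.toCtx.mem_M]
    constructor
    · intro h
      have h1 : Y.βfun g h = 0 := (Y.actB hβ).β_eq_zero hF g h
      unfold AbCtx.βfun at h1
      have h2 := (Y.toF_eq_zero (Y.toCtx.sq_mem_V (Y.comm_mem_M hβ g h))).mp h1
      exact Y.toCtx.mem_V.mpr h2
    · have h1 : Y.Pfun g = 0 := (Y.actB hβ).P_eq_zero hF g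
      unfold AbCtx.Pfun at h1
      have h2 := (Y.toF_eq_zero (Y.toCtx.sq_mem_V (Y.sq_mem_M hβ g))).mp h1
      exact Y.toCtx.mem_V.mpr h2
  obtain ⟨x, y, hxy⟩ := Y.hna
  exact hxy (Y.hM x (hall x) y (hall y))

/-- the abelian case is impossible -/
theorem AbCtx.false (Y : AbCtx G K) : False := by
  by_cases hα : ∃ c ∈ Y.C, (c * c) * (c * c) ≠ 1
  · exact Y.alpha_false hα
  · push Not at hα
    exact Y.beta_false hα

/-- **Higman**: in a Suzuki 2-group all squares are central involutions -/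
theorem Ctx.sq_mem_V_all (X : Ctx G K)
    (two : ∃ x y : G, x ≠ y ∧ x ≠ 1 ∧ x * x = 1 ∧ y ≠ 1 ∧ y * y = 1) (g : G) :
    g * g ∈ Om G := by
  by_cases hM : ∃ x ∈ X.M, ∃ y ∈ X.M, x * y ≠ y * x
  · exact X.sq_mem_V_of_M_nonab hM g
  · exfalso
    push Not at hM
    obtain ⟨x, y, hxy, hx1, hx2, hy1, hy2⟩ := two
    exact AbCtx.false
      { toCtx := X
        hM := hM
        c₀ := x
        c₀_ne := hx1
        c₀_sq := hx2
        c₁ := y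
        c₁_ne := hy1
        c₁_sq := hy2
        c₁_ne' := fun h => hxy h.symm }

end Cfsg.Agent.Helper16.Higman
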