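import Mathlib
import Cfsg.Agent.Lib.Helper16.HigGrpF
import Cfsg.Agent.Lib.Helper16.HigCountC

set_option autoImplicit false
set_option linter.style.haveILetI false
set_option linter.unusedSectionVars false

/-! Higman's theorem, part two: the final statement. -/

namespace Cfsg.Agent.Helper16.Higman

universe u v

open scoped commutatorElement
open Cfsg.Agent.Helper16.HigCount

variable {G : Type u} [Group G] {K : Type v} [Group K]

theorem Ctx.comm_mem_V_all (X : Ctx G K)
    (two : ∃ x y : G, x ≠ y ∧ x ≠ 1 ∧ x * x = 1 ∧ y ≠ 1 ∧ y * y = 1) (g h : G) :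
    ⁅g, h⁆ ∈ Om G := by
  have hsq := X.sq_mem_V_all two
  have h1 : ⁅g, h⁆ = ((g * h) * (g * h)) * (h⁻¹ * (g⁻¹ * g⁻¹) * h⁻¹⁻¹) * (h⁻¹ * h⁻¹) := by
    rw [commutatorElement_def]; group
  rw [h1]
  exact Subgroup.mul_mem _ (Subgroup.mul_mem _ (hsq _)
    (Om_normal.conj_mem _ (hsq _) _)) (hsq _)

theorem Ctx.center_eq (X : Ctx G K) : Subgroup.center G = Om G := by
  apply le_antisymm X.center_le_V Om_le_center

theorem Ctx.V_lt (X : Ctx G K) : Nat.card (Om G) < Nat.card G := by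
  haveI := X.fin
  have h1 : Nat.card (Om G) ≤ Nat.card G := Subgroup.card_le_card_group _
  rcases h1.lt_or_eq with h | h
  · exact h
  · exfalso
    have h2 : Om G = ⊤ := Subgroup.eq_top_of_card_eq _ h
    obtain ⟨x, y, hxy⟩ := X.hna
    apply hxy
    have : y ∈ Om G := by rw [h2]; trivial
    exact X.V_commute this x

/-- **Higman**: the order of a Suzuki 2-group is the square or the cube of the order of its
centre -/
theorem Ctx.card_cases (X : Ctx G K)
    (two : ∃ x y : G, x ≠ y ∧ x ≠ 1 ∧ x * x = 1 ∧ y ≠ 1 ∧ y * y = 1) :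
    Nat.card G = Nat.card (Om G) ^ 2 ∨ Nat.card G = Nat.card (Om G) ^ 3 := by
  classical
  haveI := X.fin
  have hsq := X.sq_mem_V_all two
  have hcomm := X.comm_mem_V_all two
  obtain ⟨x, y, -, hx1, hx2, -, -⟩ := two
  obtain ⟨H, hyp⟩ := exists_hyp X.pg (Om G) ⟨x, X.mem_V.mpr hx2, hx1⟩
  haveI : Finite K := K_finite X.φ X.reg hx1 hx2
  letI : Fintype K := Fintype.ofFinite K
  letI : Fintype G := Fintype.ofFinite G
  have hK := card_K X hyp
  have havg := avg X hyp hsq
  have hS := S_sq_cases hsq hcomm hyp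
  obtain ⟨n, hn⟩ := IsPGroup.iff_card.mp (X.pg.to_subgroup (Om G))
  obtain ⟨a, ha⟩ := IsPGroup.iff_card.mp X.pg
  obtain ⟨b, hb⟩ := IsPGroup.iff_card.mp (X.pg.to_subgroup (Rad hcomm H))
  have hlt := X.V_lt
  rw [hn, ha] at hlt
  have hna : n < a := (Nat.pow_lt_pow_iff_right (by norm_num)).mp hlt
  have hKpos : 0 < Fintype.card K := Fintype.card_pos
  have hn1 : 1 ≤ n := by
    by_contra h
    have h0 : n = 0 := by omega
    rw [hn, h0, pow_zero] at hK
    omega
  rw [hn] at hK havg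
  rw [ha, hb] at hS
  have hGc : (Fintype.card G : ℤ) = 2 ^ a := by
    rw [← Nat.card_eq_fintype_card, ha]; norm_num
  have hKc : (Fintype.card K : ℤ) = 2 ^ n - 1 := by
    have : ((Fintype.card K + 1 : ℕ) : ℤ) = ((2 ^ n : ℕ) : ℤ) := by rw [hK]
    push_cast at this
    linarith
  rw [hGc, hKc] at havg
  have h1 : ((2 : ℤ) ^ n - 1) * S H = (2 ^ n) ^ 2 - 2 ^ a := by
    rw [havg]; push_cast; ring
  have h2 : S H * S H = 0 ∨ S H * S H = 2 ^ a * 2 ^ b := by
    rcases hS with h | h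
    · left; exact h
    · right; rw [h]; push_cast; ring
  rw [hn, ha]
  rcases arith hn1 hna h1 h2 with h | h
  · left; rw [h, pow_mul']
  · right; rw [h, pow_mul']

end Cfsg.Agent.Helper16.Higman
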