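import Mathlib
import Cfsg.Prelude.Def_LieRecognition

set_option autoImplicit false
set_option linter.style.haveILetI false
set_option linter.unusedSectionVars false

/-! The type A groups as sets of coordinates. -/

namespace Cfsg.Agent.Helper16.TypeA

variable {F : Type*} [Field F]

/-- the matrix with coordinates `a`, `b` -/
def mat (φ : F →+* F) (a b : F) : Matrix (Fin 3) (Fin 3) F := !![1, 0, 0; a, 1, 0; b, φ a, 1]

theorem mat_mul (φ : F →+* F) (a b a' b' : F) :
    mat φ a b * mat φ a' b' = mat φ (a + a') (b + b' + φ a * a') := by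
  unfold mat
  ext i j
  fin_cases i <;> fin_cases j <;> (simp [Matrix.mul_apply, Fin.sum_univ_three]; try ring)

theorem mat_zero (φ : F →+* F) : mat φ 0 0 = 1 := by
  unfold mat
  ext i j
  fin_cases i <;> fin_cases j <;> simp

theorem mat_inj (φ : F →+* F) {a b a' b' : F} (h : mat φ a b = mat φ a' b') : a = a' ∧ b = b' := by
  unfold mat at h
  have h1 := congrFun (congrFun h 1) 0
  have h2 := congrFun (congrFun h 2) 0
  simp at h1 h2
  exact ⟨h1, h2⟩

/-- the matrix as a unit -/
def unit (φ : F →+* F) (a b : F) : GL (Fin 3) F where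
  val := mat φ a b
  inv := mat φ (-a) (-b + φ a * a)
  val_inv := by
    rw [mat_mul, ← mat_zero φ]
    congr 1
    · ring
    · ring
  inv_val := by
    rw [mat_mul, ← mat_zero φ]
    congr 1
    · ring
    · rw [map_neg]; ring

theorem unit_val (φ : F →+* F) (a b : F) :
    ((unit φ a b : GL (Fin 3) F) : Matrix (Fin 3) (Fin 3) F) = mat φ a b := rfl

/-- a group with type A coordinates is a type A group -/
theorem nonempty_mulEquiv {P : Type*} [Group P] (φ : F →+* F) (x y : P → F)
    (hx : ∀ g h, x (g * h) = x g + x h)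
    (hy : ∀ g h, y (g * h) = y g + y h + φ (x g) * x h)
    (hinj : ∀ g h, x g = x h → y g = y h → g = h)
    (hsurj : ∀ a b, ∃ g, x g = a ∧ y g = b) :
    Nonempty (P ≃* Cfsg.suzukiTypeA F φ) := by
  have hx1 : x 1 = 0 := by
    have := hx 1 1
    rw [mul_one] at this
    exact left_eq_add.mp this
  have hy1 : y 1 = 0 := by
    have := hy 1 1
    rw [mul_one, hx1, map_zero, zero_mul, add_zero] at this
    exact left_eq_add.mp this
  let μ : P →* GL (Fin 3) F :=
    { toFun := fun g => unit φ (x g) (y g)
      map_one' := by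
        apply Units.ext
        rw [unit_val, hx1, hy1, mat_zero]; rfl
      map_mul' := fun g h => by
        apply Units.ext
        rw [Units.val_mul, unit_val, unit_val, unit_val, mat_mul, hx, hy] }
  have hμ : Function.Injective μ := by
    intro g h hgh
    have h1 : mat φ (x g) (y g) = mat φ (x h) (y h) := congrArg Units.val hgh
    obtain ⟨h2, h3⟩ := mat_inj φ h1
    exact hinj g h h2 h3
  have hrange : Cfsg.suzukiTypeA F φ = μ.range := by
    unfold Cfsg.suzukiTypeA
    have hS : {g : GL (Fin 3) F | ∃ x y : F,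
        (g : Matrix (Fin 3) (Fin 3) F) = !![1, 0, 0; x, 1, 0; y, φ x, 1]} = (μ.range : Set _) := by
      ext g
      simp only [Set.mem_ofPred_eq, SetLike.mem_coe, MonoidHom.mem_range]
      constructor
      · rintro ⟨a, b, hab⟩
        obtain ⟨p, hp1, hp2⟩ := hsurj a b
        refine ⟨p, ?_⟩
        apply Units.ext
        rw [hab]
        change mat φ (x p) (y p) = _
        rw [hp1, hp2]; rfl
      · rintro ⟨p, rfl⟩
        exact ⟨x p, y p, rfl⟩
    rw [hS, Subgroup.closure_eq]
  exact ⟨(MonoidHom.ofInjective hμ).trans (MulEquiv.subgroupCongr hrange.symm)⟩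

end Cfsg.Agent.Helper16.TypeA
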