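import Mathlib

set_option autoImplicit false
set_option linter.style.haveILetI false
set_option linter.unusedSectionVars false

/-! Existence of the second coordinate: a cochain for a bilinear cocycle with the right diagonal
and polarization. -/

namespace Cfsg.Agent.Helper16.TypeA

open scoped commutatorElement

variable {P : Type*} [Group P] {F : Type*} [Field F]

/-- the data for the extension lemma -/
structure CoData (V : Subgroup P) (ι : P → F) (u : P → P → F) : Prop where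
  /-- characteristic two -/
  h2 : (2 : F) = 0
  /-- `V` is central -/
  hVc : ∀ v ∈ V, ∀ g : P, g * v = v * g
  /-- squares lie in `V` -/
  hsq : ∀ g : P, g * g ∈ V
  /-- commutators lie in `V` -/
  hcomm : ∀ g h : P, ⁅g, h⁆ ∈ V
  /-- additivity on `V` -/
  hι : ∀ v ∈ V, ∀ w ∈ V, ι (v * w) = ι v + ι w
  /-- left additivity -/
  hul : ∀ g g' h, u (g * g') h = u g h + u g' h
  /-- right additivity -/
  hur : ∀ g h h', u g (h * h') = u g h + u g h'
  /-- vanishing on `V` -/
  huV : ∀ v ∈ V, ∀ g, u g v = 0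
  /-- vanishing on `V` -/
  huV' : ∀ v ∈ V, ∀ g, u v g = 0
  /-- the diagonal -/
  hdiag : ∀ g, u g g = ι (g * g)
  /-- the polarization -/
  hpol : ∀ g h, u g h + u h g = ι ⁅g, h⁆

variable {V : Subgroup P} {ι : P → F} {u : P → P → F}

/-- a subgroup on which the second coordinate exists -/
def Good (V : Subgroup P) (ι : P → F) (u : P → P → F) (H : Subgroup P) : Prop :=
  V ≤ H ∧ ∃ y : P → F, (∀ g ∈ H, ∀ h ∈ H, y (g * h) = y g + y h + u g h) ∧ ∀ v ∈ V, y v = ι v

theorem CoData.u_one_left (D : CoData V ι u) (g : P) : u 1 g = 0 := D.huV' 1 V.one_mem g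

theorem CoData.u_inv_left (D : CoData V ι u) (g h : P) : u g⁻¹ h = u g h := by
  have h1 := D.hul g⁻¹ g h
  rw [inv_mul_cancel, D.u_one_left] at h1
  linear_combination (-1 : F) * h1 - (u g h) * D.h2

theorem CoData.u_inv_right (D : CoData V ι u) (g h : P) : u g h⁻¹ = u g h := by
  have h1 := D.hur g h⁻¹ h
  rw [inv_mul_cancel, D.huV 1 V.one_mem] at h1
  linear_combination (-1 : F) * h1 - (u g h) * D.h2

theorem CoData.good_V (D : CoData V ι u) : Good V ι u V := by
  refine ⟨le_refl _, ι, ?_, fun v _ => rfl⟩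
  intro g hg h hh
  rw [D.hι g hg h hh, D.huV h hh, add_zero]

theorem CoData.conj_mem (D : CoData V ι u) {H : Subgroup P} (hVH : V ≤ H) {a : P} (ha : a ∈ H)
    (b : P) : b * a * b⁻¹ ∈ H := by
  have h1 : b * a * b⁻¹ = ⁅b, a⁆ * a := by rw [commutatorElement_def]; group
  rw [h1]
  exact H.mul_mem (hVH (D.hcomm b a)) ha

/-- the subgroup generated by `H` and `g` -/
def CoData.ext (D : CoData V ι u) {H : Subgroup P} (hVH : V ≤ H) (g : P) : Subgroup P where
  carrier := {a | a ∈ H ∨ g⁻¹ * a ∈ H}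
  one_mem' := Or.inl H.one_mem
  mul_mem' := by
    rintro a b (ha | ha) (hb | hb)
    · exact Or.inl (H.mul_mem ha hb)
    · right
      have h1 : g⁻¹ * (a * b) = (g⁻¹ * a * g⁻¹⁻¹) * (g⁻¹ * b) := by group
      rw [h1]
      exact H.mul_mem (D.conj_mem hVH ha _) hb
    · right
      rw [← mul_assoc]
      exact H.mul_mem ha hb
    · left
      have h1 : a * b = (g * g) * (g⁻¹ * (g⁻¹ * a) * g⁻¹⁻¹) * (g⁻¹ * b) := by group
      rw [h1]
      exact H.mul_mem (H.mul_mem (hVH (D.hsq g)) (D.conj_mem hVH ha _)) hb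
  inv_mem' := by
    rintro a (ha | ha)
    · exact Or.inl (H.inv_mem ha)
    · right
      have h1 : g⁻¹ * a⁻¹ = (g⁻¹ * (g⁻¹ * a)⁻¹ * g⁻¹⁻¹) * (g * g)⁻¹ := by group
      rw [h1]
      exact H.mul_mem (D.conj_mem hVH (H.inv_mem ha) _) (H.inv_mem (hVH (D.hsq g)))

theorem CoData.mem_ext (D : CoData V ι u) {H : Subgroup P} (hVH : V ≤ H) (g a : P) :
    a ∈ D.ext hVH g ↔ a ∈ H ∨ g⁻¹ * a ∈ H := Iff.rfl

/-- the extension step -/
theorem CoData.good_ext (D : CoData V ι u) {H : Subgroup P} (hH : Good V ι u H) {g : P}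
    (hg : g ∉ H) : Good V ι u (D.ext hH.1 g) := by
  classical
  obtain ⟨hVH, y, hy, hyV⟩ := hH
  refine ⟨fun v hv => Or.inl (hVH hv), ?_⟩
  let y' : P → F := fun a => if a ∈ H then y a else y (g⁻¹ * a) + u g (g⁻¹ * a)
  have hy'0 : ∀ h ∈ H, y' h = y h := by
    intro h hh
    simp only [y', hh, if_true]
  have hgh : ∀ h ∈ H, g * h ∉ H := by
    intro h hh hc
    apply hg
    have : g = (g * h) * h⁻¹ := by group
    rw [this]
    exact H.mul_mem hc (H.inv_mem hh)
  have hy'1 : ∀ h ∈ H, y' (g * h) = y h + u g h := by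
    intro h hh
    simp only [y', hgh h hh, if_false, inv_mul_cancel_left]
  -- elements of `V` split off
  have hyv : ∀ h ∈ H, ∀ v ∈ V, y (h * v) = y h + ι v := by
    intro h hh v hv
    rw [hy h hh v (hVH hv), hyV v hv, D.huV v hv, add_zero]
  have hyv' : ∀ v ∈ V, ∀ h ∈ H, y (v * h) = ι v + y h := by
    intro v hv h hh
    rw [hy v (hVH hv) h hh, hyV v hv, D.huV' v hv, add_zero]
  -- the conjugate
  have hc : ∀ h : P, g⁻¹ * h * g = h * ⁅h⁻¹, g⁻¹⁆ := by
    intro h; rw [commutatorElement_def]; group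
  have hιc : ∀ h : P, ι ⁅h⁻¹, g⁻¹⁆ = u h g + u g h := by
    intro h
    rw [← D.hpol, D.u_inv_left, D.u_inv_right, D.u_inv_left, D.u_inv_right]
  refine ⟨y', ?_, ?_⟩
  · intro a ha b hb
    rw [D.mem_ext] at ha hb
    by_cases haH : a ∈ H
    · by_cases hbH : b ∈ H
      · rw [hy'0 a haH, hy'0 b hbH, hy'0 _ (H.mul_mem haH hbH), hy a haH b hbH]
      · -- a ∈ H, b = g h'
        obtain ⟨h', hb', hbe⟩ : ∃ h' ∈ H, b = g * h' :=
          ⟨g⁻¹ * b, hb.resolve_left hbH, by group⟩
        have hcV : ⁅a⁻¹, g⁻¹⁆ ∈ V := D.hcomm _ _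
        have h1 : a * b = g * ((a * h') * ⁅a⁻¹, g⁻¹⁆) := by
          have := D.hVc _ hcV h'
          calc a * b = g * ((g⁻¹ * a * g) * h') := by rw [hbe]; group
            _ = g * ((a * ⁅a⁻¹, g⁻¹⁆) * h') := by rw [hc]
            _ = g * (a * (⁅a⁻¹, g⁻¹⁆ * h')) := by group
            _ = g * (a * (h' * ⁅a⁻¹, g⁻¹⁆)) := by rw [this]
            _ = g * ((a * h') * ⁅a⁻¹, g⁻¹⁆) := by group
        have hmem : (a * h') * ⁅a⁻¹, g⁻¹⁆ ∈ H := H.mul_mem (H.mul_mem haH hb') (hVH hcV)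
        rw [h1, hy'1 _ hmem, hyv _ (H.mul_mem haH hb') _ hcV, hy a haH h' hb', D.hur, D.hur,
          D.huV _ hcV, hιc, hy'0 a haH, hbe, hy'1 h' hb', D.hur]
        linear_combination (u g a) * D.h2
    · obtain ⟨h, ha', hae⟩ : ∃ h ∈ H, a = g * h :=
        ⟨g⁻¹ * a, ha.resolve_left haH, by group⟩
      by_cases hbH : b ∈ H
      · -- a = g h, b ∈ H
        have h1 : a * b = g * (h * b) := by rw [hae]; group
        rw [h1, hy'1 _ (H.mul_mem ha' hbH), hy h ha' b hbH, D.hur, hae, hy'1 h ha', hy'0 b hbH,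
          D.hul]
        ring
      · -- a = g h, b = g h'
        obtain ⟨h', hb', hbe⟩ : ∃ h' ∈ H, b = g * h' :=
          ⟨g⁻¹ * b, hb.resolve_left hbH, by group⟩
        have hcV : ⁅h⁻¹, g⁻¹⁆ ∈ V := D.hcomm _ _
        have hgg : g * g ∈ V := D.hsq g
        have h1 : a * b = (g * g) * ((h * h') * ⁅h⁻¹, g⁻¹⁆) := by
          have := D.hVc _ hcV h'
          calc a * b = (g * g) * ((g⁻¹ * h * g) * h') := by rw [hae, hbe]; group
            _ = (g * g) * ((h * ⁅h⁻¹, g⁻¹⁆) * h') := by rw [hc]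
            _ = (g * g) * (h * (⁅h⁻¹, g⁻¹⁆ * h')) := by group
            _ = (g * g) * (h * (h' * ⁅h⁻¹, g⁻¹⁆)) := by rw [this]
            _ = (g * g) * ((h * h') * ⁅h⁻¹, g⁻¹⁆) := by group
        have hmem : (h * h') * ⁅h⁻¹, g⁻¹⁆ ∈ H := H.mul_mem (H.mul_mem ha' hb') (hVH hcV)
        have hmem2 : (g * g) * ((h * h') * ⁅h⁻¹, g⁻¹⁆) ∈ H := H.mul_mem (hVH hgg) hmem
        rw [h1, hy'0 _ hmem2, hyv' _ hgg _ hmem, hyv _ (H.mul_mem ha' hb') _ hcV, hy h ha' h' hb',
          hιc, ← D.hdiag, hae, hbe, hy'1 h ha', hy'1 h' hb', D.hul, D.hur, D.hur]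
        linear_combination (-(u g h')) * D.h2
  · intro v hv
    rw [hy'0 v (hVH hv), hyV v hv]

/-- the second coordinate exists -/
theorem CoData.exists_coord [Finite P] (D : CoData V ι u) :
    ∃ y : P → F, (∀ g h, y (g * h) = y g + y h + u g h) ∧ ∀ v ∈ V, y v = ι v := by
  have key : ∀ n : ℕ, ∀ H : Subgroup P, Good V ι u H → Nat.card P - Nat.card H = n →
      Good V ι u ⊤ := by
    intro n
    induction n using Nat.strong_induction_on with
    | _ n ih =>
      intro H hH hn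
      by_cases htop : H = ⊤
      · rw [← htop]; exact hH
      · obtain ⟨g, hg⟩ : ∃ g, g ∉ H := by
          by_contra hall
          push Not at hall
          exact htop ((Subgroup.eq_top_iff' H).mpr hall)
        have hH' := D.good_ext hH hg
        have hlt : H < D.ext hH.1 g := by
          refine lt_of_le_of_ne (fun a ha => Or.inl ha) ?_
          intro heq
          apply hg
          rw [heq]
          right
          rw [inv_mul_cancel]; exact H.one_mem
        have hcard : Nat.card H < Nat.card (D.ext hH.1 g) := by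
          by_contra hcon
          push Not at hcon
          exact hlt.ne (Subgroup.eq_of_le_of_card_ge hlt.le hcon)
        have hle : Nat.card (D.ext hH.1 g) ≤ Nat.card P := Subgroup.card_le_card_group _
        exact ih (Nat.card P - Nat.card (D.ext hH.1 g)) (by omega) _ hH' rfl
  obtain ⟨-, y, hy, hyV⟩ := key _ V D.good_V rfl
  exact ⟨y, fun g h => hy g trivial h trivial, hyV⟩

end Cfsg.Agent.Helper16.TypeA
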