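import Mathlib
import Cfsg.Agent.Lib.Helper16.HigWtF

set_option autoImplicit false
set_option linter.style.haveILetI false
set_option linter.unusedSectionVars false

/-! Multiplicative quadratic maps of a finite field of characteristic two are products of two
field endomorphisms. -/

namespace Cfsg.Agent.Helper16.HigWt

variable {F : Type*} [Field F] [Fintype F] [DecidableEq F] [CharP F 2]

theorem proj_smul (j : ℕ) (a : F) (δ : F →+ F) : proj j (a • δ) = a • proj j δ := by
  unfold proj
  rw [Finset.smul_sum]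
  apply Finset.sum_congr rfl
  intro k _
  rw [cj_smul, smul_comm]

/-- a multiplicative map whose polarization is additive in each variable and nonzero -/
structure QuadMul (N : F → F) : Prop where
  /-- multiplicativity -/
  mul : ∀ s t, N (s * t) = N s * N t
  /-- normalization -/
  one : N 1 = 1
  /-- normalization -/
  zero : N 0 = 0
  /-- additivity of the polarization -/
  add : ∀ s t t', N (s + (t + t')) + N s + N (t + t')
    = (N (s + t) + N s + N t) + (N (s + t') + N s + N t')
  /-- the polarization does not vanish -/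
  ne : ∃ s t, N (s + t) ≠ N s + N t

namespace QuadMul

variable {N : F → F} (h : QuadMul N)

/-- the polarization, as a family of additive maps -/
def A (s : F) : F →+ F := AddMonoidHom.mk' (fun t => N (s + t) + N s + N t) (h.add s)

theorem A_apply (s t : F) : h.A s t = N (s + t) + N s + N t := rfl

theorem A_symm (s t : F) : h.A s t = h.A t s := by
  rw [A_apply, A_apply, add_comm s t]; ring

theorem A_add (s s' : F) : h.A (s + s') = h.A s + h.A s' := by
  ext t
  rw [AddMonoidHom.add_apply, A_symm, map_add, A_symm h t s, A_symm h t s']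

theorem A_zero : h.A 0 = 0 := by
  ext t
  rw [A_apply, zero_add, h.zero, add_zero, AddMonoidHom.zero_apply]
  exact CharTwo.add_self_eq_zero _

theorem A_mul (k : Fˣ) (s : F) :
    h.A ((k : F) * s) = (N (k : F) * ((k⁻¹ : Fˣ) : F)) • cj k (h.A s) := by
  ext t
  rw [AddMonoidHom.smul_apply, cj_apply, A_apply, A_apply, smul_eq_mul]
  have h1 : (k : F) * s + t = (k : F) * (s + ((k⁻¹ : Fˣ) : F) * t) := by
    rw [mul_add, ← mul_assoc, ← Units.val_mul, mul_inv_cancel, Units.val_one, one_mul]
  have h2 : t = (k : F) * (((k⁻¹ : Fˣ) : F) * t) := by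
    rw [← mul_assoc, ← Units.val_mul, mul_inv_cancel, Units.val_one, one_mul]
  have h3 : ((k⁻¹ : Fˣ) : F) * (k : F) = 1 := by
    rw [← Units.val_mul, inv_mul_cancel, Units.val_one]
  have e1 : N ((k : F) * s + t) = N (k : F) * N (s + ((k⁻¹ : Fˣ) : F) * t) := by rw [h1, h.mul]
  have e2 : N ((k : F) * s) = N (k : F) * N s := h.mul _ _
  have e3 : N t = N (k : F) * N (((k⁻¹ : Fˣ) : F) * t) := by
    calc N t = N ((k : F) * (((k⁻¹ : Fˣ) : F) * t)) := by rw [← h2]
      _ = _ := h.mul _ _
  linear_combination e1 + e2 + e3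
    - (N ↑k * (N (s + ↑k⁻¹ * t) + N s + N (↑k⁻¹ * t))) * h3

theorem A_one_ne : h.A 1 ≠ 0 := by
  intro h0
  obtain ⟨s, t, hst⟩ := h.ne
  apply hst
  have h1 : h.A s = 0 := by
    by_cases hs : s = 0
    · rw [hs, A_zero]
    · have := h.A_mul (Units.mk0 s hs) 1
      rw [Units.val_mk0, mul_one] at this
      rw [this, h0, cj_zero, smul_zero]
  have h2 : h.A s t = 0 := by rw [h1, AddMonoidHom.zero_apply]
  rw [A_apply, add_assoc] at h2
  exact char2_eq_of_add_eq_zero h2

/-- the coefficient function -/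
def c (N : F → F) (j : ℕ) (s : F) : F := N s * s⁻¹ * s ^ j

theorem proj_A (j : ℕ) (s : F) : proj j (h.A s) = c N j s • proj j (h.A 1) := by
  by_cases hs : s = 0
  · rw [hs, A_zero, proj_zero]
    unfold c
    rw [h.zero, zero_mul, zero_mul, zero_smul]
  · have h1 := h.A_mul (Units.mk0 s hs) 1
    rw [Units.val_mk0, mul_one] at h1
    have hinv : (((Units.mk0 s hs)⁻¹ : Fˣ) : F) = s⁻¹ := by simp
    rw [h1, proj_smul, proj_cj, smul_smul, Units.val_mk0, hinv]
    rfl

theorem exists_wt : ∃ j : ℕ, proj j (h.A 1) ≠ 0 := by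
  by_contra hall
  push Not at hall
  apply h.A_one_ne
  rw [← sum_proj (h.A 1)]
  exact Finset.sum_eq_zero (fun j _ => hall j)

theorem c_add {j : ℕ} (hj : proj j (h.A 1) ≠ 0) (s s' : F) :
    c N j (s + s') = c N j s + c N j s' := by
  have h1 : proj j (h.A (s + s')) = proj j (h.A s) + proj j (h.A s') := by
    rw [A_add, proj_add]
  rw [proj_A, proj_A h j s, proj_A h j s', ← add_smul] at h1
  obtain ⟨t₀, ht₀⟩ : ∃ t₀, proj j (h.A 1) t₀ ≠ 0 := by
    by_contra hall
    push Not at hall
    apply hj
    ext t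
    rw [hall t, AddMonoidHom.zero_apply]
  have h2 := congrArg (fun f : F →+ F => f t₀) h1
  simp only [AddMonoidHom.smul_apply, smul_eq_mul] at h2
  exact mul_right_cancel₀ ht₀ h2

include h in
theorem c_mul (j : ℕ) (s s' : F) : c N j (s * s') = c N j s * c N j s' := by
  unfold c
  rw [h.mul, mul_inv, mul_pow]; ring

include h in
theorem c_one (j : ℕ) : c N j 1 = 1 := by
  unfold c
  rw [h.one, inv_one, one_pow, one_mul, one_mul]

include h in
theorem c_zero (j : ℕ) : c N j 0 = 0 := by
  unfold c
  rw [h.zero, zero_mul, zero_mul]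

include h in
/-- the multiplicative quadratic map is a product of two field endomorphisms -/
theorem exists_two_aut : ∃ σ τ : F →+* F, ∀ t, N t = σ t * τ t := by
  obtain ⟨j, hj⟩ := h.exists_wt
  have hw : IsWt F j := ⟨proj j (h.A 1), hj, isWtVec_proj j _⟩
  let τ : F →+* F :=
    { toFun := c N j
      map_one' := h.c_one j
      map_mul' := h.c_mul j
      map_zero' := h.c_zero j
      map_add' := h.c_add hj }
  refine ⟨psiHom hw, τ, ?_⟩
  intro t
  rw [psiHom_apply]
  change N t = psi j t * c N j t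
  unfold psi c
  by_cases ht : t = 0
  · rw [ht, h.zero, zero_mul, zero_mul]
  · have h1 : t * t⁻¹ = 1 := mul_inv_cancel₀ ht
    have h2 : t⁻¹ ^ j * t ^ j = 1 := by rw [← mul_pow, inv_mul_cancel₀ ht, one_pow]
    calc N t = N t * (t * t⁻¹) * (t⁻¹ ^ j * t ^ j) := by rw [h1, h2, mul_one, mul_one]
      _ = t * t⁻¹ ^ j * (N t * t⁻¹ * t ^ j) := by ring

end QuadMul

end Cfsg.Agent.Helper16.HigWt
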