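import Mathlib

set_option autoImplicit false
set_option linter.style.haveILetI false
set_option linter.unusedSectionVars false

/-! A field automorphism `φ` in characteristic two with `a ↦ a φ(a)` injective has odd order. -/

namespace Cfsg.Agent.Helper16.TypeA

variable {F : Type*} [Field F]

theorem sum_two_mul (φ : F ≃+* F) (a : F) (r : ℕ) :
    ∑ j ∈ Finset.range (2 * r), (φ ^ j) a
      = ∑ j ∈ Finset.range r, (((φ * φ) ^ j) a + φ (((φ * φ) ^ j) a)) := by
  induction r with
  | zero => simp
  | succ n ih =>
    rw [show 2 * (n + 1) = 2 * n + 1 + 1 by ring, Finset.sum_range_succ,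
      Finset.sum_range_succ, Finset.sum_range_succ, ih]
    have e1 : (φ ^ (2 * n)) a = ((φ * φ) ^ n) a := by
      rw [← pow_two, ← pow_mul]
    have e2 : (φ ^ (2 * n + 1)) a = φ (((φ * φ) ^ n) a) := by
      rw [pow_succ', ← e1]; rfl
    rw [e1, e2, add_assoc]

variable [Finite F] [CharP F 2]

instance : Finite (F ≃+* F) :=
  Finite.of_injective (fun e : F ≃+* F => (e : F → F)) DFunLike.coe_injective

/-- if `a ↦ a φ(a)` is injective then `φ` has odd order -/
theorem odd_orderOf (φ : F ≃+* F) (hinj : ∀ a b : F, a * φ a = b * φ b → a = b) :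
    Odd (orderOf φ) := by
  by_contra hodd
  rw [Nat.not_odd_iff_even] at hodd
  obtain ⟨r, hr⟩ := hodd
  have hr2 : orderOf φ = 2 * r := by omega
  have hpos : 0 < orderOf φ := orderOf_pos φ
  -- fixed points of the square are fixed
  have hfix : ∀ b : F, φ (φ b) = b → φ b = b := by
    intro b hb
    have : b * φ b = φ b * φ (φ b) := by rw [hb, mul_comm]
    exact (hinj _ _ this).symm
  have hψ : (φ * φ) ^ r = 1 := by
    rw [← pow_two, ← pow_mul, ← hr2, pow_orderOf_eq_one]
  -- the sum of all the powers vanishes
  have hsum : ∀ a : F, ∑ j ∈ Finset.range (2 * r), (φ ^ j) a = 0 := by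
    intro a
    let f : ℕ → F := fun j => ((φ * φ) ^ j) a
    have hf0 : f r = f 0 := by
      change ((φ * φ) ^ r) a = ((φ * φ) ^ 0) a
      rw [hψ, pow_zero]
    have h1 : ∑ j ∈ Finset.range r, f (j + 1) = ∑ j ∈ Finset.range r, f j := by
      have e1 := Finset.sum_range_succ' f r
      have e2 := Finset.sum_range_succ f r
      rw [e1, hf0] at e2
      exact add_right_cancel e2
    have h2 : φ (φ (∑ j ∈ Finset.range r, f j)) = ∑ j ∈ Finset.range r, f j := by
      rw [map_sum, map_sum, ← h1]
      apply Finset.sum_congr rfl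
      intro j _
      change φ (φ (((φ * φ) ^ j) a)) = ((φ * φ) ^ (j + 1)) a
      rw [pow_succ']; rfl
    have h3 := hfix _ h2
    rw [sum_two_mul, Finset.sum_add_distrib, ← map_sum]
    change ∑ j ∈ Finset.range r, f j + φ (∑ j ∈ Finset.range r, f j) = 0
    rw [h3]
    exact CharTwo.add_self_eq_zero _
  -- contradiction with the independence of characters
  have hli := linearIndependent_monoidHom F F
  let v : Fin (2 * r) → (F →* F) := fun j => ((φ ^ (j : ℕ) : F ≃+* F) : F →+* F)
  have hv : Function.Injective v := by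
    intro i j hij
    have h1 : φ ^ (i : ℕ) = φ ^ (j : ℕ) := by
      ext a
      have := congrArg (fun g : F →* F => g a) hij
      exact this
    apply Fin.ext
    apply pow_injOn_Iio_orderOf (x := φ)
    · rw [hr2]; exact i.2
    · rw [hr2]; exact j.2
    · exact h1
  have hli2 := hli.comp v hv
  rw [Fintype.linearIndependent_iff] at hli2
  have hzero : ∑ i : Fin (2 * r), (fun _ => (1 : F)) i • ((fun f : F →* F => (f : F → F)) ∘ v) i = 0 := by
    ext a
    rw [Finset.sum_apply]
    simp only [one_smul, Function.comp_apply, Pi.zero_apply]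
    have := hsum a
    rw [← Fin.sum_univ_eq_sum_range (fun j => (φ ^ j) a)] at this
    exact this
  have hr1 : 0 < 2 * r := by omega
  have := hli2 (fun _ => 1) hzero ⟨0, hr1⟩
  exact one_ne_zero this

end Cfsg.Agent.Helper16.TypeA
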