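import Mathlib
import Cfsg.Agent.Lib.Helper16.HigCountD
import Cfsg.Agent.Lib.Helper16.HigFieldA

set_option autoImplicit false
set_option linter.style.haveILetI false
set_option linter.unusedSectionVars false

/-! Suzuki 2-groups of order `q ^ 2`: the two fields. -/

namespace Cfsg.Agent.Helper16.Higman

universe u v

open scoped commutatorElement
open Cfsg.Agent.Helper16.HigField Cfsg.Agent.Helper16.HigCount

/-- the standing hypotheses for groups of order `q ^ 2` -/
structure QCtx (G : Type u) [Group G] (K : Type v) [Group K] extends Ctx G K where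
  /-- more than one involution -/
  two : ∃ x y : G, x ≠ y ∧ x ≠ 1 ∧ x * x = 1 ∧ y ≠ 1 ∧ y * y = 1
  /-- the order -/
  hcard : Nat.card G = Nat.card (Om G) ^ 2
  /-- a noncentral element -/
  g₁ : G
  /-- it is not central -/
  g₁_not : g₁ ∉ Om G

variable {G : Type u} [Group G] {K : Type v} [Group K]

theorem QCtx.hsq (Z : QCtx G K) (g : G) : g * g ∈ Om G := Z.toCtx.sq_mem_V_all Z.two g

theorem QCtx.hcomm (Z : QCtx G K) (g h : G) : ⁅g, h⁆ ∈ Om G := Z.toCtx.comm_mem_V_all Z.two g h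

theorem QCtx.g₁_sq_ne (Z : QCtx G K) : g₁ Z * g₁ Z ≠ 1 :=
  fun h => Z.g₁_not (Z.toCtx.mem_V.mpr h)

/-- the regular action on the involutions -/
noncomputable def QCtx.datV (Z : QCtx G K) : Dat ↥(Om G) K where
  ρ := resHom Z.φ (Om G) (fun k _ hx => Z.toCtx.phi_mem_V k hx)
  kcomm := Z.kcomm
  vcomm := fun a b => Subtype.ext (Z.toCtx.V_commute b.2 a)
  exp2 := fun v => Subtype.ext v.2.2
  one := ⟨Z.g₁ * Z.g₁, Z.hsq Z.g₁⟩
  one_ne := fun h => Z.g₁_sq_ne (congrArg Subtype.val h)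
  reg := fun a b ha hb =>
    reg_res Z.φ Z.reg (Om G) _ a b ha (Subtype.ext a.2.2) hb (Subtype.ext b.2.2)

theorem QCtx.card_K (Z : QCtx G K) : Nat.card K + 1 = Nat.card (Om G) := by
  classical
  haveI := Z.fin
  obtain ⟨x, y, -, hx1, hx2, -, -⟩ := Z.two
  obtain ⟨H, hyp⟩ := exists_hyp Z.pg (Om G) ⟨x, Z.toCtx.mem_V.mpr hx2, hx1⟩
  haveI : Finite K := K_finite Z.φ Z.reg hx1 hx2
  letI : Fintype K := Fintype.ofFinite K
  rw [Nat.card_eq_fintype_card]
  exact HigCount.card_K Z.toCtx hyp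

theorem QCtx.K_finite (Z : QCtx G K) : Finite K := by
  haveI := Z.fin
  obtain ⟨x, y, -, hx1, hx2, -, -⟩ := Z.two
  exact Higman.K_finite Z.φ Z.reg hx1 hx2

theorem QCtx.card_quot (Z : QCtx G K) : Nat.card (G ⧸ Om G) = Nat.card (Om G) := by
  haveI := Z.fin
  have h1 := Subgroup.card_eq_card_quotient_mul_card_subgroup (Om G)
  rw [Z.hcard, pow_two] at h1
  have hpos : 0 < Nat.card (Om G) := Nat.card_pos
  exact (Nat.eq_of_mul_eq_mul_right hpos h1).symm

theorem QCtx.quot_comm (Z : QCtx G K) (a b : G ⧸ Om G) : a * b = b * a := by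
  induction a using QuotientGroup.induction_on with
  | H x =>
  induction b using QuotientGroup.induction_on with
  | H y =>
  rw [← QuotientGroup.mk_mul, ← QuotientGroup.mk_mul, QuotientGroup.eq]
  have : (x * y)⁻¹ * (y * x) = ⁅y⁻¹, x⁻¹⁆ := by rw [commutatorElement_def]; group
  rw [this]
  exact Z.hcomm _ _

theorem QCtx.quot_sq (Z : QCtx G K) (a : G ⧸ Om G) : a * a = 1 := by
  induction a using QuotientGroup.induction_on with
  | H x =>
  rw [← QuotientGroup.mk_mul, QuotientGroup.eq_one_iff]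
  exact Z.hsq x

/-- semiregularity on the quotient -/
theorem QCtx.quot_semireg (Z : QCtx G K) {k k' : K} {g : G} (hg : g ∉ Om G)
    (h : (QuotientGroup.mk (Z.φ k g) : G ⧸ Om G) = QuotientGroup.mk (Z.φ k' g)) : k = k' := by
  haveI := Z.fin
  rw [QuotientGroup.eq] at h
  have h1 : Z.φ k⁻¹ ((Z.φ k g)⁻¹ * Z.φ k' g) ∈ Om G := Z.toCtx.phi_mem_V _ h
  rw [map_mul, map_inv, ← phi_mul, inv_mul_cancel, phi_one, ← phi_mul] at h1
  have h2 := semireg_coset Z.φ Z.pg Z.kcomm Z.reg ⟨Z.g₁, fun h => Z.g₁_not (by rw [h]; exact Subgroup.one_mem _)⟩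
    (Om G) (fun k x hx => Z.toCtx.phi_mem_V k hx) hg h1
  have : k' = k * (k⁻¹ * k') := by group
  rw [this, h2, mul_one]

/-- regularity on the quotient -/
theorem QCtx.quot_reg (Z : QCtx G K) (a b : G ⧸ Om G) (ha : a ≠ 1) (hb : b ≠ 1) :
    ∃! k : K, barHom Z.φ k a = b := by
  haveI := Z.fin
  haveI := Z.K_finite
  induction a using QuotientGroup.induction_on with
  | H x =>
  have hx : x ∉ Om G := fun h => ha ((QuotientGroup.eq_one_iff x).mpr h)
  let f : K → {w : G ⧸ Om G // w ≠ 1} := fun k => ⟨barHom Z.φ k (QuotientGroup.mk x), by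
    intro h
    apply ha
    exact (MulEquiv.map_eq_one_iff (barHom Z.φ k)).mp h⟩
  have hf : Function.Injective f := by
    intro k k' hkk'
    have h1 : barHom Z.φ k (QuotientGroup.mk x) = barHom Z.φ k' (QuotientGroup.mk x) :=
      congrArg Subtype.val hkk'
    rw [barHom_mk, barHom_mk] at h1
    exact Z.quot_semireg hx h1
  have hcard : Nat.card {w : G ⧸ Om G // w ≠ 1} ≤ Nat.card K := by
    classical
    haveI : Fintype (G ⧸ Om G) := Fintype.ofFinite _
    have h1 : Nat.card {w : G ⧸ Om G // w ≠ 1} = Nat.card (G ⧸ Om G) - 1 := by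
      rw [Nat.card_eq_fintype_card, Nat.card_eq_fintype_card, Fintype.card_subtype_compl,
        Fintype.card_subtype_eq]
    rw [h1, Z.card_quot, ← Z.card_K]
    omega
  have hbij := hf.bijective_of_nat_card_le hcard
  obtain ⟨k, hk⟩ := hbij.2 ⟨b, hb⟩
  refine ⟨k, congrArg Subtype.val hk, ?_⟩
  intro k' hk'
  apply hf
  apply Subtype.ext
  rw [congrArg Subtype.val hk]
  exact hk'

/-- the regular action on the quotient -/
noncomputable def QCtx.datW (Z : QCtx G K) : Dat (G ⧸ Om G) K where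
  ρ := barHom Z.φ
  kcomm := Z.kcomm
  vcomm := Z.quot_comm
  exp2 := Z.quot_sq
  one := QuotientGroup.mk Z.g₁
  one_ne := fun h => Z.g₁_not ((QuotientGroup.eq_one_iff _).mp h)
  reg := Z.quot_reg

end Cfsg.Agent.Helper16.Higman
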