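import Mathlib
import Cfsg.Agent.Lib.Helper16.HigTA5

set_option autoImplicit false
set_option linter.style.haveILetI false
set_option linter.unusedSectionVars false

/-! Suzuki 2-groups of order `q ^ 2`: coordinates with values in a common field. -/

namespace Cfsg.Agent.Helper16.Higman

universe u v w

open scoped commutatorElement
open Cfsg.Agent.Helper16.HigField Cfsg.Agent.Helper16.HigCount

variable {G : Type u} [Group G] {K : Type v} [Group K]

section V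

open Classical in
/-- the coordinate on the involutions -/
noncomputable def QCtx.toFV (Z : QCtx G K) (x : G) : FV Z.datV :=
  if h : x ∈ Om G then ⟨⟨x, h⟩⟩ else 0

theorem QCtx.toFV_of_mem (Z : QCtx G K) {x : G} (hx : x ∈ Om G) : Z.toFV x = ⟨⟨x, hx⟩⟩ := by
  simp [QCtx.toFV, hx]

theorem QCtx.toFV_val' (Z : QCtx G K) (a : FV Z.datV) : Z.toFV (a.val : G) = a := by
  rw [Z.toFV_of_mem a.val.2]

theorem QCtx.toFV_one (Z : QCtx G K) : Z.toFV 1 = 0 := by
  rw [Z.toFV_of_mem (Subgroup.one_mem _)]; rfl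

theorem QCtx.toFV_mul (Z : QCtx G K) {x y : G} (hx : x ∈ Om G) (hy : y ∈ Om G) :
    Z.toFV (x * y) = Z.toFV x + Z.toFV y := by
  rw [Z.toFV_of_mem hx, Z.toFV_of_mem hy, Z.toFV_of_mem (Subgroup.mul_mem _ hx hy)]; rfl

theorem QCtx.toFV_eq_zero (Z : QCtx G K) {x : G} (hx : x ∈ Om G) : Z.toFV x = 0 ↔ x = 1 := by
  rw [Z.toFV_of_mem hx, eq_zero_iff]
  constructor
  · intro h; exact congrArg Subtype.val h
  · intro h; exact Subtype.ext h

/-- the unit of an element of `K`, on the involutions -/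
noncomputable def QCtx.uV (Z : QCtx G K) (k : K) : FV Z.datV := ⟨Z.datV.ρ k Z.datV.one⟩

theorem QCtx.toFV_act (Z : QCtx G K) (k : K) {x : G} (hx : x ∈ Om G) :
    Z.toFV (Z.φ k x) = Z.uV k * Z.toFV x := by
  rw [Z.toFV_of_mem hx, Z.toFV_of_mem (Z.toCtx.phi_mem_V _ hx)]
  apply FV.ext'
  rw [val_mul]
  change _ = mulV Z.datV (Z.datV.ρ k Z.datV.one) _
  rw [mulV_rho]
  apply Subtype.ext
  rfl

theorem QCtx.uV_inj (Z : QCtx G K) {k k' : K} (h : Z.uV k = Z.uV k') : k = k' := by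
  have h1 : Z.datV.ρ k Z.datV.one = Z.datV.ρ k' Z.datV.one := congrArg FV.val h
  exact (Z.datV.reg Z.datV.one _ Z.datV.one_ne (rho_ne_one Z.datV k' Z.datV.one_ne)).unique h1 rfl

theorem QCtx.toFV_g₁ (Z : QCtx G K) : Z.toFV (Z.g₁ * Z.g₁) = 1 := by
  rw [Z.toFV_of_mem (Z.hsq _)]; rfl

end V

section W

/-- the coordinate on the quotient -/
def QCtx.toFW (Z : QCtx G K) (g : G) : FV Z.datW := ⟨QuotientGroup.mk g⟩

theorem QCtx.toFW_mul (Z : QCtx G K) (g h : G) : Z.toFW (g * h) = Z.toFW g + Z.toFW h := rfl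

theorem QCtx.toFW_eq_zero (Z : QCtx G K) (g : G) : Z.toFW g = 0 ↔ g ∈ Om G := by
  rw [eq_zero_iff]
  exact QuotientGroup.eq_one_iff g

theorem QCtx.toFW_surj (Z : QCtx G K) (t : FV Z.datW) : ∃ g, Z.toFW g = t := by
  obtain ⟨g, hg⟩ := QuotientGroup.mk_surjective t.val
  exact ⟨g, FV.ext' _ hg⟩

/-- the unit of an element of `K`, on the quotient -/
noncomputable def QCtx.uW (Z : QCtx G K) (k : K) : FV Z.datW := ⟨Z.datW.ρ k Z.datW.one⟩

theorem QCtx.toFW_act (Z : QCtx G K) (k : K) (g : G) :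
    Z.toFW (Z.φ k g) = Z.uW k * Z.toFW g := by
  apply FV.ext'
  rw [val_mul]
  change _ = mulV Z.datW (Z.datW.ρ k Z.datW.one) _
  rw [mulV_rho]
  exact (barHom_mk Z.φ k g).symm

theorem QCtx.uW_surj (Z : QCtx G K) {t : FV Z.datW} (ht : t ≠ 0) : ∃ k, Z.uW k = t := by
  have h1 : t.val ≠ 1 := fun h => ht ((eq_zero_iff _ _).mpr h)
  obtain ⟨k, hk, -⟩ := Z.datW.reg Z.datW.one t.val Z.datW.one_ne h1
  exact ⟨k, FV.ext' _ hk⟩

theorem QCtx.toFW_g₁ (Z : QCtx G K) : Z.toFW Z.g₁ = 1 := rfl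

end W

/-- identifications of the two fields with a common field -/
structure QFld (Z : QCtx G K) (F : Type w) [Field F] where
  /-- the identification for the involutions -/
  eV : FV Z.datV ≃+* F
  /-- the identification for the quotient -/
  eW : FV Z.datW ≃+* F

variable {Z : QCtx G K} {F : Type w} [Field F] (E : QFld Z F)

/-- the central coordinate -/
noncomputable def QFld.ι (g : G) : F := E.eV (Z.toFV g)

/-- the first coordinate -/
noncomputable def QFld.x (g : G) : F := E.eW (Z.toFW g)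

/-- the multiplier on the quotient -/
noncomputable def QFld.a (k : K) : F := E.eW (Z.uW k)

/-- the multiplier on the involutions -/
noncomputable def QFld.b (k : K) : F := E.eV (Z.uV k)

/-- the squaring map -/
noncomputable def QFld.Q (g : G) : F := E.ι (g * g)

theorem QFld.ι_one : E.ι 1 = 0 := by
  unfold QFld.ι; rw [Z.toFV_one, map_zero]

theorem QFld.ι_mul {x y : G} (hx : x ∈ Om G) (hy : y ∈ Om G) : E.ι (x * y) = E.ι x + E.ι y := by
  unfold QFld.ι; rw [Z.toFV_mul hx hy, map_add]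

theorem QFld.ι_eq_zero {x : G} (hx : x ∈ Om G) : E.ι x = 0 ↔ x = 1 := by
  unfold QFld.ι
  rw [map_eq_zero_iff E.eV E.eV.injective, Z.toFV_eq_zero hx]

theorem QFld.ι_surj (t : F) : ∃ v ∈ Om G, E.ι v = t := by
  obtain ⟨s, hs⟩ := E.eV.surjective t
  refine ⟨s.val, s.val.2, ?_⟩
  unfold QFld.ι
  rw [Z.toFV_val', hs]

theorem QFld.ι_act (k : K) {x : G} (hx : x ∈ Om G) : E.ι (Z.φ k x) = E.b k * E.ι x := by
  unfold QFld.ι QFld.b
  rw [Z.toFV_act k hx, map_mul]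

theorem QFld.ι_inv {x : G} (hx : x ∈ Om G) : E.ι x⁻¹ = E.ι x := by
  rw [Z.toCtx.inv_eq_of_mem_V hx]

theorem QFld.b_inj {k k' : K} (h : E.b k = E.b k') : k = k' :=
  Z.uV_inj (E.eV.injective h)

theorem QFld.x_mul (g h : G) : E.x (g * h) = E.x g + E.x h := by
  unfold QFld.x; rw [Z.toFW_mul, map_add]

theorem QFld.x_eq_zero (g : G) : E.x g = 0 ↔ g ∈ Om G := by
  unfold QFld.x
  rw [map_eq_zero_iff E.eW E.eW.injective, Z.toFW_eq_zero]

theorem QFld.x_one : E.x 1 = 0 := (E.x_eq_zero 1).mpr (Subgroup.one_mem _)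

theorem QFld.x_surj (t : F) : ∃ g, E.x g = t := by
  obtain ⟨s, hs⟩ := E.eW.surjective t
  obtain ⟨g, hg⟩ := Z.toFW_surj s
  exact ⟨g, by unfold QFld.x; rw [hg, hs]⟩

theorem QFld.x_act (k : K) (g : G) : E.x (Z.φ k g) = E.a k * E.x g := by
  unfold QFld.x QFld.a
  rw [Z.toFW_act, map_mul]

theorem QFld.a_surj {t : F} (ht : t ≠ 0) : ∃ k, E.a k = t := by
  obtain ⟨s, hs⟩ := E.eW.surjective t
  have hs0 : s ≠ 0 := by
    intro h
    apply ht
    rw [← hs, h, map_zero]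
  obtain ⟨k, hk⟩ := Z.uW_surj hs0
  exact ⟨k, by unfold QFld.a; rw [hk, hs]⟩

theorem QFld.x_g₁ : E.x Z.g₁ = 1 := by
  unfold QFld.x; rw [Z.toFW_g₁, map_one]

theorem QFld.Q_g₁ : E.Q Z.g₁ = 1 := by
  unfold QFld.Q QFld.ι; rw [Z.toFV_g₁, map_one]

theorem QFld.Q_act (k : K) (g : G) : E.Q (Z.φ k g) = E.b k * E.Q g := by
  unfold QFld.Q
  rw [← map_mul, E.ι_act k (Z.hsq g)]

theorem QFld.Q_mul (g h : G) : E.Q (g * h) = E.Q g + E.Q h + E.ι ⁅h, g⁆ := by
  unfold QFld.Q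
  rw [mul_sq Z.hcomm g h, E.ι_mul (Subgroup.mul_mem _ (Z.hcomm h g) (Z.hsq g)) (Z.hsq h),
    E.ι_mul (Z.hcomm h g) (Z.hsq g)]
  ring

theorem QFld.Q_eq_zero (g : G) : E.Q g = 0 ↔ g ∈ Om G := by
  unfold QFld.Q
  rw [E.ι_eq_zero (Z.hsq g), Z.toCtx.mem_V]

theorem QFld.x_inv (g : G) : E.x g⁻¹ + E.x g = 0 := by
  rw [← E.x_mul, inv_mul_cancel, E.x_one]

/-- the squaring map depends only on the first coordinate -/
theorem QFld.Q_congr {g h : G} (hgh : E.x g = E.x h) : E.Q g = E.Q h := by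
  have hv : g⁻¹ * h ∈ Om G := by
    rw [← E.x_eq_zero, E.x_mul, ← hgh]
    exact E.x_inv g
  have h1 : h = g * (g⁻¹ * h) := by group
  rw [h1, E.Q_mul, (E.Q_eq_zero _).mpr hv, add_zero]
  have h2 : ⁅g⁻¹ * h, g⁆ = 1 := comm_central_left Z.hcomm hv.1
  rw [h2, E.ι_one, add_zero]

end Cfsg.Agent.Helper16.Higman
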