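import Mathlib
import Cfsg.Agent.Lib.Helper16.HigTA1
import Cfsg.Agent.Lib.Helper16.HigTA2
import Cfsg.Agent.Lib.Helper16.HigTA3
import Cfsg.Agent.Lib.Helper16.HigTA4
import Cfsg.Agent.Lib.Helper16.HigTA6

set_option autoImplicit false
set_option linter.style.haveILetI false
set_option linter.unusedSectionVars false

/-! Suzuki 2-groups of order `q ^ 2` are of type A. -/

namespace Cfsg.Agent.Helper16.Higman

universe u v w

open scoped commutatorElement
open Cfsg.Agent.Helper16.HigField Cfsg.Agent.Helper16.HigCount Cfsg.Agent.Helper16.HigWt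
open Cfsg.Agent.Helper16.TypeA

variable {G : Type u} [Group G] {K : Type v} [Group K]
variable {Z : QCtx G K} {F : Type w} [Field F] (E : QFld Z F)

/-- a preimage under the first coordinate -/
noncomputable def QFld.xinv (t : F) : G := (E.x_surj t).choose

theorem QFld.x_xinv (t : F) : E.x (E.xinv t) = t := (E.x_surj t).choose_spec

/-- the squaring map in terms of the first coordinate -/
noncomputable def QFld.N (t : F) : F := E.Q (E.xinv t)

theorem QFld.N_x (g : G) : E.N (E.x g) = E.Q g := E.Q_congr (E.x_xinv _)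

theorem QFld.N_zero : E.N 0 = 0 := by
  have h1 : E.N (E.x 1) = E.Q 1 := E.N_x 1
  rw [E.x_one] at h1
  rw [h1, E.Q_eq_zero]
  exact Subgroup.one_mem _

theorem QFld.N_one : E.N 1 = 1 := by
  have h1 : E.N (E.x Z.g₁) = E.Q Z.g₁ := E.N_x _
  rw [E.x_g₁, E.Q_g₁] at h1
  exact h1

theorem QFld.N_a (k : K) (t : F) : E.N (E.a k * t) = E.b k * E.N t := by
  obtain ⟨g, rfl⟩ := E.x_surj t
  rw [← E.x_act, E.N_x, E.N_x, E.Q_act]

theorem QFld.N_a' (k : K) : E.N (E.a k) = E.b k := by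
  have := E.N_a k 1
  rw [mul_one, E.N_one, mul_one] at this
  exact this

theorem QFld.N_mul (s t : F) : E.N (s * t) = E.N s * E.N t := by
  by_cases hs : s = 0
  · rw [hs, zero_mul, E.N_zero, zero_mul]
  · obtain ⟨k, rfl⟩ := E.a_surj hs
    rw [E.N_a, E.N_a']

theorem QFld.N_eq_zero {t : F} : E.N t = 0 ↔ t = 0 := by
  obtain ⟨g, rfl⟩ := E.x_surj t
  rw [E.N_x, E.Q_eq_zero, E.x_eq_zero]

theorem QFld.N_inj {s t : F} (h : E.N s = E.N t) : s = t := by
  by_cases hs : s = 0
  · rw [hs, E.N_zero] at h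
    rw [hs, E.N_eq_zero.mp h.symm]
  · have ht : t ≠ 0 := by
      intro ht
      rw [ht, E.N_zero] at h
      exact hs (E.N_eq_zero.mp h)
    obtain ⟨k, rfl⟩ := E.a_surj hs
    obtain ⟨k', rfl⟩ := E.a_surj ht
    rw [E.N_a', E.N_a'] at h
    rw [E.b_inj h]

theorem QFld.N_add (g h : G) :
    E.N (E.x g + E.x h) = E.N (E.x g) + E.N (E.x h) + E.ι ⁅h, g⁆ := by
  rw [← E.x_mul, E.N_x, E.N_x, E.N_x, E.Q_mul]

variable [Fintype F] [DecidableEq F] [CharP F 2]

theorem QFld.quadMul : QuadMul E.N where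
  mul := E.N_mul
  one := E.N_one
  zero := E.N_zero
  add := by
    intro s t t'
    obtain ⟨g, rfl⟩ := E.x_surj s
    obtain ⟨h, rfl⟩ := E.x_surj t
    obtain ⟨h', rfl⟩ := E.x_surj t'
    have h2 : (2 : F) = 0 := CharTwo.two_eq_zero
    have e1 : E.N (E.x g + (E.x h + E.x h'))
        = E.N (E.x g) + E.N (E.x h + E.x h') + (E.ι ⁅h, g⁆ + E.ι ⁅h', g⁆) := by
      rw [← E.x_mul h h', E.N_add, comm_mul_left Z.hcomm, E.ι_mul (Z.hcomm _ _) (Z.hcomm _ _)]
    have e2 := E.N_add g h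
    have e3 := E.N_add g h'
    linear_combination e1 - e2 - e3
      + (E.N (E.x h + E.x h') - E.N (E.x g) - E.N (E.x h) - E.N (E.x h')) * h2
  ne := by
    obtain ⟨x₀, y₀, hxy⟩ := Z.hna
    refine ⟨E.x y₀, E.x x₀, ?_⟩
    rw [E.N_add]
    intro h
    have h1 : E.ι ⁅x₀, y₀⁆ = 0 := by
      have := h
      rw [add_eq_left] at this
      exact this
    rw [E.ι_eq_zero (Z.hcomm _ _), commutatorElement_eq_one_iff_commute] at h1
    exact hxy h1.eq

/-- the automorphism and the adapted first coordinate -/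
theorem QFld.exists_aut : ∃ (φ : F ≃+* F) (x' : G → F),
    (∀ g h, x' (g * h) = x' g + x' h) ∧ (∀ g, x' g = 0 ↔ g ∈ Om G) ∧
    (∀ t, ∃ g, x' g = t) ∧ (∀ g, E.Q g = x' g * φ (x' g)) ∧
    (∀ a b : F, a * φ a = b * φ b → a = b) := by
  obtain ⟨σ, τ, hN⟩ := E.quadMul.exists_two_aut
  let σe : F ≃+* F := RingEquiv.ofBijective σ
    ⟨σ.injective, Finite.injective_iff_surjective.mp σ.injective⟩
  let τe : F ≃+* F := RingEquiv.ofBijective τ
    ⟨τ.injective, Finite.injective_iff_surjective.mp τ.injective⟩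
  have hφ : ∀ t, (σe.symm.trans τe) (σ t) = τ t := by
    intro t
    change τe (σe.symm (σe t)) = τ t
    rw [RingEquiv.symm_apply_apply]; rfl
  refine ⟨σe.symm.trans τe, fun g => σ (E.x g), ?_, ?_, ?_, ?_, ?_⟩
  · intro g h
    change σ (E.x (g * h)) = σ (E.x g) + σ (E.x h)
    rw [E.x_mul, map_add]
  · intro g
    change σ (E.x g) = 0 ↔ _
    rw [map_eq_zero_iff σ σ.injective, E.x_eq_zero]
  · intro t
    obtain ⟨s, hs⟩ := σe.surjective t
    obtain ⟨g, hg⟩ := E.x_surj s
    refine ⟨g, ?_⟩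
    change σ (E.x g) = t
    rw [hg]; exact hs
  · intro g
    change E.Q g = σ (E.x g) * (σe.symm.trans τe) (σ (E.x g))
    rw [hφ, ← hN, E.N_x]
  · intro a b hab
    obtain ⟨s, rfl⟩ := σe.surjective a
    obtain ⟨t, rfl⟩ := σe.surjective b
    have h1 : σe s = σ s := rfl
    have h2 : σe t = σ t := rfl
    rw [h1, h2, hφ, hφ, ← hN, ← hN] at hab
    rw [E.N_inj hab]

include E in
/-- **Higman**: a Suzuki 2-group of order `q ^ 2` is of type A -/
theorem QFld.typeA : ∃ φ : F ≃+* F, φ ≠ RingEquiv.refl F ∧ Odd (orderOf φ) ∧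
    Nonempty (G ≃* Cfsg.suzukiTypeA F (φ : F →+* F)) := by
  haveI := Z.fin
  obtain ⟨φ, x', hx'mul, hx'0, hx'surj, hQ, hνinj⟩ := E.exists_aut
  have h2 : (2 : F) = 0 := CharTwo.two_eq_zero
  have hx'V : ∀ v ∈ Om G, x' v = 0 := fun v hv => (hx'0 v).mpr hv
  -- the polarization
  have hpol : ∀ g h : G, φ (x' g) * x' h + φ (x' h) * x' g = E.ι ⁅g, h⁆ := by
    intro g h
    have e1 := E.Q_mul g h
    rw [hQ, hQ, hQ, hx'mul, map_add] at e1
    have e2 : E.ι ⁅g, h⁆ = E.ι ⁅h, g⁆ := by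
      rw [← commutatorElement_inv h g, E.ι_inv (Z.hcomm _ _)]
    rw [e2]
    linear_combination e1
  have D : CoData (Om G) E.ι (fun g h => φ (x' g) * x' h) :=
    { h2 := h2
      hVc := fun v hv g => Z.toCtx.V_commute hv g
      hsq := Z.hsq
      hcomm := Z.hcomm
      hι := fun v hv w hw => E.ι_mul hv hw
      hul := fun g g' h => by
        rw [hx'mul, map_add]; ring
      hur := fun g h h' => by
        rw [hx'mul]; ring
      huV := fun v hv g => by
        rw [hx'V v hv, mul_zero]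
      huV' := fun v hv g => by
        rw [hx'V v hv, map_zero, zero_mul]
      hdiag := fun g => by
        have := hQ g
        unfold QFld.Q at this
        rw [this, mul_comm]
      hpol := fun g h => hpol g h }
  obtain ⟨y, hy, hyV⟩ := D.exists_coord
  refine ⟨φ, ?_, odd_orderOf φ hνinj, ?_⟩
  · intro hφ
    obtain ⟨x₀, y₀, hxy⟩ := Z.hna
    have h1 := hpol x₀ y₀
    rw [hφ] at h1
    have h3 : E.ι ⁅x₀, y₀⁆ = 0 := by
      rw [← h1]
      change x' x₀ * x' y₀ + x' y₀ * x' x₀ = 0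
      linear_combination (x' x₀ * x' y₀) * h2
    rw [E.ι_eq_zero (Z.hcomm _ _), commutatorElement_eq_one_iff_commute] at h3
    exact hxy h3.eq
  · apply nonempty_mulEquiv (φ : F →+* F) x' y hx'mul
    · intro g h
      exact hy g h
    · intro g h hx hyy
      have hv : g⁻¹ * h ∈ Om G := by
        rw [← hx'0, hx'mul, ← hx]
        have := hx'mul g⁻¹ g
        rw [inv_mul_cancel, hx'V 1 (Subgroup.one_mem _)] at this
        exact this.symm
      have h1 : h = g * (g⁻¹ * h) := by group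
      have h3 := hy g (g⁻¹ * h)
      rw [← h1, hyV _ hv, hx'V _ hv, mul_zero, add_zero, ← hyy] at h3
      have h4 : E.ι (g⁻¹ * h) = 0 := by
        have := h3
        rw [left_eq_add] at this
        exact this
      rw [E.ι_eq_zero hv] at h4
      rw [h1, h4, mul_one]
    · intro a b
      obtain ⟨g, hg⟩ := hx'surj a
      obtain ⟨v, hv, hvι⟩ := E.ι_surj (b - y g)
      refine ⟨g * v, ?_, ?_⟩
      · rw [hx'mul, hx'V v hv, add_zero, hg]
      · have := hy g v
        rw [this, hyV v hv, hvι, hx'V v hv, mul_zero]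
        ring

end Cfsg.Agent.Helper16.Higman
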