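import Mathlib
import Cfsg.Agent.Lib.Helper16.HsAutA
import Cfsg.Agent.Lib.Helper16.HsAutB

set_option autoImplicit false
set_option linter.style.haveILetI false
set_option linter.unusedSectionVars false

namespace Cfsg.Agent.Helper16.HsAut

open Cfsg.Agent.Helper11.Herm

section main

variable {F : Type*} [Field F] [Fintype F] (hF : Fintype.card F = 4 ^ 2) (φ : F →+* F)
  (hφ : ∀ x, φ x = x ^ 4) [hφφ : Fact (∀ x : F, φ (φ x) = x)] [CharP F 2]

include hF hφ in
/-- the automorphism group of the Heisenberg-type group over the field with sixteen elements has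
no pair of elements generating a symmetric group of degree three -/
theorem no_S3_model (ρ τ : MulAut (Hs φ)) (hρ3 : ρ ^ 3 = 1) (hρ1 : ρ ≠ 1) (hτ2 : τ ^ 2 = 1)
    (hτρ : τ * ρ * τ⁻¹ = ρ⁻¹) : False := by
  have hne : φ ≠ RingHom.id F := frob_ne_id hF φ hφ
  have h2 : (2 : F) = 0 := CharTwo.two_eq_zero
  have hN : ∀ a : F, a * φ a = a ^ 5 := fun a => by rw [hφ]; ring
  have hA3 : ∀ a, ind φ hne ρ (ind φ hne ρ (ind φ hne ρ a)) = a := by
    intro a
    rw [← ind_mul, ← ind_mul, ← pow_two, ← pow_succ, hρ3, ind_one]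
  have hC2 : ∀ a, ind φ hne τ (ind φ hne τ a) = a := by
    intro a
    rw [← ind_mul, ← pow_two, hτ2, ind_one]
  -- squares and induced maps
  have hsq : ∀ (α : MulAut (Hs φ)) (a : F),
      (α (rep φ hne a * rep φ hne a)).s = (ind φ hne α a) ^ 5 := by
    intro α a
    rw [map_mul, sq_s, ← hN]
    rfl
  have hsq0 : ∀ a : F, (rep φ hne a * rep φ hne a).s = a ^ 5 := by
    intro a
    rw [sq_s, rep_a, hN]
  by_cases hcase : ∀ c : Hs φ, c.a = 0 → ρ c = c
  · -- `ρ` is trivial on the centre
    have hNA : ∀ a, (ind φ hne ρ a) ^ 5 = a ^ 5 := by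
      intro a
      rw [← hsq ρ a, hcase _ (sq_a φ _), hsq0]
    have hAid : ∀ a, ind φ hne ρ a = a := by
      intro a
      by_contra hAa
      set A := ind φ hne ρ with hA
      have hAadd : ∀ x y, A (x + y) = A x + A y := ind_add φ hne ρ
      have hA0 : A 0 = 0 := ind_zero φ hne ρ
      set u := A a + a with hu
      set v := A u with hv
      have hu0 : u ≠ 0 := by
        intro h
        apply hAa
        have : A a = -a := eq_neg_of_add_eq_zero_left h
        rw [this, CharTwo.neg_eq]
      have hAv : A v = u + v := by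
        have e1 : v = A (A a) + A a := hAadd (A a) a
        have e2 : A v = a + A (A a) := by
          rw [e1, hAadd, hA3]
        have h0 : A a + A a = 0 := CharTwo.add_self_eq_zero _
        rw [e2, e1]
        show a + A (A a) = A a + a + (A (A a) + A a)
        linear_combination (-1 : F) * h0
      have hv0 : v ≠ 0 := by
        intro h
        apply hu0
        have := hA3 u
        rw [← hv, h, hA0, hA0] at this
        exact this.symm
      have h1 : u ^ 5 = v ^ 5 := (hNA u).symm
      have h3 : u ^ 5 = (u + v) ^ 5 := by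
        rw [← hAv, hNA v, ← h1]
      exact norm_fact h2 u v hu0 hv0 h1 h3
    -- hence `ρ` has order at most two
    have hρ2 : ρ ^ 2 = 1 := by
      ext x : 1
      rw [pow_two, MulAut.mul_apply, MulAut.one_apply]
      have hc : (x⁻¹ * ρ x).a = 0 := by
        rw [Hs.mul_a, Hs.inv_a, ind_spec φ hne ρ x, hAid]; ring
      have hx : ρ x = x * (x⁻¹ * ρ x) := by group
      have hcc : (x⁻¹ * ρ x) * (x⁻¹ * ρ x) = 1 := (Hs.mul_self_eq_one_iff φ _).mpr hc
      calc ρ (ρ x) = ρ (x * (x⁻¹ * ρ x)) := by rw [← hx]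
        _ = ρ x * (x⁻¹ * ρ x) := by rw [map_mul, hcase _ hc]
        _ = x * ((x⁻¹ * ρ x) * (x⁻¹ * ρ x)) := by group
        _ = x := by rw [hcc, mul_one]
    apply hρ1
    calc ρ = ρ ^ 3 * (ρ ^ 2)⁻¹ := by group
      _ = 1 := by rw [hρ3, hρ2]; simp
  · -- `ρ` moves the centre
    push Not at hcase
    obtain ⟨c₀, hc₀, hρc₀⟩ := hcase
    -- so does `τ`
    have hτmove : ∃ c : Hs φ, c.a = 0 ∧ τ c ≠ c := by
      by_contra hcon
      push Not at hcon
      apply hρc₀
      have hτinv : ∀ c : Hs φ, c.a = 0 → τ⁻¹ c = c := by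
        intro c hc
        have := hcon c hc
        calc τ⁻¹ c = τ⁻¹ (τ c) := by rw [this]
          _ = c := by simp
      have h1 : ρ⁻¹ c₀ = ρ c₀ := by
        rw [← hτρ, MulAut.mul_apply, MulAut.mul_apply, hτinv c₀ hc₀,
          hcon _ (map_a_zero φ hne ρ c₀ hc₀)]
      have h2' : ρ (ρ c₀) = c₀ := by
        rw [← h1]; simp
      have h3' := congrArg (fun α : MulAut (Hs φ) => α c₀) hρ3
      simp only [pow_succ, pow_zero, one_mul, MulAut.mul_apply, MulAut.one_apply] at h3'
      rw [h2'] at h3'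
      exact h3'
    obtain ⟨c₁, hc₁, hτc₁⟩ := hτmove
    -- the fixed points of `τ` in the centre
    let Zτ : Subgroup (Hs φ) :=
      { carrier := {c | c.a = 0 ∧ τ c = c}
        mul_mem' := by
          rintro x y ⟨hx, hx'⟩ ⟨hy, hy'⟩
          exact ⟨by rw [Hs.mul_a, hx, hy, add_zero], by rw [map_mul, hx', hy']⟩
        one_mem' := ⟨rfl, map_one τ⟩
        inv_mem' := by
          rintro x ⟨hx, hx'⟩
          exact ⟨by rw [Hs.inv_a, hx, neg_zero], by rw [map_inv, hx']⟩ }
    have hZle : Zτ ≤ Subgroup.center (Hs φ) := by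
      intro c hc
      exact (Hs.mem_center_iff φ hne c).mpr hc.1
    have hZne : Zτ ≠ Subgroup.center (Hs φ) := by
      intro h
      have : c₁ ∈ Zτ := by rw [h]; exact (Hs.mem_center_iff φ hne c₁).mpr hc₁
      exact hτc₁ this.2
    haveI : Finite (Hs φ) := inferInstance
    have hZcard : Nat.card Zτ ≤ 2 := by
      have hcen := card_center_Hs hF φ hφ
      have hdvd : Nat.card Zτ ∣ 4 := by
        rw [← hcen]
        exact Subgroup.card_dvd_of_le hZle
      have hlt : Nat.card Zτ ≠ 4 := by
        intro h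
        apply hZne
        apply Subgroup.eq_of_le_of_card_ge hZle
        rw [hcen, h]
      have : Nat.card Zτ ∈ Nat.divisors 4 := Nat.mem_divisors.mpr ⟨hdvd, by norm_num⟩
      have h4 : Nat.divisors 4 = {1, 2, 4} := by decide
      rw [h4] at this
      simp only [Finset.mem_insert, Finset.mem_singleton] at this
      omega
    -- the fixed points of the induced involution
    let C : F →+ F := AddMonoidHom.mk' (ind φ hne τ) (ind_add φ hne τ)
    have hF16 : Fintype.card F = 16 := by rw [hF]; norm_num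
    obtain ⟨a, b, ha0, hb0, hab, hCa, hCb⟩ := exists_fixed_pair hF16 C hC2
    have hCa' : ind φ hne τ a = a := hCa
    have hCb' : ind φ hne τ b = b := hCb
    have hCab' : ind φ hne τ (a + b) = a + b := by rw [ind_add, hCa', hCb']
    -- squares of fixed elements lie in `Zτ`
    have hmem : ∀ x : F, ind φ hne τ x = x → rep φ hne x * rep φ hne x ∈ Zτ := by
      intro x hx
      refine ⟨sq_a φ _, ?_⟩
      ext
      · rw [sq_a, map_a_zero φ hne τ _ (sq_a φ _)]
      · rw [hsq τ x, hx, hsq0]
    have hne1 : ∀ x : F, x ≠ 0 → rep φ hne x * rep φ hne x ≠ 1 := by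
      intro x hx h
      have := congrArg Hs.s h
      rw [hsq0, Hs.one_s] at this
      exact hx ((pow_eq_zero_iff (n := 5) (by norm_num)).mp this)
    have hab0 : a + b ≠ 0 := by
      intro h
      apply hab
      have : a = -b := eq_neg_of_add_eq_zero_left h
      rw [this, CharTwo.neg_eq]
    have e1 := eq_of_card_le_two Zτ hZcard _ _ (hmem a hCa') (hmem b hCb') (hne1 a ha0) (hne1 b hb0)
    have e2 := eq_of_card_le_two Zτ hZcard _ _ (hmem a hCa') (hmem (a + b) hCab') (hne1 a ha0)
      (hne1 _ hab0)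
    have h1 : a ^ 5 = b ^ 5 := by
      have := congrArg Hs.s e1
      rwa [hsq0, hsq0] at this
    have h3 : a ^ 5 = (a + b) ^ 5 := by
      have := congrArg Hs.s e2
      rwa [hsq0, hsq0] at this
    exact norm_fact h2 a b ha0 hb0 h1 h3

end main

end Cfsg.Agent.Helper16.HsAut
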