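import Mathlib
import Cfsg.Agent.Lib.Helper24.IPDefs

/-!
# Isaacs–Passman: two group-theoretic pieces (helper16)

`centralizer_commutator_le` (P1) and `eq_one_of_conj_mem_centralizer` (CORE) for a group `Q` whose
commutator subgroup is the unique minimal normal subgroup.
-/

set_option autoImplicit false

namespace Cfsg.Agent.Helper16.IPGroup

open Cfsg Cfsg.Agent.Helper24 Cfsg.Agent.Helper24.IP

universe u

variable {Q : Type u} [Group Q]

theorem comm_mem (g h : Q) : g * h * g⁻¹ * h⁻¹ ∈ commutator Q := by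
  rw [commutator_def]
  exact Subgroup.commutator_mem_commutator (Subgroup.mem_top g) (Subgroup.mem_top h)

/-! ## CORE -/

theorem eq_one_of_conj_mem_centralizer [Finite Q] (hQ : Mono Q)
    (hnab : ∃ a ∈ commutator Q, ∃ c ∈ commutator Q, a * c ≠ c * a) {x : Q} (hx : x ≠ 1) (y : Q)
    (hy : ∀ g : Q, g * y * g⁻¹ ∈ Subgroup.centralizer ({x} : Set Q)) : y = 1 := by
  by_contra hy1
  obtain ⟨a, ha, c, hc, hac⟩ := hnab
  apply hac
  set L : Subgroup Q := Subgroup.normalClosure {x} with hL
  have hLne : L ≠ ⊥ := by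
    intro h
    apply hx
    have : x ∈ L := Subgroup.subset_normalClosure (Set.mem_singleton x)
    rw [h, Subgroup.mem_bot] at this
    exact this
  have hML : commutator Q ≤ L := hQ.min L inferInstance hLne
  -- `y` centralizes `L`
  have hyZ : y ∈ Subgroup.centralizer (L : Set Q) := by
    have hle : L ≤ Subgroup.centralizer ({y} : Set Q) := by
      rw [hL, Subgroup.normalClosure]
      rw [Subgroup.closure_le]
      intro w hw
      rw [Group.mem_conjugatesOfSet_iff] at hw
      obtain ⟨x', hx', hconj⟩ := hw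
      rw [Set.mem_singleton_iff] at hx'
      subst hx'
      rw [isConj_iff] at hconj
      obtain ⟨d, rfl⟩ := hconj
      rw [SetLike.mem_coe, Subgroup.mem_centralizer_iff]
      intro z hz
      rw [Set.mem_singleton_iff] at hz
      subst hz
      have h1 := hy d⁻¹
      rw [Subgroup.mem_centralizer_iff] at h1
      have h2 := h1 x' (Set.mem_singleton x')
      -- x' * (d⁻¹ z d) = (d⁻¹ z d) * x'
      rw [inv_inv] at h2
      calc z * (d * x' * d⁻¹) = d * ((d⁻¹ * z * d) * x') * d⁻¹ := by group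
        _ = d * (x' * (d⁻¹ * z * d)) * d⁻¹ := by rw [h2]
        _ = d * x' * d⁻¹ * z := by group
    rw [Subgroup.mem_centralizer_iff]
    intro l hl
    have := hle hl
    rw [Subgroup.mem_centralizer_iff] at this
    exact (this y (Set.mem_singleton y)).symm
  have hZne : Subgroup.centralizer (L : Set Q) ≠ ⊥ := by
    intro h
    rw [h, Subgroup.mem_bot] at hyZ
    exact hy1 hyZ
  have hMZ : commutator Q ≤ Subgroup.centralizer (L : Set Q) :=
    hQ.min _ inferInstance hZne
  have h3 := hMZ ha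
  rw [Subgroup.mem_centralizer_iff] at h3
  exact (h3 c (hML hc)).symm

/-! ## P1 -/

/-- for a normal subgroup `X` centralizing the commutator subgroup, `X ∩ C(g)` is normal -/
theorem inf_centralizer_normal (X : Subgroup Q) [hX : X.Normal]
    (hXC : X ≤ Subgroup.centralizer (commutator Q : Set Q)) (g : Q) :
    (X ⊓ Subgroup.centralizer ({g} : Set Q)).Normal := by
  constructor
  intro d hd h
  obtain ⟨hdX, hdg⟩ := Subgroup.mem_inf.1 hd
  refine Subgroup.mem_inf.2 ⟨hX.conj_mem d hdX h, ?_⟩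
  rw [Subgroup.mem_centralizer_iff] at hdg ⊢
  intro z hz
  rw [Set.mem_singleton_iff] at hz
  subst hz
  have hgd : z * d = d * z := hdg z (Set.mem_singleton z)
  have hz0 : h⁻¹ * z * h * z⁻¹ ∈ commutator Q := by
    have := comm_mem h⁻¹ z
    rwa [inv_inv] at this
  have hcz : (h⁻¹ * z * h * z⁻¹) * d = d * (h⁻¹ * z * h * z⁻¹) := by
    have := hXC hdX
    rw [Subgroup.mem_centralizer_iff] at this
    exact this _ hz0
  have e1 : h⁻¹ * z * h = (h⁻¹ * z * h * z⁻¹) * z := by group
  calc z * (h * d * h⁻¹) = h * (h⁻¹ * z * h) * d * h⁻¹ := by group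
    _ = h * ((h⁻¹ * z * h * z⁻¹) * z) * d * h⁻¹ := by rw [← e1]
    _ = h * (h⁻¹ * z * h * z⁻¹) * (z * d) * h⁻¹ := by group
    _ = h * (h⁻¹ * z * h * z⁻¹) * (d * z) * h⁻¹ := by rw [hgd]
    _ = h * ((h⁻¹ * z * h * z⁻¹) * d) * z * h⁻¹ := by group
    _ = h * (d * (h⁻¹ * z * h * z⁻¹)) * z * h⁻¹ := by rw [hcz]
    _ = h * d * ((h⁻¹ * z * h * z⁻¹) * z) * h⁻¹ := by group
    _ = h * d * (h⁻¹ * z * h) * h⁻¹ := by rw [← e1]
    _ = h * d * h⁻¹ * z := by group

theorem comm_of_comm_eq {g u v : Q} (h : g * u * g⁻¹ * u⁻¹ = g * v * g⁻¹ * v⁻¹) :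
    g * (v⁻¹ * u) = (v⁻¹ * u) * g := by
  have h1 : g * u * g⁻¹ = g * v * g⁻¹ * v⁻¹ * u := by
    rw [← h]; group
  calc g * (v⁻¹ * u) = (g * v * g⁻¹)⁻¹ * (g * u * g⁻¹) * g := by group
    _ = (g * v * g⁻¹)⁻¹ * (g * v * g⁻¹ * v⁻¹ * u) * g := by rw [h1]
    _ = (v⁻¹ * u) * g := by group

theorem centralizer_commutator_le [Finite Q] (hQ : Mono Q)
    (hab : ∀ a ∈ commutator Q, ∀ c ∈ commutator Q, a * c = c * a)
    (hnc : ¬ commutator Q ≤ Subgroup.center Q) :
    Subgroup.centralizer (commutator Q : Set Q) ≤ commutator Q := by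
  have hMC : commutator Q ≤ Subgroup.centralizer (commutator Q : Set Q) := by
    intro a ha
    rw [Subgroup.mem_centralizer_iff]
    intro c hc
    exact hab c hc a ha
  -- an element `g` outside the centralizer
  obtain ⟨g, hg⟩ : ∃ g : Q, g ∉ Subgroup.centralizer (commutator Q : Set Q) := by
    by_contra hall
    push Not at hall
    apply hnc
    intro m hm
    rw [Subgroup.mem_center_iff]
    intro g
    have := hall g
    rw [Subgroup.mem_centralizer_iff] at this
    exact (this m hm).symm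
  -- `X ∩ C(g) = 1` for normal `X` inside the centralizer
  have hbot : ∀ (X : Subgroup Q) [X.Normal], X ≤ Subgroup.centralizer (commutator Q : Set Q) →
      X ⊓ Subgroup.centralizer ({g} : Set Q) = ⊥ := by
    intro X _ hXC
    by_contra hne
    have hle := hQ.min _ (inf_centralizer_normal X hXC g) hne
    apply hg
    rw [Subgroup.mem_centralizer_iff]
    intro m hm
    have := (Subgroup.mem_inf.1 (hle hm)).2
    rw [Subgroup.mem_centralizer_iff] at this
    exact (this g (Set.mem_singleton g)).symm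
  have hbotM := hbot (commutator Q) hMC
  have hbotC := hbot (Subgroup.centralizer (commutator Q : Set Q)) le_rfl
  -- the map `m ↦ [g, m]` on the commutator subgroup
  let f : commutator Q → commutator Q := fun m => ⟨g * (m : Q) * g⁻¹ * (m : Q)⁻¹, comm_mem g m⟩
  have hinj : Function.Injective f := by
    intro u v huv
    have h1 : g * (u : Q) * g⁻¹ * (u : Q)⁻¹ = g * (v : Q) * g⁻¹ * (v : Q)⁻¹ :=
      congrArg Subtype.val huv
    have h2 := comm_of_comm_eq h1
    have h3 : (v : Q)⁻¹ * u ∈ commutator Q ⊓ Subgroup.centralizer ({g} : Set Q) := by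
      refine Subgroup.mem_inf.2 ⟨Subgroup.mul_mem _ (Subgroup.inv_mem _ v.2) u.2, ?_⟩
      rw [Subgroup.mem_centralizer_iff]
      intro z hz
      rw [Set.mem_singleton_iff] at hz
      subst hz
      exact h2
    rw [hbotM, Subgroup.mem_bot] at h3
    apply Subtype.ext
    calc (u : Q) = v * ((v : Q)⁻¹ * u) := by group
      _ = v := by rw [h3, mul_one]
  have hsurj : Function.Surjective f := Finite.injective_iff_surjective.mp hinj
  intro c hc
  obtain ⟨m, hm⟩ := hsurj ⟨g * c * g⁻¹ * c⁻¹, comm_mem g c⟩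
  have h1 : g * c * g⁻¹ * c⁻¹ = g * (m : Q) * g⁻¹ * (m : Q)⁻¹ := (congrArg Subtype.val hm).symm
  have h2 := comm_of_comm_eq h1
  have h3 : (m : Q)⁻¹ * c ∈ Subgroup.centralizer (commutator Q : Set Q) ⊓
      Subgroup.centralizer ({g} : Set Q) := by
    refine Subgroup.mem_inf.2 ⟨Subgroup.mul_mem _ (Subgroup.inv_mem _ (hMC m.2)) hc, ?_⟩
    rw [Subgroup.mem_centralizer_iff]
    intro z hz
    rw [Set.mem_singleton_iff] at hz
    subst hz
    exact h2
  rw [hbotC, Subgroup.mem_bot] at h3
  have : c = m := by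
    calc c = (m : Q) * ((m : Q)⁻¹ * c) := by group
      _ = m := by rw [h3, mul_one]
  rw [this]
  exact m.2

end Cfsg.Agent.Helper16.IPGroup
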