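import Mathlib
import Cfsg.Prelude.Def_Blocks
import Cfsg.Agent.Lib.Helper24.CharLinear
import Cfsg.Agent.Lib.Helper24.CharComplete
import Cfsg.Agent.Lib.Helper24.CharAlgebra
import Cfsg.Agent.Lib.Helper24.CharAbelian
import Cfsg.Agent.Lib.Helper16.ITODefs
import Cfsg.Agent.Lib.Helper12.ITOPDVD
import Cfsg.Agent.Lib.Helper19.ITOCOEF
import Cfsg.Agent.Lib.Helper5.BRP0

/-!
# S4707 piece DEG (helper16): the `B0Data` from Brauer's theorem (`helper5`'s `brauer_interface`)
-/

set_option autoImplicit false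
set_option linter.unusedSectionVars false
set_option linter.unusedVariables false
set_option linter.style.haveILetI false

namespace Cfsg.Agent.Helper16.ITO

open scoped ComplexConjugate
open Cfsg Cfsg.Agent.Helper24

universe u v

namespace DEG

/-- pure complex numbers: two `p`-th roots of unity (`p` odd) with `x + y = x⁻¹ + y⁻¹` are inverse
to each other -/
theorem mul_eq_one_of_add_eq {p : ℕ} (hodd : Odd p) {x y : ℂ} (hx : x ^ p = 1) (hy : y ^ p = 1)
    (h : x + y = x⁻¹ + y⁻¹) : x * y = 1 := by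
  have hp0 : p ≠ 0 := by
    rintro rfl
    simp at hodd
  have hx0 : x ≠ 0 := by
    rintro rfl
    simp [hp0] at hx
  have hy0 : y ≠ 0 := by
    rintro rfl
    simp [hp0] at hy
  have h1 : (x + y) * (x * y) = x + y := by
    calc (x + y) * (x * y) = (x⁻¹ + y⁻¹) * (x * y) := by rw [h]
      _ = y + x := by field_simp
      _ = x + y := add_comm _ _
  have h2 : (x + y) * (x * y - 1) = 0 := by linear_combination h1
  rcases mul_eq_zero.mp h2 with h3 | h3
  · exfalso
    have hy' : y = -x := by linear_combination h3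
    rw [hy', hodd.neg_pow, hx] at hy
    norm_num at hy
  · exact sub_eq_zero.mp h3

/-- the irreducible characters of a group of prime order are linear -/
theorem lin_of_card {A : Type u} [Group A] [Fintype A] (p : ℕ) [Fact p.Prime]
    (hcard : Nat.card A = p) (ψ : IrrCharacter A) :
    (ψ : A → ℂ) 1 = 1 ∧ (∀ a b : A, (ψ : A → ℂ) (a * b) = (ψ : A → ℂ) a * (ψ : A → ℂ) b) ∧
      ∀ a : A, (ψ : A → ℂ) a ^ p = 1 := by
  classical
  letI : Fintype (IrrCharacter A) := irrFintype
  haveI : IsCyclic A := isCyclic_of_prime_card hcard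
  have hcomm : ∀ a b : A, a * b = b * a := by
    intro a b
    obtain ⟨g, hg⟩ := IsCyclic.exists_generator (α := A)
    obtain ⟨m, rfl⟩ := Subgroup.mem_zpowers_iff.mp (hg a)
    obtain ⟨n, rfl⟩ := Subgroup.mem_zpowers_iff.mp (hg b)
    rw [← zpow_add, ← zpow_add, add_comm]
  have h1 : (ψ : A → ℂ) 1 = 1 :=
    (charDegree_eq_one_iff ψ.2).mp (charDegree_eq_one_of_comm hcomm ψ.2)
  have hmul := char_mul_of_degree_one (isCharacter_of_isIrrCharacter ψ.2) h1
  refine ⟨h1, hmul, ?_⟩
  intro a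
  have hpow : ∀ n : ℕ, (ψ : A → ℂ) a ^ n = (ψ : A → ℂ) (a ^ n) := by
    intro n
    induction n with
    | zero => simp [h1]
    | succ n ih => rw [pow_succ, pow_succ, hmul, ih]
  rw [hpow, ← hcard, pow_card_eq_one', h1]

end DEG

variable {G : Type u} [Group G] [Fintype G]

/-- PIECE DEG. -/
theorem exists_b0data {p : ℕ} [Fact p.Prime] (hp : 3 < p) (P : Sylow p G)
    (hcard : Nat.card (P : Subgroup G) = p)
    (hcent : Subgroup.centralizer ((P : Subgroup G) : Set G) = (P : Subgroup G))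
    (hN : Nat.card (Subgroup.normalizer ((P : Subgroup G) : Set G)) = 2 * p)
    (hinv : ∃ n ∈ Subgroup.normalizer ((P : Subgroup G) : Set G),
      ∀ a ∈ (P : Subgroup G), n * a * n⁻¹ = a⁻¹)
    {ψ : G → ℂ} (hψ : IsIrrCharacter G ψ) (hdeg : ψ 1 = (p : ℂ) - 1) :
    Nonempty (B0Data p (P : Subgroup G)) := by
  classical
  have hpp : p.Prime := Fact.out
  have hodd : Odd p := hpp.odd_of_ne_two (by omega)
  have hcast : ((p - 1 : ℕ) : ℤ) = (p : ℤ) - 1 := by
    rw [Nat.cast_sub hpp.one_le]; simp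
  -- the inertial index is `2`
  have hw : (Subgroup.centralizer ((P : Subgroup G) : Set G)).relIndex
      (Subgroup.normalizer ((P : Subgroup G) : Set G)) = 2 := by
    rw [hcent]
    have hle : (P : Subgroup G) ≤ Subgroup.normalizer ((P : Subgroup G) : Set G) :=
      Subgroup.le_normalizer
    have h1 := Subgroup.relIndex_mul_index hle
    have h2 := (P : Subgroup G).index_mul_card
    have h3 := (Subgroup.normalizer ((P : Subgroup G) : Set G)).index_mul_card
    rw [hcard] at h2
    rw [hN] at h3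
    have hpos : 0 < (Subgroup.normalizer ((P : Subgroup G) : Set G)).index :=
      Nat.pos_of_ne_zero Subgroup.index_ne_zero_of_finite
    have h4 : (P : Subgroup G).relIndex (Subgroup.normalizer ((P : Subgroup G) : Set G)) *
        (Subgroup.normalizer ((P : Subgroup G) : Set G)).index * p =
        2 * (Subgroup.normalizer ((P : Subgroup G) : Set G)).index * p := by
      rw [h1, h2, ← h3]; ring
    exact Nat.eq_of_mul_eq_mul_right hpos (Nat.eq_of_mul_eq_mul_right hpp.pos h4)
  obtain ⟨-, -, X, Y, δ, δ₀, O, hdisj, hXc, hYc, hX, h1X, hvan, hδ₀, hY, hOdisj, hOcov, hsumY,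
    hregY, hrel⟩ := Cfsg.Agent.Helper5.BRP0.brauer_interface p P hcard hcent 2 hw
  have h1mem : principalChar G ∈ X := by
    apply h1X
    have h4 : p ≠ 4 := by
      intro h
      rw [h] at hpp
      exact absurd hpp (by norm_num)
    omega
  have h1val : ∀ g : G, ((principalChar G : IrrCharacter G) : G → ℂ) g = 1 := fun _ => rfl
  set χa : IrrCharacter G := ⟨ψ, hψ⟩ with hχa
  have hχa1 : (χa : G → ℂ) 1 = (p : ℂ) - 1 := hdeg
  have hdegnat : charDegree (χa : G → ℂ) = p - 1 :=
    charDegree_natCast (p - 1) (by rw [hχa1, Nat.cast_sub hpp.one_le, Nat.cast_one])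
  -- `χa ∈ X`
  have hχaX : χa ∈ X := by
    by_contra hnX
    by_cases hY' : χa ∈ Y
    · obtain ⟨-, -, -, hcong⟩ := hY χa hY'
      rw [hdegnat, hcast] at hcong
      have hd := hcong.dvd
      have hd2 := dvd_add hd (dvd_refl (p : ℤ))
      rcases hδ₀ with h | h <;> rw [h] at hd2
      · have h2 : (-1 * ((2 : ℕ) : ℤ) - ((p : ℤ) - 1) + (p : ℤ)) = -1 := by push_cast; ring
        rw [h2] at hd2
        have := Int.le_of_dvd one_pos (dvd_neg.mp hd2)
        omega
      · have h2 : (-(-1) * ((2 : ℕ) : ℤ) - ((p : ℤ) - 1) + (p : ℤ)) = 3 := by push_cast; ring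
        rw [h2] at hd2
        have := Int.le_of_dvd (by norm_num) hd2
        omega
    · have hv := hvan χa hnX hY'
      obtain ⟨m, hm⟩ := dvd_degree_of_vanish p (P : Subgroup G) hcard
        (isCharacter_of_isIrrCharacter hψ) hv
      rw [hdeg] at hm
      have h1 : ((p : ℕ) : ℂ) = ((p * m + 1 : ℕ) : ℂ) := by
        push_cast
        push_cast at hm
        linear_combination hm
      have h2 : p = p * m + 1 := by exact_mod_cast h1
      rcases Nat.eq_zero_or_pos m with rfl | hm0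
      · omega
      · nlinarith
  have hne1 : χa ≠ principalChar G := by
    intro h
    have h1 : (χa : G → ℂ) 1 = 1 := by rw [h]; rfl
    rw [hχa1] at h1
    have h2 : ((p : ℕ) : ℂ) = ((2 : ℕ) : ℂ) := by push_cast; linear_combination h1
    have h3 : p = 2 := by exact_mod_cast h2
    omega
  have hXeq : X = {principalChar G, χa} := by
    symm
    apply Finset.eq_of_subset_of_card_le
    · intro x hx
      rw [Finset.mem_insert, Finset.mem_singleton] at hx
      rcases hx with rfl | rfl <;> assumption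
    · rw [hXc, Finset.card_pair hne1.symm]
  obtain ⟨a₁, ha₁P, ha₁⟩ : ∃ a ∈ (P : Subgroup G), a ≠ 1 := by
    have h1 : 1 < Nat.card (P : Subgroup G) := by rw [hcard]; exact hpp.one_lt
    have h2 := (Subgroup.one_lt_card_iff_ne_bot _).mp h1
    obtain ⟨x, hx⟩ := (Subgroup.ne_bot_iff_exists_ne_one).mp h2
    exact ⟨x, x.2, fun h => hx (Subtype.ext h)⟩
  have hδ1 : δ (principalChar G) = 1 := by
    obtain ⟨-, hval, -⟩ := hX _ h1mem
    have := hval a₁ ha₁P ha₁
    rw [h1val] at this
    exact_mod_cast this.symm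
  have hδa : δ χa = -1 := by
    obtain ⟨hpm, -, hcong⟩ := hX _ hχaX
    rcases hpm with h | h
    · exfalso
      rw [h, hdegnat, hcast] at hcong
      have hd := hcong.dvd
      have hd2 := dvd_add hd (dvd_refl (p : ℤ))
      have h2 : ((1 : ℤ) - ((p : ℤ) - 1) + (p : ℤ)) = 2 := by ring
      rw [h2] at hd2
      have := Int.le_of_dvd (by norm_num) hd2
      omega
    · exact h
  have hreg1 : ¬ p ∣ orderOf (1 : G) := by
    rw [orderOf_one, Nat.dvd_one]
    exact hpp.one_lt.ne'
  have hrel1 : ∀ θ ∈ Y, (δ₀ : ℂ) * (θ : G → ℂ) 1 = (p : ℂ) - 2 := by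
    intro θ hθ
    have := hrel 1 hreg1 θ hθ
    rw [hXeq, Finset.sum_pair hne1.symm, hδ1, hδa, hχa1, h1val] at this
    push_cast at this
    linear_combination this
  have hYcard : 2 * Y.card = p - 1 := by
    rw [hYc]
    rcases hodd with ⟨k, hk⟩
    omega
  have hYne : Y.Nonempty := by
    rw [← Finset.card_pos]
    omega
  have hδ₀1 : δ₀ = 1 := by
    rcases hδ₀ with h | h
    · exact h
    · exfalso
      obtain ⟨θ, hθ⟩ := hYne
      obtain ⟨d, hd0, hd⟩ := irr_one_eq θ.2
      have := hrel1 θ hθ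
      rw [h, hd] at this
      have h2 : ((p + d : ℕ) : ℂ) = ((2 : ℕ) : ℂ) := by push_cast; push_cast at this; linear_combination -this
      have h3 : p + d = 2 := by exact_mod_cast h2
      omega
  have hdegY : ∀ θ ∈ Y, (θ : G → ℂ) 1 = (p : ℂ) - 2 := by
    intro θ hθ
    have := hrel1 θ hθ
    rw [hδ₀1] at this
    push_cast at this
    linear_combination this
  -- the structure
  refine ⟨{
    χa := χa
    Y := Y
    one_notMem := fun h => Finset.disjoint_left.mp hdisj h1mem h
    χa_notMem := fun h => Finset.disjoint_left.mp hdisj hχaX h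
    χa_ne_one := hne1
    valχa := ?_
    degχa := hχa1
    degY := hdegY
    cardY := hYcard
    valD := ?_
    regY := hregY
    sq_rel := ?_
    sumY := ?_
    indep := ?_ }⟩
  · -- valχa
    intro a ha ha1
    obtain ⟨-, hval, -⟩ := hX _ hχaX
    rw [hval a ha ha1, hδa]
    push_cast
    rfl
  · -- valD
    intro χ h1 h2 h3 a ha ha1
    apply hvan χ ?_ h3 a ha ha1
    rw [hXeq, Finset.mem_insert, Finset.mem_singleton]
    rintro (h | h)
    · exact h1 h
    · exact h2 h
  · -- sq_rel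
    intro ζ hζ a ha ha1
    obtain ⟨hOc, hOne, hOval, -⟩ := hY ζ hζ
    obtain ⟨ψ₁, ψ₂, hne12, hOeq⟩ := Finset.card_eq_two.mp hOc
    obtain ⟨n, hn, hninv⟩ := hinv
    have hcl := isClassFunction_of_isCharacter (isCharacter_of_isIrrCharacter ζ.2)
    have hζinv : (ζ : G → ℂ) a⁻¹ = (ζ : G → ℂ) a := by rw [← hninv a ha, hcl]
    have ha'1 : (⟨a, ha⟩ : ↥(P : Subgroup G)) ≠ 1 := fun h => ha1 (congrArg Subtype.val h)
    have hinv1 : (⟨a, ha⟩ : ↥(P : Subgroup G))⁻¹ ≠ 1 := inv_ne_one.mpr ha'1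
    have hsq1 : (⟨a, ha⟩ : ↥(P : Subgroup G)) * ⟨a, ha⟩ ≠ 1 := by
      intro h
      have h2 : orderOf (⟨a, ha⟩ : ↥(P : Subgroup G)) ∣ 2 := by
        apply orderOf_dvd_of_pow_eq_one
        rw [pow_two]; exact h
      have h3 : orderOf (⟨a, ha⟩ : ↥(P : Subgroup G)) ∣ p := by
        have h3' := orderOf_dvd_natCard (⟨a, ha⟩ : ↥(P : Subgroup G))
        rwa [hcard] at h3'
      have h4 : orderOf (⟨a, ha⟩ : ↥(P : Subgroup G)) ∣ Nat.gcd 2 p := Nat.dvd_gcd h2 h3
      have h5 : Nat.gcd 2 p = 1 := by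
        rw [Nat.coprime_comm.mp ((Nat.coprime_primes hpp Nat.prime_two).mpr (by omega))]
      rw [h5, Nat.dvd_one, orderOf_eq_one_iff] at h4
      exact ha'1 h4
    obtain ⟨l1, m1, pw1⟩ := DEG.lin_of_card p hcard ψ₁
    obtain ⟨l2, m2, pw2⟩ := DEG.lin_of_card p hcard ψ₂
    have e1 := hOval ⟨a, ha⟩ ha'1
    have e2 := hOval (⟨a, ha⟩)⁻¹ hinv1
    have e3 := hOval (⟨a, ha⟩ * ⟨a, ha⟩) hsq1
    rw [hOeq, Finset.sum_pair hne12, hδ₀1] at e1 e2 e3
    have i1 : (ψ₁ : ↥(P : Subgroup G) → ℂ) (⟨a, ha⟩)⁻¹ =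
        ((ψ₁ : ↥(P : Subgroup G) → ℂ) ⟨a, ha⟩)⁻¹ := by
      have := m1 ⟨a, ha⟩ (⟨a, ha⟩)⁻¹
      rw [mul_inv_cancel, l1] at this
      exact eq_inv_of_mul_eq_one_right this.symm
    have i2 : (ψ₂ : ↥(P : Subgroup G) → ℂ) (⟨a, ha⟩)⁻¹ =
        ((ψ₂ : ↥(P : Subgroup G) → ℂ) ⟨a, ha⟩)⁻¹ := by
      have := m2 ⟨a, ha⟩ (⟨a, ha⟩)⁻¹
      rw [mul_inv_cancel, l2] at this
      exact eq_inv_of_mul_eq_one_right this.symm
    rw [i1, i2] at e2
    rw [m1, m2] at e3
    have c1 : (((⟨a, ha⟩ : ↥(P : Subgroup G))⁻¹ : ↥(P : Subgroup G)) : G) = a⁻¹ := rfl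
    have c2 : (((⟨a, ha⟩ : ↥(P : Subgroup G)) * ⟨a, ha⟩ : ↥(P : Subgroup G)) : G) = a * a := rfl
    have c0 : ((⟨a, ha⟩ : ↥(P : Subgroup G)) : G) = a := rfl
    rw [c1, hζinv] at e2
    rw [c2] at e3
    rw [c0] at e1
    have hxy := DEG.mul_eq_one_of_add_eq hodd (pw1 ⟨a, ha⟩) (pw2 ⟨a, ha⟩) (by
      have := e1.symm.trans e2
      push_cast at this
      linear_combination -this)
    rw [e1, e3]
    push_cast
    linear_combination 2 * hxy
  · -- sumY
    intro a ha ha1
    rw [hsumY a ha ha1, hδ₀1]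
    push_cast
    rfl
  · -- indep
    intro c c₀ hc η hη
    letI : Fintype (IrrCharacter ↥(P : Subgroup G)) := irrFintype
    have hvanish : ∀ a : ↥(P : Subgroup G), a ≠ 1 →
        ∑ φ : IrrCharacter ↥(P : Subgroup G),
          (∑ η' ∈ Y, if φ ∈ O η' then c η' - c₀ else 0) * (φ : ↥(P : Subgroup G) → ℂ) a = 0 := by
      intro a ha
      have ha1 : (a : G) ≠ 1 := fun h => ha (Subtype.ext h)
      calc ∑ φ : IrrCharacter ↥(P : Subgroup G),
            (∑ η' ∈ Y, if φ ∈ O η' then c η' - c₀ else 0) * (φ : ↥(P : Subgroup G) → ℂ) a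
          = ∑ φ : IrrCharacter ↥(P : Subgroup G), ∑ η' ∈ Y,
              (if φ ∈ O η' then (c η' - c₀) * (φ : ↥(P : Subgroup G) → ℂ) a else 0) := by
            apply Finset.sum_congr rfl
            intro φ _
            rw [Finset.sum_mul]
            apply Finset.sum_congr rfl
            intro η' _
            split_ifs <;> simp
        _ = ∑ η' ∈ Y, ∑ φ : IrrCharacter ↥(P : Subgroup G),
              (if φ ∈ O η' then (c η' - c₀) * (φ : ↥(P : Subgroup G) → ℂ) a else 0) :=
            Finset.sum_comm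
        _ = ∑ η' ∈ Y, (c η' - c₀) * ∑ φ ∈ O η', (φ : ↥(P : Subgroup G) → ℂ) a := by
            apply Finset.sum_congr rfl
            intro η' _
            rw [Finset.mul_sum, ← Finset.sum_filter]
            congr 1
            ext φ
            simp
        _ = ∑ η' ∈ Y, (c η' - c₀) * (-(η' : G → ℂ) (a : G)) := by
            apply Finset.sum_congr rfl
            intro η' hη'
            have := (hY η' hη').2.2.1 a ha
            rw [this, hδ₀1]
            push_cast
            ring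
        _ = -(∑ η' ∈ Y, c η' * (η' : G → ℂ) (a : G)) + c₀ * ∑ η' ∈ Y, (η' : G → ℂ) (a : G) := by
            rw [Finset.mul_sum, ← Finset.sum_neg_distrib, ← Finset.sum_add_distrib]
            apply Finset.sum_congr rfl
            intros
            ring
        _ = 0 := by
            rw [hc a a.2 ha1, hsumY a a.2 ha1, hδ₀1]
            push_cast
            ring
    have hco := coeff_of_vanish _ hvanish
    have hd1 : (∑ η' ∈ Y, if principalChar ↥(P : Subgroup G) ∈ O η' then c η' - c₀ else 0) = 0 := by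
      apply Finset.sum_eq_zero
      intro η' hη'
      rw [if_neg]
      intro hmem
      exact (hY η' hη').2.1 _ hmem rfl
    obtain ⟨φ, hφ⟩ : (O η).Nonempty := by
      rw [← Finset.card_pos, (hY η hη).1]
      norm_num
    have hdφ : (∑ η' ∈ Y, if φ ∈ O η' then c η' - c₀ else 0) = c η - c₀ := by
      rw [Finset.sum_eq_single η]
      · rw [if_pos hφ]
      · intro η' hη' hne
        rw [if_neg]
        intro hmem
        exact Finset.disjoint_left.mp (hOdisj η' hη' η hη hne) hmem hφ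
      · intro h
        exact absurd hη h
    have := hco φ (principalChar ↥(P : Subgroup G))
    rw [hd1, zero_mul, hdφ] at this
    have h1 : ((principalChar ↥(P : Subgroup G) : IrrCharacter ↥(P : Subgroup G)) :
        ↥(P : Subgroup G) → ℂ) 1 = 1 := rfl
    rw [h1, mul_one] at this
    exact sub_eq_zero.mp this

end Cfsg.Agent.Helper16.ITO
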