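import Mathlib
import Cfsg.Agent.S0713

/-!
# S0720 piece SYL (helper16): an element of order `p` without fixed points, and `p² ∤ |G|`
-/

set_option autoImplicit false
set_option linter.unusedSectionVars false
set_option linter.unusedVariables false

namespace Cfsg.Agent.Helper22.W2P

universe u v

variable {G : Type u} [Group G] [Fintype G] {Ω : Type v} [Fintype Ω] [DecidableEq Ω]
  [MulAction G Ω]

namespace SYL

/-- a permutation of prime order `p` on `2p` points with a fixed point is a `p`-cycle -/
theorem isCycle_of_fixed {Ω : Type*} [Fintype Ω] [DecidableEq Ω] (p : ℕ) (hp : p.Prime)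
    (hΩ : Fintype.card Ω = 2 * p) (s : Equiv.Perm Ω) (hs : orderOf s = p) (x : Ω) (hx : s x = x) :
    s.IsCycle ∧ s.support.card = p := by
  obtain ⟨n, hn⟩ := Equiv.Perm.cycleType_prime_order (σ := s) (by rw [hs]; exact hp)
  rw [hs] at hn
  have hsum : s.cycleType.sum = s.support.card := Equiv.Perm.sum_cycleType s
  have hsum2 : s.cycleType.sum = (n + 1) * p := by
    rw [hn, Multiset.sum_replicate, smul_eq_mul]
  have hlt : s.support.card < Fintype.card Ω := by
    have hx' : x ∉ s.support := by
      rw [Equiv.Perm.mem_support]; exact fun h => h hx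
    calc s.support.card < (Finset.univ : Finset Ω).card :=
          Finset.card_lt_card (Finset.ssubset_univ_iff.mpr (fun h => hx' (h ▸ Finset.mem_univ x)))
      _ = Fintype.card Ω := Finset.card_univ
  have hn0 : n = 0 := by
    rw [← hsum, hsum2, hΩ] at hlt
    have hp0 := hp.pos
    by_contra h
    have : 2 ≤ n + 1 := by omega
    have := Nat.mul_le_mul_right p this
    omega
  subst hn0
  refine ⟨?_, ?_⟩
  · rw [← Equiv.Perm.card_cycleType_eq_one, hn]; simp
  · rw [← hsum, hsum2]; simp

/-- the image of `G` in `Perm Ω` -/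
theorem isPreprimitive_range (hprim : MulAction.IsPreprimitive G Ω) :
    MulAction.IsPreprimitive ↥(MulAction.toPermHom G Ω).range Ω := by
  let φ : G → ↥(MulAction.toPermHom G Ω).range := fun g => ⟨MulAction.toPermHom G Ω g, ⟨g, rfl⟩⟩
  let f : Ω →ₑ[φ] Ω := ⟨id, fun g x => rfl⟩
  exact MulAction.IsPreprimitive.of_surjective (f := f) Function.surjective_id

/-- if the image of `G` contains the alternating group (degree `≥ 4`), `G` is 2-transitive -/
theorem two_trans_of_alt_le (h4 : 4 ≤ Fintype.card Ω)
    (hle : alternatingGroup Ω ≤ (MulAction.toPermHom G Ω).range) :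
    MulAction.IsMultiplyPretransitive G Ω 2 := by
  have h1 := alternatingGroup.isMultiplyPretransitive Ω
  have hc : Nat.card Ω = Fintype.card Ω := Nat.card_eq_fintype_card
  have h2 : MulAction.IsMultiplyPretransitive (alternatingGroup Ω) Ω 2 :=
    MulAction.isMultiplyPretransitive_of_le (n := Nat.card Ω - 2) (by omega) (by omega)
  rw [MulAction.isMultiplyPretransitive_iff]
  intro x y
  obtain ⟨g, hg⟩ := MulAction.exists_smul_eq (alternatingGroup Ω) x y
  obtain ⟨g', hg'⟩ := hle g.2
  refine ⟨g', ?_⟩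
  ext i
  have := congrArg (fun z : Fin 2 ↪ Ω => z i) hg
  simp only [Function.Embedding.smul_apply] at this ⊢
  rw [← this]
  show g' • x i = (g : Equiv.Perm Ω) (x i)
  rw [← hg']
  rfl

end SYL

/-- PIECE SYL. -/
theorem exists_pi [FaithfulSMul G Ω] (hprim : MulAction.IsPreprimitive G Ω) (p : ℕ)
    [Fact p.Prime] (hodd : p ≠ 2) (hΩ : Fintype.card Ω = 2 * p)
    (h2 : ¬ MulAction.IsMultiplyPretransitive G Ω 2) :
    ∃ π : G, orderOf π = p ∧ (∀ x : Ω, π • x ≠ x) ∧ ¬ p ^ 2 ∣ Nat.card G := by
  classical
  have hp : p.Prime := Fact.out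
  have hp3 : 3 ≤ p := by have := hp.two_le; omega
  have : MulAction.IsPretransitive G Ω := hprim.toIsPretransitive
  -- elements of order `p` have no fixed points
  have key : ∀ σ : G, orderOf σ = p → ∀ x : Ω, σ • x ≠ x := by
    intro σ hσ x hx
    apply h2
    have hinj : Function.Injective (MulAction.toPermHom G Ω) := MulAction.toPerm_injective
    have hs : orderOf (MulAction.toPermHom G Ω σ) = p := by
      rw [orderOf_injective _ hinj, hσ]
    obtain ⟨hc, hcard⟩ := SYL.isCycle_of_fixed p hp hΩ (MulAction.toPermHom G Ω σ) hs x hx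
    have hle := Cfsg.Agent.S0713.result (MulAction.toPermHom G Ω).range
      (SYL.isPreprimitive_range hprim) hp (by omega) (by omega) hc hcard ⟨σ, rfl⟩
    exact SYL.two_trans_of_alt_le (by omega) hle
  -- `p` divides the order of `G`
  obtain ⟨a⟩ : Nonempty Ω := by
    rw [← Fintype.card_pos_iff, hΩ]; have := hp.pos; omega
  have hcΩ : Nat.card Ω = 2 * p := by rw [Nat.card_eq_fintype_card, hΩ]
  have hdvd : p ∣ Nat.card G := by
    have h1 : (MulAction.stabilizer G a).index = Nat.card Ω :=
      MulAction.index_stabilizer_of_transitive G a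
    have h3 := Subgroup.index_dvd_card (MulAction.stabilizer G a)
    rw [h1, hcΩ] at h3
    exact Dvd.dvd.trans ⟨2, by ring⟩ h3
  obtain ⟨π, hπ⟩ := exists_prime_orderOf_dvd_card' p hdvd
  refine ⟨π, hπ, key π hπ, ?_⟩
  intro hsq
  obtain ⟨Q, hQ⟩ := Sylow.exists_subgroup_card_pow_prime p hsq
  -- the stabilizer of `a` in `Q` is nontrivial
  have h1 := Subgroup.card_mul_index (MulAction.stabilizer Q a)
  rw [hQ] at h1
  have hle : (MulAction.stabilizer Q a).index ≤ 2 * p := by
    rw [MulAction.index_stabilizer, ← hcΩ]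
    exact Set.ncard_le_card _
  have hstab : p ∣ Nat.card (MulAction.stabilizer Q a) := by
    have hd : (MulAction.stabilizer Q a).index ∣ p ^ 2 := ⟨_, by rw [← h1]; ring⟩
    obtain ⟨k, hk2, hk⟩ := (Nat.dvd_prime_pow hp).mp hd
    have hk1 : k ≤ 1 := by
      by_contra h
      have hk' : k = 2 := by omega
      rw [hk'] at hk
      rw [hk] at hle
      nlinarith
    rw [hk] at h1
    have h2' : p ^ k * Nat.card (MulAction.stabilizer Q a) = p ^ k * p ^ (2 - k) := by
      rw [mul_comm, h1, ← pow_add]; congr 1; omega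
    have h3 := Nat.eq_of_mul_eq_mul_left (pow_pos hp.pos k) h2'
    rw [h3]
    exact dvd_pow_self p (by omega)
  obtain ⟨τ, hτ⟩ := exists_prime_orderOf_dvd_card' p hstab
  have hτ' : orderOf ((τ : Q) : G) = p := by
    rw [Subgroup.orderOf_coe, Subgroup.orderOf_coe]; exact hτ
  exact key _ hτ' a τ.2

end Cfsg.Agent.Helper22.W2P
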