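import Mathlib
import Cfsg.Prelude.Def_Blocks
import Cfsg.Agent.Lib.Helper24.CharLinear
import Cfsg.Agent.Lib.Helper24.CharComplete
import Cfsg.Agent.Lib.Helper24.CharIntegral
import Cfsg.Agent.Lib.Helper22.W2PAsm
import Cfsg.Agent.Lib.Helper16.ITODefs
import Cfsg.Agent.Lib.Helper16.ITODEG
import Cfsg.Agent.Lib.Helper12.ITOSYLQ
import Cfsg.Agent.Lib.Helper17.ITOFAITH
import Cfsg.Agent.Lib.Helper18.ITOGRP3
import Cfsg.Agent.Lib.Helper2.ITOLAM2
import Cfsg.Agent.Lib.Helper2.ITOTWO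
import Cfsg.Agent.Lib.Helper24.ITORAT
import Cfsg.Agent.Lib.Helper25.ITOGRP1
import Cfsg.Agent.Lib.Helper25.ITOGRP2
import Cfsg.Agent.Lib.Helper25.ITOGRP5
import Cfsg.Agent.Lib.Helper25.ITOGRP6
import Cfsg.Agent.Lib.Helper7.ITOARITH5
import Cfsg.Agent.Lib.Helper7.ITOCARD60
import Cfsg.Agent.Lib.Helper7.ITOODD
import Cfsg.Agent.Lib.Helper7.ITOPOW2
import Cfsg.Agent.S0494

/-!
# S4707 (Ito: uniprimitive groups of degree `2p` with `|N_G(P)| = 2p`): assembly (helper16)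

Paper proof: `plans/S4707_proof.md`.
-/

set_option autoImplicit false
set_option linter.unusedSectionVars false
set_option linter.unusedVariables false

namespace Cfsg.Agent.Helper16.ITO

open scoped ComplexConjugate
open Cfsg Cfsg.Agent.Helper24 Cfsg.Agent.Helper22.W2P

universe u v

variable {G : Type u} [Group G] [Fintype G] {Ω : Type v} [Fintype Ω] [DecidableEq Ω]
  [MulAction G Ω]

/-- PERM: an irreducible character of degree `p - 1` and the parameter `a` with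
`p = 2a² + 2a + 1`, from the S0720 machinery (Wielandt's theorem). -/
theorem exists_decomp3 [FaithfulSMul G Ω] (hprim : MulAction.IsPreprimitive G Ω) (p : ℕ)
    [Fact p.Prime] (hp2 : p ≠ 2) (hΩ : Fintype.card Ω = 2 * p)
    (h2 : ¬ MulAction.IsMultiplyPretransitive G Ω 2) :
    ∃ (ψ : G → ℂ) (a : ℕ), IsIrrCharacter G ψ ∧ ψ 1 = (p : ℂ) - 1 ∧ 0 < a ∧
      p = 2 * a ^ 2 + 2 * a + 1 := by
  classical
  have hpp : p.Prime := Fact.out
  obtain ⟨π, hπ, hfix, hsq⟩ := exists_pi hprim p hp2 hΩ h2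
  obtain ⟨χ₁, Y, hD⟩ := decomp_of_pi hprim p hp2 hΩ π hπ hfix h2
  have hpos : 0 < Fintype.card Ω := by
    rw [hΩ]
    have := hpp.pos
    omega
  obtain ⟨a₀⟩ := Fintype.card_pos_iff.mp hpos
  rcases Y_cases hprim p hp2 hΩ π hπ hsq hD with ⟨ψ, rfl, hψ⟩ | ⟨ψ, ψ', hne, rfl, h1, h2'⟩
  · obtain ⟨-, a, ha, hpa, -⟩ := rank_three_case hprim p hΩ π hD hψ a₀
    exact ⟨ψ, a, hD.irrY ψ (Finset.mem_singleton_self ψ), hψ, ha, hpa⟩
  · exfalso
    have hm : ψ ∈ ({ψ, ψ'} : Finset (G → ℂ)) := by simp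
    have hm' : ψ' ∈ ({ψ, ψ'} : Finset (G → ℂ)) := by simp
    have C : Ctx2 Ω p π χ₁ ψ ψ' :=
      { prim := hprim
        ord := hπ
        fpf := hfix
        irr₁ := hD.irr₁
        irrψ := hD.irrY ψ hm
        irrψ' := hD.irrY ψ' hm'
        ne₁ := hD.ne_one₁
        neψ := fun h => hD.one_notMem (h ▸ hm)
        neψ' := fun h => hD.one_notMem (h ▸ hm')
        ne₁ψ := fun h => hD.chi_notMem (h ▸ hm)
        ne₁ψ' := fun h => hD.chi_notMem (h ▸ hm')
        neψψ' := hne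
        deg₁ := hD.deg₁
        degψ := h1
        degψ' := h2'
        vanish₁ := hD.vanish₁
        c0ψ := hD.c0Y ψ hm
        c0ψ' := hD.c0Y ψ' hm'
        theta_eq := by
          rw [hD.theta_eq]
          funext g
          rw [Finset.sum_pair hne]
          ring }
    exact Asm.t2_false C hΩ hp2

/-- **Ito's theorem** (abstract form): a primitive, not doubly transitive group of degree `2p`
(`p > 3`) whose Sylow `p`-normalizer has order `2p` is `A₅` (and `p = 5`). -/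
theorem ito_main [FaithfulSMul G Ω] (hprim : MulAction.IsPreprimitive G Ω) (p : ℕ) [Fact p.Prime]
    (hp : 3 < p) (hΩ : Fintype.card Ω = 2 * p)
    (h2 : ¬ MulAction.IsMultiplyPretransitive G Ω 2) (P : Sylow p G)
    (hN : Nat.card (Subgroup.normalizer ((P : Subgroup G) : Set G)) = 2 * p) :
    p = 5 ∧ Nonempty (G ≃* alternatingGroup (Fin 5)) := by
  classical
  have hpp : p.Prime := Fact.out
  have hp2 : p ≠ 2 := by omega
  have hcard := card_sylow_eq p hp P hN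
  have hcent := centralizer_eq hprim p hp2 hΩ P hcard hN
  have hinv := exists_inverting p hp2 (P : Subgroup G) hcard hcent.le hN
  have hsimple := isSimpleGroup hprim p hp2 hΩ P hcard hcent hN
  obtain ⟨ψ, a, hψ, hψdeg, ha, hpa⟩ := exists_decomp3 hprim p hp2 hΩ h2
  obtain ⟨D⟩ := exists_b0data hp P hcard hcent hN hinv hψ hψdeg
  -- `p²` does not divide `|G|`
  have hG : ¬ p ^ 2 ∣ Nat.card G := by
    intro h
    have h1 := P.pow_dvd_card_of_pow_dvd_card h
    rw [hcard] at h1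
    have h3 : p ^ 2 ≤ p := Nat.le_of_dvd hpp.pos h1
    have h4 : p * 2 ≤ p * p := Nat.mul_le_mul_left p hpp.two_le
    have h5 : p ^ 2 = p * p := sq p
    have := hpp.pos
    omega
  -- an exceptional character
  have hYcard := D.cardY
  have hYne : D.Y.Nonempty := by
    rw [← Finset.card_pos]
    omega
  obtain ⟨ζ, hζ⟩ := hYne
  have hf : IsCharacter G (ζ : G → ℂ) := isCharacter_of_isIrrCharacter ζ.2
  have hdeg := D.degY ζ hζ
  have hFE : ∀ g : G, ¬ p ∣ orderOf g →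
      (ζ : G → ℂ) (g * g) = (ζ : G → ℂ) g ^ 2 - ((p : ℂ) - 3) * (ζ : G → ℂ) g :=
    fun g hg => func_eq D hp hcard hG hζ hg
  have hint : ∀ g : G, ¬ p ∣ orderOf g → ∃ n : ℤ, (ζ : G → ℂ) g = (n : ℂ) :=
    fun g hg => int_value D hp hcard hζ hg
  have hnormal : ∀ N : Subgroup G, N.Normal → N ≠ ⊥ → (P : Subgroup G) ≤ N :=
    fun N hN hne => le_of_normal hprim p hΩ P hcard N hN hne
  have hfaith : ∀ x : G, (ζ : G → ℂ) x = (ζ : G → ℂ) 1 → x = 1 :=
    fun x hx => eq_one_of_value D hp hcard hnormal hζ hx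
  have hodd : ∀ g : G, Odd (orderOf g) → ¬ p ∣ orderOf g → g ≠ 1 → (ζ : G → ℂ) g = 0 :=
    fun g ho hg hg1 => value_odd hp _ hdeg hFE hint hfaith ho hg hg1
  have hsyl : ∀ (q : ℕ) [Fact q.Prime], q ≠ 2 → q ≠ p → ∀ Q : Sylow q G,
      Nat.card (Q : Subgroup G) ∣ p - 2 :=
    fun q _ hq2 hqp Q => card_sylow_dvd hp hf hdeg hodd q hq2 hqp Q
  have hdvd : p - 1 ∣ Nat.card G := by
    have h := charDegree_dvd_card D.χa.2
    have h1 : (D.χa : G → ℂ) 1 = ((p - 1 : ℕ) : ℂ) := by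
      rw [D.degχa, Nat.cast_sub hpp.one_le, Nat.cast_one]
    rwa [charDegree_natCast (p - 1) h1] at h
  obtain ⟨s, hs⟩ := exists_pow_two hp hdvd hsyl
  have h5 : p = 5 := p_eq_five ha hpa hs
  refine ⟨h5, ?_⟩
  subst h5
  have hdeg3 : (ζ : G → ℂ) 1 = 3 := by rw [hdeg]; norm_num
  have hFE5 : ∀ g : G, ¬ 5 ∣ orderOf g →
      (ζ : G → ℂ) (g * g) = (ζ : G → ℂ) g ^ 2 - 2 * (ζ : G → ℂ) g := by
    intro g hg
    rw [hFE g hg]
    norm_num
  have h2syl : ∀ S : Sylow 2 G, Nat.card (S : Subgroup G) ∣ 8 :=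
    fun S => card_sylow_two_dvd hf hdeg3 hFE5 hint hfaith S
  have hnn : ¬ (P : Subgroup G).Normal := by
    intro hn
    rcases hn.eq_bot_or_eq_top with h | h
    · rw [h, Subgroup.card_bot] at hcard
      omega
    · rw [h] at hN hcard
      have h1 : Subgroup.normalizer (((⊤ : Subgroup G)) : Set G) = ⊤ :=
        Subgroup.normalizer_eq_top _
      rw [h1] at hN
      omega
  have h60 : Nat.card G = 60 :=
    card_eq_sixty P hcard (by rw [hN]) hnn h2syl (fun q _ hq2 hq5 Q => hsyl q hq2 hq5 Q)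
  exact Cfsg.Agent.S0494.result h60

end Cfsg.Agent.Helper16.ITO
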