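import Mathlib

set_option autoImplicit false

namespace Cfsg.Agent.Helper16

/-- If `S = B A` (as a product set) then the index of `A` in `S` is at most its relative index
in `B`. -/
theorem index_le_relIndex_of_mul {S : Type*} [Group S] [Finite S] (A B : Subgroup S)
    (h : ∀ s : S, ∃ b ∈ B, ∃ a ∈ A, s = b * a) : A.index ≤ A.relIndex B := by
  rw [Subgroup.index_eq_card, Subgroup.relIndex, Subgroup.index_eq_card]
  let g : B ⧸ A.subgroupOf B → S ⧸ A := Quotient.map' (fun b => (b : S)) (by
    intro x y hxy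
    rw [QuotientGroup.leftRel_apply] at hxy ⊢
    simpa [Subgroup.mem_subgroupOf] using hxy)
  apply Nat.card_le_card_of_surjective g
  intro q
  induction q using QuotientGroup.induction_on with
  | H s =>
    obtain ⟨b, hb, a, ha, rfl⟩ := h s
    refine ⟨QuotientGroup.mk ⟨b, hb⟩, ?_⟩
    show (QuotientGroup.mk b : S ⧸ A) = QuotientGroup.mk (b * a)
    rw [QuotientGroup.eq]
    simpa using ha

/-- If `S = B A` and `A ⊓ C ≤ B` then `|C| ≤ |B|`. -/
theorem card_le_of_inf_le {S : Type*} [Group S] [Finite S] (A B C : Subgroup S)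
    (h : ∀ s : S, ∃ b ∈ B, ∃ a ∈ A, s = b * a) (hCA : A ⊓ C ≤ B) :
    Nat.card C ≤ Nat.card B := by
  have h1 : Nat.card (A ⊓ C : Subgroup S) * A.relIndex C = Nat.card C := by
    rw [← Subgroup.relIndex_bot_left, ← Subgroup.inf_relIndex_right A C,
      Subgroup.relIndex_mul_relIndex _ _ _ bot_le inf_le_right, Subgroup.relIndex_bot_left]
  have h2 : Nat.card (A ⊓ B : Subgroup S) * A.relIndex B = Nat.card B := by
    rw [← Subgroup.relIndex_bot_left, ← Subgroup.inf_relIndex_right A B,
      Subgroup.relIndex_mul_relIndex _ _ _ bot_le inf_le_right, Subgroup.relIndex_bot_left]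
  have h3 : A.relIndex C ≤ A.index := by
    have := Subgroup.relIndex_le_of_le_right (H := A) (le_top : C ≤ ⊤)
      (by rw [Subgroup.relIndex_top_right]; exact Subgroup.index_ne_zero_of_finite)
    rwa [Subgroup.relIndex_top_right] at this
  have h4 := index_le_relIndex_of_mul A B h
  have h5 : Nat.card (A ⊓ C : Subgroup S) ≤ Nat.card (A ⊓ B : Subgroup S) :=
    Subgroup.card_le_of_le (le_inf inf_le_left hCA)
  calc Nat.card C = Nat.card (A ⊓ C : Subgroup S) * A.relIndex C := h1.symm
    _ ≤ Nat.card (A ⊓ B : Subgroup S) * A.relIndex B := Nat.mul_le_mul h5 (h3.trans h4)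
    _ = Nat.card B := h2

end Cfsg.Agent.Helper16
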