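import Mathlib
import Cfsg.Agent.Lib.Helper16.InvNRank

/-!
INVN part (D): ranks of `t - 1` on the adjoint module of type E6 in characteristic 2 (certificates generated by a
Gaussian elimination over GF(2), checked by `decide +kernel` through the verified sparse calculator).
-/

set_option autoImplicit false
set_option maxRecDepth 100000

namespace Cfsg.Agent.Helper16.RK

open Matrix Cfsg Cfsg.Lie Cfsg.Agent.Lead.Chev Cfsg.Agent.Helper13.InvN

/-- lower-bound certificate for `[71]` -/
def lbE6_1 : List (ℕ × List ℕ) :=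
  [(0, [1, 6]), (76, [31]), (75, [30]), (74, [29]), (73, [28]), (72, [27]), (71, [26]), (70, [25]), (69, [24]), (68, [23]), (67, [22]), (61, [16]), (60, [15]), (59, [14]), (58, [13]), (57, [12]), (56, [11]), (55, [10]), (54, [9]), (53, [8]), (52, [7]), (77, [1])]

theorem lbE6_1_ok : lbCheckVS chevE6 [71] (fun _ => true) (certOf chevE6 lbE6_1) = true := by decide +kernel

/-- upper-bound (kernel) certificate for `[71]` -/
def ubE6_1 : List (ℕ × List ℕ) :=
  [(0, [0]), (2, [2]), (3, [3]), (4, [4]), (5, [5]), (17, [17]), (18, [18]), (19, [19]), (20, [20]), (21, [21]), (32, [32]), (33, [33]), (34, [34]), (35, [35]), (36, [36]), (37, [37]), (38, [38]), (39, [39]), (40, [40]), (41, [41]), (42, [42]), (43, [43]), (44, [44]), (45, [45]), (46, [46]), (47, [47]), (48, [48]), (49, [49]), (50, [50]), (51, [51]), (52, [52]), (53, [53]), (54, [54]), (55, [55]), (56, [56]), (57, [57]), (58, [58]), (59, [59]), (60, [60]), (61, [61]), (62, [62]), (63, [63]), (64, [64]), (65, [65]), (66, [66]),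 (67, [67]), (68, [68]), (69, [69]), (70, [70]), (71, [71]), (72, [72]), (73, [73]), (74, [74]), (75, [75]), (76, [76]), (77, [77])]

theorem ubE6_1_ok : ubCheck chevE6 [71] (certOf chevE6 ubE6_1) = true := by decide +kernel

theorem rank_E6_1_ge {F : Type*} [Field F] [CharP F 2] (hF : ChevFacts chevE6 F) :
    22 ≤ (((xprod hF [71] : GL chevE6.Idx F) : Matrix chevE6.Idx chevE6.Idx F) - 1).rank := by
  have h1 := xprod_rank_geV hF [71] lbE6_1 lbE6_1_ok
  have e1 : lbE6_1.length = 22 := by decide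
  omega

theorem rank_E6_1_le {F : Type*} [Field F] [CharP F 2] (hF : ChevFacts chevE6 F) :
    (((xprod hF [71] : GL chevE6.Idx F) : Matrix chevE6.Idx chevE6.Idx F) - 1).rank ≤ 22 := by
  have h2 := xprod_rank_leV hF [71] ubE6_1 ubE6_1_ok
  have e2 : ubE6_1.length = 56 := by decide
  have e3 : chevE6.rank + chevE6.nroots = 78 := by decide
  omega

theorem rank_E6_1 {F : Type*} [Field F] [CharP F 2] (hF : ChevFacts chevE6 F) :
    (((xprod hF [71] : GL chevE6.Idx F) : Matrix chevE6.Idx chevE6.Idx F) - 1).rank = 22 :=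
  le_antisymm (rank_E6_1_le hF) (rank_E6_1_ge hF)

/-- lower-bound certificate for `[68, 66]` -/
def lbE6_2 : List (ℕ × List ℕ) :=
  [(2, [0, 5, 9, 11]), (0, [5, 9]), (54, [17, 54]), (46, [14, 46]), (43, [12, 43]), (35, [8, 35]), (34, [7, 34]), (27, [6, 27]), (77, [54]), (76, [46]), (75, [43]), (73, [41]), (70, [39]), (68, [36]), (71, [35]), (69, [34]), (67, [32]), (65, [28]), (66, [27]), (64, [25]), (63, [23]), (62, [22]), (61, [21]), (60, [20]), (58, [19]), (55, [18]), (51, [16]), (47, [15]), (44, [13]), (42, [10]), (74, [5]), (72, [0])]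

theorem lbE6_2_ok : lbCheckVS chevE6 [68, 66] (fun _ => true) (certOf chevE6 lbE6_2) = true := by decide +kernel

/-- upper-bound (kernel) certificate for `[68, 66]` -/
def ubE6_2 : List (ℕ × List ℕ) :=
  [(1, [1]), (3, [3]), (4, [2, 4]), (5, [0, 2, 5]), (24, [24]), (26, [26]), (29, [27, 29]), (30, [30]), (31, [31]), (33, [33]), (37, [34, 37]), (38, [38]), (40, [35, 40]), (42, [42]), (44, [44]), (45, [45]), (47, [47]), (48, [43, 48]), (49, [46, 49]), (50, [50]), (51, [51]), (52, [52]), (53, [53]), (55, [55]), (56, [54, 56]), (57, [57]), (58, [58]), (59, [59]), (60, [60]), (61, [61]), (62, [62]), (63, [63]), (64, [64]), (65, [65]), (66, [66]), (67, [67]), (68, [68]), (69, [69]), (70, [70]), (71, [71]), (72, [72]), (73, [73]), (74, [74]), (75, [75]), (76, [76]), (77, [77])]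

theorem ubE6_2_ok : ubCheck chevE6 [68, 66] (certOf chevE6 ubE6_2) = true := by decide +kernel

theorem rank_E6_2_ge {F : Type*} [Field F] [CharP F 2] (hF : ChevFacts chevE6 F) :
    32 ≤ (((xprod hF [68, 66] : GL chevE6.Idx F) : Matrix chevE6.Idx chevE6.Idx F) - 1).rank := by
  have h1 := xprod_rank_geV hF [68, 66] lbE6_2 lbE6_2_ok
  have e1 : lbE6_2.length = 32 := by decide
  omega

theorem rank_E6_2_le {F : Type*} [Field F] [CharP F 2] (hF : ChevFacts chevE6 F) :
    (((xprod hF [68, 66] : GL chevE6.Idx F) : Matrix chevE6.Idx chevE6.Idx F) - 1).rank ≤ 32 := by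
  have h2 := xprod_rank_leV hF [68, 66] ubE6_2 ubE6_2_ok
  have e2 : ubE6_2.length = 46 := by decide
  have e3 : chevE6.rank + chevE6.nroots = 78 := by decide
  omega

theorem rank_E6_2 {F : Type*} [Field F] [CharP F 2] (hF : ChevFacts chevE6 F) :
    (((xprod hF [68, 66] : GL chevE6.Idx F) : Matrix chevE6.Idx chevE6.Idx F) - 1).rank = 32 :=
  le_antisymm (rank_E6_2_le hF) (rank_E6_2_ge hF)

/-- lower-bound certificate for `[55, 65, 67]` -/
def lbE6_3 : List (ℕ × List ℕ) :=
  [(19, [7, 19]), (16, [6, 16]), (2, [2, 10, 12]), (1, [0, 3, 22]), (0, [2, 3, 10]), (57, [19, 33]), (50, [16, 26]), (44, [24, 44]), (43, [23, 43]), (55, [19, 55]), (47, [16, 47]), (42, [13, 42]), (21, [11, 21]), (35, [9, 35]), (20, [8, 20]), (73, [2, 3]), (61, [0, 3]), (77, [55]), (76, [47]), (75, [44]), (72, [43]), (74, [42]), (69, [38]), (58, [37]), (70, [35]), (68, [34]), (54, [32]), (66, [30]), (51, [29]), (65, [27]), (46, [25]), (60, [21]), (59, [20]), (56, [18]), (53, [17]), (49, [15]), (45, [14]),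 (71, [3])]

theorem lbE6_3_ok : lbCheckVS chevE6 [55, 65, 67] (fun _ => true) (certOf chevE6 lbE6_3) = true := by decide +kernel

/-- upper-bound (kernel) certificate for `[55, 65, 67]` -/
def ubE6_3 : List (ℕ × List ℕ) :=
  [(1, [1]), (4, [0, 4]), (5, [2, 5]), (31, [31]), (39, [20, 39]), (40, [21, 40]), (41, [35, 41]), (45, [45]), (46, [46]), (47, [16, 26, 28, 47]), (48, [42, 48]), (49, [49]), (50, [16, 26, 28, 50]), (51, [51]), (52, [52]), (53, [53]), (54, [54]), (55, [19, 33, 36, 55]), (56, [56]), (57, [19, 33, 36, 57]), (58, [58]), (59, [59]), (60, [60]), (61, [61]), (62, [43, 62]), (63, [44, 63]), (64, [16, 26, 28, 64]), (65, [65]), (66, [66]), (67, [19, 33, 36, 67]), (68, [68]), (69, [69]), (70, [70]), (71, [71]), (72, [72]), (73, [73]), (74, [74]), (75, [75]), (76, [76]), (77, [77])]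

theorem ubE6_3_ok : ubCheck chevE6 [55, 65, 67] (certOf chevE6 ubE6_3) = true := by decide +kernel

theorem rank_E6_3_ge {F : Type*} [Field F] [CharP F 2] (hF : ChevFacts chevE6 F) :
    38 ≤ (((xprod hF [55, 65, 67] : GL chevE6.Idx F) : Matrix chevE6.Idx chevE6.Idx F) - 1).rank := by
  have h1 := xprod_rank_geV hF [55, 65, 67] lbE6_3 lbE6_3_ok
  have e1 : lbE6_3.length = 38 := by decide
  omega

theorem rank_E6_3_le {F : Type*} [Field F] [CharP F 2] (hF : ChevFacts chevE6 F) :
    (((xprod hF [55, 65, 67] : GL chevE6.Idx F) : Matrix chevE6.Idx chevE6.Idx F) - 1).rank ≤ 38 := by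
  have h2 := xprod_rank_leV hF [55, 65, 67] ubE6_3 ubE6_3_ok
  have e2 : ubE6_3.length = 40 := by decide
  have e3 : chevE6.rank + chevE6.nroots = 78 := by decide
  omega

theorem rank_E6_3 {F : Type*} [Field F] [CharP F 2] (hF : ChevFacts chevE6 F) :
    (((xprod hF [55, 65, 67] : GL chevE6.Idx F) : Matrix chevE6.Idx chevE6.Idx F) - 1).rank = 38 :=
  le_antisymm (rank_E6_3_le hF) (rank_E6_3_ge hF)

end Cfsg.Agent.Helper16.RK
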