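import Mathlib
import Cfsg.Agent.Lib.Helper16.InvNRank

/-!
INVN part (D): ranks of `t - 1` on the adjoint module of type E6 in characteristic 2 (certificates generated by a
Gaussian elimination over GF(2), checked by `decide +kernel` through the verified sparse calculator).
-/

set_option autoImplicit false
set_option maxRecDepth 100000

namespace Cfsg.Agent.Helper16.RK

open Matrix Cfsg Cfsg.Lie Cfsg.Agent.Lead.Chev Cfsg.Agent.Helper13.InvN

/-- lower-bound certificate for `[71, 60]` -/
def lbE6_71_60 : List (ℕ × List ℕ) :=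
  [(2, [1, 6, 17]), (0, [0, 1, 6]), (31, [14, 31]), (30, [12, 30]), (29, [11, 29]), (27, [9, 27]), (26, [8, 26]), (24, [7, 24]), (77, [0, 1]), (65, [41]), (64, [39]), (63, [36]), (62, [32]), (76, [31]), (75, [30]), (74, [29]), (73, [28]), (72, [27]), (71, [26]), (70, [25]), (69, [24]), (68, [23]), (67, [22]), (51, [21]), (47, [20]), (44, [19]), (42, [18]), (61, [16]), (60, [15]), (58, [13]), (55, [10]), (66, [0])]

theorem lbE6_71_60_ok : lbCheckVS chevE6 [71, 60] (fun _ => true) (certOf chevE6 lbE6_71_60) = true := by decide +kernel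

/-- upper-bound (kernel) certificate for `[71, 60]` -/
def ubE6_71_60 : List (ℕ × List ℕ) :=
  [(2, [2]), (3, [3]), (4, [4]), (5, [0, 5]), (33, [33]), (34, [34]), (35, [35]), (37, [37]), (38, [38]), (40, [40]), (42, [42]), (43, [43]), (44, [44]), (45, [45]), (46, [46]), (47, [47]), (48, [48]), (49, [49]), (50, [50]), (51, [51]), (52, [24, 52]), (53, [26, 53]), (54, [27, 54]), (55, [55]), (56, [29, 56]), (57, [30, 57]), (58, [58]), (59, [31, 59]), (60, [60]), (61, [61]), (62, [62]), (63, [63]), (64, [64]), (65, [65]), (66, [66]), (67, [67]), (68, [68]), (69, [69]), (70, [70]), (71, [71]), (72, [72]), (73, [73]), (74, [74]), (75, [75]), (76, [76]), (77, [77])]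

theorem ubE6_71_60_ok : ubCheck chevE6 [71, 60] (certOf chevE6 ubE6_71_60) = true := by decide +kernel

theorem rank_E6_71_60_ge {F : Type*} [Field F] [CharP F 2] (hF : ChevFacts chevE6 F) :
    32 ≤ (((xprod hF [71, 60] : GL chevE6.Idx F) : Matrix chevE6.Idx chevE6.Idx F) - 1).rank := by
  have h1 := xprod_rank_geV hF [71, 60] lbE6_71_60 lbE6_71_60_ok
  have e1 : lbE6_71_60.length = 32 := by decide
  omega

theorem rank_E6_71_60_le {F : Type*} [Field F] [CharP F 2] (hF : ChevFacts chevE6 F) :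
    (((xprod hF [71, 60] : GL chevE6.Idx F) : Matrix chevE6.Idx chevE6.Idx F) - 1).rank ≤ 32 := by
  have h2 := xprod_rank_leV hF [71, 60] ubE6_71_60 ubE6_71_60_ok
  have e2 : ubE6_71_60.length = 46 := by decide
  have e3 : chevE6.rank + chevE6.nroots = 78 := by decide
  omega

theorem rank_E6_71_60 {F : Type*} [Field F] [CharP F 2] (hF : ChevFacts chevE6 F) :
    (((xprod hF [71, 60] : GL chevE6.Idx F) : Matrix chevE6.Idx chevE6.Idx F) - 1).rank = 32 :=
  le_antisymm (rank_E6_71_60_le hF) (rank_E6_71_60_ge hF)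

/-- lower-bound certificate for `[71, 60, 44]` -/
def lbE6_71_60_44 : List (ℕ × List ℕ) :=
  [(14, [8, 14]), (12, [7, 12]), (3, [1, 6, 17, 33]), (2, [2, 33]), (0, [0, 1, 6]), (41, [32, 41]), (59, [14, 26]), (57, [12, 24]), (28, [22, 28]), (21, [18, 21]), (31, [14, 31]), (30, [12, 30]), (29, [11, 29]), (16, [10, 16]), (27, [9, 27]), (77, [0, 1]), (66, [0, 2]), (65, [41]), (49, [40]), (64, [39]), (48, [37]), (63, [36]), (46, [35]), (43, [34]), (76, [31]), (75, [30]), (74, [29]), (73, [28]), (72, [27]), (70, [25]), (68, [23]), (51, [21]), (47, [20]), (44, [19]), (61, [16]), (60, [15]), (58, [13]), (50, [2])]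

theorem lbE6_71_60_44_ok : lbCheckVS chevE6 [71, 60, 44] (fun _ => true) (certOf chevE6 lbE6_71_60_44) = true := by decide +kernel

/-- upper-bound (kernel) certificate for `[71, 60, 44]` -/
def ubE6_71_60_44 : List (ℕ × List ℕ) :=
  [(3, [3]), (4, [2, 4]), (5, [0, 5]), (38, [38]), (42, [21, 42]), (43, [43]), (44, [44]), (45, [45]), (46, [46]), (47, [47]), (48, [48]), (49, [49]), (50, [50]), (51, [51]), (52, [12, 24, 30, 52]), (53, [14, 26, 31, 53]), (54, [27, 54]), (55, [16, 55]), (56, [29, 56]), (57, [30, 57]), (58, [58]), (59, [31, 59]), (60, [60]), (61, [61]), (62, [41, 62]), (63, [63]), (64, [64]), (65, [65]), (66, [66]), (67, [28, 67]), (68, [68]), (69, [30, 69]), (70, [70]), (71, [31, 71]), (72, [72]), (73, [73]), (74, [74]), (75, [75]), (76, [76]), (77, [77])]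

theorem ubE6_71_60_44_ok : ubCheck chevE6 [71, 60, 44] (certOf chevE6 ubE6_71_60_44) = true := by decide +kernel

theorem rank_E6_71_60_44_ge {F : Type*} [Field F] [CharP F 2] (hF : ChevFacts chevE6 F) :
    38 ≤ (((xprod hF [71, 60, 44] : GL chevE6.Idx F) : Matrix chevE6.Idx chevE6.Idx F) - 1).rank := by
  have h1 := xprod_rank_geV hF [71, 60, 44] lbE6_71_60_44 lbE6_71_60_44_ok
  have e1 : lbE6_71_60_44.length = 38 := by decide
  omega

theorem rank_E6_71_60_44_le {F : Type*} [Field F] [CharP F 2] (hF : ChevFacts chevE6 F) :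
    (((xprod hF [71, 60, 44] : GL chevE6.Idx F) : Matrix chevE6.Idx chevE6.Idx F) - 1).rank ≤ 38 := by
  have h2 := xprod_rank_leV hF [71, 60, 44] ubE6_71_60_44 ubE6_71_60_44_ok
  have e2 : ubE6_71_60_44.length = 40 := by decide
  have e3 : chevE6.rank + chevE6.nroots = 78 := by decide
  omega

theorem rank_E6_71_60_44 {F : Type*} [Field F] [CharP F 2] (hF : ChevFacts chevE6 F) :
    (((xprod hF [71, 60, 44] : GL chevE6.Idx F) : Matrix chevE6.Idx chevE6.Idx F) - 1).rank = 38 :=
  le_antisymm (rank_E6_71_60_44_le hF) (rank_E6_71_60_44_ge hF)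

end Cfsg.Agent.Helper16.RK
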