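import Mathlib
import Cfsg.Agent.Lib.Helper16.InvNRank

/-!
INVN part (D): ranks of `t - 1` on the adjoint module of type E7 in characteristic 2 (certificates generated by a
Gaussian elimination over GF(2), checked by `decide +kernel` through the verified sparse calculator).
-/

set_option autoImplicit false
set_option maxRecDepth 100000

namespace Cfsg.Agent.Helper16.RK

open Matrix Cfsg Cfsg.Lie Cfsg.Agent.Lead.Chev Cfsg.Agent.Helper13.InvN

/-- lower-bound certificate for `[63]` -/
def lbE7_1 : List (ℕ × List ℕ) :=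
  [(6, [5, 69]), (127, [126]), (123, [122]), (120, [119]), (118, [117]), (114, [113]), (112, [111]), (109, [108]), (105, [104]), (98, [97]), (96, [95]), (93, [92]), (89, [88]), (84, [83]), (79, [78]), (75, [74]), (72, [71]), (68, [67]), (65, [64]), (61, [60]), (56, [55]), (51, [50]), (47, [46]), (44, [43]), (42, [41]), (35, [34]), (31, [30]), (28, [27]), (26, [25]), (22, [21]), (20, [19]), (17, [16]), (13, [12]), (70, [5])]

theorem lbE7_1_ok : lbCheckVS chevE7 [63] (fun _ => true) (certOf chevE7 lbE7_1) = true := by decide +kernel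

/-- upper-bound (kernel) certificate for `[63]` -/
def ubE7_1 : List (ℕ × List ℕ) :=
  [(0, [0]), (1, [1]), (2, [2]), (3, [3]), (4, [4]), (6, [6]), (7, [7]), (8, [8]), (9, [9]), (10, [10]), (11, [11]), (13, [13]), (14, [14]), (15, [15]), (17, [17]), (18, [18]), (20, [20]), (22, [22]), (23, [23]), (24, [24]), (26, [26]), (28, [28]), (29, [29]), (31, [31]), (32, [32]), (33, [33]), (35, [35]), (36, [36]), (37, [37]), (38, [38]), (39, [39]), (40, [40]), (42, [42]), (44, [44]), (45, [45]), (47, [47]), (48, [48]), (49, [49]), (51, [51]), (52, [52]), (53, [53]), (54, [54]), (56, [56]), (57, [57]), (58, [58]), (59, [59]), (61, [61]), (62, [62]), (63, [63]), (65, [65]), (66, [66]), (68, [68]), (70, [70]), (72, [72]), (73, [73]), (75, [75]), (76, [76]), (77, [77]), (79, [79]), (80, [80]), (81, [81]), (82, [82]), (84, [84]), (85, [85]), (86, [86]), (87, [87]), (89, [89]), (90, [90]), (91, [91]), (93, [93]), (94, [94]), (96, [96]), (98, [98]), (99, [99]), (100, [100]), (101, [101]), (102, [102]), (103, [103]),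 (105, [105]), (106, [106]), (107, [107]), (109, [109]), (110, [110]), (112, [112]), (114, [114]), (115, [115]), (116, [116]), (118, [118]), (120, [120]), (121, [121]), (123, [123]), (124, [124]), (125, [125]), (127, [127]), (128, [128]), (129, [129]), (130, [130]), (131, [131]), (132, [132])]

theorem ubE7_1_ok : ubCheck chevE7 [63] (certOf chevE7 ubE7_1) = true := by decide +kernel

theorem rank_E7_1_ge {F : Type*} [Field F] [CharP F 2] (hF : ChevFacts chevE7 F) :
    34 ≤ (((xprod hF [63] : GL chevE7.Idx F) : Matrix chevE7.Idx chevE7.Idx F) - 1).rank := by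
  have h1 := xprod_rank_geV hF [63] lbE7_1 lbE7_1_ok
  have e1 : lbE7_1.length = 34 := by decide
  omega

theorem rank_E7_1_le {F : Type*} [Field F] [CharP F 2] (hF : ChevFacts chevE7 F) :
    (((xprod hF [63] : GL chevE7.Idx F) : Matrix chevE7.Idx chevE7.Idx F) - 1).rank ≤ 34 := by
  have h2 := xprod_rank_leV hF [63] ubE7_1 ubE7_1_ok
  have e2 : ubE7_1.length = 99 := by decide
  have e3 : chevE7.rank + chevE7.nroots = 133 := by decide
  omega

theorem rank_E7_1 {F : Type*} [Field F] [CharP F 2] (hF : ChevFacts chevE7 F) :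
    (((xprod hF [63] : GL chevE7.Idx F) : Matrix chevE7.Idx chevE7.Idx F) - 1).rank = 34 :=
  le_antisymm (rank_E7_1_le hF) (rank_E7_1_ge hF)

/-- lower-bound certificate for `[63, 66]` -/
def lbE7_2 : List (ℕ × List ℕ) :=
  [(118, [117, 118]), (112, [111, 112]), (96, [95, 96]), (72, [71, 72]), (65, [64, 65]), (42, [41, 42]), (26, [25, 26]), (20, [19, 20]), (6, [3, 5, 69]), (4, [3, 66]), (70, [3, 5]), (129, [128]), (127, [126]), (125, [124]), (123, [122]), (120, [118]), (114, [112]), (109, [108]), (107, [106]), (105, [104]), (103, [102]), (98, [96]), (93, [92]), (91, [90]), (89, [88]), (87, [86]), (84, [83]), (82, [81]), (79, [78]), (77, [76]), (75, [72]), (68, [65]), (63, [62]), (61, [60]), (58, [57]), (56, [55]), (53, [52]), (51, [50]), (49, [48]), (47, [46]), (44, [42]), (37, [36]), (35, [34]), (33, [32]), (31, [30]), (28, [26]), (22, [20]), (17, [16]), (15, [14]), (13, [12]), (11, [10]), (73, [3])]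

theorem lbE7_2_ok : lbCheckVS chevE7 [63, 66] (fun _ => true) (certOf chevE7 lbE7_2) = true := by decide +kernel

/-- upper-bound (kernel) certificate for `[63, 66]` -/
def ubE7_2 : List (ℕ × List ℕ) :=
  [(0, [0]), (1, [1]), (2, [2]), (4, [4]), (6, [6]), (7, [7]), (8, [8]), (9, [9]), (11, [11]), (13, [13]), (15, [15]), (17, [17]), (18, [18]), (21, [20, 21]), (22, [22]), (23, [23]), (24, [24]), (27, [26, 27]), (28, [28]), (29, [29]), (31, [31]), (33, [33]), (35, [35]), (37, [37]), (38, [38]), (39, [39]), (40, [40]), (43, [42, 43]), (44, [44]), (45, [45]), (47, [47]), (49, [49]), (51, [51]), (53, [53]), (54, [54]), (56, [56]), (58, [58]), (59, [59]), (61, [61]), (63, [63]), (67, [65, 67]), (68, [68]), (70, [70]), (73, [73]), (74, [72, 74]), (75, [75]), (77, [77]), (79, [79]), (80, [80]), (82, [82]), (84, [84]), (85, [85]), (87, [87]), (89, [89]), (91, [91]), (93, [93]), (94, [94]), (97, [96, 97]), (98, [98]), (99, [99]), (100, [100]), (101, [101]), (103, [103]), (105, [105]), (107, [107]), (109,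 [109]), (110, [110]), (113, [112, 113]), (114, [114]), (115, [115]), (116, [116]), (119, [118, 119]), (120, [120]), (121, [121]), (123, [123]), (125, [125]), (127, [127]), (129, [129]), (130, [130]), (131, [131]), (132, [132])]

theorem ubE7_2_ok : ubCheck chevE7 [63, 66] (certOf chevE7 ubE7_2) = true := by decide +kernel

theorem rank_E7_2_ge {F : Type*} [Field F] [CharP F 2] (hF : ChevFacts chevE7 F) :
    52 ≤ (((xprod hF [63, 66] : GL chevE7.Idx F) : Matrix chevE7.Idx chevE7.Idx F) - 1).rank := by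
  have h1 := xprod_rank_geV hF [63, 66] lbE7_2 lbE7_2_ok
  have e1 : lbE7_2.length = 52 := by decide
  omega

theorem rank_E7_2_le {F : Type*} [Field F] [CharP F 2] (hF : ChevFacts chevE7 F) :
    (((xprod hF [63, 66] : GL chevE7.Idx F) : Matrix chevE7.Idx chevE7.Idx F) - 1).rank ≤ 52 := by
  have h2 := xprod_rank_leV hF [63, 66] ubE7_2 ubE7_2_ok
  have e2 : ubE7_2.length = 81 := by decide
  have e3 : chevE7.rank + chevE7.nroots = 133 := by decide
  omega

theorem rank_E7_2 {F : Type*} [Field F] [CharP F 2] (hF : ChevFacts chevE7 F) :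
    (((xprod hF [63, 66] : GL chevE7.Idx F) : Matrix chevE7.Idx chevE7.Idx F) - 1).rank = 52 :=
  le_antisymm (rank_E7_2_le hF) (rank_E7_2_ge hF)

/-- lower-bound certificate for `[63, 66, 78]` -/
def lbE7_3 : List (ℕ × List ℕ) :=
  [(125, [124, 125]), (123, [122, 123]), (118, [117, 118]), (112, [111, 112]), (105, [104, 105]), (103, [102, 103]), (96, [95, 96]), (84, [83, 84]), (82, [81, 82]), (79, [78, 79]), (77, [76, 77]), (72, [71, 72]), (65, [64, 65]), (53, [52, 53]), (51, [50, 51]), (49, [48, 49]), (47, [46, 47]), (42, [41, 42]), (33, [32, 33]), (31, [30, 31]), (26, [25, 26]), (20, [19, 20]), (13, [12, 13]), (11, [10, 11]), (6, [3, 5, 69]), (4, [3, 66]), (1, [54]), (70, [3, 5]), (73, [3]), (129, [125]), (127, [123]), (120, [118]), (114, [112]), (109, [105]), (107, [103]), (98, [96]), (93, [84]), (91, [82]), (89, [79]), (87, [77]), (75, [72]), (68, [65]), (63, [53]), (61, [51]), (58, [49]), (56, [47]), (44, [42]), (37, [33]), (35, [31]), (28, [26]), (22, [20]), (17, [13]), (15, [11])]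

theorem lbE7_3_ok : lbCheckVS chevE7 [63, 66, 78] (fun _ => true) (certOf chevE7 lbE7_3) = true := by decide +kernel

/-- upper-bound (kernel) certificate for `[63, 66, 78]` -/
def ubE7_3 : List (ℕ × List ℕ) :=
  [(0, [0]), (1, [1]), (2, [2]), (4, [4]), (6, [6]), (7, [7]), (8, [8]), (9, [9]), (14, [11, 14]), (15, [15]), (16, [13, 16]), (17, [17]), (18, [18]), (21, [20, 21]), (22, [22]), (23, [23]), (24, [24]), (27, [26, 27]), (28, [28]), (29, [29]), (34, [31, 34]), (35, [35]), (36, [33, 36]), (37, [37]), (38, [38]), (39, [39]), (40, [40]), (43, [42, 43]), (44, [44]), (45, [45]), (55, [47, 55]), (56, [56]), (57, [49, 57]), (58, [58]), (59, [59]), (60, [51, 60]), (61, [61]), (62, [53, 62]), (63, [63]), (67, [65, 67]), (68, [68]), (70, [70]), (73, [73]), (74, [72, 74]), (75, [75]), (80, [80]), (85, [85]), (86, [77, 86]), (87, [87]), (88, [79, 88]), (89, [89]), (90, [82, 90]), (91, [91]), (92, [84, 92]), (93, [93]), (94, [94]), (97, [96, 97]), (98, [98]), (99, [99]), (100, [100]), (101, [101]), (106,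 [103, 106]), (107, [107]), (108, [105, 108]), (109, [109]), (110, [110]), (113, [112, 113]), (114, [114]), (115, [115]), (116, [116]), (119, [118, 119]), (120, [120]), (121, [121]), (126, [123, 126]), (127, [127]), (128, [125, 128]), (129, [129]), (130, [130]), (131, [131]), (132, [132])]

theorem ubE7_3_ok : ubCheck chevE7 [63, 66, 78] (certOf chevE7 ubE7_3) = true := by decide +kernel

theorem rank_E7_3_ge {F : Type*} [Field F] [CharP F 2] (hF : ChevFacts chevE7 F) :
    53 ≤ (((xprod hF [63, 66, 78] : GL chevE7.Idx F) : Matrix chevE7.Idx chevE7.Idx F) - 1).rank := by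
  have h1 := xprod_rank_geV hF [63, 66, 78] lbE7_3 lbE7_3_ok
  have e1 : lbE7_3.length = 53 := by decide
  omega

theorem rank_E7_3_le {F : Type*} [Field F] [CharP F 2] (hF : ChevFacts chevE7 F) :
    (((xprod hF [63, 66, 78] : GL chevE7.Idx F) : Matrix chevE7.Idx chevE7.Idx F) - 1).rank ≤ 53 := by
  have h2 := xprod_rank_leV hF [63, 66, 78] ubE7_3 ubE7_3_ok
  have e2 : ubE7_3.length = 80 := by decide
  have e3 : chevE7.rank + chevE7.nroots = 133 := by decide
  omega

theorem rank_E7_3 {F : Type*} [Field F] [CharP F 2] (hF : ChevFacts chevE7 F) :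
    (((xprod hF [63, 66, 78] : GL chevE7.Idx F) : Matrix chevE7.Idx chevE7.Idx F) - 1).rank = 53 :=
  le_antisymm (rank_E7_3_le hF) (rank_E7_3_ge hF)

/-- lower-bound certificate for `[78, 73, 66]` -/
def lbE7_4 : List (ℕ × List ℕ) :=
  [(77, [76, 77]), (49, [48, 49]), (125, [124, 125]), (114, [112, 114]), (113, [111, 113]), (103, [102, 103]), (87, [77, 81]), (84, [79, 84]), (83, [78, 83]), (82, [77, 82]), (58, [49, 52]), (53, [49, 53]), (51, [47, 51]), (50, [46, 50]), (33, [32, 33]), (22, [20, 22]), (21, [19, 21]), (11, [10, 11]), (85, [0, 3, 5]), (4, [5, 66]), (2, [0, 59]), (1, [54]), (131, [130]), (129, [125]), (127, [123]), (126, [122]), (121, [115]), (120, [114]), (119, [113]), (116, [110]), (109, [105]), (108, [104]), (107, [103]), (101, [100]), (98, [96]), (97, [95]), (93, [84]), (92, [83]), (91, [82]), (75, [72]), (74, [71]), (68, [65]), (67, [64]), (63, [53]), (61, [51]), (60, [50]), (44, [42]), (43, [41]), (39, [38]), (37, [33]), (35, [31]), (34, [30]), (29, [23]), (28, [22]), (27, [21]),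 (24, [18]), (17, [13]), (16, [12]), (15, [11]), (9, [8]), (73, [5]), (80, [0])]

theorem lbE7_4_ok : lbCheckVS chevE7 [78, 73, 66] (fun _ => true) (certOf chevE7 lbE7_4) = true := by decide +kernel

/-- upper-bound (kernel) certificate for `[78, 73, 66]` -/
def ubE7_4 : List (ℕ × List ℕ) :=
  [(1, [1]), (2, [2]), (4, [4]), (6, [6]), (7, [7]), (9, [9]), (14, [11, 14]), (15, [15]), (16, [16]), (17, [17]), (24, [24]), (25, [21, 25]), (26, [22, 26]), (27, [27]), (28, [28]), (29, [29]), (34, [34]), (35, [35]), (36, [33, 36]), (37, [37]), (39, [39]), (40, [40]), (43, [43]), (44, [44]), (45, [45]), (55, [50, 55]), (56, [51, 56]), (57, [49, 52, 53, 57]), (58, [53, 58]), (60, [60]), (61, [61]), (62, [53, 62]), (63, [63]), (67, [67]), (68, [68]), (69, [69]), (70, [70]), (73, [73]), (74, [74]), (75, [75]), (80, [80]), (85, [85]), (86, [77, 81, 82, 86]), (87, [82, 87]), (88, [83, 88]), (89, [84, 89]), (90, [82, 90]), (91, [91]), (92, [92]), (93, [93]), (94, [94]), (97, [97]), (98, [98]), (99, [99]), (101, [101]),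 (106, [103, 106]), (107, [107]), (108, [108]), (109, [109]), (116, [116]), (117, [113, 117]), (118, [114, 118]), (119, [119]), (120, [120]), (121, [121]), (126, [126]), (127, [127]), (128, [125, 128]), (129, [129]), (131, [131]), (132, [132])]

theorem ubE7_4_ok : ubCheck chevE7 [78, 73, 66] (certOf chevE7 ubE7_4) = true := by decide +kernel

theorem rank_E7_4_ge {F : Type*} [Field F] [CharP F 2] (hF : ChevFacts chevE7 F) :
    62 ≤ (((xprod hF [78, 73, 66] : GL chevE7.Idx F) : Matrix chevE7.Idx chevE7.Idx F) - 1).rank := by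
  have h1 := xprod_rank_geV hF [78, 73, 66] lbE7_4 lbE7_4_ok
  have e1 : lbE7_4.length = 62 := by decide
  omega

theorem rank_E7_4_le {F : Type*} [Field F] [CharP F 2] (hF : ChevFacts chevE7 F) :
    (((xprod hF [78, 73, 66] : GL chevE7.Idx F) : Matrix chevE7.Idx chevE7.Idx F) - 1).rank ≤ 62 := by
  have h2 := xprod_rank_leV hF [78, 73, 66] ubE7_4 ubE7_4_ok
  have e2 : ubE7_4.length = 71 := by decide
  have e3 : chevE7.rank + chevE7.nroots = 133 := by decide
  omega

theorem rank_E7_4 {F : Type*} [Field F] [CharP F 2] (hF : ChevFacts chevE7 F) :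
    (((xprod hF [78, 73, 66] : GL chevE7.Idx F) : Matrix chevE7.Idx chevE7.Idx F) - 1).rank = 62 :=
  le_antisymm (rank_E7_4_le hF) (rank_E7_4_ge hF)

/-- lower-bound certificate for `[63, 66, 78, 73]` -/
def lbE7_5 : List (ℕ × List ℕ) :=
  [(112, [111, 112]), (79, [78, 79]), (77, [76, 77]), (49, [48, 49]), (47, [46, 47]), (20, [19, 20]), (125, [124, 125]), (123, [122, 123]), (118, [112, 113]), (114, [112, 114]), (105, [104, 105]), (103, [102, 103]), (96, [95, 96]), (89, [79, 83]), (87, [77, 81]), (84, [79, 84]), (82, [77, 82]), (72, [71, 72]), (65, [64, 65]), (58, [49, 52]), (56, [47, 50]), (53, [49, 53]), (51, [47, 51]), (42, [41, 42]), (33, [32, 33]), (31, [30, 31]), (26, [20, 21]), (22, [20, 22]), (13, [12, 13]), (11, [10, 11]), (73, [0, 3]), (6, [5, 69]), (4, [66]), (2, [0, 59]), (1, [54]), (70, [5]), (131, [130]), (129, [125]), (127, [123]), (121, [115]), (120, [114]), (116, [110]), (109, [105]), (107, [103]), (101, [100]), (98, [96]), (93, [84]), (91, [82]), (75, [72]), (68, [65]), (63, [53]),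 (61, [51]), (44, [42]), (39, [38]), (37, [33]), (35, [31]), (29, [23]), (28, [22]), (24, [18]), (17, [13]), (15, [11]), (9, [8]), (80, [0])]

theorem lbE7_5_ok : lbCheckVS chevE7 [63, 66, 78, 73] (fun _ => true) (certOf chevE7 lbE7_5) = true := by decide +kernel

/-- upper-bound (kernel) certificate for `[63, 66, 78, 73]` -/
def ubE7_5 : List (ℕ × List ℕ) :=
  [(1, [1]), (2, [2]), (4, [4]), (6, [6]), (7, [7]), (9, [9]), (14, [11, 14]), (15, [15]), (16, [13, 16]), (17, [17]), (24, [24]), (25, [20, 21, 22, 25]), (26, [22, 26]), (27, [22, 27]), (28, [28]), (29, [29]), (34, [31, 34]), (35, [35]), (36, [33, 36]), (37, [37]), (39, [39]), (40, [40]), (43, [42, 43]), (44, [44]), (45, [45]), (55, [47, 50, 51, 55]), (56, [51, 56]), (57, [49, 52, 53, 57]), (58, [53, 58]), (60, [51, 60]), (61, [61]), (62, [53, 62]), (63, [63]), (67, [65, 67]), (68, [68]), (70, [70]), (73, [73]), (74, [72, 74]), (75, [75]), (80, [80]), (85, [85]), (86, [77, 81, 82, 86]), (87, [82, 87]), (88, [79, 83, 84, 88]), (89, [84, 89]),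 (90, [82, 90]), (91, [91]), (92, [84, 92]), (93, [93]), (94, [94]), (97, [96, 97]), (98, [98]), (99, [99]), (101, [101]), (106, [103, 106]), (107, [107]), (108, [105, 108]), (109, [109]), (116, [116]), (117, [112, 113, 114, 117]), (118, [114, 118]), (119, [114, 119]), (120, [120]), (121, [121]), (126, [123, 126]), (127, [127]), (128, [125, 128]), (129, [129]), (131, [131]), (132, [132])]

theorem ubE7_5_ok : ubCheck chevE7 [63, 66, 78, 73] (certOf chevE7 ubE7_5) = true := by decide +kernel

theorem rank_E7_5_ge {F : Type*} [Field F] [CharP F 2] (hF : ChevFacts chevE7 F) :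
    63 ≤ (((xprod hF [63, 66, 78, 73] : GL chevE7.Idx F) : Matrix chevE7.Idx chevE7.Idx F) - 1).rank := by
  have h1 := xprod_rank_geV hF [63, 66, 78, 73] lbE7_5 lbE7_5_ok
  have e1 : lbE7_5.length = 63 := by decide
  omega

theorem rank_E7_5_le {F : Type*} [Field F] [CharP F 2] (hF : ChevFacts chevE7 F) :
    (((xprod hF [63, 66, 78, 73] : GL chevE7.Idx F) : Matrix chevE7.Idx chevE7.Idx F) - 1).rank ≤ 63 := by
  have h2 := xprod_rank_leV hF [63, 66, 78, 73] ubE7_5 ubE7_5_ok
  have e2 : ubE7_5.length = 70 := by decide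
  have e3 : chevE7.rank + chevE7.nroots = 133 := by decide
  omega

theorem rank_E7_5 {F : Type*} [Field F] [CharP F 2] (hF : ChevFacts chevE7 F) :
    (((xprod hF [63, 66, 78, 73] : GL chevE7.Idx F) : Matrix chevE7.Idx chevE7.Idx F) - 1).rank = 63 :=
  le_antisymm (rank_E7_5_le hF) (rank_E7_5_ge hF)

end Cfsg.Agent.Helper16.RK
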