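import Mathlib
import Cfsg.Agent.Lib.Helper16.InvNRank

/-!
INVN part (D): ranks of `t - 1` on the adjoint module of type E8 in characteristic 2 (certificates generated by a
Gaussian elimination over GF(2), checked by `decide +kernel` through the verified sparse calculator).
-/

set_option autoImplicit false
set_option maxRecDepth 100000

namespace Cfsg.Agent.Helper16.RK

open Matrix Cfsg Cfsg.Lie Cfsg.Agent.Lead.Chev Cfsg.Agent.Helper13.InvN

/-- lower-bound certificate for `[239]` -/
def lbE8_1 : List (ℕ × List ℕ) :=
  [(1, [7, 8]), (246, [127]), (245, [125]), (244, [122]), (243, [118]), (242, [113]), (241, [107]), (240, [101]), (239, [96]), (238, [92]), (237, [89]), (236, [87]), (235, [86]), (233, [79]), (232, [74]), (231, [70]), (230, [67]), (229, [65]), (228, [64]), (226, [60]), (225, [57]), (224, [55]), (223, [54]), (221, [51]), (220, [49]), (219, [48]), (217, [46]), (216, [45]), (214, [44]), (211, [41]), (210, [39]), (209, [38]), (207, [36]), (206, [35]), (204, [34]), (201, [32]), (200, [31]), (198, [30]), (195, [29]), (191, [27]), (190, [26]), (188, [25]), (185,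 [24]), (181, [23]), (176, [22]), (169, [20]), (168, [19]), (166, [18]), (163, [17]), (159, [16]), (154, [15]), (148, [14]), (142, [13]), (137, [12]), (133, [11]), (130, [10]), (128, [9]), (247, [7])]

theorem lbE8_1_ok : lbCheckVS chevE8 [239] (fun _ => true) (certOf chevE8 lbE8_1) = true := by decide +kernel

/-- upper-bound (kernel) certificate for `[239]` -/
def ubE8_1 : List (ℕ × List ℕ) :=
  [(0, [0]), (1, [1]), (2, [2]), (3, [3]), (4, [4]), (5, [5]), (6, [6]), (21, [21]), (28, [28]), (33, [33]), (37, [37]), (40, [40]), (42, [42]), (43, [43]), (47, [47]), (50, [50]), (52, [52]), (53, [53]), (56, [56]), (58, [58]), (59, [59]), (61, [61]), (62, [62]), (63, [63]), (66, [66]), (68, [68]), (69, [69]), (71, [71]), (72, [72]), (73, [73]), (75, [75]), (76, [76]), (77, [77]), (78, [78]), (80, [80]), (81, [81]), (82, [82]), (83, [83]), (84, [84]), (85, [85]), (88, [88]), (90, [90]), (91, [91]), (93, [93]), (94, [94]), (95, [95]), (97, [97]), (98, [98]), (99, [99]), (100, [100]), (102, [102]), (103, [103]), (104, [104]), (105, [105]), (106, [106]), (108, [108]), (109, [109]),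 (110, [110]), (111, [111]), (112, [112]), (114, [114]), (115, [115]), (116, [116]), (117, [117]), (119, [119]), (120, [120]), (121, [121]), (123, [123]), (124, [124]), (126, [126]), (128, [128]), (129, [129]), (130, [130]), (131, [131]), (132, [132]), (133, [133]), (134, [134]), (135, [135]), (136, [136]), (137, [137]), (138, [138]), (139, [139]), (140, [140]), (141, [141]), (142, [142]), (143, [143]), (144, [144]), (145, [145]), (146, [146]), (147, [147]), (148, [148]), (149, [149]), (150, [150]), (151, [151]), (152, [152]), (153, [153]), (154, [154]), (155, [155]), (156, [156]), (157, [157]), (158, [158]), (159, [159]), (160, [160]), (161, [161]), (162, [162]), (163, [163]), (164, [164]), (165, [165]), (166, [166]), (167, [167]), (168, [168]), (169, [169]), (170, [170]), (171, [171]), (172, [172]), (173, [173]), (174, [174]), (175, [175]), (176, [176]), (177, [177]), (178, [178]), (179, [179]), (180, [180]), (181, [181]), (182, [182]), (183, [183]), (184, [184]), (185, [185]), (186, [186]), (187, [187]), (188, [188]), (189, [189]), (190, [190]), (191, [191]), (192,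 [192]), (193, [193]), (194, [194]), (195, [195]), (196, [196]), (197, [197]), (198, [198]), (199, [199]), (200, [200]), (201, [201]), (202, [202]), (203, [203]), (204, [204]), (205, [205]), (206, [206]), (207, [207]), (208, [208]), (209, [209]), (210, [210]), (211, [211]), (212, [212]), (213, [213]), (214, [214]), (215, [215]), (216, [216]), (217, [217]), (218, [218]), (219, [219]), (220, [220]), (221, [221]), (222, [222]), (223, [223]), (224, [224]), (225, [225]), (226, [226]), (227, [227]), (228, [228]), (229, [229]), (230, [230]), (231, [231]), (232, [232]), (233, [233]), (234, [234]), (235, [235]), (236, [236]), (237, [237]), (238, [238]), (239, [239]), (240, [240]), (241, [241]), (242, [242]), (243, [243]), (244, [244]), (245, [245]), (246, [246]), (247, [247])]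

theorem ubE8_1_ok : ubCheck chevE8 [239] (certOf chevE8 ubE8_1) = true := by decide +kernel

theorem rank_E8_1_ge {F : Type*} [Field F] [CharP F 2] (hF : ChevFacts chevE8 F) :
    58 ≤ (((xprod hF [239] : GL chevE8.Idx F) : Matrix chevE8.Idx chevE8.Idx F) - 1).rank := by
  have h1 := xprod_rank_geV hF [239] lbE8_1 lbE8_1_ok
  have e1 : lbE8_1.length = 58 := by decide
  omega

theorem rank_E8_1_le {F : Type*} [Field F] [CharP F 2] (hF : ChevFacts chevE8 F) :
    (((xprod hF [239] : GL chevE8.Idx F) : Matrix chevE8.Idx chevE8.Idx F) - 1).rank ≤ 58 := by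
  have h2 := xprod_rank_leV hF [239] ubE8_1 ubE8_1_ok
  have e2 : ubE8_1.length = 190 := by decide
  have e3 : chevE8.rank + chevE8.nroots = 248 := by decide
  omega

theorem rank_E8_1 {F : Type*} [Field F] [CharP F 2] (hF : ChevFacts chevE8 F) :
    (((xprod hF [239] : GL chevE8.Idx F) : Matrix chevE8.Idx chevE8.Idx F) - 1).rank = 58 :=
  le_antisymm (rank_E8_1_le hF) (rank_E8_1_ge hF)

/-- lower-bound certificate for `[232, 233]` -/
def lbE8_2 : List (ℕ × List ℕ) :=
  [(1, [1, 14, 15]), (3, [0, 1, 15]), (148, [21, 148]), (147, [20, 147]), (146, [19, 146]), (145, [18, 145]), (144, [17, 144]), (143, [16, 143]), (106, [13, 106]), (105, [12, 105]), (104, [11, 104]), (103, [10, 103]), (102, [9, 102]), (101, [8, 101]), (240, [0, 1]), (247, [148]), (246, [147]), (245, [146]), (244, [145]), (243, [144]), (242, [143]), (239, [106]), (238, [105]), (237, [104]), (236, [103]), (235, [102]), (234, [101]), (233, [85]), (232, [84]), (231, [83]), (230, [82]), (229, [81]), (228, [80]), (227, [79]), (226, [78]), (225, [77]), (224, [76]), (223, [75]), (222, [74]), (221, [73]), (220,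 [72]), (219, [71]), (218, [70]), (217, [69]), (216, [68]), (215, [67]), (214, [66]), (213, [65]), (212, [64]), (211, [63]), (210, [62]), (209, [61]), (208, [60]), (207, [59]), (206, [58]), (205, [57]), (204, [56]), (203, [55]), (202, [54]), (201, [53]), (200, [52]), (199, [51]), (198, [50]), (197, [49]), (196, [48]), (195, [47]), (194, [46]), (193, [45]), (192, [44]), (191, [43]), (190, [42]), (189, [41]), (188, [40]), (187, [39]), (186, [38]), (185, [37]), (184, [36]), (183, [35]), (182, [34]), (181, [33]), (180, [32]), (179, [31]), (178, [30]), (177, [29]), (176, [28]), (175, [27]), (174, [26]), (173, [25]), (172, [24]), (171, [23]), (170, [22]), (241, [0])]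

theorem lbE8_2_ok : lbCheckVS chevE8 [232, 233] (fun _ => true) (certOf chevE8 lbE8_2) = true := by decide +kernel

/-- upper-bound (kernel) certificate for `[232, 233]` -/
def ubE8_2 : List (ℕ × List ℕ) :=
  [(2, [1, 2]), (3, [3]), (4, [4]), (5, [5]), (6, [6]), (7, [7]), (86, [86]), (87, [87]), (88, [88]), (89, [89]), (90, [90]), (91, [91]), (92, [92]), (93, [93]), (94, [94]), (95, [95]), (96, [96]), (97, [97]), (98, [98]), (99, [99]), (100, [100]), (107, [101, 107]), (108, [102, 108]), (109, [103, 109]), (110, [104, 110]), (111, [105, 111]), (112, [106, 112]), (113, [113]), (114, [114]), (115, [115]), (116, [116]), (117, [117]), (118, [118]), (119, [119]), (120, [120]), (121, [121]), (122, [122]), (123, [123]), (124, [124]), (125, [125]), (126, [126]), (127, [127]), (128, [128]), (129, [129]), (130, [130]), (131, [131]), (132, [132]), (133, [133]), (134, [134]), (135, [135]), (136, [136]), (137, [137]), (138, [138]), (139, [139]), (140, [140]), (141, [141]), (142, [142]), (149, [143, 149]), (150, [144, 150]), (151, [145, 151]), (152, [146, 152]), (153, [147, 153]),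 (154, [148, 154]), (155, [155]), (156, [156]), (157, [157]), (158, [158]), (159, [159]), (160, [160]), (161, [161]), (162, [162]), (163, [163]), (164, [164]), (165, [165]), (166, [166]), (167, [167]), (168, [168]), (169, [169]), (170, [170]), (171, [171]), (172, [172]), (173, [173]), (174, [174]), (175, [175]), (176, [176]), (177, [177]), (178, [178]), (179, [179]), (180, [180]), (181, [181]), (182, [182]), (183, [183]), (184, [184]), (185, [185]), (186, [186]), (187, [187]), (188, [188]), (189, [189]), (190, [190]), (191, [191]), (192, [192]), (193, [193]), (194, [194]), (195, [195]), (196, [196]), (197, [197]), (198, [198]), (199, [199]), (200, [200]), (201, [201]), (202, [202]), (203, [203]), (204, [204]), (205, [205]), (206, [206]), (207, [207]), (208, [208]), (209, [209]), (210, [210]), (211, [211]), (212, [212]), (213, [213]), (214, [214]), (215, [215]), (216, [216]), (217, [217]), (218, [218]), (219, [219]), (220, [220]), (221, [221]), (222, [222]), (223, [223]), (224, [224]), (225, [225]), (226, [226]), (227, [227]), (228, [228]), (229, [229]), (230, [230]),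 (231, [231]), (232, [232]), (233, [233]), (234, [234]), (235, [235]), (236, [236]), (237, [237]), (238, [238]), (239, [239]), (240, [240]), (241, [241]), (242, [242]), (243, [243]), (244, [244]), (245, [245]), (246, [246]), (247, [247])]

theorem ubE8_2_ok : ubCheck chevE8 [232, 233] (certOf chevE8 ubE8_2) = true := by decide +kernel

theorem rank_E8_2_ge {F : Type*} [Field F] [CharP F 2] (hF : ChevFacts chevE8 F) :
    92 ≤ (((xprod hF [232, 233] : GL chevE8.Idx F) : Matrix chevE8.Idx chevE8.Idx F) - 1).rank := by
  have h1 := xprod_rank_geV hF [232, 233] lbE8_2 lbE8_2_ok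
  have e1 : lbE8_2.length = 92 := by decide
  omega

theorem rank_E8_2_le {F : Type*} [Field F] [CharP F 2] (hF : ChevFacts chevE8 F) :
    (((xprod hF [232, 233] : GL chevE8.Idx F) : Matrix chevE8.Idx chevE8.Idx F) - 1).rank ≤ 92 := by
  have h2 := xprod_rank_leV hF [232, 233] ubE8_2 ubE8_2_ok
  have e2 : ubE8_2.length = 156 := by decide
  have e3 : chevE8.rank + chevE8.nroots = 248 := by decide
  omega

theorem rank_E8_2 {F : Type*} [Field F] [CharP F 2] (hF : ChevFacts chevE8 F) :
    (((xprod hF [232, 233] : GL chevE8.Idx F) : Matrix chevE8.Idx chevE8.Idx F) - 1).rank = 92 :=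
  le_antisymm (rank_E8_2_le hF) (rank_E8_2_ge hF)

/-- lower-bound certificate for `[228, 222, 218]` -/
def lbE8_3 : List (ℕ × List ℕ) :=
  [(61, [9, 61]), (60, [8, 60]), (7, [2, 6, 19, 25, 29]), (0, [0, 2, 6, 29]), (2, [6, 19]), (186, [86, 186]), (188, [61, 68]), (187, [60, 67]), (164, [64, 164]), (168, [61, 168]), (167, [60, 167]), (161, [54, 161]), (157, [48, 157]), (152, [45, 152]), (151, [44, 151]), (146, [38, 146]), (140, [35, 140]), (139, [34, 139]), (135, [31, 135]), (134, [30, 134]), (131, [26, 131]), (112, [24, 112]), (111, [23, 111]), (100, [22, 100]), (85, [18, 85]), (84, [17, 84]), (83, [16, 83]), (82, [15, 82]), (78, [14, 78]), (77, [13, 77]), (73, [12, 73]), (63, [11, 63]), (62, [10, 62]), (226, [0, 2, 6]), (230, [0, 6]), (245, [186]), (247, [168]), (246, [167]), (244, [164]), (243, [161]), (242, [157]), (241, [152]), (233, [151]), (240, [146]), (239, [140]), (232, [139]), (238, [135]), (231, [134]), (237, [131]), (235, [126]), (234, [125]), (228, [123]), (227, [122]), (223, [119]), (222, [118]), (219, [114]), (218, [113]), (225, [112]), (221, [111]),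 (216, [108]), (215, [107]), (209, [102]), (208, [101]), (211, [100]), (206, [97]), (205, [96]), (200, [93]), (199, [92]), (190, [90]), (189, [89]), (229, [85]), (224, [84]), (220, [83]), (217, [82]), (214, [80]), (213, [79]), (210, [78]), (207, [77]), (204, [75]), (203, [74]), (201, [73]), (198, [71]), (197, [70]), (166, [66]), (165, [65]), (191, [63]), (169, [62]), (185, [58]), (184, [57]), (163, [56]), (162, [55]), (181, [52]), (180, [51]), (159, [50]), (158, [49]), (154, [47]), (153, [46]), (176, [42]), (175, [41]), (148, [40]), (147, [39]), (142, [37]), (141, [36]), (137, [33]), (136, [32]), (133, [28]), (132, [27]), (130, [21]), (129, [20]), (236, [6])]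

theorem lbE8_3_ok : lbCheckVS chevE8 [228, 222, 218] (fun _ => true) (certOf chevE8 lbE8_3) = true := by decide +kernel

/-- upper-bound (kernel) certificate for `[228, 222, 218]` -/
def ubE8_3 : List (ℕ × List ℕ) :=
  [(1, [1]), (3, [3]), (4, [2, 4]), (5, [0, 5]), (7, [7]), (43, [43]), (53, [53]), (59, [59]), (69, [62, 69]), (72, [72]), (76, [76]), (81, [81]), (91, [63, 91]), (94, [73, 94]), (95, [95]), (98, [77, 98]), (99, [99]), (103, [78, 103]), (104, [100, 104]), (105, [105]), (106, [106]), (109, [82, 109]), (110, [110]), (115, [83, 115]), (116, [111, 116]), (117, [117]), (120, [84, 120]), (121, [112, 121]), (124, [85, 124]), (127, [127]), (128, [128]), (129, [129]), (130, [130]), (132, [132]), (133, [133]), (136, [136]), (137, [137]), (138, [138]), (141, [141]), (142, [142]), (143, [134, 143]), (144, [139, 144]), (145, [145]), (147, [147]), (148, [148]), (149, [149]), (150, [150]), (153, [153]), (154, [154]), (155, [151, 155]), (156, [156]), (158, [158]), (159, [159]), (160, [160]), (162, [162]), (163, [163]), (165, [165]), (166, [166]), (167, [60, 67, 87, 167]),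 (168, [61, 68, 88, 168]), (169, [169]), (170, [131, 170]), (171, [135, 171]), (172, [140, 172]), (173, [146, 173]), (174, [174]), (175, [175]), (176, [176]), (177, [152, 177]), (178, [157, 178]), (179, [179]), (180, [180]), (181, [181]), (182, [161, 182]), (183, [183]), (184, [184]), (185, [185]), (187, [60, 67, 87, 187]), (188, [61, 68, 88, 188]), (189, [189]), (190, [190]), (191, [191]), (192, [164, 192]), (193, [186, 193]), (194, [60, 67, 87, 194]), (195, [61, 68, 88, 195]), (196, [196]), (197, [197]), (198, [198]), (199, [199]), (200, [200]), (201, [201]), (202, [202]), (203, [203]), (204, [204]), (205, [205]), (206, [206]), (207, [207]), (208, [208]), (209, [209]), (210, [210]), (211, [211]), (212, [212]), (213, [213]), (214, [214]), (215, [215]), (216, [216]), (217, [217]), (218, [218]), (219, [219]), (220, [220]), (221, [221]), (222, [222]), (223, [223]), (224, [224]), (225, [225]), (226, [226]), (227, [227]), (228, [228]), (229, [229]), (230, [230]), (231, [231]), (232, [232]), (233, [233]), (234, [234]), (235, [235]), (236, [236]), (237, [237]), (238, [238]),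 (239, [239]), (240, [240]), (241, [241]), (242, [242]), (243, [243]), (244, [244]), (245, [245]), (246, [246]), (247, [247])]

theorem ubE8_3_ok : ubCheck chevE8 [228, 222, 218] (certOf chevE8 ubE8_3) = true := by decide +kernel

theorem rank_E8_3_ge {F : Type*} [Field F] [CharP F 2] (hF : ChevFacts chevE8 F) :
    110 ≤ (((xprod hF [228, 222, 218] : GL chevE8.Idx F) : Matrix chevE8.Idx chevE8.Idx F) - 1).rank := by
  have h1 := xprod_rank_geV hF [228, 222, 218] lbE8_3 lbE8_3_ok
  have e1 : lbE8_3.length = 110 := by decide
  omega

theorem rank_E8_3_le {F : Type*} [Field F] [CharP F 2] (hF : ChevFacts chevE8 F) :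
    (((xprod hF [228, 222, 218] : GL chevE8.Idx F) : Matrix chevE8.Idx chevE8.Idx F) - 1).rank ≤ 110 := by
  have h2 := xprod_rank_leV hF [228, 222, 218] ubE8_3 ubE8_3_ok
  have e2 : ubE8_3.length = 138 := by decide
  have e3 : chevE8.rank + chevE8.nroots = 248 := by decide
  omega

theorem rank_E8_3 {F : Type*} [Field F] [CharP F 2] (hF : ChevFacts chevE8 F) :
    (((xprod hF [228, 222, 218] : GL chevE8.Idx F) : Matrix chevE8.Idx chevE8.Idx F) - 1).rank = 110 :=
  le_antisymm (rank_E8_3_le hF) (rank_E8_3_ge hF)

/-- lower-bound certificate for `[226, 220, 213, 216]` -/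
def lbE8_4 : List (ℕ × List ℕ) :=
  [(95, [22, 95]), (73, [14, 73]), (63, [13, 63]), (62, [12, 62]), (59, [11, 59]), (53, [10, 53]), (52, [9, 52]), (51, [8, 51]), (3, [3, 31, 34]), (4, [0, 1, 3, 21, 27, 31]), (0, [1, 3, 31]), (2, [0, 1, 2, 3, 21]), (200, [95, 98]), (191, [95, 191]), (199, [73, 76]), (189, [63, 75]), (169, [73, 169]), (187, [62, 71]), (184, [59, 68]), (180, [53, 66]), (168, [63, 168]), (166, [62, 166]), (163, [59, 163]), (179, [52, 56]), (157, [51, 55]), (159, [53, 159]), (154, [52, 154]), (153, [51, 153]), (148, [43, 148]), (142, [42, 142]), (141, [41, 141]), (137, [40, 137]), (136, [39, 136]), (135, [38, 135]), (133, [37, 133]), (132, [36, 132]), (131, [35, 131]), (130, [33, 130]), (129, [32, 129]), (117, [30, 117]), (116, [29, 116]), (128, [28, 128]), (112, [26, 112]), (111, [25, 111]), (110, [24, 110]), (109, [23, 109]), (85, [20, 85]), (84, [19, 84]), (83, [18, 83]), (82, [17, 82]), (81, [16, 81]), (80, [15, 80]), (234, [0, 1, 2, 3]), (224, [0, 2]), (228, [0]), (247, [191]), (246, [169]), (245, [168]), (244, [166]), (243, [163]), (242, [159]), (241,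 [154]), (233, [153]), (240, [148]), (239, [142]), (232, [141]), (238, [137]), (231, [136]), (226, [135]), (237, [133]), (230, [132]), (225, [131]), (236, [130]), (229, [129]), (235, [128]), (220, [117]), (217, [116]), (223, [112]), (219, [111]), (216, [110]), (214, [109]), (211, [106]), (210, [105]), (207, [104]), (201, [103]), (209, [100]), (206, [99]), (190, [97]), (198, [94]), (188, [93]), (195, [91]), (185, [90]), (181, [88]), (227, [85]), (222, [84]), (218, [83]), (215, [82]), (213, [81]), (212, [80]), (208, [78]), (205, [77]), (167, [74]), (197, [72]), (165, [70]), (194, [69]), (162, [67]), (158, [65]), (186, [61]), (164, [60]), (183, [58]), (161, [57]), (152, [54]), (178, [50]), (156, [49]), (151, [48]), (177, [47]), (155, [46]), (150, [45]), (149, [44]), (221, [1])]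

theorem lbE8_4_ok : lbCheckVS chevE8 [226, 220, 213, 216] (fun _ => true) (certOf chevE8 lbE8_4) = true := by decide +kernel

/-- upper-bound (kernel) certificate for `[226, 220, 213, 216]` -/
def ubE8_4 : List (ℕ × List ℕ) :=
  [(4, [4]), (5, [3, 5]), (6, [2, 6]), (7, [0, 7]), (79, [79]), (107, [80, 107]), (108, [108]), (113, [81, 113]), (114, [109, 114]), (115, [115]), (118, [82, 118]), (119, [110, 119]), (120, [116, 120]), (121, [121]), (122, [83, 122]), (123, [111, 123]), (124, [117, 124]), (125, [84, 125]), (126, [112, 126]), (127, [85, 127]), (134, [134]), (138, [131, 138]), (139, [135, 139]), (140, [140]), (143, [129, 143]), (144, [132, 144]), (145, [136, 145]), (146, [141, 146]), (147, [147]), (149, [149]), (150, [150]), (151, [151]), (152, [152]), (153, [51, 55, 64, 153]), (154, [52, 56, 86, 154]), (155, [155]), (156, [156]), (157, [51, 55, 64, 157]), (158, [158]), (159, [53, 66, 87, 159]), (160, [51, 55, 64, 160]), (161, [161]), (162, [162]), (163, [59, 68, 89, 163]), (164, [164]), (165, [165]), (166, [62, 71, 92, 166]), (167, [167]), (168, [63, 75, 96, 168]),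 (169, [73, 76, 101, 169]), (170, [128, 170]), (171, [130, 171]), (172, [133, 172]), (173, [137, 173]), (174, [142, 174]), (175, [148, 175]), (176, [176]), (177, [177]), (178, [178]), (179, [52, 56, 86, 179]), (180, [53, 66, 87, 180]), (181, [181]), (182, [52, 56, 86, 182]), (183, [183]), (184, [59, 68, 89, 184]), (185, [185]), (186, [186]), (187, [62, 71, 92, 187]), (188, [188]), (189, [63, 75, 96, 189]), (190, [190]), (191, [95, 98, 102, 191]), (192, [53, 66, 87, 192]), (193, [59, 68, 89, 193]), (194, [194]), (195, [195]), (196, [62, 71, 92, 196]), (197, [197]), (198, [198]), (199, [73, 76, 101, 199]), (200, [95, 98, 102, 200]), (201, [201]), (202, [63, 75, 96, 202]), (203, [73, 76, 101, 203]), (204, [95, 98, 102, 204]), (205, [205]), (206, [206]), (207, [207]), (208, [208]), (209, [209]), (210, [210]), (211, [211]), (212, [212]), (213, [213]), (214, [214]), (215, [215]), (216, [216]), (217, [217]), (218, [218]), (219, [219]), (220, [220]), (221, [221]), (222, [222]), (223, [223]), (224, [224]), (225, [225]), (226, [226]), (227, [227]), (228, [228]), (229, [229]),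 (230, [230]), (231, [231]), (232, [232]), (233, [233]), (234, [234]), (235, [235]), (236, [236]), (237, [237]), (238, [238]), (239, [239]), (240, [240]), (241, [241]), (242, [242]), (243, [243]), (244, [244]), (245, [245]), (246, [246]), (247, [247])]

theorem ubE8_4_ok : ubCheck chevE8 [226, 220, 213, 216] (certOf chevE8 ubE8_4) = true := by decide +kernel

theorem rank_E8_4_ge {F : Type*} [Field F] [CharP F 2] (hF : ChevFacts chevE8 F) :
    120 ≤ (((xprod hF [226, 220, 213, 216] : GL chevE8.Idx F) : Matrix chevE8.Idx chevE8.Idx F) - 1).rank := by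
  have h1 := xprod_rank_geV hF [226, 220, 213, 216] lbE8_4 lbE8_4_ok
  have e1 : lbE8_4.length = 120 := by decide
  omega

theorem rank_E8_4_le {F : Type*} [Field F] [CharP F 2] (hF : ChevFacts chevE8 F) :
    (((xprod hF [226, 220, 213, 216] : GL chevE8.Idx F) : Matrix chevE8.Idx chevE8.Idx F) - 1).rank ≤ 120 := by
  have h2 := xprod_rank_leV hF [226, 220, 213, 216] ubE8_4 ubE8_4_ok
  have e2 : ubE8_4.length = 128 := by decide
  have e3 : chevE8.rank + chevE8.nroots = 248 := by decide
  omega

theorem rank_E8_4 {F : Type*} [Field F] [CharP F 2] (hF : ChevFacts chevE8 F) :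
    (((xprod hF [226, 220, 213, 216] : GL chevE8.Idx F) : Matrix chevE8.Idx chevE8.Idx F) - 1).rank = 120 :=
  le_antisymm (rank_E8_4_le hF) (rank_E8_4_ge hF)

end Cfsg.Agent.Helper16.RK
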