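import Mathlib
import Cfsg.Agent.Lib.Helper16.InvNRank

/-!
INVN part (D): ranks of `t - 1` on the adjoint module of type F4 in characteristic 2, and of its restriction to the
short-root coordinates (certificates generated by a Gaussian elimination over GF(2), checked by `decide +kernel`).
-/

set_option autoImplicit false
set_option maxRecDepth 100000

namespace Cfsg.Agent.Helper16.RK

open Matrix Cfsg Cfsg.Lie Cfsg.Agent.Lead.Chev Cfsg.Agent.Helper13.InvN

/-- the coordinates `h_0`, `h_1` and `e_s`, `s` a short root, of the adjoint module of type F4 -/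
def shortF4 : Code → Bool
  | .inl i => decide (i < 2)
  | .inr s => [3, 7, 8, 9, 10, 11, 12, 13, 14, 18, 19, 20, 27, 28, 29, 33, 34, 35, 36, 37, 38, 39, 40, 44].contains s

/-- lower-bound certificate for `[47]` -/
def lbF4_47 : List (ℕ × List ℕ) :=
  [(0, [3, 4]), (50, [27]), (49, [25]), (48, [22]), (47, [20]), (46, [19]), (44, [15]), (43, [13]), (42, [12]), (40, [11]), (36, [9]), (35, [8]), (33, [7]), (30, [6]), (28, [5]), (51, [3])]

theorem lbF4_47_ok : lbCheckVS chevF4 [47] (fun _ => true) (certOf chevF4 lbF4_47) = true := by decide +kernel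

/-- upper-bound (kernel) certificate for `[47]` -/
def ubF4_47 : List (ℕ × List ℕ) :=
  [(0, [0]), (1, [1]), (2, [2]), (10, [10]), (14, [14]), (16, [16]), (17, [17]), (18, [18]), (21, [21]), (23, [23]), (24, [24]), (26, [26]), (28, [28]), (29, [29]), (30, [30]), (31, [31]), (32, [32]), (33, [33]), (34, [34]), (35, [35]), (36, [36]), (37, [37]), (38, [38]), (39, [39]), (40, [40]), (41, [41]), (42, [42]), (43, [43]), (44, [44]), (45, [45]), (46, [46]), (47, [47]), (48, [48]), (49, [49]), (50, [50]), (51, [51])]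

theorem ubF4_47_ok : ubCheck chevF4 [47] (certOf chevF4 ubF4_47) = true := by decide +kernel

theorem rank_F4_47_ge {F : Type*} [Field F] [CharP F 2] (hF : ChevFacts chevF4 F) :
    16 ≤ (((xprod hF [47] : GL chevF4.Idx F) : Matrix chevF4.Idx chevF4.Idx F) - 1).rank := by
  have h1 := xprod_rank_geV hF [47] lbF4_47 lbF4_47_ok
  have e1 : lbF4_47.length = 16 := by decide
  omega

theorem rank_F4_47_le {F : Type*} [Field F] [CharP F 2] (hF : ChevFacts chevF4 F) :
    (((xprod hF [47] : GL chevF4.Idx F) : Matrix chevF4.Idx chevF4.Idx F) - 1).rank ≤ 16 := by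
  have h2 := xprod_rank_leV hF [47] ubF4_47 ubF4_47_ok
  have e2 : ubF4_47.length = 36 := by decide
  have e3 : chevF4.rank + chevF4.nroots = 52 := by decide
  omega

theorem rank_F4_47 {F : Type*} [Field F] [CharP F 2] (hF : ChevFacts chevF4 F) :
    (((xprod hF [47] : GL chevF4.Idx F) : Matrix chevF4.Idx chevF4.Idx F) - 1).rank = 16 :=
  le_antisymm (rank_F4_47_le hF) (rank_F4_47_ge hF)

/-- lower-bound certificate for `[47]`, short coordinates -/
def lbSF4_47 : List (ℕ × List ℕ) :=
  [(48, [22]), (44, [15]), (43, [13]), (42, [12]), (40, [11]), (33, [7])]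

theorem lbSF4_47_ok : lbCheckVS chevF4 [47] shortF4 (certOf chevF4 lbSF4_47) = true := by decide +kernel

/-- upper-bound (kernel) certificate for `[47]`, short coordinates -/
def ubSF4_47 : List (ℕ × List ℕ) :=
  [(0, [0]), (1, [1]), (2, [2]), (3, [3]), (4, [4]), (5, [5]), (6, [6]), (8, [8]), (9, [9]), (10, [10]), (14, [14]), (16, [16]), (17, [17]), (18, [18]), (19, [19]), (20, [20]), (21, [21]), (23, [23]), (24, [24]), (25, [25]), (26, [26]), (27, [27]), (28, [28]), (29, [29]), (30, [30]), (31, [31]), (32, [32]), (33, [33]), (34, [34]), (35, [35]), (36, [36]), (37, [37]), (38, [38]), (39, [39]), (40, [40]), (41, [41]), (42, [42]), (43, [43]), (44, [44]), (45, [45]), (46, [46]), (47, [47]), (48, [48]), (49, [49]), (50, [50]), (51, [51])]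

theorem ubSF4_47_ok : ubCheckS chevF4 [47] shortF4 (certOf chevF4 ubSF4_47) = true := by decide +kernel

theorem rankS_F4_47_ge {F : Type*} [Field F] [CharP F 2] (hF : ChevFacts chevF4 F) :
    6 ≤ ((((xprod hF [47] : GL chevF4.Idx F) : Matrix chevF4.Idx chevF4.Idx F) - 1) * projS chevF4 F shortF4).rank := by
  have h1 := xprod_rankS_geV hF [47] shortF4 lbSF4_47 lbSF4_47_ok
  have e1 : lbSF4_47.length = 6 := by decide
  omega

theorem rankS_F4_47_le {F : Type*} [Field F] [CharP F 2] (hF : ChevFacts chevF4 F) :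
    ((((xprod hF [47] : GL chevF4.Idx F) : Matrix chevF4.Idx chevF4.Idx F) - 1) * projS chevF4 F shortF4).rank ≤ 6 := by
  have h2 := xprod_rankS_leV hF [47] shortF4 ubSF4_47 ubSF4_47_ok
  have e2 : ubSF4_47.length = 46 := by decide
  have e3 : chevF4.rank + chevF4.nroots = 52 := by decide
  omega

theorem rankS_F4_47 {F : Type*} [Field F] [CharP F 2] (hF : ChevFacts chevF4 F) :
    ((((xprod hF [47] : GL chevF4.Idx F) : Matrix chevF4.Idx chevF4.Idx F) - 1) * projS chevF4 F shortF4).rank = 6 :=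
  le_antisymm (rankS_F4_47_le hF) (rankS_F4_47_ge hF)

/-- lower-bound certificate for `[44]` -/
def lbF4_44 : List (ℕ × List ℕ) :=
  [(33, [10]), (32, [9]), (31, [8]), (1, [0, 7]), (24, [6]), (23, [5]), (22, [4]), (44, [18]), (43, [17]), (42, [16]), (41, [15]), (40, [14]), (39, [13]), (38, [12]), (37, [11]), (48, [0])]

theorem lbF4_44_ok : lbCheckVS chevF4 [44] (fun _ => true) (certOf chevF4 lbF4_44) = true := by decide +kernel

/-- upper-bound (kernel) certificate for `[44]` -/
def ubF4_44 : List (ℕ × List ℕ) :=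
  [(1, [1]), (2, [2]), (3, [3]), (19, [19]), (20, [20]), (21, [21]), (22, [22]), (23, [23]), (24, [24]), (25, [25]), (26, [26]), (27, [27]), (28, [28]), (29, [29]), (30, [30]), (31, [31]), (32, [32]), (33, [33]), (34, [34]), (35, [35]), (36, [36]), (37, [37]), (38, [38]), (39, [39]), (40, [40]), (41, [41]), (42, [42]), (43, [43]), (44, [44]), (45, [45]), (46, [46]), (47, [47]), (48, [48]), (49, [49]), (50, [50]), (51, [51])]

theorem ubF4_44_ok : ubCheck chevF4 [44] (certOf chevF4 ubF4_44) = true := by decide +kernel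

theorem rank_F4_44_ge {F : Type*} [Field F] [CharP F 2] (hF : ChevFacts chevF4 F) :
    16 ≤ (((xprod hF [44] : GL chevF4.Idx F) : Matrix chevF4.Idx chevF4.Idx F) - 1).rank := by
  have h1 := xprod_rank_geV hF [44] lbF4_44 lbF4_44_ok
  have e1 : lbF4_44.length = 16 := by decide
  omega

theorem rank_F4_44_le {F : Type*} [Field F] [CharP F 2] (hF : ChevFacts chevF4 F) :
    (((xprod hF [44] : GL chevF4.Idx F) : Matrix chevF4.Idx chevF4.Idx F) - 1).rank ≤ 16 := by
  have h2 := xprod_rank_leV hF [44] ubF4_44 ubF4_44_ok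
  have e2 : ubF4_44.length = 36 := by decide
  have e3 : chevF4.rank + chevF4.nroots = 52 := by decide
  omega

theorem rank_F4_44 {F : Type*} [Field F] [CharP F 2] (hF : ChevFacts chevF4 F) :
    (((xprod hF [44] : GL chevF4.Idx F) : Matrix chevF4.Idx chevF4.Idx F) - 1).rank = 16 :=
  le_antisymm (rank_F4_44_le hF) (rank_F4_44_ge hF)

/-- lower-bound certificate for `[44]`, short coordinates -/
def lbSF4_44 : List (ℕ × List ℕ) :=
  [(1, [0, 7]), (44, [18]), (43, [17]), (42, [16]), (41, [15]), (40, [14]), (39, [13]), (38, [12]), (37, [11]), (48, [0])]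

theorem lbSF4_44_ok : lbCheckVS chevF4 [44] shortF4 (certOf chevF4 lbSF4_44) = true := by decide +kernel

/-- upper-bound (kernel) certificate for `[44]`, short coordinates -/
def ubSF4_44 : List (ℕ × List ℕ) :=
  [(1, [1]), (2, [2]), (3, [3]), (4, [4]), (5, [5]), (6, [6]), (8, [8]), (9, [9]), (10, [10]), (19, [19]), (20, [20]), (21, [21]), (22, [22]), (23, [23]), (24, [24]), (25, [25]), (26, [26]), (27, [27]), (28, [28]), (29, [29]), (30, [30]), (31, [31]), (32, [32]), (33, [33]), (34, [34]), (35, [35]), (36, [36]), (37, [37]), (38, [38]), (39, [39]), (40, [40]), (41, [41]), (42, [42]), (43, [43]), (44, [44]), (45, [45]), (46, [46]), (47, [47]), (48, [48]), (49, [49]), (50, [50]), (51, [51])]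

theorem ubSF4_44_ok : ubCheckS chevF4 [44] shortF4 (certOf chevF4 ubSF4_44) = true := by decide +kernel

theorem rankS_F4_44_ge {F : Type*} [Field F] [CharP F 2] (hF : ChevFacts chevF4 F) :
    10 ≤ ((((xprod hF [44] : GL chevF4.Idx F) : Matrix chevF4.Idx chevF4.Idx F) - 1) * projS chevF4 F shortF4).rank := by
  have h1 := xprod_rankS_geV hF [44] shortF4 lbSF4_44 lbSF4_44_ok
  have e1 : lbSF4_44.length = 10 := by decide
  omega

theorem rankS_F4_44_le {F : Type*} [Field F] [CharP F 2] (hF : ChevFacts chevF4 F) :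
    ((((xprod hF [44] : GL chevF4.Idx F) : Matrix chevF4.Idx chevF4.Idx F) - 1) * projS chevF4 F shortF4).rank ≤ 10 := by
  have h2 := xprod_rankS_leV hF [44] shortF4 ubSF4_44 ubSF4_44_ok
  have e2 : ubSF4_44.length = 42 := by decide
  have e3 : chevF4.rank + chevF4.nroots = 52 := by decide
  omega

theorem rankS_F4_44 {F : Type*} [Field F] [CharP F 2] (hF : ChevFacts chevF4 F) :
    ((((xprod hF [44] : GL chevF4.Idx F) : Matrix chevF4.Idx chevF4.Idx F) - 1) * projS chevF4 F shortF4).rank = 10 :=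
  le_antisymm (rankS_F4_44_le hF) (rankS_F4_44_ge hF)

/-- lower-bound certificate for `[47, 44]` -/
def lbF4_47_44 : List (ℕ × List ℕ) :=
  [(0, [0, 3, 4]), (32, [9, 27]), (31, [8, 25]), (1, [0, 3, 7, 10]), (24, [6, 20]), (23, [5, 19]), (41, [15, 18]), (39, [13, 17]), (38, [12, 16]), (37, [11, 14]), (33, [3, 10]), (50, [27]), (49, [25]), (47, [20]), (46, [19]), (44, [18]), (43, [17]), (42, [16]), (40, [14]), (51, [3]), (48, [0])]

theorem lbF4_47_44_ok : lbCheckVS chevF4 [47, 44] (fun _ => true) (certOf chevF4 lbF4_47_44) = true := by decide +kernel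

/-- upper-bound (kernel) certificate for `[47, 44]` -/
def ubF4_47_44 : List (ℕ × List ℕ) :=
  [(1, [1]), (2, [2]), (21, [21]), (22, [0, 22]), (23, [23]), (24, [24]), (26, [26]), (28, [28]), (29, [29]), (30, [30]), (31, [31]), (32, [32]), (33, [33]), (34, [34]), (35, [35]), (36, [36]), (37, [37]), (38, [38]), (39, [39]), (40, [40]), (41, [41]), (42, [42]), (43, [43]), (44, [44]), (45, [45]), (46, [46]), (47, [47]), (48, [48]), (49, [49]), (50, [50]), (51, [51])]

theorem ubF4_47_44_ok : ubCheck chevF4 [47, 44] (certOf chevF4 ubF4_47_44) = true := by decide +kernel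

theorem rank_F4_47_44_ge {F : Type*} [Field F] [CharP F 2] (hF : ChevFacts chevF4 F) :
    21 ≤ (((xprod hF [47, 44] : GL chevF4.Idx F) : Matrix chevF4.Idx chevF4.Idx F) - 1).rank := by
  have h1 := xprod_rank_geV hF [47, 44] lbF4_47_44 lbF4_47_44_ok
  have e1 : lbF4_47_44.length = 21 := by decide
  omega

theorem rank_F4_47_44_le {F : Type*} [Field F] [CharP F 2] (hF : ChevFacts chevF4 F) :
    (((xprod hF [47, 44] : GL chevF4.Idx F) : Matrix chevF4.Idx chevF4.Idx F) - 1).rank ≤ 21 := by
  have h2 := xprod_rank_leV hF [47, 44] ubF4_47_44 ubF4_47_44_ok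
  have e2 : ubF4_47_44.length = 31 := by decide
  have e3 : chevF4.rank + chevF4.nroots = 52 := by decide
  omega

theorem rank_F4_47_44 {F : Type*} [Field F] [CharP F 2] (hF : ChevFacts chevF4 F) :
    (((xprod hF [47, 44] : GL chevF4.Idx F) : Matrix chevF4.Idx chevF4.Idx F) - 1).rank = 21 :=
  le_antisymm (rank_F4_47_44_le hF) (rank_F4_47_44_ge hF)

/-- lower-bound certificate for `[47, 44]`, short coordinates -/
def lbSF4_47_44 : List (ℕ × List ℕ) :=
  [(1, [0, 7]), (41, [15, 18]), (39, [13, 17]), (38, [12, 16]), (37, [11, 14]), (44, [18]), (43, [17]), (42, [16]), (40, [14]), (48, [0])]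

theorem lbSF4_47_44_ok : lbCheckVS chevF4 [47, 44] shortF4 (certOf chevF4 lbSF4_47_44) = true := by decide +kernel

/-- upper-bound (kernel) certificate for `[47, 44]`, short coordinates -/
def ubSF4_47_44 : List (ℕ × List ℕ) :=
  [(1, [1]), (2, [2]), (3, [3]), (4, [4]), (5, [5]), (6, [6]), (8, [8]), (9, [9]), (10, [10]), (19, [19]), (20, [20]), (21, [21]), (22, [0, 22]), (23, [23]), (24, [24]), (25, [25]), (26, [26]), (27, [27]), (28, [28]), (29, [29]), (30, [30]), (31, [31]), (32, [32]), (33, [33]), (34, [34]), (35, [35]), (36, [36]), (37, [37]), (38, [38]), (39, [39]), (40, [40]), (41, [41]), (42, [42]), (43, [43]), (44, [44]), (45, [45]), (46, [46]), (47, [47]), (48, [48]), (49, [49]), (50, [50]), (51, [51])]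

theorem ubSF4_47_44_ok : ubCheckS chevF4 [47, 44] shortF4 (certOf chevF4 ubSF4_47_44) = true := by decide +kernel

theorem rankS_F4_47_44_ge {F : Type*} [Field F] [CharP F 2] (hF : ChevFacts chevF4 F) :
    10 ≤ ((((xprod hF [47, 44] : GL chevF4.Idx F) : Matrix chevF4.Idx chevF4.Idx F) - 1) * projS chevF4 F shortF4).rank := by
  have h1 := xprod_rankS_geV hF [47, 44] shortF4 lbSF4_47_44 lbSF4_47_44_ok
  have e1 : lbSF4_47_44.length = 10 := by decide
  omega

theorem rankS_F4_47_44_le {F : Type*} [Field F] [CharP F 2] (hF : ChevFacts chevF4 F) :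
    ((((xprod hF [47, 44] : GL chevF4.Idx F) : Matrix chevF4.Idx chevF4.Idx F) - 1) * projS chevF4 F shortF4).rank ≤ 10 := by
  have h2 := xprod_rankS_leV hF [47, 44] shortF4 ubSF4_47_44 ubSF4_47_44_ok
  have e2 : ubSF4_47_44.length = 42 := by decide
  have e3 : chevF4.rank + chevF4.nroots = 52 := by decide
  omega

theorem rankS_F4_47_44 {F : Type*} [Field F] [CharP F 2] (hF : ChevFacts chevF4 F) :
    ((((xprod hF [47, 44] : GL chevF4.Idx F) : Matrix chevF4.Idx chevF4.Idx F) - 1) * projS chevF4 F shortF4).rank = 10 :=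
  le_antisymm (rankS_F4_47_44_le hF) (rankS_F4_47_44_ge hF)

/-- lower-bound certificate for `[39, 45]` -/
def lbF4_39_45 : List (ℕ × List ℕ) :=
  [(14, [5, 14, 30]), (13, [4, 13, 29]), (24, [11, 24]), (17, [7, 17]), (3, [2, 6, 12]), (37, [19]), (0, [1, 12]), (18, [8]), (49, [1, 2]), (51, [30]), (50, [29]), (48, [24]), (40, [23]), (39, [22]), (46, [21]), (45, [20]), (44, [17]), (33, [16]), (32, [15]), (42, [14]), (41, [13]), (35, [10]), (34, [9]), (43, [1])]

theorem lbF4_39_45_ok : lbCheckVS chevF4 [39, 45] (fun _ => true) (certOf chevF4 lbF4_39_45) = true := by decide +kernel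

/-- upper-bound (kernel) certificate for `[39, 45]` -/
def ubF4_39_45 : List (ℕ × List ℕ) :=
  [(0, [0]), (3, [3]), (18, [18]), (27, [27]), (28, [28]), (29, [13, 25, 29]), (30, [14, 26, 30]), (31, [17, 31]), (32, [32]), (33, [33]), (34, [34]), (35, [35]), (36, [36]), (37, [37]), (38, [24, 38]), (39, [39]), (40, [40]), (41, [41]), (42, [42]), (43, [43]), (44, [44]), (45, [45]), (46, [46]), (47, [47]), (48, [48]), (49, [49]), (50, [50]), (51, [51])]

theorem ubF4_39_45_ok : ubCheck chevF4 [39, 45] (certOf chevF4 ubF4_39_45) = true := by decide +kernel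

theorem rank_F4_39_45_ge {F : Type*} [Field F] [CharP F 2] (hF : ChevFacts chevF4 F) :
    24 ≤ (((xprod hF [39, 45] : GL chevF4.Idx F) : Matrix chevF4.Idx chevF4.Idx F) - 1).rank := by
  have h1 := xprod_rank_geV hF [39, 45] lbF4_39_45 lbF4_39_45_ok
  have e1 : lbF4_39_45.length = 24 := by decide
  omega

theorem rank_F4_39_45_le {F : Type*} [Field F] [CharP F 2] (hF : ChevFacts chevF4 F) :
    (((xprod hF [39, 45] : GL chevF4.Idx F) : Matrix chevF4.Idx chevF4.Idx F) - 1).rank ≤ 24 := by
  have h2 := xprod_rank_leV hF [39, 45] ubF4_39_45 ubF4_39_45_ok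
  have e2 : ubF4_39_45.length = 28 := by decide
  have e3 : chevF4.rank + chevF4.nroots = 52 := by decide
  omega

theorem rank_F4_39_45 {F : Type*} [Field F] [CharP F 2] (hF : ChevFacts chevF4 F) :
    (((xprod hF [39, 45] : GL chevF4.Idx F) : Matrix chevF4.Idx chevF4.Idx F) - 1).rank = 24 :=
  le_antisymm (rank_F4_39_45_le hF) (rank_F4_39_45_ge hF)

/-- lower-bound certificate for `[39, 45]`, short coordinates -/
def lbSF4_39_45 : List (ℕ × List ℕ) :=
  [(24, [11, 24]), (17, [7, 17]), (0, [1, 12]), (48, [24]), (40, [23]), (39, [22]), (44, [17]), (33, [16]), (32, [15]), (42, [14]), (41, [13]), (43, [1])]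

theorem lbSF4_39_45_ok : lbCheckVS chevF4 [39, 45] shortF4 (certOf chevF4 lbSF4_39_45) = true := by decide +kernel

/-- upper-bound (kernel) certificate for `[39, 45]`, short coordinates -/
def ubSF4_39_45 : List (ℕ × List ℕ) :=
  [(0, [0]), (2, [2]), (3, [3]), (4, [4]), (5, [5]), (6, [6]), (8, [8]), (9, [9]), (10, [10]), (18, [18]), (19, [19]), (20, [20]), (21, [21]), (25, [25]), (26, [26]), (27, [27]), (28, [28]), (29, [29]), (30, [30]), (31, [17, 31]), (32, [32]), (33, [33]), (34, [34]), (35, [35]), (36, [36]), (37, [37]), (38, [24, 38]), (39, [39]), (40, [40]), (41, [41]), (42, [42]), (43, [43]), (44, [44]), (45, [45]), (46, [46]), (47, [47]), (48, [48]), (49, [49]), (50, [50]), (51, [51])]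

theorem ubSF4_39_45_ok : ubCheckS chevF4 [39, 45] shortF4 (certOf chevF4 ubSF4_39_45) = true := by decide +kernel

theorem rankS_F4_39_45_ge {F : Type*} [Field F] [CharP F 2] (hF : ChevFacts chevF4 F) :
    12 ≤ ((((xprod hF [39, 45] : GL chevF4.Idx F) : Matrix chevF4.Idx chevF4.Idx F) - 1) * projS chevF4 F shortF4).rank := by
  have h1 := xprod_rankS_geV hF [39, 45] shortF4 lbSF4_39_45 lbSF4_39_45_ok
  have e1 : lbSF4_39_45.length = 12 := by decide
  omega

theorem rankS_F4_39_45_le {F : Type*} [Field F] [CharP F 2] (hF : ChevFacts chevF4 F) :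
    ((((xprod hF [39, 45] : GL chevF4.Idx F) : Matrix chevF4.Idx chevF4.Idx F) - 1) * projS chevF4 F shortF4).rank ≤ 12 := by
  have h2 := xprod_rankS_leV hF [39, 45] shortF4 ubSF4_39_45 ubSF4_39_45_ok
  have e2 : ubSF4_39_45.length = 40 := by decide
  have e3 : chevF4.rank + chevF4.nroots = 52 := by decide
  omega

theorem rankS_F4_39_45 {F : Type*} [Field F] [CharP F 2] (hF : ChevFacts chevF4 F) :
    ((((xprod hF [39, 45] : GL chevF4.Idx F) : Matrix chevF4.Idx chevF4.Idx F) - 1) * projS chevF4 F shortF4).rank = 12 :=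
  le_antisymm (rankS_F4_39_45_le hF) (rankS_F4_39_45_ge hF)

end Cfsg.Agent.Helper16.RK
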