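import Mathlib
import Cfsg.Agent.Lib.Helper16.InvNRank

/-!
INVN part (D): the rank of `(t - 1) P` is a conjugacy invariant when the range of the idempotent-like matrix `P` is
invariant under the group (`c P = P c P` for all `c` in the group).
-/

set_option autoImplicit false
set_option linter.unusedSectionVars false
set_option linter.unusedVariables false

namespace Cfsg.Agent.Helper16.RK

open Matrix Cfsg Cfsg.Lie Cfsg.Agent.Lead.Chev

section generic

variable {n : Type*} [Fintype n] [DecidableEq n] {F : Type*} [Field F]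

/-- one inequality: if `c⁻¹ P = P c⁻¹ P` then `rank ((c a c⁻¹ - 1) P) ≤ rank ((a - 1) P)` -/
theorem rank_conj_sub_one_mul_le (a : Matrix n n F) (c : (Matrix n n F)ˣ) (P : Matrix n n F)
    (h : ((c⁻¹ : (Matrix n n F)ˣ) : Matrix n n F) * P = P * ((c⁻¹ : (Matrix n n F)ˣ) : Matrix n n F) * P) :
    (((c : Matrix n n F) * a * ((c⁻¹ : (Matrix n n F)ˣ) : Matrix n n F) - 1) * P).rank ≤ ((a - 1) * P).rank := by
  have h1 : ((c : Matrix n n F) * a * ((c⁻¹ : (Matrix n n F)ˣ) : Matrix n n F) - 1) * P =
      (c : Matrix n n F) * (((a - 1) * P) * (((c⁻¹ : (Matrix n n F)ˣ) : Matrix n n F) * P)) := by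
    have e1 : (c : Matrix n n F) * a * ((c⁻¹ : (Matrix n n F)ˣ) : Matrix n n F) - 1 =
        (c : Matrix n n F) * (a - 1) * ((c⁻¹ : (Matrix n n F)ˣ) : Matrix n n F) := by
      rw [Matrix.mul_sub, Matrix.sub_mul, Matrix.mul_one]
      congr 1
      exact (Units.mul_inv c).symm
    rw [e1]
    calc (c : Matrix n n F) * (a - 1) * ((c⁻¹ : (Matrix n n F)ˣ) : Matrix n n F) * P
        = (c : Matrix n n F) * (a - 1) * (((c⁻¹ : (Matrix n n F)ˣ) : Matrix n n F) * P) := by
          rw [Matrix.mul_assoc]
      _ = (c : Matrix n n F) * (a - 1) * (P * ((c⁻¹ : (Matrix n n F)ˣ) : Matrix n n F) * P) := by rw [h]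
      _ = (c : Matrix n n F) * (((a - 1) * P) * (((c⁻¹ : (Matrix n n F)ˣ) : Matrix n n F) * P)) := by
          simp only [Matrix.mul_assoc]
  rw [h1]
  have hc : IsUnit ((c : Matrix n n F)).det := (Matrix.isUnit_iff_isUnit_det _).1 c.isUnit
  rw [Matrix.rank_mul_eq_right_of_isUnit_det _ _ hc]
  exact Matrix.rank_mul_le_left _ _

end generic

variable {F : Type*} [Field F]

/-- the rank of `(t - 1) P` is invariant under conjugation in the Chevalley group, when the range of `P` is invariant
under the group -/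
theorem rank_mul_eq_of_CJ {D : ChevalleyDatum} (P : Matrix D.Idx D.Idx F)
    (hP : ∀ c ∈ D.group F, (c : Matrix D.Idx D.Idx F) * P = P * (c : Matrix D.Idx D.Idx F) * P)
    {a b : GL D.Idx F} (h : Cfsg.Agent.Helper13.InvN.CJ D F a b) :
    (((a : Matrix D.Idx D.Idx F) - 1) * P).rank = (((b : Matrix D.Idx D.Idx F) - 1) * P).rank := by
  obtain ⟨c, hc, e⟩ := h
  apply le_antisymm
  · -- a = c⁻¹ b c
    have ea : (a : Matrix D.Idx D.Idx F) = ((c⁻¹ : GL D.Idx F) : Matrix D.Idx D.Idx F) *
        (b : Matrix D.Idx D.Idx F) * (((c⁻¹ : GL D.Idx F)⁻¹ : GL D.Idx F) : Matrix D.Idx D.Idx F) := by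
      rw [← e]
      simp [Units.val_mul, Matrix.mul_assoc]
    rw [ea]
    apply rank_conj_sub_one_mul_le
    rw [inv_inv]
    exact hP c hc
  · have eb : (b : Matrix D.Idx D.Idx F) = (c : Matrix D.Idx D.Idx F) *
        (a : Matrix D.Idx D.Idx F) * ((c⁻¹ : GL D.Idx F) : Matrix D.Idx D.Idx F) := by
      rw [← e]
      simp [Units.val_mul]
    rw [eb]
    apply rank_conj_sub_one_mul_le
    exact hP c⁻¹ (inv_mem hc)

/-- to check the invariance of the range of `P` it is enough to check it on a set of generators closed under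
inverses -/
theorem invariant_of_closure {n : Type*} [Fintype n] [DecidableEq n] (P : Matrix n n F) (s : Set (GL n F))
    (hs : ∀ c ∈ s, (c : Matrix n n F) * P = P * (c : Matrix n n F) * P)
    (hinv : ∀ c ∈ s, c⁻¹ ∈ s) (hPP : P * P = P) :
    ∀ c ∈ Subgroup.closure s, (c : Matrix n n F) * P = P * (c : Matrix n n F) * P := by
  intro c hc
  induction hc using Subgroup.closure_induction'' with
  | one => simp [hPP]
  | mem x hx => exact hs x hx
  | inv_mem x hx => exact hs _ (hinv x hx)
  | mul x y _ _ hx hy =>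
    rw [Units.val_mul]
    calc (x : Matrix n n F) * (y : Matrix n n F) * P
        = (x : Matrix n n F) * ((y : Matrix n n F) * P) := by rw [Matrix.mul_assoc]
      _ = (x : Matrix n n F) * (P * (y : Matrix n n F) * P) := by rw [← hy]
      _ = ((x : Matrix n n F) * P) * ((y : Matrix n n F) * P) := by simp only [Matrix.mul_assoc]
      _ = (P * (x : Matrix n n F) * P) * ((y : Matrix n n F) * P) := by rw [← hx]
      _ = P * (x : Matrix n n F) * (P * (y : Matrix n n F) * P) := by simp only [Matrix.mul_assoc]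
      _ = P * (x : Matrix n n F) * ((y : Matrix n n F) * P) := by rw [← hy]
      _ = P * ((x : Matrix n n F) * (y : Matrix n n F)) * P := by simp only [Matrix.mul_assoc]

end Cfsg.Agent.Helper16.RK
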