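import Mathlib
import Cfsg.Agent.Lib.Helper24.CharComplete
import Cfsg.Agent.Lib.Helper3.J1Defs

/-!
# S0448 piece ORTHO (helper3's skeleton; proof by helper16)

The column orthogonality relations for the columns `1, t, w, v, v³`.
-/

set_option autoImplicit false
set_option linter.unusedSectionVars false
set_option linter.unusedVariables false

namespace Cfsg.Agent.Helper3.J1

open Cfsg Cfsg.Agent.Helper24 Cfsg.Agent.Helper15.GL23
open scoped ComplexConjugate

universe u

theorem ortho_sq5_mul_self : sq5 * sq5 = 5 := by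
  unfold sq5
  rw [← Complex.ofReal_mul, Real.mul_self_sqrt (by norm_num)]
  norm_num

theorem ortho_conj_sq5 : conj sq5 = sq5 := by
  unfold sq5
  exact Complex.conj_ofReal _

/-- `1` and `√5` are linearly independent over the integers -/
theorem ortho_sq5_indep (A B : ℤ) (h : (A : ℂ) + (B : ℂ) * sq5 = 0) : A = 0 ∧ B = 0 := by
  have hirr : Irrational (Real.sqrt 5) := by
    have := Nat.Prime.irrational_sqrt (p := 5) (by norm_num)
    simpa using this
  have hr : (A : ℝ) + (B : ℝ) * Real.sqrt 5 = 0 := by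
    have h' : (((A : ℝ) + (B : ℝ) * Real.sqrt 5 : ℝ) : ℂ) = 0 := by
      unfold sq5 at h
      push_cast
      exact h
    exact_mod_cast h'
  by_cases hB : B = 0
  · subst hB
    simp at hr
    exact ⟨by exact_mod_cast hr, rfl⟩
  · exfalso
    have hB' : (B : ℝ) ≠ 0 := by exact_mod_cast hB
    have : Real.sqrt 5 = ((-A / B : ℚ) : ℝ) := by
      push_cast
      field_simp
      linarith
    exact hirr ⟨_, this.symm⟩

/-- splitting a vanishing sum along `1, sq5` -/
theorem ortho_split {ι : Type*} [Fintype ι] (A B : ι → ℤ)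
    (h : ∑ X, ((A X : ℂ) + (B X : ℂ) * sq5) = 0) : ∑ X, A X = 0 ∧ ∑ X, B X = 0 := by
  have h2 : ((∑ X, A X : ℤ) : ℂ) + ((∑ X, B X : ℤ) : ℂ) * sq5 = 0 := by
    push_cast
    rw [Finset.sum_mul, ← Finset.sum_add_distrib]
    exact h
  exact ortho_sq5_indep _ _ h2

/-- conjugate elements have centralizers of the same order -/
theorem ortho_card_centralizer_conj {K : Type*} [Group K] (g t : K) :
    Nat.card (Subgroup.centralizer ({g * t * g⁻¹} : Set K)) =
      Nat.card (Subgroup.centralizer ({t} : Set K)) := by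
  have hmem : ∀ y : K, y ∈ Subgroup.centralizer ({g * t * g⁻¹} : Set K) ↔
      g⁻¹ * y * g ∈ Subgroup.centralizer ({t} : Set K) := by
    intro y
    rw [Subgroup.mem_centralizer_singleton_iff, Subgroup.mem_centralizer_singleton_iff]
    constructor
    · intro hy
      calc g⁻¹ * y * g * t = g⁻¹ * (y * (g * t * g⁻¹)) * g := by group
        _ = g⁻¹ * ((g * t * g⁻¹) * y) * g := by rw [hy]
        _ = t * (g⁻¹ * y * g) := by group
    · intro hy
      calc y * (g * t * g⁻¹) = g * (g⁻¹ * y * g * t) * g⁻¹ := by group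
        _ = g * (t * (g⁻¹ * y * g)) * g⁻¹ := by rw [hy]
        _ = g * t * g⁻¹ * y := by group
  refine Nat.card_congr ⟨fun y => ⟨g⁻¹ * y.1 * g, (hmem _).1 y.2⟩,
    fun y => ⟨g * y.1 * g⁻¹, (hmem _).2 (by
      have : g⁻¹ * (g * y.1 * g⁻¹) * g = y.1 := by group
      rw [this]; exact y.2)⟩, ?_, ?_⟩
  · intro y; apply Subtype.ext; simp only; group
  · intro y; apply Subtype.ext; simp only; group

theorem ortho_not_isConj_of_card {K : Type*} [Group K] {x y : K}
    (h : Nat.card (Subgroup.centralizer ({x} : Set K)) ≠ Nat.card (Subgroup.centralizer ({y} : Set K))) :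
    ¬ IsConj x y := by
  intro hc
  obtain ⟨g, hg⟩ := isConj_iff.mp hc
  apply h
  rw [← hg, ortho_card_centralizer_conj]

theorem ortho_ne_one : z0 ≠ 1 ∧ w0 ≠ 1 ∧ v0 ≠ 1 ∧ v0 ^ 3 ≠ 1 := by
  refine ⟨?_, ?_, ?_, ?_⟩ <;> decide

section Tab

variable {G : Type u} [Group G] [Fintype G] [Fintype (IrrCharacter G)]

/-- PIECE ORTHO: the column orthogonality relations -/
theorem ortho {t : G} {f : H0 →* G} (c : Cfg t f) {T U M N D : IrrCharacter G → ℤ}
    (h : ValData c T U M N D) : J1A.Ortho T U M N D (Nat.card G) := by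
  classical
  have hD := h.hD
  have hne : ∀ k : H0, k ≠ 1 → f k ≠ 1 := by
    intro k hk hfk
    apply hk
    apply c.inj
    rw [hfk, map_one]
  obtain ⟨z1, w1, v1, v31⟩ := ortho_ne_one
  have ht1 : t ≠ 1 := c.fz ▸ hne _ z1
  have hw1 := hne _ w1
  have hv1 := hne _ v1
  have hv31 := hne _ v31
  -- non-conjugacy
  have n_t1 : ¬ IsConj t 1 := fun hc => ht1 (isConj_one_left.1 hc)
  have n_w1 : ¬ IsConj (f w0) 1 := fun hc => hw1 (isConj_one_left.1 hc)
  have n_v1 : ¬ IsConj (f v0) 1 := fun hc => hv1 (isConj_one_left.1 hc)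
  have n_wt : ¬ IsConj (f w0) t := ortho_not_isConj_of_card (by rw [c.cardw, c.cardt]; norm_num)
  have n_vt : ¬ IsConj (f v0) t := ortho_not_isConj_of_card (by rw [c.cardv, c.cardt]; norm_num)
  have n_vw : ¬ IsConj (f v0) (f w0) := ortho_not_isConj_of_card (by rw [c.cardv, c.cardw]; norm_num)
  have n_v3v : ¬ IsConj (f (v0 ^ 3)) (f v0) := fun hc => c.nconj_v hc.symm
  have hcen1 : Nat.card (Subgroup.centralizer ({(1 : G)} : Set G)) = Nat.card G := by
    have : Subgroup.centralizer ({(1 : G)} : Set G) = ⊤ := by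
      ext y
      simp [Subgroup.mem_centralizer_singleton_iff]
    rw [this, Subgroup.card_top]
  -- the relations with rational columns
  have e_tt := second_orthogonality' (G := G) t t
  have e_uu := second_orthogonality' (G := G) (f w0) (f w0)
  have e_tu := second_orthogonality' (G := G) t (f w0)
  have e_dt := second_orthogonality' (G := G) 1 t
  have e_du := second_orthogonality' (G := G) 1 (f w0)
  have e_dd := second_orthogonality' (G := G) 1 1
  -- the relations with the column of `v`
  have e_vv := second_orthogonality' (G := G) (f v0) (f v0)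
  have e_vv' := second_orthogonality' (G := G) (f v0) (f (v0 ^ 3))
  have e_tv := second_orthogonality' (G := G) t (f v0)
  have e_uv := second_orthogonality' (G := G) (f w0) (f v0)
  have e_dv := second_orthogonality' (G := G) 1 (f v0)
  rw [if_pos (IsConj.refl _), c.cardt] at e_tt
  rw [if_pos (IsConj.refl _), c.cardw] at e_uu
  rw [if_pos (IsConj.refl _), c.cardv] at e_vv
  rw [if_pos (IsConj.refl _), hcen1] at e_dd
  rw [if_neg n_wt] at e_tu
  rw [if_neg n_t1] at e_dt
  rw [if_neg n_w1] at e_du
  rw [if_neg n_v3v] at e_vv'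
  rw [if_neg n_vt] at e_tv
  rw [if_neg n_vw] at e_uv
  rw [if_neg n_v1] at e_dv
  simp only [h.hT, h.hU, h.hV, h.hV3, hD, map_intCast, map_add, map_sub, map_mul, map_div₀, map_ofNat,
    ortho_conj_sq5] at e_tt e_uu e_tu e_dt e_du e_dd e_vv e_vv' e_tv e_uv e_dv
  -- split the `v`-relations
  have s_vv := ortho_sq5_indep (∑ X : IrrCharacter G, (M X * M X + 5 * (N X * N X)) - 40)
    (∑ X : IrrCharacter G, 2 * (M X * N X)) (by
      have e4 : (4 : ℂ) * ((10 : ℕ) : ℂ) = 40 := by norm_num
      rw [← e_vv, Finset.mul_sum] at e4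
      push_cast
      rw [← e4, Finset.sum_mul, ← Finset.sum_sub_distrib, ← Finset.sum_add_distrib]
      refine Finset.sum_eq_zero fun X _ => ?_
      linear_combination (-((N X : ℂ) * (N X : ℂ))) * ortho_sq5_mul_self)
  have s_vv' : ∑ X : IrrCharacter G, (M X * M X - 5 * (N X * N X)) = 0 := by
    have : ((∑ X : IrrCharacter G, (M X * M X - 5 * (N X * N X)) : ℤ) : ℂ) = 4 * 0 := by
      rw [← e_vv', Finset.mul_sum]
      push_cast
      refine Finset.sum_congr rfl fun X _ => ?_
      linear_combination ((N X : ℂ) * (N X : ℂ)) * ortho_sq5_mul_self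
    rw [mul_zero] at this
    exact_mod_cast this
  have s_tv := ortho_split (fun X : IrrCharacter G => T X * M X)
    (fun X : IrrCharacter G => T X * N X) (by
      have : (2 : ℂ) * 0 = 0 := mul_zero _
      rw [← this, ← e_tv, Finset.mul_sum]
      refine Finset.sum_congr rfl fun X _ => ?_
      push_cast
      ring)
  have s_uv := ortho_split (fun X : IrrCharacter G => U X * M X)
    (fun X : IrrCharacter G => U X * N X) (by
      have : (2 : ℂ) * 0 = 0 := mul_zero _
      rw [← this, ← e_uv, Finset.mul_sum]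
      refine Finset.sum_congr rfl fun X _ => ?_
      push_cast
      ring)
  have s_dv := ortho_split (fun X : IrrCharacter G => D X * M X)
    (fun X : IrrCharacter G => D X * N X) (by
      have : (2 : ℂ) * 0 = 0 := mul_zero _
      rw [← this, ← e_dv, Finset.mul_sum]
      refine Finset.sum_congr rfl fun X _ => ?_
      push_cast
      ring)
  obtain ⟨s_vv1, s_vv2⟩ := s_vv
  simp only [Finset.sum_add_distrib, Finset.sum_sub_distrib, ← Finset.mul_sum] at s_vv1 s_vv2 s_vv'
  exact
    { tt := by exact_mod_cast e_tt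
      uu := by exact_mod_cast e_uu
      mm := by linarith
      nn := by linarith
      tu := by exact_mod_cast e_tu
      tm := s_tv.1
      tn := s_tv.2
      um := s_uv.1
      un := s_uv.2
      mn := by linarith
      dt := by exact_mod_cast e_dt
      du := by exact_mod_cast e_du
      dm := s_dv.1
      dn := s_dv.2
      dd := by exact_mod_cast e_dd }

end Tab

end Cfsg.Agent.Helper3.J1
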