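import Mathlib
import Cfsg.Agent.Lib.Helper24.CharComplete
import Cfsg.Agent.Lib.Helper3.J1Defs
import Cfsg.Agent.Lib.Helper16.J1ORTHO

/-!
# S0448 piece XORTHO (helper3's skeleton; proof by helper16)

The column of `x = f x0` (order 3) is orthogonal to the columns of `t`, `w`, `v + v³`.
-/

set_option autoImplicit false
set_option linter.unusedSectionVars false
set_option linter.unusedVariables false

namespace Cfsg.Agent.Helper3.J1

open Cfsg Cfsg.Agent.Helper24 Cfsg.Agent.Helper15.GL23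
open scoped ComplexConjugate

universe u

theorem xortho_cube : x0 ^ 3 = 1 ∧ z0 ^ 3 ≠ 1 ∧ w0 ^ 3 ≠ 1 ∧ v0 ^ 3 ≠ 1 := by
  refine ⟨?_, ?_, ?_, ?_⟩ <;> decide

theorem xortho_not_isConj {K : Type*} [Group K] {a b : K} (ha : a ^ 3 ≠ 1) (hb : b ^ 3 = 1) :
    ¬ IsConj a b := by
  intro hc
  obtain ⟨g, hg⟩ := isConj_iff.mp hc
  apply ha
  have : b ^ 3 = g * a ^ 3 * g⁻¹ := by
    rw [← hg, conj_pow]
  rw [hb] at this
  have h2 : a ^ 3 = g⁻¹ * (g * a ^ 3 * g⁻¹) * g := by group
  rw [h2, ← this]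
  group

section Tab

variable {G : Type u} [Group G] [Fintype G] [Fintype (IrrCharacter G)]

/-- PIECE XORTHO: the column of `x = f x0` (order 3) is orthogonal to the columns of `t`, `w`, `v`, `v³` -/
theorem x_ortho {t : G} {f : H0 →* G} (c : Cfg t f) {T U M N D : IrrCharacter G → ℤ}
    (h : ValData c T U M N D) {Xi S : IrrCharacter G → ℤ} (hx : XiData c Xi S) :
    ∑ X, Xi X * T X = 0 ∧ ∑ X, Xi X * U X = 0 ∧ ∑ X, Xi X * M X = 0 := by
  classical
  obtain ⟨x3, z3, w3, v3⟩ := xortho_cube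
  have hne : ∀ k : H0, k ^ 3 ≠ 1 → (f k) ^ 3 ≠ 1 := by
    intro k hk hfk
    apply hk
    apply c.inj
    rw [map_pow, hfk, map_one]
  have hx3 : (f x0) ^ 3 = 1 := by rw [← map_pow, x3, map_one]
  have n_t : ¬ IsConj t (f x0) := xortho_not_isConj (c.fz ▸ hne _ z3) hx3
  have n_w : ¬ IsConj (f w0) (f x0) := xortho_not_isConj (hne _ w3) hx3
  have n_v : ¬ IsConj (f v0) (f x0) := xortho_not_isConj (hne _ v3) hx3
  have e_t := second_orthogonality' (G := G) (f x0) t
  have e_w := second_orthogonality' (G := G) (f x0) (f w0)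
  have e_v := second_orthogonality' (G := G) (f x0) (f v0)
  rw [if_neg n_t] at e_t
  rw [if_neg n_w] at e_w
  rw [if_neg n_v] at e_v
  simp only [h.hT, h.hU, h.hV, hx.hX, map_intCast, map_add, map_mul, map_div₀, map_ofNat,
    ortho_conj_sq5] at e_t e_w e_v
  have s_v := ortho_split (fun X : IrrCharacter G => Xi X * M X)
    (fun X : IrrCharacter G => Xi X * N X) (by
      have : (2 : ℂ) * 0 = 0 := mul_zero _
      rw [← this, ← e_v, Finset.mul_sum]
      refine Finset.sum_congr rfl fun X _ => ?_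
      push_cast
      ring)
  exact ⟨by exact_mod_cast e_t, by exact_mod_cast e_w, s_v.1⟩

end Tab

end Cfsg.Agent.Helper3.J1
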