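import Mathlib
import Cfsg.Agent.Lib.Helper16.KF9Defs
import Cfsg.Agent.Lib.Helper24.KF9GRP0
import Cfsg.Agent.Lib.Helper24.KF9NORM
import Cfsg.Agent.Lib.Helper3.KF9GRPA
import Cfsg.Agent.Lib.Helper26.KF9TRI
import Cfsg.Agent.Lib.Helper26.KF9CENT
import Cfsg.Agent.Lib.Helper26.KF9COUNT
import Cfsg.Agent.Lib.Helper19.KF9CENT6
import Cfsg.Agent.Lib.Helper24.KF9RAT3
import Cfsg.Agent.Lib.Helper24.KF9RAT6
import Cfsg.Agent.Lib.Helper24.KF9MOD3
import Cfsg.Agent.Lib.Helper24.KF9MOD2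
import Cfsg.Agent.Lib.Helper24.KF9LIN
import Cfsg.Agent.Lib.Helper24.S3805STRUCT
import Cfsg.Agent.Lib.Helper1.S3805GRID
import Cfsg.Agent.Lib.Helper1.S3805KILL
import Cfsg.Agent.Lib.Helper13.BR996CC
import Cfsg.Agent.Lib.Helper24.CharComplete

set_option autoImplicit false
set_option linter.unusedSectionVars false
set_option linter.unusedVariables false
set_option linter.unusedSimpArgs false
set_option linter.style.haveILetI false

namespace Cfsg.Agent.Helper16.KF9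

open Cfsg Cfsg.Agent.Helper24
open scoped ComplexConjugate

universe u

namespace Asm

section Basic

variable {G : Type u} [Group G] {T : Sylow 3 G}

theorem t1_cube (c : Cfg T) : c.t1 ^ 3 = 1 := by
  rw [← c.o1]; exact pow_orderOf_eq_one _

theorem t2_cube (c : Cfg T) : c.t2 ^ 3 = 1 := by
  rw [← c.o2]; exact pow_orderOf_eq_one _

theorem t1_ne_one (c : Cfg T) : c.t1 ≠ 1 := by
  intro h
  have := c.o1
  rw [h, orderOf_one] at this
  omega

theorem t2_ne_one (c : Cfg T) : c.t2 ≠ 1 := by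
  intro h
  have := c.o2
  rw [h, orderOf_one] at this
  omega

theorem a_inv (c : Cfg T) : c.a⁻¹ = c.a := inv_eq_of_mul_eq_one_left c.aa

theorem b_inv (c : Cfg T) : c.b⁻¹ = c.b := inv_eq_of_mul_eq_one_left c.bb

theorem bt1 (c : Cfg T) : c.b * c.t1 = c.t1 * c.b := by
  have := c.b1
  rw [mul_inv_eq_iff_eq_mul] at this
  exact this

theorem at2 (c : Cfg T) : c.a * c.t2 = c.t2 * c.a := by
  have := c.a2
  rw [mul_inv_eq_iff_eq_mul] at this
  exact this

theorem at1 (c : Cfg T) : c.a * c.t1 = c.t1⁻¹ * c.a := by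
  have := c.a1
  rw [mul_inv_eq_iff_eq_mul] at this
  exact this

theorem bt2 (c : Cfg T) : c.b * c.t2 = c.t2⁻¹ * c.b := by
  have := c.b2
  rw [mul_inv_eq_iff_eq_mul] at this
  exact this

theorem conj_t1 (c : Cfg T) : IsConj c.t1 c.t1⁻¹ := isConj_iff.2 ⟨c.a, c.a1⟩

theorem conj_t2 (c : Cfg T) : IsConj c.t2 c.t2⁻¹ := isConj_iff.2 ⟨c.b, c.b2⟩

theorem conj_mul (x y z : G) : x * (y * z) * x⁻¹ = (x * y * x⁻¹) * (x * z * x⁻¹) := by group

theorem conj_conj (x y z : G) : (x * y) * z * (x * y)⁻¹ = x * (y * z * y⁻¹) * x⁻¹ := by group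

theorem conj_inv' (x y : G) : x * y⁻¹ * x⁻¹ = (x * y * x⁻¹)⁻¹ := by group

theorem conj_t3 (h : Hyp T) (c : Cfg T) : IsConj c.t3 c.t3⁻¹ := by
  refine isConj_iff.2 ⟨c.a * c.b, ?_⟩
  unfold Cfg.t3
  rw [conj_conj, conj_mul c.b, c.b1, c.b2, conj_mul c.a, c.a1, conj_inv', c.a2, mul_inv_rev,
    h.comm _ (inv_mem c.ht2) _ (inv_mem c.ht1)]

theorem conj_c4 (c : Cfg T) : IsConj c.c4 c.c4⁻¹ := by
  refine isConj_iff.2 ⟨c.a, ?_⟩
  unfold Cfg.c4
  have e : c.a * c.b * c.a⁻¹ = c.b := by rw [c.ab, mul_assoc, mul_inv_cancel, mul_one]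
  rw [conj_mul, c.a1, e, mul_inv_rev, b_inv]
  have := bt1 c
  -- b * t1⁻¹ = t1⁻¹ * b
  have h2 : c.b * c.t1⁻¹ = c.t1⁻¹ * c.b := by
    have : c.t1⁻¹ * (c.b * c.t1) * c.t1⁻¹ = c.t1⁻¹ * (c.t1 * c.b) * c.t1⁻¹ := by rw [bt1]
    simpa [mul_assoc] using this.symm
  exact h2.symm

theorem conj_c5 (c : Cfg T) : IsConj c.c5 c.c5⁻¹ := by
  refine isConj_iff.2 ⟨c.b, ?_⟩
  unfold Cfg.c5
  have e : c.b * c.a * c.b⁻¹ = c.a := by rw [← c.ab, mul_assoc, mul_inv_cancel, mul_one]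
  rw [conj_mul, c.b2, e, mul_inv_rev, a_inv]
  have h2 : c.a * c.t2⁻¹ = c.t2⁻¹ * c.a := by
    have : c.t2⁻¹ * (c.a * c.t2) * c.t2⁻¹ = c.t2⁻¹ * (c.t2 * c.a) * c.t2⁻¹ := by rw [at2]
    simpa [mul_assoc] using this.symm
  exact h2.symm

theorem c4_pow_four (c : Cfg T) : c.c4 ^ 4 = c.t1 := by
  unfold Cfg.c4
  have hc : Commute c.t1 c.b := (bt1 c).symm
  rw [hc.mul_pow]
  have hb4 : c.b ^ 4 = 1 := by
    have : c.b ^ 2 = 1 := by rw [pow_two, c.bb]
    rw [show 4 = 2 * 2 by norm_num, pow_mul, this, one_pow]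
  rw [hb4, mul_one, show 4 = 3 + 1 by norm_num, pow_add, t1_cube, one_mul, pow_one]

theorem c5_pow_four (c : Cfg T) : c.c5 ^ 4 = c.t2 := by
  unfold Cfg.c5
  have hc : Commute c.t2 c.a := (at2 c).symm
  rw [hc.mul_pow]
  have ha4 : c.a ^ 4 = 1 := by
    have : c.a ^ 2 = 1 := by rw [pow_two, c.aa]
    rw [show 4 = 2 * 2 by norm_num, pow_mul, this, one_pow]
  rw [ha4, mul_one, show 4 = 3 + 1 by norm_num, pow_add, t2_cube, one_mul, pow_one]

end Basic


section Fus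

variable {G : Type u} [Group G] [Finite G] {T : Sylow 3 G}

theorem t3_mem (c : Cfg T) : c.t3 ∈ (T : Subgroup G) := mul_mem c.ht1 c.ht2

theorem t2_not_zpow (c : Cfg T) {k : ℤ} (hk : c.t2 = c.t1 ^ k) : False :=
  c.ind (Subgroup.mem_zpowers_iff.2 ⟨k, hk.symm⟩)

theorem t3_ne_one (c : Cfg T) : c.t3 ≠ 1 := by
  intro h
  unfold Cfg.t3 at h
  have : c.t2 = c.t1 ^ (-1 : ℤ) := by
    rw [zpow_neg, zpow_one]
    exact (inv_eq_of_mul_eq_one_right h).symm
  exact t2_not_zpow c this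

theorem order_t3 (h : Hyp T) (c : Cfg T) : orderOf c.t3 = 3 :=
  orderOf_eq_prime (h.exp _ (t3_mem c)) (t3_ne_one c)

theorem fusion_t1 (h : Hyp T) (c : Cfg T) {x : G} (hx : x ∈ (T : Subgroup G)) (hc : IsConj c.t1 x) :
    x = c.t1 ∨ x = c.t1⁻¹ := by
  obtain ⟨g, hg⟩ := isConj_iff.1 hc
  have hgN := mem_normalizer_of_conj h c.ht1 (t1_ne_one c) (g := g) (by rw [hg]; exact hx)
  rcases (normalizer_action h c hgN).1 with h1 | h1
  · left; rw [← hg, h1]
  · right; rw [← hg, h1]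

theorem fusion_t2 (h : Hyp T) (c : Cfg T) {x : G} (hx : x ∈ (T : Subgroup G)) (hc : IsConj c.t2 x) :
    x = c.t2 ∨ x = c.t2⁻¹ := by
  obtain ⟨g, hg⟩ := isConj_iff.1 hc
  have hgN := mem_normalizer_of_conj h c.ht2 (t2_ne_one c) (g := g) (by rw [hg]; exact hx)
  rcases (normalizer_action h c hgN).2 with h1 | h1
  · left; rw [← hg, h1]
  · right; rw [← hg, h1]

theorem fusion_t3 (h : Hyp T) (c : Cfg T) {x : G} (hx : x ∈ (T : Subgroup G)) (hc : IsConj c.t3 x) :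
    x = c.t1 * c.t2 ∨ x = c.t1⁻¹ * c.t2 ∨ x = c.t1 * c.t2⁻¹ ∨ x = c.t1⁻¹ * c.t2⁻¹ := by
  obtain ⟨g, hg⟩ := isConj_iff.1 hc
  have hgN := mem_normalizer_of_conj h (t3_mem c) (t3_ne_one c) (g := g) (by rw [hg]; exact hx)
  have hx' : x = (g * c.t1 * g⁻¹) * (g * c.t2 * g⁻¹) := by
    rw [← hg]; unfold Cfg.t3; rw [conj_mul]
  rcases (normalizer_action h c hgN).1 with h1 | h1 <;>
  rcases (normalizer_action h c hgN).2 with h2 | h2 <;> rw [h1, h2] at hx'
  · exact Or.inl hx'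
  · exact Or.inr (Or.inr (Or.inl hx'))
  · exact Or.inr (Or.inl hx')
  · exact Or.inr (Or.inr (Or.inr hx'))

theorem nc12 (h : Hyp T) (c : Cfg T) : ¬ IsConj c.t1 c.t2 := by
  intro hc
  rcases fusion_t1 h c c.ht2 hc with h1 | h1
  · exact t2_not_zpow c (k := 1) (by rw [zpow_one]; exact h1)
  · exact t2_not_zpow c (k := -1) (by rw [zpow_neg, zpow_one]; exact h1)

theorem nc13 (h : Hyp T) (c : Cfg T) : ¬ IsConj c.t1 c.t3 := by
  intro hc
  rcases fusion_t1 h c (t3_mem c) hc with h1 | h1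
  · unfold Cfg.t3 at h1
    have : c.t2 = c.t1 ^ (0 : ℤ) := by
      rw [zpow_zero]; exact mul_left_cancel (a := c.t1) (by rw [h1, mul_one])
    exact t2_not_zpow c this
  · unfold Cfg.t3 at h1
    have : c.t2 = c.t1 ^ (-2 : ℤ) := by
      have h2 : c.t2 = c.t1⁻¹ * (c.t1 * c.t2) := by group
      rw [h1] at h2
      rw [h2]; group
    exact t2_not_zpow c this

theorem nc23 (h : Hyp T) (c : Cfg T) : ¬ IsConj c.t2 c.t3 := by
  intro hc
  rcases fusion_t2 h c (t3_mem c) hc with h1 | h1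
  · unfold Cfg.t3 at h1
    exact t1_ne_one c (mul_right_cancel (b := c.t2) (by rw [h1, one_mul]))
  · unfold Cfg.t3 at h1
    have h2 : c.t1 = c.t2⁻¹ * c.t2⁻¹ := by
      have : c.t1 = (c.t1 * c.t2) * c.t2⁻¹ := by group
      rw [this, h1]
    have h3 : c.t2⁻¹ * c.t2⁻¹ = c.t2 := by
      have := t2_cube c
      have h4 : c.t2⁻¹ * c.t2⁻¹ = c.t2 ^ 3 * (c.t2⁻¹ * c.t2⁻¹) := by rw [this, one_mul]
      rw [h4]; group
    rw [h3] at h2
    exact t2_not_zpow c (k := 1) (by rw [zpow_one]; exact h2.symm)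

theorem nc45 (h : Hyp T) (c : Cfg T) : ¬ IsConj c.c4 c.c5 := by
  intro hc
  obtain ⟨g, hg⟩ := isConj_iff.1 hc
  apply nc12 h c
  refine isConj_iff.2 ⟨g, ?_⟩
  rw [← c4_pow_four, ← c5_pow_four, ← hg, conj_pow]

theorem nc_of_order {x y : G} (hxy : orderOf x ≠ orderOf y) : ¬ IsConj x y := by
  intro hc
  obtain ⟨g, hg⟩ := isConj_iff.1 hc
  apply hxy
  rw [← hg]
  have : g * x * g⁻¹ = MulAut.conj g x := by simp [MulAut.conj_apply]
  rw [this, MulEquiv.orderOf_eq]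

end Fus


section Chr

variable {G : Type u} [Group G] [Fintype G] [Fintype (IrrCharacter G)] {T : Sylow 3 G}

/-- the five class representatives -/
def rep (c : Cfg T) : Fin 5 → G := ![c.t1, c.t2, c.t3, c.c4, c.c5]

/-- the centralizer orders -/
def cc : Fin 5 → ℤ := ![18, 18, 9, 6, 6]

theorem rep_conj_inv (h : Hyp T) (c : Cfg T) (i : Fin 5) : IsConj (rep c i) (rep c i)⁻¹ := by
  fin_cases i
  · exact conj_t1 c
  · exact conj_t2 c
  · exact conj_t3 h c
  · exact conj_c4 c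
  · exact conj_c5 c

theorem rep_order (h : Hyp T) (c : Cfg T) (i : Fin 5) :
    orderOf (rep c i) = 3 ∨ orderOf (rep c i) = 6 := by
  fin_cases i
  · exact Or.inl c.o1
  · exact Or.inl c.o2
  · exact Or.inl (order_t3 h c)
  · exact Or.inr (order_c4 h c)
  · exact Or.inr (order_c5 h c)

theorem rep_ne_one (h : Hyp T) (c : Cfg T) (i : Fin 5) : rep c i ≠ 1 := by
  intro h1
  rcases rep_order h c i with h2 | h2 <;> rw [h1, orderOf_one] at h2 <;> omega

theorem rep_card (h : Hyp T) (c : Cfg T) (i : Fin 5) :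
    (Nat.card (Subgroup.centralizer ({rep c i} : Set G)) : ℤ) = cc i := by
  fin_cases i
  · show ((Nat.card (Subgroup.centralizer ({c.t1} : Set G)) : ℕ) : ℤ) = 18
    rw [card_centralizer_t1 h c]; rfl
  · show ((Nat.card (Subgroup.centralizer ({c.t2} : Set G)) : ℕ) : ℤ) = 18
    rw [card_centralizer_t2 h c]; rfl
  · show ((Nat.card (Subgroup.centralizer ({c.t3} : Set G)) : ℕ) : ℤ) = 9
    rw [card_centralizer_t3 h c]; rfl
  · show ((Nat.card (Subgroup.centralizer ({c.c4} : Set G)) : ℕ) : ℤ) = 6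
    rw [card_centralizer_c4_core h c (card_centralizer_t1 h c)]; rfl
  · show ((Nat.card (Subgroup.centralizer ({c.c5} : Set G)) : ℕ) : ℤ) = 6
    rw [card_centralizer_c5_core h c (card_centralizer_t2 h c)]; rfl

theorem rep_nc (h : Hyp T) (c : Cfg T) (i j : Fin 5) (hij : i ≠ j) : ¬ IsConj (rep c i) (rep c j) := by
  have o1 := c.o1
  have o2 := c.o2
  have o3 := order_t3 h c
  have o4 := order_c4 h c
  have o5 := order_c5 h c
  fin_cases i <;> fin_cases j <;> first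
    | exact absurd rfl hij
    | exact nc12 h c
    | exact fun hc => nc12 h c hc.symm
    | exact nc13 h c
    | exact fun hc => nc13 h c hc.symm
    | exact nc23 h c
    | exact fun hc => nc23 h c hc.symm
    | exact nc45 h c
    | exact fun hc => nc45 h c hc.symm
    | (apply nc_of_order; show orderOf _ ≠ orderOf _; simp only [rep]; simp [o1, o2, o3, o4, o5])

theorem exists_vals (h : Hyp T) (c : Cfg T) :
    ∃ P : Fin 5 → IrrCharacter G → ℤ,
      ∀ (i : Fin 5) (X : IrrCharacter G), (X : G → ℂ) (rep c i) = (P i X : ℂ) := by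
  have : ∀ i : Fin 5, ∀ X : IrrCharacter G, ∃ n : ℤ, (X : G → ℂ) (rep c i) = (n : ℂ) := by
    intro i X
    rcases rep_order h c i with h3 | h6
    · exact int_of_order_three (isCharacter_of_isIrrCharacter X.2) h3 (rep_conj_inv h c i)
    · exact int_of_order_six (isCharacter_of_isIrrCharacter X.2) h6 (rep_conj_inv h c i)
  choose P hP using this
  exact ⟨P, hP⟩

end Chr


section Gram

variable {G : Type u} [Group G] [Fintype G] [Fintype (IrrCharacter G)] {T : Sylow 3 G}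

theorem gram (h : Hyp T) (c : Cfg T) (P : Fin 5 → IrrCharacter G → ℤ)
    (hP : ∀ (i : Fin 5) (X : IrrCharacter G), (X : G → ℂ) (rep c i) = (P i X : ℂ)) (i j : Fin 5) :
    ∑ X : IrrCharacter G, P i X * P j X = if i = j then cc i else 0 := by
  classical
  have h1 := second_orthogonality' (G := G) (rep c i) (rep c j)
  have h2 : ∑ χ : IrrCharacter G, (χ : G → ℂ) (rep c i) * conj ((χ : G → ℂ) (rep c j)) =
      ((∑ X : IrrCharacter G, P i X * P j X : ℤ) : ℂ) := by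
    push_cast
    refine Finset.sum_congr rfl fun X _ => ?_
    rw [hP i X, hP j X, map_intCast]
  rw [h2] at h1
  by_cases hij : i = j
  · subst hij
    rw [if_pos (IsConj.refl _)] at h1
    rw [if_pos rfl]
    have h3 := rep_card h c i
    have h4 : ((Nat.card (Subgroup.centralizer ({rep c i} : Set G)) : ℕ) : ℂ) = ((cc i : ℤ) : ℂ) := by
      rw [← h3]; push_cast; rfl
    rw [h4] at h1
    exact_mod_cast h1
  · rw [if_neg (rep_nc h c j i (Ne.symm hij))] at h1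
    rw [if_neg hij]
    exact_mod_cast h1

theorem gram_deg (h : Hyp T) (c : Cfg T) (P : Fin 5 → IrrCharacter G → ℤ)
    (hP : ∀ (i : Fin 5) (X : IrrCharacter G), (X : G → ℂ) (rep c i) = (P i X : ℂ)) (i : Fin 5) :
    ∑ X : IrrCharacter G, P i X * (charDegree (X : G → ℂ) : ℤ) = 0 := by
  classical
  have h1 := second_orthogonality' (G := G) (rep c i) (1 : G)
  have h2 : ∑ χ : IrrCharacter G, (χ : G → ℂ) (rep c i) * conj ((χ : G → ℂ) 1) =
      ((∑ X : IrrCharacter G, P i X * (charDegree (X : G → ℂ) : ℤ) : ℤ) : ℂ) := by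
    push_cast
    refine Finset.sum_congr rfl fun X _ => ?_
    rw [hP i X, irr_one_eq_charDegree X.2, Complex.conj_natCast]
  rw [h2] at h1
  have hnc : ¬ IsConj (1 : G) (rep c i) := by
    intro hc
    rw [isConj_one_right] at hc
    exact rep_ne_one h c i hc
  rw [if_neg hnc] at h1
  exact_mod_cast h1

theorem vals_one (h : Hyp T) (c : Cfg T) (P : Fin 5 → IrrCharacter G → ℤ)
    (hP : ∀ (i : Fin 5) (X : IrrCharacter G), (X : G → ℂ) (rep c i) = (P i X : ℂ)) (i : Fin 5) :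
    P i (principalChar G) = 1 := by
  have h1 := hP i (principalChar G)
  have h2 : ((principalChar G : IrrCharacter G) : G → ℂ) (rep c i) = 1 := rfl
  rw [h2] at h1
  exact_mod_cast h1.symm

theorem cong3 (h : Hyp T) (c : Cfg T) (P : Fin 5 → IrrCharacter G → ℤ)
    (hP : ∀ (i : Fin 5) (X : IrrCharacter G), (X : G → ℂ) (rep c i) = (P i X : ℂ)) (X : IrrCharacter G) :
    (3 : ℤ) ∣ P 0 X - P 2 X ∧ (3 : ℤ) ∣ P 1 X - P 2 X := by
  have hX := isCharacter_of_isIrrCharacter X.2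
  obtain ⟨k0, hk0⟩ := mod_three hX c.o1 (P 0 X) (hP 0 X)
  obtain ⟨k1, hk1⟩ := mod_three hX c.o2 (P 1 X) (hP 1 X)
  obtain ⟨k2, hk2⟩ := mod_three hX (order_t3 h c) (P 2 X) (hP 2 X)
  exact ⟨⟨k2 - k0, by linarith⟩, ⟨k2 - k1, by linarith⟩⟩

theorem cong2 (h : Hyp T) (c : Cfg T) (P : Fin 5 → IrrCharacter G → ℤ)
    (hP : ∀ (i : Fin 5) (X : IrrCharacter G), (X : G → ℂ) (rep c i) = (P i X : ℂ)) (X : IrrCharacter G) :
    (2 : ℤ) ∣ P 3 X - P 0 X ∧ (2 : ℤ) ∣ P 4 X - P 1 X := by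
  have hX := isCharacter_of_isIrrCharacter X.2
  have e4 : (X : G → ℂ) (c.c4 ^ 4) = (P 0 X : ℂ) := by rw [c4_pow_four]; exact hP 0 X
  have e5 : (X : G → ℂ) (c.c5 ^ 4) = (P 1 X : ℂ) := by rw [c5_pow_four]; exact hP 1 X
  obtain ⟨k0, hk0⟩ := mod_two hX (order_c4 h c) (P 3 X) (P 0 X) (hP 3 X) e4
  obtain ⟨k1, hk1⟩ := mod_two hX (order_c5 h c) (P 4 X) (P 1 X) (hP 4 X) e5
  exact ⟨⟨k0, hk0⟩, ⟨k1, hk1⟩⟩

end Gram


section Word

variable {G : Type u} [Group G] [Finite G] {T : Sylow 3 G}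

/-- the word `t1^i t2^j` -/
def w (c : Cfg T) (i j : ℤ) : G := c.t1 ^ i * c.t2 ^ j

theorem comm12 (h : Hyp T) (c : Cfg T) : Commute c.t1 c.t2 := h.comm _ c.ht1 _ c.ht2

theorem w_mem (c : Cfg T) (i j : ℤ) : w c i j ∈ (T : Subgroup G) :=
  mul_mem (zpow_mem c.ht1 _) (zpow_mem c.ht2 _)

theorem w_mul (h : Hyp T) (c : Cfg T) (i j k l : ℤ) : w c i j * w c k l = w c (i + k) (j + l) := by
  unfold w
  have hc : Commute (c.t2 ^ j) (c.t1 ^ k) := ((comm12 h c).symm.zpow_zpow j k)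
  rw [zpow_add, zpow_add]
  calc c.t1 ^ i * c.t2 ^ j * (c.t1 ^ k * c.t2 ^ l)
      = c.t1 ^ i * (c.t2 ^ j * c.t1 ^ k) * c.t2 ^ l := by group
    _ = c.t1 ^ i * (c.t1 ^ k * c.t2 ^ j) * c.t2 ^ l := by rw [hc.eq]
    _ = c.t1 ^ i * c.t1 ^ k * (c.t2 ^ j * c.t2 ^ l) := by group

theorem t1_zpow_eq_one (c : Cfg T) (n : ℤ) : c.t1 ^ n = 1 ↔ (3 : ℤ) ∣ n := by
  rw [← orderOf_dvd_iff_zpow_eq_one, c.o1]; rfl

theorem t2_zpow_eq_one (c : Cfg T) (n : ℤ) : c.t2 ^ n = 1 ↔ (3 : ℤ) ∣ n := by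
  rw [← orderOf_dvd_iff_zpow_eq_one, c.o2]; rfl

theorem w_eq_one_iff (c : Cfg T) (i j : ℤ) : w c i j = 1 ↔ (3 : ℤ) ∣ i ∧ (3 : ℤ) ∣ j := by
  constructor
  · intro he
    unfold w at he
    have h1 : c.t2 ^ j = c.t1 ^ (-i) := by
      rw [zpow_neg]; exact (eq_inv_of_mul_eq_one_right he)
    have hj : (3 : ℤ) ∣ j := by
      by_contra hj
      -- j ≡ 1 or 2 mod 3
      have hmod : j % 3 = 1 ∨ j % 3 = 2 := by omega
      have hpow : c.t2 ^ j = c.t2 ^ (j % 3) := by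
        have := zpow_mod_orderOf c.t2 j
        rw [c.o2] at this
        exact this.symm
      rcases hmod with hm | hm
      · rw [hm, zpow_one] at hpow
        exact t2_not_zpow c (k := -i) (by rw [← hpow, h1])
      · rw [hm] at hpow
        have h4 : c.t2 = (c.t2 ^ (2 : ℤ)) ^ (2 : ℤ) := by
          rw [← zpow_mul]
          have : c.t2 ^ ((2 : ℤ) * 2) = c.t2 ^ (3 : ℤ) * c.t2 := by
            rw [show ((2 : ℤ) * 2) = 3 + 1 by norm_num, zpow_add, zpow_one]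
          rw [this]
          have : c.t2 ^ (3 : ℤ) = 1 := (t2_zpow_eq_one c 3).2 (dvd_refl _)
          rw [this, one_mul]
        rw [← hpow, h1, ← zpow_mul] at h4
        exact t2_not_zpow c h4
    refine ⟨?_, hj⟩
    rw [(t2_zpow_eq_one c j).2 hj, mul_one] at he
    exact (t1_zpow_eq_one c i).1 he
  · rintro ⟨hi, hj⟩
    unfold w
    rw [(t1_zpow_eq_one c i).2 hi, (t2_zpow_eq_one c j).2 hj, one_mul]

theorem w_inv (h : Hyp T) (c : Cfg T) (i j : ℤ) : (w c i j)⁻¹ = w c (-i) (-j) := by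
  apply inv_eq_of_mul_eq_one_right
  rw [w_mul h, (w_eq_one_iff c _ _)]
  constructor <;> simp

theorem w_eq_iff (h : Hyp T) (c : Cfg T) (i j k l : ℤ) :
    w c i j = w c k l ↔ (3 : ℤ) ∣ i - k ∧ (3 : ℤ) ∣ j - l := by
  rw [← mul_inv_eq_one, w_inv h, w_mul h, w_eq_one_iff]
  constructor
  · rintro ⟨h1, h2⟩; exact ⟨by simpa [sub_eq_add_neg] using h1, by simpa [sub_eq_add_neg] using h2⟩
  · rintro ⟨h1, h2⟩; exact ⟨by simpa [sub_eq_add_neg] using h1, by simpa [sub_eq_add_neg] using h2⟩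

theorem t1_eq_w (c : Cfg T) : c.t1 = w c 1 0 := by simp [w]
theorem t2_eq_w (c : Cfg T) : c.t2 = w c 0 1 := by simp [w]
theorem t3_eq_w (c : Cfg T) : c.t3 = w c 1 1 := by simp [w, Cfg.t3]
theorem t1i_eq_w (c : Cfg T) : c.t1⁻¹ = w c (-1) 0 := by simp [w]
theorem t2i_eq_w (c : Cfg T) : c.t2⁻¹ = w c 0 (-1) := by simp [w]

end Word


section Count

variable {G : Type u} [Group G] [Finite G] {T : Sylow 3 G}

theorem tri (h : Hyp T) {x y : G} (hx : orderOf x = 3) (hy : orderOf y = 3)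
    (hxy : x * y ∈ (T : Subgroup G)) (hxy1 : x * y ≠ 1) (hnc : ¬ IsConj x y) :
    x ∈ (T : Subgroup G) ∧ y ∈ (T : Subgroup G) :=
  Cfsg.Agent.Helper8.S3805.mem_of_mul_mem T h.loc hx hy (h.exp _ hxy) hxy hxy1 hnc

theorem fus1 (h : Hyp T) (c : Cfg T) {x : G} (hx : x ∈ (T : Subgroup G)) (hc : IsConj c.t1 x) :
    x = w c 1 0 ∨ x = w c (-1) 0 := by
  rw [← t1_eq_w, ← t1i_eq_w]; exact fusion_t1 h c hx hc

theorem fus2 (h : Hyp T) (c : Cfg T) {x : G} (hx : x ∈ (T : Subgroup G)) (hc : IsConj c.t2 x) :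
    x = w c 0 1 ∨ x = w c 0 (-1) := by
  rw [← t2_eq_w, ← t2i_eq_w]; exact fusion_t2 h c hx hc

theorem fus3 (h : Hyp T) (c : Cfg T) {x : G} (hx : x ∈ (T : Subgroup G)) (hc : IsConj c.t3 x) :
    x = w c 1 1 ∨ x = w c (-1) 1 ∨ x = w c 1 (-1) ∨ x = w c (-1) (-1) := by
  have e1 : w c 1 1 = c.t1 * c.t2 := by simp [w]
  have e2 : w c (-1) 1 = c.t1⁻¹ * c.t2 := by simp [w]
  have e3 : w c 1 (-1) = c.t1 * c.t2⁻¹ := by simp [w]
  have e4 : w c (-1) (-1) = c.t1⁻¹ * c.t2⁻¹ := by simp [w]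
  rw [e1, e2, e3, e4]; exact fusion_t3 h c hx hc

theorem conj3a (c : Cfg T) : IsConj c.t3 (w c (-1) 1) := by
  refine isConj_iff.2 ⟨c.a, ?_⟩
  unfold Cfg.t3
  rw [conj_mul, c.a1, c.a2]; simp [w]

theorem conj3b (c : Cfg T) : IsConj c.t3 (w c 1 (-1)) := by
  refine isConj_iff.2 ⟨c.b, ?_⟩
  unfold Cfg.t3
  rw [conj_mul, c.b1, c.b2]; simp [w]

theorem count_123 (h : Hyp T) (c : Cfg T) :
    Nat.card {p : G × G // (p.1 * c.t1 * p.1⁻¹) * (p.2 * c.t2 * p.2⁻¹) = c.t3} = 324 := by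
  classical
  have key := count_generic h (fun hx hy hxy hxy1 hnc => tri h hx hy hxy hxy1 hnc) c.o1 c.o2
    (t3_mem c) (t3_ne_one c) (nc12 h c) {(w c 1 0, w c 0 1)} (by
      intro x y
      rw [Finset.mem_singleton, Prod.mk.injEq]
      constructor
      · rintro ⟨rfl, rfl⟩
        refine ⟨w_mem _ _ _, w_mem _ _ _, ?_, ?_, ?_⟩
        · rw [← t1_eq_w]
        · rw [← t2_eq_w]
        · rw [w_mul h, t3_eq_w]; norm_num
      · rintro ⟨hx, hy, hcx, hcy, hxy⟩
        rw [t3_eq_w] at hxy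
        rcases fus1 h c hx hcx with rfl | rfl <;> rcases fus2 h c hy hcy with rfl | rfl <;>
          rw [w_mul h, w_eq_iff h] at hxy <;> first | exact ⟨rfl, rfl⟩ | (exfalso; omega))
  rw [key, card_centralizer_t1 h c, card_centralizer_t2 h c]; simp

theorem count_133 (h : Hyp T) (c : Cfg T) :
    Nat.card {p : G × G // (p.1 * c.t1 * p.1⁻¹) * (p.2 * c.t3 * p.2⁻¹) = c.t3} = 162 := by
  classical
  have key := count_generic h (fun hx hy hxy hxy1 hnc => tri h hx hy hxy hxy1 hnc) c.o1 (order_t3 h c)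
    (t3_mem c) (t3_ne_one c) (nc13 h c) {(w c (-1) 0, w c (-1) 1)} (by
      intro x y
      rw [Finset.mem_singleton, Prod.mk.injEq]
      constructor
      · rintro ⟨rfl, rfl⟩
        refine ⟨w_mem _ _ _, w_mem _ _ _, ?_, ?_, ?_⟩
        · rw [← t1i_eq_w]; exact conj_t1 c
        · exact conj3a c
        · rw [w_mul h, t3_eq_w, w_eq_iff h]; constructor <;> norm_num
      · rintro ⟨hx, hy, hcx, hcy, hxy⟩
        rw [t3_eq_w] at hxy
        rcases fus1 h c hx hcx with rfl | rfl <;>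
          rcases fus3 h c hy hcy with rfl | rfl | rfl | rfl <;>
          rw [w_mul h, w_eq_iff h] at hxy <;> first | exact ⟨rfl, rfl⟩ | (exfalso; omega))
  rw [key, card_centralizer_t1 h c, card_centralizer_t3 h c]; simp

theorem count_233 (h : Hyp T) (c : Cfg T) :
    Nat.card {p : G × G // (p.1 * c.t2 * p.1⁻¹) * (p.2 * c.t3 * p.2⁻¹) = c.t3} = 162 := by
  classical
  have key := count_generic h (fun hx hy hxy hxy1 hnc => tri h hx hy hxy hxy1 hnc) c.o2 (order_t3 h c)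
    (t3_mem c) (t3_ne_one c) (nc23 h c) {(w c 0 (-1), w c 1 (-1))} (by
      intro x y
      rw [Finset.mem_singleton, Prod.mk.injEq]
      constructor
      · rintro ⟨rfl, rfl⟩
        refine ⟨w_mem _ _ _, w_mem _ _ _, ?_, ?_, ?_⟩
        · rw [← t2i_eq_w]; exact conj_t2 c
        · exact conj3b c
        · rw [w_mul h, t3_eq_w, w_eq_iff h]; constructor <;> norm_num
      · rintro ⟨hx, hy, hcx, hcy, hxy⟩
        rw [t3_eq_w] at hxy
        rcases fus2 h c hx hcx with rfl | rfl <;>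
          rcases fus3 h c hy hcy with rfl | rfl | rfl | rfl <;>
          rw [w_mul h, w_eq_iff h] at hxy <;> first | exact ⟨rfl, rfl⟩ | (exfalso; omega))
  rw [key, card_centralizer_t2 h c, card_centralizer_t3 h c]; simp

theorem count_131 (h : Hyp T) (c : Cfg T) :
    Nat.card {p : G × G // (p.1 * c.t1 * p.1⁻¹) * (p.2 * c.t3 * p.2⁻¹) = c.t1} = 0 := by
  classical
  have key := count_generic h (fun hx hy hxy hxy1 hnc => tri h hx hy hxy hxy1 hnc) c.o1 (order_t3 h c)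
    c.ht1 (t1_ne_one c) (nc13 h c) ∅ (by
      intro x y
      simp only [Finset.notMem_empty, false_iff]
      rintro ⟨hx, hy, hcx, hcy, hxy⟩
      rw [t1_eq_w] at hxy
      rcases fus1 h c hx hcx with rfl | rfl <;>
        rcases fus3 h c hy hcy with rfl | rfl | rfl | rfl <;>
        rw [w_mul h, w_eq_iff h] at hxy <;> omega)
  rw [key]; simp

theorem count_232 (h : Hyp T) (c : Cfg T) :
    Nat.card {p : G × G // (p.1 * c.t2 * p.1⁻¹) * (p.2 * c.t3 * p.2⁻¹) = c.t2} = 0 := by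
  classical
  have key := count_generic h (fun hx hy hxy hxy1 hnc => tri h hx hy hxy hxy1 hnc) c.o2 (order_t3 h c)
    c.ht2 (t2_ne_one c) (nc23 h c) ∅ (by
      intro x y
      simp only [Finset.notMem_empty, false_iff]
      rintro ⟨hx, hy, hcx, hcy, hxy⟩
      rw [t2_eq_w] at hxy
      rcases fus2 h c hx hcx with rfl | rfl <;>
        rcases fus3 h c hy hcy with rfl | rfl | rfl | rfl <;>
        rw [w_mul h, w_eq_iff h] at hxy <;> omega)
  rw [key]; simp

theorem count_121 (h : Hyp T) (c : Cfg T) :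
    Nat.card {p : G × G // (p.1 * c.t1 * p.1⁻¹) * (p.2 * c.t2 * p.2⁻¹) = c.t1} = 0 := by
  classical
  have key := count_generic h (fun hx hy hxy hxy1 hnc => tri h hx hy hxy hxy1 hnc) c.o1 c.o2
    c.ht1 (t1_ne_one c) (nc12 h c) ∅ (by
      intro x y
      simp only [Finset.notMem_empty, false_iff]
      rintro ⟨hx, hy, hcx, hcy, hxy⟩
      rw [t1_eq_w] at hxy
      rcases fus1 h c hx hcx with rfl | rfl <;>
        rcases fus2 h c hy hcy with rfl | rfl <;>
        rw [w_mul h, w_eq_iff h] at hxy <;> omega)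
  rw [key]; simp

theorem count_122 (h : Hyp T) (c : Cfg T) :
    Nat.card {p : G × G // (p.1 * c.t1 * p.1⁻¹) * (p.2 * c.t2 * p.2⁻¹) = c.t2} = 0 := by
  classical
  have key := count_generic h (fun hx hy hxy hxy1 hnc => tri h hx hy hxy hxy1 hnc) c.o1 c.o2
    c.ht2 (t2_ne_one c) (nc12 h c) ∅ (by
      intro x y
      simp only [Finset.notMem_empty, false_iff]
      rintro ⟨hx, hy, hcx, hcy, hxy⟩
      rw [t2_eq_w] at hxy
      rcases fus1 h c hx hcx with rfl | rfl <;>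
        rcases fus2 h c hy hcy with rfl | rfl <;>
        rw [w_mul h, w_eq_iff h] at hxy <;> omega)
  rw [key]; simp

end Count


section Final

open Cfsg.Agent.Helper8.S3805A

variable {G : Type u} [Group G] [Fintype G] [Fintype (IrrCharacter G)] {T : Sylow 3 G}

theorem cc_eq (h : Hyp T) (c : Cfg T) (P : Fin 5 → IrrCharacter G → ℤ)
    (hP : ∀ (i : Fin 5) (X : IrrCharacter G), (X : G → ℂ) (rep c i) = (P i X : ℂ)) (i j k : Fin 5) (n : ℕ)
    (hn : Nat.card {p : G × G // (p.1 * rep c i * p.1⁻¹) * (p.2 * rep c j * p.2⁻¹) = rep c k} = n) :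
    ∑ X : IrrCharacter G, ((P i X : ℚ) * (P j X : ℚ) * (P k X : ℚ)) / (charDegree (X : G → ℂ) : ℚ) =
      (n : ℚ) / (Nat.card G : ℚ) := by
  have h1 := Cfsg.Agent.Helper10.BR996.class_const (G := G) (rep c i) (rep c j) (rep c k)
  rw [hn] at h1
  have hG0 : (Nat.card G : ℂ) ≠ 0 := by
    have : 0 < Nat.card G := Nat.card_pos
    exact_mod_cast this.ne'
  have h2 : ∑ χ : IrrCharacter G, (χ : G → ℂ) (rep c i) * (χ : G → ℂ) (rep c j) *
      conj ((χ : G → ℂ) (rep c k)) / (χ : G → ℂ) 1 =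
      ((∑ X : IrrCharacter G, ((P i X : ℚ) * (P j X : ℚ) * (P k X : ℚ)) /
        (charDegree (X : G → ℂ) : ℚ) : ℚ) : ℂ) := by
    push_cast
    refine Finset.sum_congr rfl fun X _ => ?_
    rw [hP i X, hP j X, hP k X, map_intCast, irr_one_eq_charDegree X.2]
  rw [h2] at h1
  have h3 : ((∑ X : IrrCharacter G, ((P i X : ℚ) * (P j X : ℚ) * (P k X : ℚ)) /
        (charDegree (X : G → ℂ) : ℚ) : ℚ) : ℂ) = (((n : ℚ) / (Nat.card G : ℚ) : ℚ) : ℂ) := by
    rw [Rat.cast_div, Rat.cast_natCast, Rat.cast_natCast, eq_div_iff hG0, mul_comm]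
    exact h1.symm
  exact_mod_cast h3

/-- helper8's ARITH assembly -/
theorem arith' {ι : Type*} [Fintype ι] [DecidableEq ι] (o : ι) (d : ι → ℚ) (A B : Fin 3 → ι → ℤ) (g : ℚ)
    (hg : 0 < g) (hd : ∀ X, 0 < d X) (hdo : d o = 1) (h : Lat o A B)
    (hAd : ∀ k, ∑ X, (A k X : ℚ) * d X = 0) (hBd : ∀ j, ∑ X, (B j X : ℚ) * d X = 0)
    (hE : Eqs d A B g) : g = 36 := by
  rcases struct o A B h with hgr | ⟨k0, j0, hex⟩
  · exact grid o d A B g hg hd hdo hAd hBd hgr hE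
  · exact (kill o d A B g hg hd k0 j0 hex hE).elim

theorem card_eq (h : Hyp T) (c : Cfg T) : Nat.card G = 36 := by
  classical
  obtain ⟨P, hP⟩ := exists_vals h c
  obtain ⟨A, B, hLat, hA1, hB1, hA3, hAd, hBd⟩ := exists_lattice (principalChar G)
    (fun X => (charDegree (X : G → ℂ) : ℤ)) P (gram h c P hP) (gram_deg h c P hP) (vals_one h c P hP)
    (fun X => (cong3 h c P hP X).1) (fun X => (cong3 h c P hP X).2)
    (fun X => (cong2 h c P hP X).1) (fun X => (cong2 h c P hP X).2)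
  have hE : Eqs (fun X : IrrCharacter G => (charDegree (X : G → ℂ) : ℚ)) A B (Nat.card G : ℚ) := by
    refine ⟨?_, ?_, ?_, ?_, ?_, ?_, ?_⟩
    · have := cc_eq h c P hP 0 1 2 324 (count_123 h c)
      simp only [hA1, hB1, hA3]
      rw [this]; norm_num
    · have := cc_eq h c P hP 0 2 2 162 (count_133 h c)
      simp only [hA1, hB1, hA3]
      rw [this]; norm_num
    · have := cc_eq h c P hP 1 2 2 162 (count_233 h c)
      simp only [hA1, hB1, hA3]
      rw [this]; norm_num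
    · have := cc_eq h c P hP 0 2 0 0 (count_131 h c)
      simp only [hA1, hB1, hA3]
      rw [← zero_div ((Nat.card G : ℚ)), ← Nat.cast_zero, ← this]
      refine Finset.sum_congr rfl fun X _ => ?_
      ring
    · have := cc_eq h c P hP 1 2 1 0 (count_232 h c)
      simp only [hA1, hB1, hA3]
      rw [← zero_div ((Nat.card G : ℚ)), ← Nat.cast_zero, ← this]
      refine Finset.sum_congr rfl fun X _ => ?_
      ring
    · have := cc_eq h c P hP 0 1 0 0 (count_121 h c)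
      simp only [hA1, hB1, hA3]
      rw [← zero_div ((Nat.card G : ℚ)), ← Nat.cast_zero, ← this]
      refine Finset.sum_congr rfl fun X _ => ?_
      ring
    · have := cc_eq h c P hP 0 1 1 0 (count_122 h c)
      simp only [hA1, hB1, hA3]
      rw [← zero_div ((Nat.card G : ℚ)), ← Nat.cast_zero, ← this]
  have hgpos : (0 : ℚ) < (Nat.card G : ℚ) := by
    have : 0 < Nat.card G := Nat.card_pos
    exact_mod_cast this
  have hdpos : ∀ X : IrrCharacter G, (0 : ℚ) < (charDegree (X : G → ℂ) : ℚ) := by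
    intro X
    have := charDegree_pos X.2
    exact_mod_cast this
  have hdo : (charDegree ((principalChar G : IrrCharacter G) : G → ℂ) : ℚ) = 1 := by
    have : charDegree ((principalChar G : IrrCharacter G) : G → ℂ) = 1 := by
      apply charDegree_natCast 1
      show (1 : ℂ) = ((1 : ℕ) : ℂ)
      simp
    rw [this]; norm_num
  have hAd' : ∀ k, ∑ X : IrrCharacter G, (A k X : ℚ) * (charDegree (X : G → ℂ) : ℚ) = 0 := by
    intro k
    have := hAd k
    simpa using this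
  have hBd' : ∀ j, ∑ X : IrrCharacter G, (B j X : ℚ) * (charDegree (X : G → ℂ) : ℚ) = 0 := by
    intro j
    have := hBd j
    simpa using this
  have := arith' (principalChar G) (fun X : IrrCharacter G => (charDegree (X : G → ℂ) : ℚ)) A B
    (Nat.card G : ℚ) hgpos hdpos hdo hLat hAd' hBd' hE
  exact_mod_cast this

end Final

end Asm

end Cfsg.Agent.Helper16.KF9
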