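import Mathlib
import Cfsg.Agent.S0142
import Cfsg.Agent.S0143
import Cfsg.Agent.Lib.Helper1.CharScalar
import Cfsg.Agent.Lib.Helper23.BlockOrtho
import Cfsg.Agent.Lib.Helper24.GlaubPGroup

/-!
# Kazarin's lemma, character-theoretic core (helper16)

If `x` has a conjugacy class of `p`-power size, `q ≠ p` is a prime dividing `|G|` and `x` is a
`q'`-element, then `x` lies in the kernel of a nonprincipal irreducible character in the principal
`q`-block; in particular `x` lies in a proper normal subgroup of `G`.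
-/

set_option autoImplicit false

namespace Cfsg.Agent.Helper16.Kazarin

open Cfsg Cfsg.Agent.Helper24 Cfsg.Agent.Helper23.Blk Cfsg.Agent.Helper1
open scoped ComplexConjugate

universe u

/-- A root of unity `c` of order dividing `m`, with `1 - c` in the local ideal over `q` and
`q ∤ m`, is `1`. -/
theorem eq_one_of_pow_eq_one_of_memLocalIdeal {M : Ideal AlgInt} {q : ℕ} (hM : IsPModular q M)
    {c : ℂ} {m : ℕ} (hm : 0 < m) (hc : c ^ m = 1) (hqm : ¬ q ∣ m)
    (h1c : MemLocalIdeal M (1 - c)) : c = 1 := by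
  haveI := isPrime_of_isPModular hM
  by_contra hne
  have hcint : IsIntegral ℤ c := by
    refine ⟨Polynomial.X ^ m - 1, Polynomial.monic_X_pow_sub_C (1 : ℤ) hm.ne', ?_⟩
    simp [hc]
  have hcR : MemLocalRing M c := memLocalRing_of_isIntegral hcint ne_top
  have hgeom : ∑ j ∈ Finset.range m, c ^ j = 0 := by
    have h := geom_sum_mul c m
    rw [hc, sub_self] at h
    rcases mul_eq_zero.mp h with h | h
    · exact h
    · exact absurd (sub_eq_zero.mp h) hne
  have hterm : ∀ j : ℕ, MemLocalIdeal M (1 - c ^ j) := by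
    intro j
    have h := geom_sum_mul c j
    have h2 : 1 - c ^ j = (1 - c) * ∑ i ∈ Finset.range j, c ^ i := by
      linear_combination h
    rw [h2]
    apply memLocalIdeal_mul_right h1c
    apply memLocalRing_sum
    intro i _
    exact memLocalRing_pow hcR i
  have hmsum : (m : ℂ) = ∑ j ∈ Finset.range m, (1 - c ^ j) := by
    rw [Finset.sum_sub_distrib, hgeom]
    simp
  have hmI : MemLocalIdeal M (m : ℂ) := by
    rw [hmsum]
    apply memLocalIdeal_sum
    intro j _
    exact hterm j
  exact hqm ((memLocalIdeal_natCast_iff hM m).1 hmI)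

/-- **Kazarin's lemma (character-theoretic core).** -/
theorem exists_normal_ne_top_mem {G : Type u} [Group G] [Finite G] {p q : ℕ} (hp : p.Prime)
    (hq : q.Prime) (hpq : p ≠ q) (hqG : q ∣ Nat.card G) (x : G) (a : ℕ)
    (hx : (Subgroup.centralizer ({x} : Set G)).index = p ^ a) (hxq : ¬ q ∣ orderOf x) :
    ∃ K : Subgroup G, K.Normal ∧ K ≠ ⊤ ∧ x ∈ K := by
  classical
  obtain ⟨M, hM⟩ := Cfsg.Agent.Helper24.Glaub.exists_isPModular hq
  haveI hMp : M.IsPrime := isPrime_of_isPModular hM
  letI := Fintype.ofFinite G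
  letI := irrFintype (G := G)
  haveI : Fact q.Prime := ⟨hq⟩
  obtain ⟨y, hy⟩ := exists_prime_orderOf_dvd_card' q hqG
  have hB : IsPBlock M (principalBlock M G) := ⟨principalChar G, rfl⟩
  have h1reg : ¬ q ∣ orderOf (1 : G) := by
    rw [orderOf_one]
    exact fun h => hq.one_lt.ne' (Nat.dvd_one.mp h)
  have hwo := weak_block_orthogonality hM hB (x := (1 : G)) (y := y) h1reg (by rw [hy])
  rw [finsum_mem_def, finsum_eq_sum_of_fintype] at hwo
  -- the principal character lies in the principal block
  have hprinc_mem : principalChar G ∈ principalBlock M G := mem_blockOf_self (principalChar G)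
  -- find a nonprincipal member of `p'`-degree
  have hex : ∃ χ : IrrCharacter G, χ ∈ principalBlock M G ∧ χ ≠ principalChar G ∧
      ∀ n : ℕ, (χ : G → ℂ) 1 = n → ¬ p ∣ n := by
    by_contra hcon
    push Not at hcon
    rw [← Finset.add_sum_erase Finset.univ _ (Finset.mem_univ (principalChar G))] at hwo
    rw [Set.indicator_of_mem hprinc_mem] at hwo
    have hprinc : ((principalChar G : IrrCharacter G) : G → ℂ) = fun _ => (1 : ℂ) := rfl
    rw [hprinc] at hwo
    simp only [map_one, mul_one] at hwo
    have hpC : (p : ℂ) ≠ 0 := by exact_mod_cast hp.ne_zero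
    have hsum : IsIntegral ℤ (∑ χ ∈ Finset.univ.erase (principalChar G),
        (Set.indicator (principalBlock M G)
          (fun χ : IrrCharacter G => (χ : G → ℂ) 1 * conj ((χ : G → ℂ) y)) χ) / (p : ℂ)) := by
      refine IsIntegral.sum _ fun χ hχ => ?_
      have hne : χ ≠ principalChar G := (Finset.mem_erase.mp hχ).1
      by_cases hmem : χ ∈ principalBlock M G
      · rw [Set.indicator_of_mem hmem]
        obtain ⟨n, hn, hpn⟩ := hcon χ hmem hne
        obtain ⟨e, rfl⟩ := hpn
        rw [hn]
        have : ((p * e : ℕ) : ℂ) * conj ((χ : G → ℂ) y) / (p : ℂ) = (e : ℂ) * conj ((χ : G → ℂ) y) := by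
          push_cast; field_simp
        rw [this]
        obtain ⟨k, ρ, hρ, hρχ⟩ := χ.2
        refine IsIntegral.mul (isIntegral_algebraMap (R := ℤ) (A := ℂ) (x := (e : ℤ))) ?_
        rw [← hρχ]
        have hi := isIntegral_char ρ y
        exact (hi.map (starRingEnd ℂ).toIntAlgHom :)
      · rw [Set.indicator_of_notMem hmem, zero_div]
        exact isIntegral_zero
    rw [← Finset.sum_div] at hsum
    have h1 : ∑ χ ∈ Finset.univ.erase (principalChar G),
        (Set.indicator (principalBlock M G)
          (fun χ : IrrCharacter G => (χ : G → ℂ) 1 * conj ((χ : G → ℂ) y)) χ) = -1 := by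
      linear_combination hwo
    rw [h1] at hsum
    have h2 : IsIntegral ℤ ((1 : ℂ) / (p : ℂ)) := by
      have := hsum.neg
      rwa [neg_div, neg_neg] at this
    exact Cfsg.Agent.S0143.not_isIntegral_inv_prime p hp h2
  obtain ⟨χ, hχB, hχne, hχp⟩ := hex
  have hirr := χ.2
  obtain ⟨n, ρ, hρ, hρχ⟩ := χ.2
  haveI := hρ
  have hd : ρ.character 1 = (Module.finrank ℂ (Fin n → ℂ) : ℂ) := Representation.char_one ρ
  set d := Module.finrank ℂ (Fin n → ℂ) with hddef
  have hpd : ¬ p ∣ d := hχp d (by rw [← hρχ]; exact hd)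
  have hdpos : 0 < d := by
    rw [isIrreducible_iff] at hρ
    obtain ⟨hnt, -⟩ := hρ
    exact Module.finrank_pos
  have hdC : (d : ℂ) ≠ 0 := by exact_mod_cast hdpos.ne'
  have hcop : Nat.Coprime d (Subgroup.centralizer ({x} : Set G)).index := by
    rw [hx]
    exact Nat.Coprime.pow_right a ((Nat.Prime.coprime_iff_not_dvd hp).mpr hpd).symm
  have hsb : MemLocalIdeal M (centralChar (fun _ : G => (1 : ℂ)) x - centralChar (χ : G → ℂ) x) :=
    hχB x
  have hcc1 : centralChar (fun _ : G => (1 : ℂ)) x = ((p ^ a : ℕ) : ℂ) := by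
    unfold centralChar
    rw [hx]
    simp
  have hccχ : centralChar (χ : G → ℂ) x = ((p ^ a : ℕ) : ℂ) * ρ.character x / (d : ℂ) := by
    unfold centralChar
    rw [hx, ← hρχ, hd]
  rw [hcc1, hccχ] at hsb
  have hpa_not : ¬ MemLocalIdeal M ((p ^ a : ℕ) : ℂ) := by
    rw [memLocalIdeal_natCast_iff hM]
    intro h
    have h2 := hq.dvd_of_dvd_pow h
    exact hpq ((Nat.prime_dvd_prime_iff_eq hq hp).mp h2).symm
  rcases Cfsg.Agent.S0142.result ρ x hcop with h0 | h1
  · exfalso
    rw [h0, mul_zero, zero_div, sub_zero] at hsb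
    exact hpa_not hsb
  · obtain ⟨c, hc⟩ := rep_scalar_of_norm_char_eq ρ x h1
    have hchar : ρ.character x = c * (d : ℂ) := by
      rw [Representation.character, hc]
      simp [hddef]
    rw [hchar] at hsb
    have hsb2 : MemLocalIdeal M (((p ^ a : ℕ) : ℂ) * (1 - c)) := by
      have : ((p ^ a : ℕ) : ℂ) - ((p ^ a : ℕ) : ℂ) * (c * (d : ℂ)) / (d : ℂ) =
          ((p ^ a : ℕ) : ℂ) * (1 - c) := by
        field_simp
      rwa [this] at hsb
    -- `c` is a root of unity
    have hm : 0 < orderOf x := orderOf_pos x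
    have hcm : c ^ orderOf x = 1 := by
      have h1 : (ρ x) ^ orderOf x = 1 := by
        rw [← map_pow, pow_orderOf_eq_one, map_one]
      rw [hc, smul_pow, one_pow] at h1
      have h2 := congrArg (fun f : Module.End ℂ (Fin n → ℂ) => LinearMap.trace ℂ _ f) h1
      simp only [map_smul, LinearMap.trace_one, smul_eq_mul] at h2
      have h3 : (c ^ orderOf x - 1) * (d : ℂ) = 0 := by
        rw [sub_mul, one_mul]
        exact sub_eq_zero.mpr h2
      rcases mul_eq_zero.mp h3 with h | h
      · exact sub_eq_zero.mp h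
      · exact absurd h hdC
    have hcint : IsIntegral ℤ c := by
      refine ⟨Polynomial.X ^ orderOf x - 1, Polynomial.monic_X_pow_sub_C (1 : ℤ) hm.ne', ?_⟩
      simp [hcm]
    have hcR : MemLocalRing M (1 - c) :=
      memLocalRing_sub (memLocalRing_one ne_top) (memLocalRing_of_isIntegral hcint ne_top)
    have h1c : MemLocalIdeal M (1 - c) := by
      rcases memLocalIdeal_or_of_mul (memLocalRing_natCast (p ^ a)) hcR hsb2 with h | h
      · exact absurd h hpa_not
      · exact h
    have hc1 : c = 1 := eq_one_of_pow_eq_one_of_memLocalIdeal hM hm hcm hxq h1c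
    rw [hc1, one_smul] at hc
    refine ⟨MonoidHom.ker ρ, MonoidHom.normal_ker ρ, ?_, MonoidHom.mem_ker.mpr hc⟩
    intro htop
    have htriv : ∀ g, ρ g = 1 := fun g => by
      have : g ∈ MonoidHom.ker ρ := by rw [htop]; trivial
      exact MonoidHom.mem_ker.mp this
    have hcharconst : ρ.character = fun _ => (d : ℂ) := by
      funext g
      rw [Representation.character, htriv g]
      simp [hddef]
    have hχ1 : (χ : G → ℂ) ≠ fun _ => (1 : ℂ) := by
      intro h
      apply hχne
      apply Subtype.ext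
      rw [h]; rfl
    have horth := irr_orthogonality hirr (isIrrCharacter_one (G := G))
    rw [if_neg hχ1] at horth
    rw [← hρχ, hcharconst, classInner] at horth
    simp only [map_one, mul_one, Finset.sum_const, Finset.card_univ, nsmul_eq_mul] at horth
    have hcard : (Nat.card G : ℂ) ≠ 0 := by exact_mod_cast (Nat.card_pos (α := G)).ne'
    rw [← Nat.card_eq_fintype_card, ← mul_assoc, inv_mul_cancel₀ hcard, one_mul] at horth
    have hd0 : d = 0 := by exact_mod_cast horth
    omega

end Cfsg.Agent.Helper16.Kazarin
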