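import Mathlib
import Cfsg.Agent.S0144
import Cfsg.Agent.Lib.Helper16.KazarinA
import Cfsg.Agent.Lib.Helper7.Signalizer
import Cfsg.Agent.Lib.Helper20.PRegClass1
import Cfsg.Agent.Lib.Helper20.PrimaryParts
import Cfsg.Prelude.Def_RootSubgroups

/-!
# Kazarin's theorem (helper16)

If the conjugacy class of `x` has prime power size then the normal closure of `x` is solvable.
-/

set_option autoImplicit false

namespace Cfsg.Agent.Helper16.Kazarin

open Cfsg

universe u

/-- The conjugacy class of `x` has `p`-power size. -/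
def ClassPow (p : ℕ) {G : Type*} [Group G] (x : G) : Prop :=
  ∃ a : ℕ, (Subgroup.centralizer ({x} : Set G)).index = p ^ a

section Basic

variable {G : Type*} [Group G] {p : ℕ}

theorem ClassPow.of_le (hp : p.Prime) {x y : G} (h : ClassPow p x)
    (hle : Subgroup.centralizer ({x} : Set G) ≤ Subgroup.centralizer ({y} : Set G)) :
    ClassPow p y := by
  obtain ⟨a, ha⟩ := h
  have hdvd : (Subgroup.centralizer ({y} : Set G)).index ∣ p ^ a :=
    ha ▸ Subgroup.index_dvd_of_le hle
  obtain ⟨j, _, hj⟩ := (Nat.dvd_prime_pow hp).mp hdvd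
  exact ⟨j, hj⟩

theorem centralizer_le_of_mem_zpowers {x y : G} (hy : y ∈ Subgroup.zpowers x) :
    Subgroup.centralizer ({x} : Set G) ≤ Subgroup.centralizer ({y} : Set G) := by
  obtain ⟨k, rfl⟩ := Subgroup.mem_zpowers_iff.mp hy
  intro c hc
  rw [Subgroup.mem_centralizer_iff] at hc ⊢
  intro z hz
  rw [Set.mem_singleton_iff] at hz
  subst hz
  have h1 : Commute x c := hc x rfl
  exact (h1.zpow_left k).eq

theorem ClassPow.of_mem_zpowers (hp : p.Prime) {x y : G} (h : ClassPow p x)
    (hy : y ∈ Subgroup.zpowers x) : ClassPow p y :=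
  h.of_le hp (centralizer_le_of_mem_zpowers hy)

theorem ClassPow.map (hp : p.Prime) {H : Type*} [Group H] (f : G →* H)
    (hf : Function.Surjective f) {x : G} (h : ClassPow p x) : ClassPow p (f x) := by
  obtain ⟨a, ha⟩ := h
  have hle : (Subgroup.centralizer ({x} : Set G)).map f ≤ Subgroup.centralizer ({f x} : Set H) := by
    rintro _ ⟨c, hc, rfl⟩
    have hc' := Subgroup.mem_centralizer_iff.mp (SetLike.mem_coe.mp hc)
    rw [Subgroup.mem_centralizer_iff]
    intro z hz
    rw [Set.mem_singleton_iff] at hz
    subst hz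
    rw [← map_mul, ← map_mul, hc' x rfl]
  have hdvd : (Subgroup.centralizer ({f x} : Set H)).index ∣ p ^ a := by
    rw [← ha]
    exact (Subgroup.index_dvd_of_le hle).trans (Subgroup.index_map_dvd _ hf)
  obtain ⟨j, _, hj⟩ := (Nat.dvd_prime_pow hp).mp hdvd
  exact ⟨j, hj⟩

theorem ClassPow.conj (hp : p.Prime) {x : G} (h : ClassPow p x) (g : G) :
    ClassPow p (g * x * g⁻¹) := by
  have := h.map hp (MulAut.conj g).toMonoidHom (MulAut.conj g).surjective
  simpa using this

theorem ClassPow.subtype [Finite G] (hp : p.Prime) (N : Subgroup G) [N.Normal] {x : N}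
    (h : ClassPow p (x : G)) : ClassPow p x := by
  obtain ⟨k, hk⟩ := h
  unfold ClassPow
  rw [Cfsg.Agent.Helper20.centralizer_singleton_subtype]
  have hdvd : (Subgroup.centralizer ({(x : G)} : Set G)).relIndex N ∣ p ^ k :=
    hk ▸ Cfsg.Agent.Helper21.relIndex_dvd_index_of_normal_right _ N
  obtain ⟨j, _, hj⟩ := (Nat.dvd_prime_pow hp).mp hdvd
  exact ⟨j, hj⟩

end Basic

section Radical

variable {G : Type*} [Group G]

/-- The join of finitely many normal solvable subgroups is normal and solvable. -/
theorem normal_isSolvable_sSup_of_finite {S : Set (Subgroup G)} (hfin : S.Finite)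
    (hS : ∀ N ∈ S, N.Normal ∧ Group.IsSolvable N) :
    (sSup S).Normal ∧ Group.IsSolvable ↥(sSup S) := by
  induction S, hfin using Set.Finite.induction_on with
  | empty =>
    rw [sSup_empty]
    exact ⟨inferInstance, inferInstance⟩
  | @insert a s _ _ ih =>
    rw [sSup_insert]
    obtain ⟨h1, h2⟩ := ih (fun N hN => hS N (Set.mem_insert_of_mem _ hN))
    obtain ⟨h3, h4⟩ := hS a (Set.mem_insert _ _)
    refine ⟨Subgroup.sup_normal a (sSup s), ?_⟩
    apply Cfsg.Agent.Helper7.isSolvable_sup_of_le_normalizer _ h4 h2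
    intro y _
    rw [Subgroup.mem_normalizer_iff]
    intro z
    exact ⟨fun hz => h3.conj_mem z hz y, fun hz => by
      have := h3.conj_mem _ hz y⁻¹
      simpa [mul_assoc] using this⟩

/-- In a finite group the solvable radical is solvable. -/
theorem solvableRadical_isSolvable [Finite G] : Group.IsSolvable ↥(solvableRadical G) :=
  (normal_isSolvable_sSup_of_finite (Set.toFinite _) (fun _ hN => hN)).2

theorem solvableRadical_normal [Finite G] : (solvableRadical G).Normal :=
  (normal_isSolvable_sSup_of_finite (Set.toFinite _) (fun _ hN => hN)).1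

theorem le_solvableRadical {N : Subgroup G} (hn : N.Normal) (hs : Group.IsSolvable N) :
    N ≤ solvableRadical G :=
  le_sSup ⟨hn, hs⟩

/-- A finite group generated by elements whose normal closures are solvable is solvable. -/
theorem isSolvable_of_closure_eq_top [Finite G] (T : Set G)
    (hT : ∀ t ∈ T, Group.IsSolvable ↥(Subgroup.normalClosure ({t} : Set G)))
    (htop : Subgroup.closure T = ⊤) : Group.IsSolvable G := by
  have hle : Subgroup.closure T ≤ solvableRadical G := by
    rw [Subgroup.closure_le]
    intro t ht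
    exact le_solvableRadical Subgroup.normalClosure_normal (hT t ht)
      (Subgroup.subset_normalClosure (Set.mem_singleton t))
  rw [htop] at hle
  have h := solvableRadical_isSolvable (G := G)
  have htop2 : solvableRadical G = ⊤ := top_le_iff.mp hle
  rw [htop2] at h
  exact Group.isSolvable_of_isSolvable_injective (f := (Subgroup.topEquiv (G := G)).symm.toMonoidHom)
    (Subgroup.topEquiv (G := G)).symm.injective

end Radical

end Cfsg.Agent.Helper16.Kazarin
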