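import Mathlib
import Cfsg.Agent.Lib.Helper16.KazarinB

/-!
# Kazarin's theorem (helper16): the induction
-/

set_option autoImplicit false

namespace Cfsg.Agent.Helper16.Kazarin

open Cfsg

universe u

/-- A finite group whose order involves at most the two primes `p`, `r` is solvable (Burnside). -/
theorem isSolvable_of_two_primes {G : Type*} [Group G] [Finite G] {p r : ℕ} (hp : p.Prime)
    (hr : r.Prime) (h : ∀ q : ℕ, q.Prime → q ∣ Nat.card G → q ≠ p → q = r) :
    Group.IsSolvable G := by
  set n := Nat.card G with hn
  have hn0 : n ≠ 0 := (Nat.card_pos (α := G)).ne'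
  have hsplit : ordProj[p] n * ordCompl[p] n = n := Nat.ordProj_mul_ordCompl_eq_self n p
  set n' := ordCompl[p] n with hn'
  have hn'0 : n' ≠ 0 := by
    intro h0
    rw [h0, mul_zero] at hsplit
    exact hn0 hsplit.symm
  have hpn' : ¬ p ∣ n' := Nat.not_dvd_ordCompl hp hn0
  have hn'dvd : n' ∣ n := Nat.ordCompl_dvd n p
  have hpow : n' = r ^ n'.primeFactorsList.length := by
    apply Nat.eq_prime_pow_of_unique_prime_dvd hn'0
    intro d hd hdvd
    apply h d hd (hdvd.trans hn'dvd)
    intro hdp
    rw [hdp] at hdvd
    exact hpn' hdvd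
  apply Cfsg.Agent.S0144.result p r (n.factorization p) (n'.primeFactorsList.length) hp hr
  rw [← hpow, ← hn]
  exact hsplit.symm

theorem card_lt_of_ne_top' {G : Type*} [Group G] [Finite G] {N : Subgroup G} (h : N ≠ ⊤) :
    Nat.card N < Nat.card G := by
  have h1 : N.index ≠ 1 := fun h1 => h (Subgroup.index_eq_one.mp h1)
  have h2 : N.index ≠ 0 := Subgroup.index_ne_zero_of_finite
  have h3 := N.card_mul_index
  have hpos : 0 < Nat.card N := Nat.card_pos
  have : 2 ≤ N.index := by omega
  nlinarith

/-- The prime-power-order step of Kazarin's theorem. -/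
theorem step_primePow {G : Type u} [Group G] [Finite G] {p : ℕ} (hp : p.Prime)
    (IH : ∀ (H : Type u) [Group H] [Finite H], Nat.card H < Nat.card G → ∀ y : H, ClassPow p y →
      Group.IsSolvable ↥(Subgroup.normalClosure ({y} : Set H)))
    (x : G) (hx : ClassPow p x) {r k : ℕ} (hr : r.Prime) (hord : orderOf x = r ^ k) :
    Group.IsSolvable ↥(Subgroup.normalClosure ({x} : Set G)) := by
  by_cases hN : Subgroup.normalClosure ({x} : Set G) = ⊤
  · suffices hG : Group.IsSolvable G by infer_instance
    by_cases hq : ∃ q : ℕ, q.Prime ∧ q ∣ Nat.card G ∧ q ≠ p ∧ q ≠ r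
    · exfalso
      obtain ⟨q, hqp, hqG, hqnp, hqnr⟩ := hq
      have hxq : ¬ q ∣ orderOf x := by
        rw [hord]
        intro h
        exact hqnr ((Nat.prime_dvd_prime_iff_eq hqp hr).mp (hqp.dvd_of_dvd_pow h))
      obtain ⟨a, ha⟩ := hx
      obtain ⟨K, hKn, hKtop, hxK⟩ :=
        exists_normal_ne_top_mem hp hqp (Ne.symm hqnp) hqG x a ha hxq
      haveI := hKn
      have hle : Subgroup.normalClosure ({x} : Set G) ≤ K :=
        Subgroup.normalClosure_le_normal (Set.singleton_subset_iff.mpr hxK)
      rw [hN] at hle
      exact hKtop (top_le_iff.mp hle)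
    · push Not at hq
      exact isSolvable_of_two_primes hp hr hq
  · set N := Subgroup.normalClosure ({x} : Set G) with hNdef
    have hlt : Nat.card N < Nat.card G := card_lt_of_ne_top' hN
    haveI hNn : N.Normal := Subgroup.normalClosure_normal
    apply isSolvable_of_closure_eq_top (G := ↥N) {y : N | ∃ g : G, (y : G) = g * x * g⁻¹}
    · rintro t ⟨g, hg⟩
      apply IH (↥N) hlt t
      apply ClassPow.subtype hp N
      rw [hg]
      exact hx.conj hp g
    · rw [eq_top_iff]
      rintro ⟨n, hn⟩ -
      have hle : Subgroup.normalClosure ({x} : Set G) ≤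
          (Subgroup.closure {y : N | ∃ g : G, (y : G) = g * x * g⁻¹}).map N.subtype := by
        unfold Subgroup.normalClosure
        rw [Subgroup.closure_le]
        intro c hc
        rw [Group.mem_conjugatesOfSet_iff] at hc
        obtain ⟨b, hb, hbc⟩ := hc
        rw [Set.mem_singleton_iff] at hb
        subst hb
        rw [isConj_iff] at hbc
        obtain ⟨g, hg⟩ := hbc
        have hcN : c ∈ N := by
          rw [← hg]
          exact hNn.conj_mem _ (Subgroup.subset_normalClosure (Set.mem_singleton _)) g
        refine ⟨⟨c, hcN⟩, ?_, rfl⟩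
        apply Subgroup.subset_closure
        exact ⟨g, hg.symm⟩
      obtain ⟨m, hm, hmn⟩ := hle hn
      have : m = ⟨n, hn⟩ := Subtype.ext hmn
      rw [← this]
      exact hm

/-- The general step: induction on the order of the element. -/
theorem step_general {G : Type u} [Group G] [Finite G] {p : ℕ} (hp : p.Prime)
    (IH : ∀ (H : Type u) [Group H] [Finite H], Nat.card H < Nat.card G → ∀ y : H, ClassPow p y →
      Group.IsSolvable ↥(Subgroup.normalClosure ({y} : Set H))) :
    ∀ (n : ℕ) (x : G), orderOf x = n → ClassPow p x →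
      Group.IsSolvable ↥(Subgroup.normalClosure ({x} : Set G)) := by
  intro n
  induction n using Nat.strong_induction_on with
  | _ n ih =>
    intro x hxn hx
    by_cases hn1 : n = 1
    · apply step_primePow hp IH x hx Nat.prime_two (k := 0)
      rw [hxn, hn1, pow_zero]
    · have hr : (n.minFac).Prime := Nat.minFac_prime hn1
      haveI : Fact (n.minFac).Prime := ⟨hr⟩
      obtain ⟨u, v, hxuv, -, ⟨k, hk⟩, hvcop, hu, hv⟩ :=
        Cfsg.Agent.Helper20.exists_pPart_decomp n.minFac x (orderOf_pos x)
      have hSu : Group.IsSolvable ↥(Subgroup.normalClosure ({u} : Set G)) :=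
        step_primePow hp IH u (hx.of_mem_zpowers hp hu) hr hk
      have hvdvd : orderOf v ∣ n := by
        rw [← hxn]
        exact orderOf_dvd_of_mem_zpowers hv
      have hvlt : orderOf v < n := by
        have hnpos : 0 < n := by rw [← hxn]; exact orderOf_pos x
        apply lt_of_le_of_ne (Nat.le_of_dvd hnpos hvdvd)
        intro heq
        rw [heq] at hvcop
        have h1 : n.minFac ∣ n := Nat.minFac_dvd n
        have h2 := Nat.Coprime.eq_one_of_dvd hvcop.symm h1
        exact hr.one_lt.ne' h2
      have hSv : Group.IsSolvable ↥(Subgroup.normalClosure ({v} : Set G)) :=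
        ih (orderOf v) hvlt v rfl (hx.of_mem_zpowers hp hv)
      have hsup : Group.IsSolvable
          ↥(Subgroup.normalClosure ({u} : Set G) ⊔ Subgroup.normalClosure ({v} : Set G)) := by
        apply Cfsg.Agent.Helper7.isSolvable_sup_of_le_normalizer _ hSu hSv
        intro y _
        have hn : (Subgroup.normalClosure ({u} : Set G)).Normal := Subgroup.normalClosure_normal
        rw [Subgroup.mem_normalizer_iff]
        intro z
        exact ⟨fun hz => hn.conj_mem z hz y, fun hz => by
          have := hn.conj_mem _ hz y⁻¹
          simpa [mul_assoc] using this⟩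
      have hle : Subgroup.normalClosure ({x} : Set G) ≤
          Subgroup.normalClosure ({u} : Set G) ⊔ Subgroup.normalClosure ({v} : Set G) := by
        haveI : (Subgroup.normalClosure ({u} : Set G) ⊔
            Subgroup.normalClosure ({v} : Set G)).Normal := Subgroup.sup_normal _ _
        apply Subgroup.normalClosure_le_normal
        rw [Set.singleton_subset_iff, hxuv]
        exact Subgroup.mul_mem _
          (Subgroup.mem_sup_left (Subgroup.subset_normalClosure (Set.mem_singleton u)))
          (Subgroup.mem_sup_right (Subgroup.subset_normalClosure (Set.mem_singleton v)))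
      haveI := hsup
      exact Group.isSolvable_of_isSolvable_injective (f := Subgroup.inclusion hle)
        (Subgroup.inclusion_injective hle)

theorem kazarin_aux {p : ℕ} (hp : p.Prime) : ∀ (n : ℕ) (G : Type u) [Group G] [Finite G],
    Nat.card G = n → ∀ x : G, ClassPow p x →
      Group.IsSolvable ↥(Subgroup.normalClosure ({x} : Set G)) := by
  intro n
  induction n using Nat.strong_induction_on with
  | _ n ih =>
    intro G _ _ hcard x hx
    apply step_general hp _ (orderOf x) x rfl hx
    intro H _ _ hlt y hy
    exact ih (Nat.card H) (hcard ▸ hlt) H rfl y hy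

/-- **Kazarin's theorem**: an element whose conjugacy class has prime power size has a solvable
normal closure. -/
theorem kazarin {G : Type u} [Group G] [Finite G] {p : ℕ} (hp : p.Prime) (x : G)
    (hx : ClassPow p x) : Group.IsSolvable ↥(Subgroup.normalClosure ({x} : Set G)) :=
  kazarin_aux hp (Nat.card G) G rfl x hx

end Cfsg.Agent.Helper16.Kazarin
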