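import Mathlib
import Cfsg.Agent.Lib.Helper16.KazarinC
import Cfsg.Agent.Lib.Helper16.InvCentQuot
import Cfsg.Agent.Lib.Helper14.Basic

/-!
# Consequences of Kazarin's theorem (helper16)

If `O_p(G) = 1`, the elements whose class has `p`-power size centralize every nilpotent normal
subgroup, and the normal closure of such an element is abelian.  In general the commutator of two
conjugates of such an element lies in `O_p(G)`.
-/

set_option autoImplicit false

namespace Cfsg.Agent.Helper16.Kazarin

open Cfsg

universe u

section Core

variable {G : Type u} [Group G] [Finite G] {p : ℕ}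

theorem pCore_normal' (p : ℕ) (G : Type*) [Group G] : (pCore p G).Normal :=
  Subgroup.sSup_normal _ (fun _ hK => hK.1)

/-- If `O_p(G) = 1`, a nilpotent normal subgroup has order prime to `p`. -/
theorem not_dvd_card_of_nilpotent_normal [hp : Fact p.Prime] (hO : pCore p G = ⊥)
    (A : Subgroup G) [hAn : A.Normal] (hA : Group.IsNilpotent ↥A) : ¬ p ∣ Nat.card A := by
  intro hdvd
  obtain ⟨Q⟩ : Nonempty (Sylow p ↥A) := inferInstance
  have hQn : (Q : Subgroup ↥A).Normal :=
    Sylow.normal_of_normalizerCondition Group.normalizerCondition_of_isNilpotent Q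
  have hQc : (Q : Subgroup ↥A).Characteristic := Sylow.characteristic_of_normal Q hQn
  have hQG : ((Q : Subgroup ↥A).map A.subtype).Normal :=
    ConjAct.normal_of_characteristic_of_normal
  have hQp : IsPGroup p ((Q : Subgroup ↥A).map A.subtype) := Q.2.map A.subtype
  have hle := Cfsg.Agent.Helper14.le_pCore hQG hQp
  rw [hO, le_bot_iff] at hle
  have hQbot : (Q : Subgroup ↥A) = ⊥ := by
    rw [eq_bot_iff]
    intro x hx
    have : (x : G) ∈ (Q : Subgroup ↥A).map A.subtype := ⟨x, hx, rfl⟩
    rw [hle, Subgroup.mem_bot] at this
    rw [Subgroup.mem_bot]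
    exact Subtype.ext this
  exact Q.ne_bot_of_dvd_card hdvd hQbot

/-- If `O_p(G) = 1`, an element with class of `p`-power size centralizes every nilpotent normal
subgroup. -/
theorem le_centralizer_of_classPow [hp : Fact p.Prime] (hO : pCore p G = ⊥)
    (A : Subgroup G) [hAn : A.Normal] (hA : Group.IsNilpotent ↥A) {y : G} (hy : ClassPow p y) :
    A ≤ Subgroup.centralizer ({y} : Set G) := by
  obtain ⟨a, ha⟩ := hy
  have h1 : (Subgroup.centralizer ({y} : Set G)).relIndex A ∣ p ^ a :=
    ha ▸ Cfsg.Agent.Helper21.relIndex_dvd_index_of_normal_right _ A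
  have h2 : (Subgroup.centralizer ({y} : Set G)).relIndex A ∣ Nat.card A :=
    Subgroup.relIndex_dvd_card _ _
  have hcop : Nat.Coprime (p ^ a) (Nat.card A) :=
    Nat.Coprime.pow_left a ((Nat.Prime.coprime_iff_not_dvd hp.out).mpr
      (not_dvd_card_of_nilpotent_normal hO A hA))
  have h3 : (Subgroup.centralizer ({y} : Set G)).relIndex A = 1 :=
    Nat.eq_one_of_dvd_coprimes hcop h1 h2
  exact Subgroup.relIndex_eq_one.mp h3

/-- If `O_p(G) = 1`, the normal closure of an element with class of `p`-power size centralizes
every nilpotent normal subgroup. -/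
theorem normalClosure_le_centralizer [hp : Fact p.Prime] (hO : pCore p G = ⊥)
    (A : Subgroup G) [hAn : A.Normal] (hA : Group.IsNilpotent ↥A) {x : G} (hx : ClassPow p x) :
    Subgroup.normalClosure ({x} : Set G) ≤ Subgroup.centralizer (A : Set G) := by
  apply Subgroup.normalClosure_le_normal
  rw [Set.singleton_subset_iff, SetLike.mem_coe, Subgroup.mem_centralizer_iff]
  intro b hb
  have := le_centralizer_of_classPow hO A hA hx hb
  rw [Subgroup.mem_centralizer_iff] at this
  exact (this x rfl).symm

end Core

section Comm

variable {G : Type u} [Group G] [Finite G] {p : ℕ}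

/-- A subgroup whose commutator subgroup is central is nilpotent. -/
theorem isNilpotent_of_commutator_le_center {S : Type*} [Group S] (H : Subgroup S)
    (h : ⁅H, H⁆ ≤ Subgroup.center S) : Group.IsNilpotent ↥H := by
  haveI : Group.IsNilpotent (Abelianization ↥H) := CommGroup.isNilpotent
  apply Subgroup.isNilpotent_of_ker_le_center (Abelianization.of : ↥H →* Abelianization ↥H)
  rw [Abelianization.ker_of]
  intro c hc
  have hc2 : (c : S) ∈ ⁅H, H⁆ := by
    have h1 : (commutator ↥H).map H.subtype = ⁅H, H⁆ := by
      rw [commutator_def, Subgroup.map_commutator, ← MonoidHom.range_eq_map, Subgroup.range_subtype]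
    rw [← h1]
    exact ⟨c, hc, rfl⟩
  have hc3 := h hc2
  rw [Subgroup.mem_center_iff] at hc3 ⊢
  intro g
  exact Subtype.ext (hc3 g)

/-- Key step: if the normal subgroup `N` centralizes every nilpotent normal subgroup of `G`, then
a characteristic subgroup of `N` with central commutator subgroup is central in `N`. -/
theorem le_center_of_commutator_le_center (N : Subgroup G) [hNn : N.Normal]
    (hcent : ∀ A : Subgroup G, A.Normal → Group.IsNilpotent ↥A →
      N ≤ Subgroup.centralizer (A : Set G))
    (H : Subgroup ↥N) [hHc : H.Characteristic] (h : ⁅H, H⁆ ≤ Subgroup.center ↥N) :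
    H ≤ Subgroup.center ↥N := by
  have hnil : Group.IsNilpotent ↥H := isNilpotent_of_commutator_le_center H h
  have hHG : (H.map N.subtype).Normal := ConjAct.normal_of_characteristic_of_normal
  have hnil2 : Group.IsNilpotent ↥(H.map N.subtype) := by
    have e : ↥H ≃* ↥(H.map N.subtype) := H.equivMapOfInjective N.subtype N.subtype_injective
    exact Group.nilpotent_of_mulEquiv e
  have hle := hcent (H.map N.subtype) hHG hnil2
  intro c hc
  rw [Subgroup.mem_center_iff]
  intro s
  have hs := hle s.2
  rw [Subgroup.mem_centralizer_iff] at hs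
  have := hs (c : G) ⟨c, hc, rfl⟩
  exact Subtype.ext this.symm

/-- A solvable normal subgroup centralizing every nilpotent normal subgroup is abelian. -/
theorem comm_of_isSolvable_of_le_centralizer (N : Subgroup G) [hNn : N.Normal]
    (hsol : Group.IsSolvable ↥N)
    (hcent : ∀ A : Subgroup G, A.Normal → Group.IsNilpotent ↥A →
      N ≤ Subgroup.centralizer (A : Set G)) :
    ∀ a b : ↥N, a * b = b * a := by
  obtain ⟨n, hn⟩ := (Group.isSolvable_def ↥N).mp hsol
  have hdown : ∀ k : ℕ, derivedSeries ↥N (n - k) ≤ Subgroup.center ↥N := by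
    intro k
    induction k with
    | zero =>
      rw [Nat.sub_zero, hn]
      exact bot_le
    | succ k ih =>
      by_cases hk : n - k = 0
      · have : n - (k + 1) = n - k := by omega
        rw [this]
        exact ih
      · have h1 : n - k = (n - (k + 1)) + 1 := by omega
        rw [h1, derivedSeries_succ] at ih
        exact le_center_of_commutator_le_center N hcent _ ih
  have h0 := hdown n
  rw [Nat.sub_self, derivedSeries_zero] at h0
  intro a b
  have ha : a ∈ Subgroup.center ↥N := h0 (Subgroup.mem_top a)
  exact (Subgroup.mem_center_iff.mp ha b).symm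

/-- If `O_p(G) = 1` and the class of `x` has `p`-power size, the normal closure of `x` is
abelian. -/
theorem comm_normalClosure [hp : Fact p.Prime] (hO : pCore p G = ⊥) {x : G}
    (hx : ClassPow p x) :
    ∀ a b : ↥(Subgroup.normalClosure ({x} : Set G)), a * b = b * a := by
  haveI : (Subgroup.normalClosure ({x} : Set G)).Normal := Subgroup.normalClosure_normal
  apply comm_of_isSolvable_of_le_centralizer _ (kazarin hp.out x hx)
  intro A hAn hA
  exact normalClosure_le_centralizer hO A hA hx

end Comm

end Cfsg.Agent.Helper16.Kazarin
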