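import Mathlib
import Cfsg.Agent.Lib.Helper16.LfgA

/-! Insertion lemma. -/

namespace Cfsg.Agent.Helper16.Lfg

open Equiv

variable {α : Type*} [DecidableEq α]

theorem cyc3_apply_fst {w a b : α} (hwa : w ≠ a) (hwb : w ≠ b) :
    (swap w a * swap a b) w = a := by
  rw [Perm.mul_apply, swap_apply_of_ne_of_ne hwa hwb, swap_apply_left]

theorem cyc3_apply_snd {w a b : α} (hab : a ≠ b) (hwb : w ≠ b) :
    (swap w a * swap a b) a = b := by
  rw [Perm.mul_apply, swap_apply_left, swap_apply_of_ne_of_ne hwb.symm hab.symm]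

theorem cyc3_apply_trd {w a b : α} :
    (swap w a * swap a b) b = w := by
  rw [Perm.mul_apply, swap_apply_right, swap_apply_right]

theorem cyc3_apply_other {w a b v : α} (hw : v ≠ w) (ha : v ≠ a) (hb : v ≠ b) :
    (swap w a * swap a b) v = v := by
  rw [Perm.mul_apply, swap_apply_of_ne_of_ne ha hb, swap_apply_of_ne_of_ne hw ha]

omit [DecidableEq α] in
theorem pow_apply_comm' (g : Perm α) (i j : ℕ) (v : α) :
    (g ^ i) ((g ^ j) v) = (g ^ j) ((g ^ i) v) := by
  rw [← Perm.mul_apply, ← Perm.mul_apply, ← pow_add, ← pow_add, add_comm]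

theorem OddOrd.insert [Finite α] {π' : Perm α} (h : OddOrd π') {w a b : α}
    (ha : π' a = a) (hb : π' b = b) (hab : a ≠ b) (hwa : w ≠ a) (hwb : w ≠ b) :
    OddOrd (π' * (swap w a * swap a b)) := by
  obtain ⟨N, hN, hπN⟩ := h
  obtain ⟨π, hπ⟩ : ∃ π : Perm α, π = π' * (swap w a * swap a b) := ⟨_, rfl⟩
  rw [← hπ]
  have pw : π w = a := by
    rw [hπ, Perm.mul_apply, cyc3_apply_fst hwa hwb, ha]
  have pa : π a = b := by
    rw [hπ, Perm.mul_apply, cyc3_apply_snd hab hwb, hb]
  have pb : π b = π' w := by
    rw [hπ, Perm.mul_apply, cyc3_apply_trd]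
  have po : ∀ v, v ≠ w → v ≠ a → v ≠ b → π v = π' v := by
    intro v h1 h2 h3
    rw [hπ, Perm.mul_apply, cyc3_apply_other h1 h2 h3]
  have hfixa : ∀ j : ℕ, (π' ^ j) a = a := by
    intro j
    induction j with
    | zero => simp
    | succ j ih => rw [pow_succ, Perm.mul_apply, ha, ih]
  have hfixb : ∀ j : ℕ, (π' ^ j) b = b := by
    intro j
    induction j with
    | zero => simp
    | succ j ih => rw [pow_succ, Perm.mul_apply, hb, ih]
  set L := Function.minimalPeriod π' w with hL
  have hper : Function.IsPeriodicPt π' N w := by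
    unfold Function.IsPeriodicPt Function.IsFixedPt
    have : (π' ^ N) w = w := by rw [hπN]; rfl
    rwa [← Perm.coe_pow]
  have hNpos : 0 < N := hN.pos
  have hLdvd : L ∣ N := hper.minimalPeriod_dvd
  have hLodd : Odd L := Odd.of_dvd_nat hN hLdvd
  have hLpos : 0 < L := hLodd.pos
  have hLw : (π' ^ L) w = w := by
    have := Function.isPeriodicPt_minimalPeriod π' w
    unfold Function.IsPeriodicPt Function.IsFixedPt at this
    rwa [← Perm.coe_pow] at this
  -- key walk
  have key : ∀ j : ℕ, 1 ≤ j → j ≤ L → (π ^ (2 + j)) w = (π' ^ j) w := by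
    intro j hj1
    induction j, hj1 using Nat.le_induction with
    | base =>
      intro _
      have : (π ^ (2 + 1)) w = π (π (π w)) := by
        rw [show 2 + 1 = 1 + 1 + 1 from rfl, pow_succ', pow_succ', pow_one]; rfl
      rw [this, pw, pa, pb, pow_one]
    | succ j hj1 ih =>
      intro hjL
      have ih' := ih (by omega)
      have hstep : (π ^ (2 + (j + 1))) w = π ((π ^ (2 + j)) w) := by
        rw [show 2 + (j + 1) = (2 + j) + 1 by ring, pow_succ', Perm.mul_apply]
      rw [hstep, ih']
      have hu1 : (π' ^ j) w ≠ w := by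
        intro hcon
        have hp : Function.IsPeriodicPt π' j w := by
          unfold Function.IsPeriodicPt Function.IsFixedPt
          rwa [← Perm.coe_pow]
        have := hp.minimalPeriod_le (by omega)
        omega
      have hu2 : (π' ^ j) w ≠ a := by
        intro hcon
        rw [← hfixa j] at hcon
        exact hwa ((π' ^ j).injective hcon)
      have hu3 : (π' ^ j) w ≠ b := by
        intro hcon
        rw [← hfixb j] at hcon
        exact hwb ((π' ^ j).injective hcon)
      rw [po _ hu1 hu2 hu3, pow_succ', Perm.mul_apply]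
  have hwper : (π ^ (2 + L)) w = w := by
    rw [key L hLpos le_rfl, hLw]
  have hodd2 : Odd (2 + L) := by
    obtain ⟨k, hk⟩ := hLodd
    exact ⟨k + 1, by omega⟩
  apply oddOrd_of_pointwise
  intro v
  by_cases hv : ∃ i : ℕ, (π ^ i) v = w
  · obtain ⟨i, hi⟩ := hv
    refine ⟨2 + L, hodd2, ?_⟩
    apply (π ^ i).injective
    rw [pow_apply_comm', hi, hwper]
  · push Not at hv
    refine ⟨N, hN, ?_⟩
    have hall : ∀ k : ℕ, (π ^ k) v = (π' ^ k) v := by
      intro k
      induction k with
      | zero => simp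
      | succ k ih =>
        rw [pow_succ', Perm.mul_apply, pow_succ' π', Perm.mul_apply, ← ih]
        have h1 : (π ^ k) v ≠ w := hv k
        have h2 : (π ^ k) v ≠ a := by
          intro hcon
          apply hv (k + (1 + L))
          rw [add_comm k, pow_add, Perm.mul_apply, hcon, ← pw, ← Perm.mul_apply, ← pow_succ,
            show 1 + L + 1 = 2 + L by ring, hwper]
        have h3 : (π ^ k) v ≠ b := by
          intro hcon
          apply hv (k + L)
          rw [add_comm k, pow_add, Perm.mul_apply, hcon, ← pa, ← pw, ← Perm.mul_apply,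
            ← Perm.mul_apply, ← pow_succ, ← pow_succ,
            show L + 1 + 1 = 2 + L by ring, hwper]
        exact po _ h1 h2 h3
    rw [hall N, hπN]; rfl

end Cfsg.Agent.Helper16.Lfg
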