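import Mathlib
import Cfsg.Agent.Lib.Helper16.LfgA
import Cfsg.Agent.Lib.Helper16.LfgB
import Cfsg.Agent.Lib.Helper16.LfgC

/-! Configurations, solutions, the cut operation. -/

set_option linter.unusedSectionVars false
set_option linter.unusedVariables false

namespace Cfsg.Agent.Helper16.Lfg

open Equiv

variable {α : Type*} [DecidableEq α] [Fintype α]

structure Cfg (S : Finset α) (x y : Perm α) : Prop where
  x2 : x * x = 1
  y2 : y * y = 1
  xS : ∀ a, a ∉ S → x a = a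
  yS : ∀ a, a ∉ S → y a = a
  bal : x.support.card = y.support.card

def Sol (S : Finset α) (x y : Perm α) : Prop :=
  ∃ z : Perm α, z * z = 1 ∧ (∀ a, a ∉ S → z a = a) ∧ OddOrd (x * z) ∧ OddOrd (y * z)

structure Is4 (x y : Perm α) (q0 q1 q2 q3 : α) : Prop where
  x0 : x q0 = q1
  y1 : y q1 = q2
  x2 : x q2 = q3
  y3 : y q3 = q0
  n01 : q0 ≠ q1
  n02 : q0 ≠ q2
  n03 : q0 ≠ q3
  n12 : q1 ≠ q2
  n13 : q1 ≠ q3
  n23 : q2 ≠ q3

def Exc (S : Finset α) (x y : Perm α) : Prop :=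
  ∃ q0 q1 q2 q3, Is4 x y q0 q1 q2 q3 ∧ S = {q0, q1, q2, q3}

def IH (S : Finset α) : Prop :=
  ∀ (S' : Finset α) (x' y' : Perm α), S'.card < S.card → Cfg S' x' y' → ¬ Exc S' x' y' → Sol S' x' y'

theorem Cfg.symm {S : Finset α} {x y : Perm α} (h : Cfg S x y) : Cfg S y x :=
  ⟨h.y2, h.x2, h.yS, h.xS, h.bal.symm⟩

omit [DecidableEq α] [Fintype α] in
theorem Sol.symm {S : Finset α} {x y : Perm α} (h : Sol S x y) : Sol S y x := by
  obtain ⟨z, h1, h2, h3, h4⟩ := h
  exact ⟨z, h1, h2, h4, h3⟩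

omit [DecidableEq α] [Fintype α] in
theorem inv_apply_of_sq {x : Perm α} (hx : x * x = 1) (a : α) : x (x a) = a := by
  rw [← Perm.mul_apply, hx]; rfl

omit [DecidableEq α] [Fintype α] in
theorem inv_eq_of_sq' {x : Perm α} (hx : x * x = 1) {a b : α} (h : x a = b) : x b = a := by
  rw [← h, inv_apply_of_sq hx]

omit [Fintype α] in
theorem Is4.symm {x y : Perm α} {q0 q1 q2 q3 : α}
    (h : Is4 x y q0 q1 q2 q3) : Is4 y x q1 q2 q3 q0 := by
  exact ⟨h.y1, h.x2, h.y3, h.x0, h.n12, h.n13, h.n01.symm, h.n23, h.n02.symm, h.n03.symm⟩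

omit [Fintype α] in
theorem Exc.symm {S : Finset α} {x y : Perm α} (hx : x * x = 1) (hy : y * y = 1)
    (h : Exc S x y) : Exc S y x := by
  obtain ⟨q0, q1, q2, q3, h4, hS⟩ := h
  refine ⟨q1, q2, q3, q0, h4.symm, ?_⟩
  rw [hS]
  ext v
  simp only [Finset.mem_insert, Finset.mem_singleton]
  tauto

omit [Fintype α] in
theorem commute_swap_of_fix {z : Perm α} {a b : α} (ha : z a = a) (hb : z b = b) :
    Commute z (swap a b) := by
  unfold Commute SemiconjBy
  rw [mul_swap_eq_swap_mul, ha, hb]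

omit [Fintype α] in
theorem commute_swap_of_swap {x : Perm α} {a b : α} (ha : x a = b) (hb : x b = a) :
    Commute x (swap a b) := by
  unfold Commute SemiconjBy
  rw [mul_swap_eq_swap_mul, ha, hb, swap_comm]

section cut

variable {x : Perm α} {a b : α}

omit [Fintype α] in
theorem cut_sq (hx : x * x = 1) (hxa : x a = b) : (x * swap a b) * (x * swap a b) = 1 := by
  have hc := commute_swap_of_swap hxa (inv_eq_of_sq' hx hxa)
  calc x * swap a b * (x * swap a b) = x * (swap a b * x) * swap a b := by group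
    _ = x * (x * swap a b) * swap a b := by rw [hc.eq]
    _ = (x * x) * (swap a b * swap a b) := by group
    _ = 1 := by rw [hx, swap_mul_self, one_mul]

omit [Fintype α] in
theorem cut_apply_left (hx : x * x = 1) (hxa : x a = b) : (x * swap a b) a = a := by
  rw [Perm.mul_apply, swap_apply_left, inv_eq_of_sq' hx hxa]

omit [Fintype α] in
theorem cut_apply_right (hxa : x a = b) : (x * swap a b) b = b := by
  rw [Perm.mul_apply, swap_apply_right, hxa]

omit [Fintype α] in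
theorem cut_apply_other {v : α} (hva : v ≠ a) (hvb : v ≠ b) : (x * swap a b) v = x v := by
  rw [Perm.mul_apply, swap_apply_of_ne_of_ne hva hvb]

omit [Fintype α] in
theorem cut_mul_swap : x = (x * swap a b) * swap a b := by
  rw [mul_assoc, swap_mul_self, mul_one]

omit [Fintype α] in
theorem cut_disjoint (hx : x * x = 1) (hxa : x a = b) : Perm.Disjoint (x * swap a b) (swap a b) := by
  intro v
  by_cases hva : v = a
  · left; rw [hva]; exact cut_apply_left hx hxa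
  · by_cases hvb : v = b
    · left; rw [hvb]; exact cut_apply_right hxa
    · right; exact swap_apply_of_ne_of_ne hva hvb

theorem cut_card (hx : x * x = 1) (hab : a ≠ b) (hxa : x a = b) :
    (x * swap a b).support.card + 2 = x.support.card := by
  have h1 := (cut_disjoint hx hxa).card_support_mul
  rw [← cut_mul_swap, Perm.card_support_swap hab] at h1
  exact h1.symm

end cut

section exc

variable {S : Finset α} {x y : Perm α}

theorem Exc.mem_cases (h : Exc S x y) :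
    ∃ q0 q1 q2 q3, Is4 x y q0 q1 q2 q3 ∧ S = {q0, q1, q2, q3} ∧
      ∀ v ∈ S, v = q0 ∨ v = q1 ∨ v = q2 ∨ v = q3 := by
  obtain ⟨q0, q1, q2, q3, h4, hS⟩ := h
  refine ⟨q0, q1, q2, q3, h4, hS, ?_⟩
  intro v hv
  rw [hS] at hv
  simpa using hv

theorem Exc.moved_y (hy : y * y = 1) (h : Exc S x y) : ∀ v ∈ S, y v ≠ v := by
  obtain ⟨q0, q1, q2, q3, h4, hS, hc⟩ := h.mem_cases
  intro v hv
  have e2 : y q2 = q1 := inv_eq_of_sq' hy h4.y1
  have e0 : y q0 = q3 := inv_eq_of_sq' hy h4.y3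
  rcases hc v hv with rfl | rfl | rfl | rfl
  · rw [e0]; exact h4.n03.symm
  · rw [h4.y1]; exact h4.n12.symm
  · rw [e2]; exact h4.n12
  · rw [h4.y3]; exact h4.n03

theorem Exc.moved_x (hx : x * x = 1) (h : Exc S x y) : ∀ v ∈ S, x v ≠ v := by
  obtain ⟨q0, q1, q2, q3, h4, hS, hc⟩ := h.mem_cases
  intro v hv
  have e1 : x q1 = q0 := inv_eq_of_sq' hx h4.x0
  have e3 : x q3 = q2 := inv_eq_of_sq' hx h4.x2
  rcases hc v hv with rfl | rfl | rfl | rfl
  · rw [h4.x0]; exact h4.n01.symm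
  · rw [e1]; exact h4.n01
  · rw [h4.x2]; exact h4.n23.symm
  · rw [e3]; exact h4.n23

theorem Exc.x_ne_y (hx : x * x = 1) (hy : y * y = 1) (h : Exc S x y) : ∀ v ∈ S, x v ≠ y v := by
  obtain ⟨q0, q1, q2, q3, h4, hS, hc⟩ := h.mem_cases
  intro v hv
  have e1 : x q1 = q0 := inv_eq_of_sq' hx h4.x0
  have e3 : x q3 = q2 := inv_eq_of_sq' hx h4.x2
  have e2 : y q2 = q1 := inv_eq_of_sq' hy h4.y1
  have e0 : y q0 = q3 := inv_eq_of_sq' hy h4.y3
  rcases hc v hv with rfl | rfl | rfl | rfl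
  · rw [h4.x0, e0]; exact h4.n13
  · rw [e1, h4.y1]; exact h4.n02
  · rw [h4.x2, e2]; exact h4.n13.symm
  · rw [e3, h4.y3]; exact h4.n02.symm

theorem Exc.card_le (h : Exc S x y) : S.card ≤ 4 := by
  obtain ⟨q0, q1, q2, q3, h4, hS⟩ := h
  rw [hS]
  exact Finset.card_le_four

/-- transfer of an exceptional sub-configuration to a 4-cycle of the big one -/
theorem Exc.is4_of_agree {S' : Finset α} {x' y' : Perm α} (h : Exc S' x' y')
    (hx : ∀ v ∈ S', x' v = x v) (hy : ∀ v ∈ S', y' v = y v) :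
    ∃ q0 q1 q2 q3, Is4 x y q0 q1 q2 q3 ∧ S' = {q0, q1, q2, q3} := by
  obtain ⟨q0, q1, q2, q3, h4, hS⟩ := h
  have m0 : q0 ∈ S' := by rw [hS]; simp
  have m1 : q1 ∈ S' := by rw [hS]; simp
  have m2 : q2 ∈ S' := by rw [hS]; simp
  have m3 : q3 ∈ S' := by rw [hS]; simp
  refine ⟨q0, q1, q2, q3, ⟨?_, ?_, ?_, ?_, h4.n01, h4.n02, h4.n03, h4.n12, h4.n13, h4.n23⟩, hS⟩
  · rw [← hx q0 m0]; exact h4.x0
  · rw [← hy q1 m1]; exact h4.y1
  · rw [← hx q2 m2]; exact h4.x2
  · rw [← hy q3 m3]; exact h4.y3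

end exc

end Cfsg.Agent.Helper16.Lfg
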