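import Mathlib
import Cfsg.Agent.Lib.Helper16.LfgA
import Cfsg.Agent.Lib.Helper16.LfgB
import Cfsg.Agent.Lib.Helper16.LfgC
import Cfsg.Agent.Lib.Helper16.LfgD

/-! Reductions: shared transposition, common fixed point, path shortening, opposite pairs. -/

set_option linter.unusedSectionVars false
set_option linter.unusedVariables false

namespace Cfsg.Agent.Helper16.Lfg

open Equiv

variable {α : Type*} [DecidableEq α] [Fintype α]
variable {S : Finset α} {x y : Perm α}

theorem mem_of_moved_x (hc : Cfg S x y) {a : α} (h : x a ≠ a) : a ∈ S := by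
  by_contra hn; exact h (hc.xS a hn)

theorem mem_of_moved_y (hc : Cfg S x y) {a : α} (h : y a ≠ a) : a ∈ S := by
  by_contra hn; exact h (hc.yS a hn)

/-- general lifting of a solution multiplied by a commuting swap, for the side where the swap
is cut from the involution -/
theorem lift_cut_same {x' z' : Perm α} {a b : α} (hz'a : z' a = a) (hz'b : z' b = b) :
    (x' * swap a b) * (z' * swap a b) = x' * z' := by
  have hc := commute_swap_of_fix hz'a hz'b
  calc x' * swap a b * (z' * swap a b) = x' * (swap a b * z') * swap a b := by group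
    _ = x' * (z' * swap a b) * swap a b := by rw [hc.eq]
    _ = x' * z' * (swap a b * swap a b) := by group
    _ = x' * z' := by rw [swap_mul_self, mul_one]

theorem sq_mul_swap {z' : Perm α} {a b : α} (hz : z' * z' = 1) (hz'a : z' a = a) (hz'b : z' b = b) :
    (z' * swap a b) * (z' * swap a b) = 1 := by
  have hc := commute_swap_of_fix hz'a hz'b
  calc z' * swap a b * (z' * swap a b) = z' * (swap a b * z') * swap a b := by group
    _ = z' * (z' * swap a b) * swap a b := by rw [hc.eq]
    _ = (z' * z') * (swap a b * swap a b) := by group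
    _ = 1 := by rw [hz, swap_mul_self, one_mul]

theorem inv_eq_self_of_sq {z : Perm α} (hz : z * z = 1) : z⁻¹ = z :=
  inv_eq_of_mul_eq_one_left hz

/-- Path shortening: `a` fixed by `y`, `x a = b`, `y b = c`. -/
theorem red_path (hc : Cfg S x y) (ih : IH S) {a b c : α}
    (hya : y a = a) (hxa : x a = b) (hab : a ≠ b) (hyb : y b = c) (hbc : b ≠ c) : Sol S x y := by
  have hx2 := hc.x2
  have hy2 := hc.y2
  have hxb : x b = a := inv_eq_of_sq' hx2 hxa
  have hyc : y c = b := inv_eq_of_sq' hy2 hyb
  have hac : a ≠ c := by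
    rintro rfl
    rw [hya] at hyc; exact hab hyc
  have haS : a ∈ S := mem_of_moved_x hc (by rw [hxa]; exact hab.symm)
  have hbS : b ∈ S := mem_of_moved_x hc (by rw [hxb]; exact hab)
  have hcS : c ∈ S := mem_of_moved_y hc (by rw [hyc]; exact hbc)
  set x' := x * swap a b with hx'
  set y' := y * swap b c with hy'
  set S' := (S.erase a).erase b with hS'
  have hmem : ∀ v, v ∉ S' → v = a ∨ v = b ∨ v ∉ S := by
    intro v hv
    by_cases h1 : v = a
    · exact Or.inl h1
    · by_cases h2 : v = b
      · exact Or.inr (Or.inl h2)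
      · right; right
        intro hvS
        exact hv (Finset.mem_erase.mpr ⟨h2, Finset.mem_erase.mpr ⟨h1, hvS⟩⟩)
  have hsub : S' ⊆ S := (Finset.erase_subset _ _).trans (Finset.erase_subset _ _)
  have haS' : a ∉ S' := by simp [hS']
  have hbS' : b ∉ S' := by simp [hS']
  have hcS' : c ∈ S' := by
    simp only [hS', Finset.mem_erase]
    exact ⟨hbc.symm, hac.symm, hcS⟩
  have hcard : S'.card < S.card := by
    have h1 : (S.erase a).card < S.card := Finset.card_erase_lt_of_mem haS
    have h2 : S'.card ≤ (S.erase a).card := Finset.card_le_card (Finset.erase_subset _ _)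
    omega
  have hy'c : y' c = c := cut_apply_right hyb
  have hy'b : y' b = b := cut_apply_left hy2 hyb
  have hy'a : y' a = a := by rw [hy', cut_apply_other hab hac, hya]
  have hx'a : x' a = a := cut_apply_left hx2 hxa
  have hx'b : x' b = b := cut_apply_right hxa
  have hc' : Cfg S' x' y' := by
    refine ⟨cut_sq hx2 hxa, cut_sq hy2 hyb, ?_, ?_, ?_⟩
    · intro v hv
      rcases hmem v hv with rfl | rfl | h
      · exact hx'a
      · exact hx'b
      · have h1 : v ≠ a := by rintro rfl; exact h haS
        have h2 : v ≠ b := by rintro rfl; exact h hbS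
        rw [hx', cut_apply_other h1 h2, hc.xS v h]
    · intro v hv
      rcases hmem v hv with rfl | rfl | h
      · exact hy'a
      · exact hy'b
      · have h1 : v ≠ b := by rintro rfl; exact h hbS
        have h2 : v ≠ c := by rintro rfl; exact h hcS
        rw [hy', cut_apply_other h1 h2, hc.yS v h]
    · have h1 : x'.support.card + 2 = x.support.card := cut_card hx2 hab hxa
      have h2 : y'.support.card + 2 = y.support.card := cut_card hy2 hbc hyb
      have := hc.bal
      omega
  have hne : ¬ Exc S' x' y' := by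
    intro he
    exact he.moved_y hc'.y2 c hcS' hy'c
  obtain ⟨z', hz2, hzS, hxz, hyz⟩ := ih S' x' y' hcard hc' hne
  have hz'a : z' a = a := hzS a haS'
  have hz'b : z' b = b := hzS b hbS'
  refine ⟨z' * swap a b, sq_mul_swap hz2 hz'a hz'b, ?_, ?_, ?_⟩
  · intro v hv
    have h1 : v ≠ a := by rintro rfl; exact hv haS
    have h2 : v ≠ b := by rintro rfl; exact hv hbS
    rw [Perm.mul_apply, swap_apply_of_ne_of_ne h1 h2]
    exact hzS v (fun h => hv (hsub h))
  · have : x * (z' * swap a b) = x' * z' := by
      conv_lhs => rw [cut_mul_swap (x := x) (a := a) (b := b)]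
      exact lift_cut_same hz'a hz'b
    rw [this]; exact hxz
  · -- the y side: insertion
    set w := z' c with hw
    have hzinv : z'⁻¹ = z' := inv_eq_self_of_sq hz2
    have hwb : w ≠ b := by
      intro h
      have : z' w = z' b := by rw [h]
      rw [hw, inv_apply_of_sq hz2, hz'b] at this
      exact hbc this.symm
    have hwa : w ≠ a := by
      intro h
      have : z' w = z' a := by rw [h]
      rw [hw, inv_apply_of_sq hz2, hz'a] at this
      exact hac this.symm
    have key : y * (z' * swap a b) = (y' * z') * (swap w b * swap b a) := by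
      conv_lhs => rw [cut_mul_swap (x := y) (a := b) (b := c)]
      rw [← hy']
      have h1 : swap b c * z' = z' * swap b w := by
        rw [swap_mul_eq_mul_swap, hzinv, hz'b]
      calc y' * swap b c * (z' * swap a b) = y' * (swap b c * z') * swap a b := by group
        _ = y' * (z' * swap b w) * swap a b := by rw [h1]
        _ = y' * z' * (swap w b * swap b a) := by
          rw [swap_comm b w, swap_comm a b]; group
    rw [key]
    apply OddOrd.insert hyz
    · rw [Perm.mul_apply, hz'b, hy'b]
    · rw [Perm.mul_apply, hz'a, hy'a]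
    · exact hab.symm
    · exact hwb
    · exact hwa

theorem sdiff_card_lt {S T : Finset α} {a : α} (haS : a ∈ S) (haT : a ∈ T) :
    (S \ T).card < S.card :=
  Finset.card_lt_card ⟨Finset.sdiff_subset, fun h => (Finset.mem_sdiff.mp (h haS)).2 haT⟩

/-- generic lifting algebra: `x = x' * A`, `z = z' * B`, `A` commuting with `z'`. -/
theorem lift_general {x' z' A B : Perm α} (hc : Commute A z') :
    (x' * A) * (z' * B) = (x' * z') * (A * B) := by
  calc x' * A * (z' * B) = x' * (A * z') * B := by group
    _ = x' * (z' * A) * B := by rw [hc.eq]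
    _ = x' * z' * (A * B) := by group

/-- Shared transposition. -/
theorem red_shared (hc : Cfg S x y) (ih : IH S) (no4 : ¬ ∃ q0 q1 q2 q3, Is4 x y q0 q1 q2 q3)
    {a b : α} (hab : a ≠ b) (hxa : x a = b) (hya : y a = b) : Sol S x y := by
  have hx2 := hc.x2
  have hy2 := hc.y2
  have hxb : x b = a := inv_eq_of_sq' hx2 hxa
  have haS : a ∈ S := mem_of_moved_x hc (by rw [hxa]; exact hab.symm)
  have hbS : b ∈ S := mem_of_moved_x hc (by rw [hxb]; exact hab)
  set x' := x * swap a b with hx'
  set y' := y * swap a b with hy'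
  set S' := S \ {a, b} with hS'
  have hmemS' : ∀ v, v ∈ S' ↔ v ∈ S ∧ v ≠ a ∧ v ≠ b := by
    intro v; simp [hS', Finset.mem_sdiff]
  have hsub : S' ⊆ S := Finset.sdiff_subset
  have haS' : a ∉ S' := by simp [hS']
  have hbS' : b ∉ S' := by simp [hS']
  have hcard : S'.card < S.card := sdiff_card_lt haS (by simp)
  have hx'a : x' a = a := cut_apply_left hx2 hxa
  have hx'b : x' b = b := cut_apply_right hxa
  have hy'a : y' a = a := cut_apply_left hy2 hya
  have hy'b : y' b = b := cut_apply_right hya
  have hc' : Cfg S' x' y' := by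
    refine ⟨cut_sq hx2 hxa, cut_sq hy2 hya, ?_, ?_, ?_⟩
    · intro v hv
      by_cases h1 : v = a
      · rw [h1]; exact hx'a
      by_cases h2 : v = b
      · rw [h2]; exact hx'b
      have : v ∉ S := fun h => hv ((hmemS' v).mpr ⟨h, h1, h2⟩)
      rw [hx', cut_apply_other h1 h2, hc.xS v this]
    · intro v hv
      by_cases h1 : v = a
      · rw [h1]; exact hy'a
      by_cases h2 : v = b
      · rw [h2]; exact hy'b
      have : v ∉ S := fun h => hv ((hmemS' v).mpr ⟨h, h1, h2⟩)
      rw [hy', cut_apply_other h1 h2, hc.yS v this]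
    · have h1 : x'.support.card + 2 = x.support.card := cut_card hx2 hab hxa
      have h2 : y'.support.card + 2 = y.support.card := cut_card hy2 hab hya
      have := hc.bal
      omega
  have hne : ¬ Exc S' x' y' := by
    intro he
    obtain ⟨q0, q1, q2, q3, h4, -⟩ := he.is4_of_agree (x := x) (y := y)
      (fun v hv => by
        obtain ⟨-, h1, h2⟩ := (hmemS' v).mp hv
        rw [hx', cut_apply_other h1 h2])
      (fun v hv => by
        obtain ⟨-, h1, h2⟩ := (hmemS' v).mp hv
        rw [hy', cut_apply_other h1 h2])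
    exact no4 ⟨q0, q1, q2, q3, h4⟩
  obtain ⟨z', hz2, hzS, hxz, hyz⟩ := ih S' x' y' hcard hc' hne
  have hz'a : z' a = a := hzS a haS'
  have hz'b : z' b = b := hzS b hbS'
  refine ⟨z' * swap a b, sq_mul_swap hz2 hz'a hz'b, ?_, ?_, ?_⟩
  · intro v hv
    have h1 : v ≠ a := by rintro rfl; exact hv haS
    have h2 : v ≠ b := by rintro rfl; exact hv hbS
    rw [Perm.mul_apply, swap_apply_of_ne_of_ne h1 h2]
    exact hzS v (fun h => hv (hsub h))
  · have : x * (z' * swap a b) = x' * z' := by
      conv_lhs => rw [cut_mul_swap (x := x) (a := a) (b := b)]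
      exact lift_cut_same hz'a hz'b
    rw [this]; exact hxz
  · have : y * (z' * swap a b) = y' * z' := by
      conv_lhs => rw [cut_mul_swap (x := y) (a := a) (b := b)]
      exact lift_cut_same hz'a hz'b
    rw [this]; exact hyz

theorem swap_mul_swap_eq_cyc {a b c : α} (hab : a ≠ b) (hac : a ≠ c) (hbc : b ≠ c) :
    swap a b * swap a c = swap c b * swap b a := by
  have hl : [a, b, c].Nodup := by simp [*]
  have := model_eq' 3 [a, b, c] rfl hl [(0,1),(0,2)] [(2,1),(1,0)] (by decide)
  simpa [swapsProd, mul_assoc] using this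

/-- Opposite pairs: an `x`-only transposition `(a b)` and a `y`-only transposition `(a' b')`. -/
theorem red_pair (hc : Cfg S x y) (ih : IH S) (no4 : ¬ ∃ q0 q1 q2 q3, Is4 x y q0 q1 q2 q3)
    {a b a' b' : α} (hya : y a = a) (hxa : x a = b) (hab : a ≠ b) (hyb : y b = b)
    (hxa' : x a' = a') (hya' : y a' = b') (hab' : a' ≠ b') (hxb' : x b' = b') : Sol S x y := by
  have hx2 := hc.x2
  have hy2 := hc.y2
  have hxb : x b = a := inv_eq_of_sq' hx2 hxa
  have hyb' : y b' = a' := inv_eq_of_sq' hy2 hya'
  have haa' : a ≠ a' := by rintro rfl; rw [hxa'] at hxa; exact hab hxa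
  have hab'' : a ≠ b' := by rintro rfl; rw [hxb'] at hxa; exact hab hxa
  have hba' : b ≠ a' := by rintro rfl; rw [hxa'] at hxb; exact hab hxb.symm
  have hbb' : b ≠ b' := by rintro rfl; rw [hxb'] at hxb; exact hab hxb.symm
  have haS : a ∈ S := mem_of_moved_x hc (by rw [hxa]; exact hab.symm)
  have hbS : b ∈ S := mem_of_moved_x hc (by rw [hxb]; exact hab)
  have ha'S : a' ∈ S := mem_of_moved_y hc (by rw [hya']; exact hab'.symm)
  have hb'S : b' ∈ S := mem_of_moved_y hc (by rw [hyb']; exact hab')
  set x' := x * swap a b with hx'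
  set y' := y * swap a' b' with hy'
  set S' := S \ {a, b, a', b'} with hS'
  have hmemS' : ∀ v, v ∈ S' ↔ v ∈ S ∧ v ≠ a ∧ v ≠ b ∧ v ≠ a' ∧ v ≠ b' := by
    intro v; simp [hS', Finset.mem_sdiff]
  have hsub : S' ⊆ S := Finset.sdiff_subset
  have haS' : a ∉ S' := by simp [hS']
  have hbS' : b ∉ S' := by simp [hS']
  have ha'S' : a' ∉ S' := by simp [hS']
  have hb'S' : b' ∉ S' := by simp [hS']
  have hcard : S'.card < S.card := sdiff_card_lt haS (by simp)
  have hx'a : x' a = a := cut_apply_left hx2 hxa
  have hx'b : x' b = b := cut_apply_right hxa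
  have hx'a' : x' a' = a' := by rw [hx', cut_apply_other haa'.symm hba'.symm, hxa']
  have hx'b' : x' b' = b' := by rw [hx', cut_apply_other hab''.symm hbb'.symm, hxb']
  have hy'a' : y' a' = a' := cut_apply_left hy2 hya'
  have hy'b' : y' b' = b' := cut_apply_right hya'
  have hy'a : y' a = a := by rw [hy', cut_apply_other haa' hab'', hya]
  have hy'b : y' b = b := by rw [hy', cut_apply_other hba' hbb', hyb]
  have hc' : Cfg S' x' y' := by
    refine ⟨cut_sq hx2 hxa, cut_sq hy2 hya', ?_, ?_, ?_⟩
    · intro v hv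
      by_cases h1 : v = a
      · rw [h1]; exact hx'a
      by_cases h2 : v = b
      · rw [h2]; exact hx'b
      by_cases h3 : v = a'
      · rw [h3]; exact hx'a'
      by_cases h4 : v = b'
      · rw [h4]; exact hx'b'
      have : v ∉ S := fun h => hv ((hmemS' v).mpr ⟨h, h1, h2, h3, h4⟩)
      rw [hx', cut_apply_other h1 h2, hc.xS v this]
    · intro v hv
      by_cases h1 : v = a
      · rw [h1]; exact hy'a
      by_cases h2 : v = b
      · rw [h2]; exact hy'b
      by_cases h3 : v = a'
      · rw [h3]; exact hy'a'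
      by_cases h4 : v = b'
      · rw [h4]; exact hy'b'
      have : v ∉ S := fun h => hv ((hmemS' v).mpr ⟨h, h1, h2, h3, h4⟩)
      rw [hy', cut_apply_other h3 h4, hc.yS v this]
    · have h1 : x'.support.card + 2 = x.support.card := cut_card hx2 hab hxa
      have h2 : y'.support.card + 2 = y.support.card := cut_card hy2 hab' hya'
      have := hc.bal
      omega
  have hne : ¬ Exc S' x' y' := by
    intro he
    obtain ⟨q0, q1, q2, q3, h4, -⟩ := he.is4_of_agree (x := x) (y := y)
      (fun v hv => by
        obtain ⟨-, h1, h2, -, -⟩ := (hmemS' v).mp hv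
        rw [hx', cut_apply_other h1 h2])
      (fun v hv => by
        obtain ⟨-, -, -, h3, h4⟩ := (hmemS' v).mp hv
        rw [hy', cut_apply_other h3 h4])
    exact no4 ⟨q0, q1, q2, q3, h4⟩
  obtain ⟨z', hz2, hzS, hxz, hyz⟩ := ih S' x' y' hcard hc' hne
  have hz'a : z' a = a := hzS a haS'
  have hz'b : z' b = b := hzS b hbS'
  have hz'a' : z' a' = a' := hzS a' ha'S'
  have hz'b' : z' b' = b' := hzS b' hb'S'
  refine ⟨z' * swap a a', sq_mul_swap hz2 hz'a hz'a', ?_, ?_, ?_⟩
  · intro v hv
    have h1 : v ≠ a := by rintro rfl; exact hv haS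
    have h2 : v ≠ a' := by rintro rfl; exact hv ha'S
    rw [Perm.mul_apply, swap_apply_of_ne_of_ne h1 h2]
    exact hzS v (fun h => hv (hsub h))
  · have key : x * (z' * swap a a') = (x' * z') * (swap a' b * swap b a) := by
      conv_lhs => rw [cut_mul_swap (x := x) (a := a) (b := b)]
      rw [← hx', lift_general (commute_swap_of_fix hz'a hz'b).symm,
        swap_mul_swap_eq_cyc hab haa' hba']
    rw [key]
    apply OddOrd.insert hxz
    · rw [Perm.mul_apply, hz'b, hx'b]
    · rw [Perm.mul_apply, hz'a, hx'a]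
    · exact hab.symm
    · exact hba'.symm
    · exact haa'.symm
  · have key : y * (z' * swap a a') = (y' * z') * (swap a b' * swap b' a') := by
      conv_lhs => rw [cut_mul_swap (x := y) (a := a') (b := b')]
      rw [← hy', lift_general (commute_swap_of_fix hz'a' hz'b').symm, swap_comm a a',
        swap_mul_swap_eq_cyc hab' haa'.symm hab''.symm]
    rw [key]
    apply OddOrd.insert hyz
    · rw [Perm.mul_apply, hz'b', hy'b']
    · rw [Perm.mul_apply, hz'a', hy'a']
    · exact hab'.symm
    · exact hab''
    · exact haa'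

/-- Common fixed point. -/
theorem red_fixed (hc : Cfg S x y) (ih : IH S) (no4 : ¬ ∃ q0 q1 q2 q3, Is4 x y q0 q1 q2 q3)
    {a : α} (haS : a ∈ S) (hxa : x a = a) (hya : y a = a) : Sol S x y := by
  set S' := S.erase a with hS'
  have hcard : S'.card < S.card := Finset.card_erase_lt_of_mem haS
  have hc' : Cfg S' x y := by
    refine ⟨hc.x2, hc.y2, ?_, ?_, hc.bal⟩
    · intro v hv
      by_cases h1 : v = a
      · rw [h1]; exact hxa
      · exact hc.xS v (fun h => hv (Finset.mem_erase.mpr ⟨h1, h⟩))
    · intro v hv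
      by_cases h1 : v = a
      · rw [h1]; exact hya
      · exact hc.yS v (fun h => hv (Finset.mem_erase.mpr ⟨h1, h⟩))
  have hne : ¬ Exc S' x y := by
    rintro ⟨q0, q1, q2, q3, h4, -⟩
    exact no4 ⟨q0, q1, q2, q3, h4⟩
  obtain ⟨z', hz2, hzS, hxz, hyz⟩ := ih S' x y hcard hc' hne
  exact ⟨z', hz2, fun v hv => hzS v (fun h => hv (Finset.mem_of_mem_erase h)), hxz, hyz⟩

end Cfsg.Agent.Helper16.Lfg
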