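import Mathlib
import Cfsg.Agent.Lib.Helper16.LfgA
import Cfsg.Agent.Lib.Helper16.LfgB
import Cfsg.Agent.Lib.Helper16.LfgC
import Cfsg.Agent.Lib.Helper16.LfgD
import Cfsg.Agent.Lib.Helper16.LfgE

/-! Explicit small configurations via models on `Fin k`. -/

set_option linter.unusedSectionVars false
set_option linter.unusedVariables false

namespace Cfsg.Agent.Helper16.Lfg

open Equiv

variable {α : Type*} [DecidableEq α] [Fintype α]

theorem sol_of_model (k : ℕ) (l : List α) (hk : l.length = k) (hl : l.Nodup) (S : Finset α)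
    (x y : Perm α) (hxS : ∀ v, v ∉ l → x v = v) (hyS : ∀ v, v ∉ l → y v = v)
    (hlS : ∀ v, v ∉ S → v ∉ l)
    (x₀ y₀ z₀ : Perm (Fin k))
    (hx : ∀ i : Fin k, x (l.get (Fin.cast hk.symm i)) = l.get (Fin.cast hk.symm (x₀ i)))
    (hy : ∀ i : Fin k, y (l.get (Fin.cast hk.symm i)) = l.get (Fin.cast hk.symm (y₀ i)))
    (hz : z₀ * z₀ = 1) (N : ℕ) (hN : Odd N) (h1 : (x₀ * z₀) ^ N = 1) (h2 : (y₀ * z₀) ^ N = 1) :
    Sol S x y := by
  have hinj : Function.Injective (fun i : Fin k => l.get (Fin.cast hk.symm i)) := by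
    intro i j hij
    have := List.nodup_iff_injective_get.mp hl hij
    exact Fin.cast_injective _ this
  set ι : Fin k ↪ α := ⟨fun i : Fin k => l.get (Fin.cast hk.symm i), hinj⟩ with hι
  have hrange : ∀ v, v ∉ Set.range ι → v ∉ l := by
    intro v hv hvl
    apply hv
    obtain ⟨n, hn⟩ := List.get_of_mem hvl
    refine ⟨Fin.cast hk n, ?_⟩
    rw [hι]
    simpa using hn
  have hxe : x = x₀.viaEmbedding ι := by
    ext v
    by_cases hv : v ∈ Set.range ι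
    · obtain ⟨i, rfl⟩ := hv
      rw [Perm.viaEmbedding_apply]
      exact hx i
    · rw [Perm.viaEmbedding_apply_of_notMem _ _ _ hv]
      exact hxS v (hrange v hv)
  have hye : y = y₀.viaEmbedding ι := by
    ext v
    by_cases hv : v ∈ Set.range ι
    · obtain ⟨i, rfl⟩ := hv
      rw [Perm.viaEmbedding_apply]
      exact hy i
    · rw [Perm.viaEmbedding_apply_of_notMem _ _ _ hv]
      exact hyS v (hrange v hv)
  refine ⟨z₀.viaEmbedding ι, ?_, ?_, ?_, ?_⟩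
  · rw [← Perm.viaEmbeddingHom_apply, ← map_mul, hz, map_one]
  · intro v hv
    apply Perm.viaEmbedding_apply_of_notMem
    rintro ⟨i, rfl⟩
    exact hlS _ hv (List.get_mem _ _)
  · refine ⟨N, hN, ?_⟩
    rw [hxe, ← Perm.viaEmbeddingHom_apply, ← Perm.viaEmbeddingHom_apply, ← map_mul, ← map_pow,
      h1, map_one]
  · refine ⟨N, hN, ?_⟩
    rw [hye, ← Perm.viaEmbeddingHom_apply, ← Perm.viaEmbeddingHom_apply, ← map_mul, ← map_pow,
      h2, map_one]

set_option maxRecDepth 8000 in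
/-- the eight-cycle -/
theorem sol_eight_cycle {S : Finset α} {x y : Perm α} (hc : Cfg S x y)
    {p0 p1 p2 p3 p4 p5 p6 p7 : α}
    (hl : [p0, p1, p2, p3, p4, p5, p6, p7].Nodup) (hS : S = {p0, p1, p2, p3, p4, p5, p6, p7})
    (x01 : x p0 = p1) (x23 : x p2 = p3) (x45 : x p4 = p5) (x67 : x p6 = p7)
    (y12 : y p1 = p2) (y34 : y p3 = p4) (y56 : y p5 = p6) (y70 : y p7 = p0) : Sol S x y := by
  have x10 := inv_eq_of_sq' hc.x2 x01
  have x32 := inv_eq_of_sq' hc.x2 x23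
  have x54 := inv_eq_of_sq' hc.x2 x45
  have x76 := inv_eq_of_sq' hc.x2 x67
  have y21 := inv_eq_of_sq' hc.y2 y12
  have y43 := inv_eq_of_sq' hc.y2 y34
  have y65 := inv_eq_of_sq' hc.y2 y56
  have y07 := inv_eq_of_sq' hc.y2 y70
  have hmem : ∀ v, v ∉ S ↔ v ∉ [p0, p1, p2, p3, p4, p5, p6, p7] := by
    intro v; rw [hS]; simp
  let x₀ : Perm (Fin 8) := swapsProd [(0,1),(2,3),(4,5),(6,7)]
  let y₀ : Perm (Fin 8) := swapsProd [(1,2),(3,4),(5,6),(7,0)]
  let z₀ : Perm (Fin 8) := swapsProd [(0,1),(3,4),(5,7),(2,6)]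
  have ex : ∀ i : Fin 8, x₀ i = ![1,0,3,2,5,4,7,6] i := by decide
  have ey : ∀ i : Fin 8, y₀ i = ![7,2,1,4,3,6,5,0] i := by decide
  refine sol_of_model 8 [p0, p1, p2, p3, p4, p5, p6, p7] rfl hl S x y
    (fun v hv => hc.xS v ((hmem v).mpr hv)) (fun v hv => hc.yS v ((hmem v).mpr hv))
    (fun v hv => (hmem v).mp hv) x₀ y₀ z₀ ?_ ?_ (by decide) 3 (by decide) (by decide) (by decide)
  · intro i
    rw [ex i]
    fin_cases i <;> simp [*]
  · intro i
    rw [ey i]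
    fin_cases i <;> simp [*]

set_option maxRecDepth 8000 in
/-- two four-cycles -/
theorem sol_two_four {S : Finset α} {x y : Perm α} (hc : Cfg S x y)
    {p0 p1 p2 p3 q0 q1 q2 q3 : α}
    (hl : [p0, p1, p2, p3, q0, q1, q2, q3].Nodup) (hS : S = {p0, p1, p2, p3, q0, q1, q2, q3})
    (hp : Is4 x y p0 p1 p2 p3) (hq : Is4 x y q0 q1 q2 q3) : Sol S x y := by
  have x01 := hp.x0
  have x23 := hp.x2
  have y12 := hp.y1
  have y30 := hp.y3
  have x45 := hq.x0
  have x67 := hq.x2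
  have y56 := hq.y1
  have y74 := hq.y3
  have x10 := inv_eq_of_sq' hc.x2 x01
  have x32 := inv_eq_of_sq' hc.x2 x23
  have x54 := inv_eq_of_sq' hc.x2 x45
  have x76 := inv_eq_of_sq' hc.x2 x67
  have y21 := inv_eq_of_sq' hc.y2 y12
  have y03 := inv_eq_of_sq' hc.y2 y30
  have y65 := inv_eq_of_sq' hc.y2 y56
  have y47 := inv_eq_of_sq' hc.y2 y74
  have hmem : ∀ v, v ∉ S ↔ v ∉ [p0, p1, p2, p3, q0, q1, q2, q3] := by
    intro v; rw [hS]; simp
  let x₀ : Perm (Fin 8) := swapsProd [(0,1),(2,3),(4,5),(6,7)]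
  let y₀ : Perm (Fin 8) := swapsProd [(1,2),(3,0),(5,6),(7,4)]
  let z₀ : Perm (Fin 8) := swapsProd [(0,1),(5,6),(2,4),(3,7)]
  have ex : ∀ i : Fin 8, x₀ i = ![1,0,3,2,5,4,7,6] i := by decide
  have ey : ∀ i : Fin 8, y₀ i = ![3,2,1,0,7,6,5,4] i := by decide
  refine sol_of_model 8 [p0, p1, p2, p3, q0, q1, q2, q3] rfl hl S x y
    (fun v hv => hc.xS v ((hmem v).mpr hv)) (fun v hv => hc.yS v ((hmem v).mpr hv))
    (fun v hv => (hmem v).mp hv) x₀ y₀ z₀ ?_ ?_ (by decide) 3 (by decide) (by decide) (by decide)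
  · intro i
    rw [ex i]
    fin_cases i <;> simp [*]
  · intro i
    rw [ey i]
    fin_cases i <;> simp [*]

end Cfsg.Agent.Helper16.Lfg
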