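import Mathlib
import Cfsg.Agent.Lib.Helper16.LfgA
import Cfsg.Agent.Lib.Helper16.LfgB
import Cfsg.Agent.Lib.Helper16.LfgC
import Cfsg.Agent.Lib.Helper16.LfgD
import Cfsg.Agent.Lib.Helper16.LfgE

/-! Contraction of an alternating segment of six points. -/

set_option linter.unusedSectionVars false
set_option linter.unusedVariables false

namespace Cfsg.Agent.Helper16.Lfg

open Equiv

variable {α : Type*} [DecidableEq α] [Fintype α]
variable {S : Finset α} {x y : Perm α}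

/-- the contracted `x` -/
def contrX (x : Perm α) (p0 p1 p2 p3 p4 p5 : α) : Perm α :=
  x * swap p0 p1 * swap p2 p3 * swap p4 p5 * swap p0 p5

/-- the contracted `y` -/
def contrY (y : Perm α) (p1 p2 p3 p4 : α) : Perm α :=
  y * swap p1 p2 * swap p3 p4

theorem disjoint_of_fix {g : Perm α} {a b : α} (ha : g a = a) (hb : g b = b) :
    Perm.Disjoint g (swap a b) := by
  intro v
  by_cases hva : v = a
  · left; rw [hva]; exact ha
  · by_cases hvb : v = b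
    · left; rw [hvb]; exact hb
    · right; exact swap_apply_of_ne_of_ne hva hvb

structure Seg (x y : Perm α) (p0 p1 p2 p3 p4 p5 : α) : Prop where
  nd : [p0, p1, p2, p3, p4, p5].Nodup
  h01 : x p0 = p1
  h12 : y p1 = p2
  h23 : x p2 = p3
  h34 : y p3 = p4
  h45 : x p4 = p5

section seg

variable {p0 p1 p2 p3 p4 p5 : α}

theorem Seg.ne (h : Seg x y p0 p1 p2 p3 p4 p5) :
    p0 ≠ p1 ∧ p0 ≠ p2 ∧ p0 ≠ p3 ∧ p0 ≠ p4 ∧ p0 ≠ p5 ∧ p1 ≠ p2 ∧ p1 ≠ p3 ∧ p1 ≠ p4 ∧ p1 ≠ p5 ∧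
      p2 ≠ p3 ∧ p2 ≠ p4 ∧ p2 ≠ p5 ∧ p3 ≠ p4 ∧ p3 ≠ p5 ∧ p4 ≠ p5 := by
  have := h.nd
  simp only [List.nodup_cons, List.mem_cons, List.not_mem_nil, or_false, not_or,
    List.nodup_nil, and_true, not_false_eq_true] at this
  obtain ⟨⟨a1, a2, a3, a4, a5⟩, ⟨b2, b3, b4, b5⟩, ⟨c3, c4, c5⟩, ⟨d4, d5⟩, e5⟩ := this
  exact ⟨a1, a2, a3, a4, a5, b2, b3, b4, b5, c3, c4, c5, d4, d5, e5⟩

theorem Seg.x_facts (hx : x * x = 1) (h : Seg x y p0 p1 p2 p3 p4 p5) :
    contrX x p0 p1 p2 p3 p4 p5 * contrX x p0 p1 p2 p3 p4 p5 = 1 ∧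
    contrX x p0 p1 p2 p3 p4 p5 p0 = p5 ∧ contrX x p0 p1 p2 p3 p4 p5 p5 = p0 ∧
    contrX x p0 p1 p2 p3 p4 p5 p1 = p1 ∧ contrX x p0 p1 p2 p3 p4 p5 p2 = p2 ∧
    contrX x p0 p1 p2 p3 p4 p5 p3 = p3 ∧ contrX x p0 p1 p2 p3 p4 p5 p4 = p4 ∧
    (∀ v, v ≠ p0 → v ≠ p1 → v ≠ p2 → v ≠ p3 → v ≠ p4 → v ≠ p5 →
      contrX x p0 p1 p2 p3 p4 p5 v = x v) ∧
    (contrX x p0 p1 p2 p3 p4 p5).support.card + 4 = x.support.card ∧
    x = contrX x p0 p1 p2 p3 p4 p5 * (swap p0 p5 * swap p4 p5 * swap p2 p3 * swap p0 p1) := by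
  obtain ⟨n01, n02, n03, n04, n05, n12, n13, n14, n15, n23, n24, n25, n34, n35, n45⟩ := h.ne
  -- first cut
  obtain ⟨x1, hx1⟩ : ∃ x1, x1 = x * swap p0 p1 := ⟨_, rfl⟩
  have x1sq : x1 * x1 = 1 := by rw [hx1]; exact cut_sq hx h.h01
  have x1p0 : x1 p0 = p0 := by rw [hx1]; exact cut_apply_left hx h.h01
  have x1p1 : x1 p1 = p1 := by rw [hx1]; exact cut_apply_right h.h01
  have x1o : ∀ v, v ≠ p0 → v ≠ p1 → x1 v = x v := by
    intro v h0 h1; rw [hx1]; exact cut_apply_other h0 h1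
  have x1c : x1.support.card + 2 = x.support.card := by rw [hx1]; exact cut_card hx n01 h.h01
  have x1p2 : x1 p2 = p3 := by rw [x1o p2 n02.symm n12.symm, h.h23]
  -- second cut
  obtain ⟨x2, hx2⟩ : ∃ x2, x2 = x1 * swap p2 p3 := ⟨_, rfl⟩
  have x2sq : x2 * x2 = 1 := by rw [hx2]; exact cut_sq x1sq x1p2
  have x2p2 : x2 p2 = p2 := by rw [hx2]; exact cut_apply_left x1sq x1p2
  have x2p3 : x2 p3 = p3 := by rw [hx2]; exact cut_apply_right x1p2
  have x2o : ∀ v, v ≠ p2 → v ≠ p3 → x2 v = x1 v := by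
    intro v h0 h1; rw [hx2]; exact cut_apply_other h0 h1
  have x2c : x2.support.card + 2 = x1.support.card := by rw [hx2]; exact cut_card x1sq n23 x1p2
  have x2p0 : x2 p0 = p0 := by rw [x2o p0 n02 n03, x1p0]
  have x2p1 : x2 p1 = p1 := by rw [x2o p1 n12 n13, x1p1]
  have x2p4 : x2 p4 = p5 := by rw [x2o p4 n24.symm n34.symm, x1o p4 n04.symm n14.symm, h.h45]
  -- third cut
  obtain ⟨x3, hx3⟩ : ∃ x3, x3 = x2 * swap p4 p5 := ⟨_, rfl⟩
  have x3sq : x3 * x3 = 1 := by rw [hx3]; exact cut_sq x2sq x2p4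
  have x3p4 : x3 p4 = p4 := by rw [hx3]; exact cut_apply_left x2sq x2p4
  have x3p5 : x3 p5 = p5 := by rw [hx3]; exact cut_apply_right x2p4
  have x3o : ∀ v, v ≠ p4 → v ≠ p5 → x3 v = x2 v := by
    intro v h0 h1; rw [hx3]; exact cut_apply_other h0 h1
  have x3c : x3.support.card + 2 = x2.support.card := by rw [hx3]; exact cut_card x2sq n45 x2p4
  have x3p0 : x3 p0 = p0 := by rw [x3o p0 n04 n05, x2p0]
  have x3p1 : x3 p1 = p1 := by rw [x3o p1 n14 n15, x2p1]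
  have x3p2 : x3 p2 = p2 := by rw [x3o p2 n24 n25, x2p2]
  have x3p3 : x3 p3 = p3 := by rw [x3o p3 n34 n35, x2p3]
  have hX : contrX x p0 p1 p2 p3 p4 p5 = x3 * swap p0 p5 := by
    rw [contrX, hx3, hx2, hx1]
  rw [hX]
  refine ⟨sq_mul_swap x3sq x3p0 x3p5, ?_, ?_, ?_, ?_, ?_, ?_, ?_, ?_, ?_⟩
  · rw [Perm.mul_apply, swap_apply_left, x3p5]
  · rw [Perm.mul_apply, swap_apply_right, x3p0]
  · rw [Perm.mul_apply, swap_apply_of_ne_of_ne n01.symm n15, x3p1]
  · rw [Perm.mul_apply, swap_apply_of_ne_of_ne n02.symm n25, x3p2]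
  · rw [Perm.mul_apply, swap_apply_of_ne_of_ne n03.symm n35, x3p3]
  · rw [Perm.mul_apply, swap_apply_of_ne_of_ne n04.symm n45, x3p4]
  · intro v h0 h1 h2 h3 h4 h5
    rw [Perm.mul_apply, swap_apply_of_ne_of_ne h0 h5, x3o v h4 h5, x2o v h2 h3, x1o v h0 h1]
  · have := (disjoint_of_fix x3p0 x3p5).card_support_mul
    rw [Perm.card_support_swap n05] at this
    omega
  · rw [hx3, hx2, hx1]
    simp only [mul_assoc, swap_mul_self_mul, swap_mul_self, mul_one]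

theorem Seg.y_facts (hy : y * y = 1) (h : Seg x y p0 p1 p2 p3 p4 p5) :
    contrY y p1 p2 p3 p4 * contrY y p1 p2 p3 p4 = 1 ∧
    contrY y p1 p2 p3 p4 p1 = p1 ∧ contrY y p1 p2 p3 p4 p2 = p2 ∧
    contrY y p1 p2 p3 p4 p3 = p3 ∧ contrY y p1 p2 p3 p4 p4 = p4 ∧
    (∀ v, v ≠ p1 → v ≠ p2 → v ≠ p3 → v ≠ p4 → contrY y p1 p2 p3 p4 v = y v) ∧
    (contrY y p1 p2 p3 p4).support.card + 4 = y.support.card ∧
    y = contrY y p1 p2 p3 p4 * (swap p3 p4 * swap p1 p2) := by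
  obtain ⟨n01, n02, n03, n04, n05, n12, n13, n14, n15, n23, n24, n25, n34, n35, n45⟩ := h.ne
  obtain ⟨y1, hy1⟩ : ∃ y1, y1 = y * swap p1 p2 := ⟨_, rfl⟩
  have y1sq : y1 * y1 = 1 := by rw [hy1]; exact cut_sq hy h.h12
  have y1p1 : y1 p1 = p1 := by rw [hy1]; exact cut_apply_left hy h.h12
  have y1p2 : y1 p2 = p2 := by rw [hy1]; exact cut_apply_right h.h12
  have y1o : ∀ v, v ≠ p1 → v ≠ p2 → y1 v = y v := by
    intro v h0 h1; rw [hy1]; exact cut_apply_other h0 h1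
  have y1c : y1.support.card + 2 = y.support.card := by rw [hy1]; exact cut_card hy n12 h.h12
  have y1p3 : y1 p3 = p4 := by rw [y1o p3 n13.symm n23.symm, h.h34]
  have hY : contrY y p1 p2 p3 p4 = y1 * swap p3 p4 := by rw [contrY, hy1]
  rw [hY]
  refine ⟨cut_sq y1sq y1p3, ?_, ?_, cut_apply_left y1sq y1p3, cut_apply_right y1p3, ?_, ?_, ?_⟩
  · rw [cut_apply_other n13 n14, y1p1]
  · rw [cut_apply_other n23 n24, y1p2]
  · intro v h1 h2 h3 h4
    rw [cut_apply_other h3 h4, y1o v h1 h2]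
  · have := cut_card y1sq n34 y1p3
    omega
  · rw [hy1]
    simp only [mul_assoc, swap_mul_self_mul, swap_mul_self, mul_one]

end seg

theorem sq_mul_of_commute {z' B : Perm α} (hz : z' * z' = 1) (hB : B * B = 1)
    (hc : Commute z' B) : (z' * B) * (z' * B) = 1 := by
  calc z' * B * (z' * B) = z' * (B * z') * B := by group
    _ = z' * (z' * B) * B := by rw [hc.eq]
    _ = (z' * z') * (B * B) := by group
    _ = 1 := by rw [hz, hB, one_mul]

theorem red_contract (hc : Cfg S x y) (ih : IH S) {p0 p1 p2 p3 p4 p5 : α}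
    (h : Seg x y p0 p1 p2 p3 p4 p5)
    (hne : ¬ Exc (S \ {p1, p2, p3, p4}) (contrX x p0 p1 p2 p3 p4 p5) (contrY y p1 p2 p3 p4)) :
    Sol S x y := by
  have hx2 := hc.x2
  have hy2 := hc.y2
  obtain ⟨n01, n02, n03, n04, n05, n12, n13, n14, n15, n23, n24, n25, n34, n35, n45⟩ := h.ne
  obtain ⟨X1, X2, X3, X4, X5, X6, X7, X8, X9, X10⟩ := h.x_facts hx2
  obtain ⟨Y1, Y2, Y3, Y4, Y5, Y6, Y7, Y8⟩ := h.y_facts hy2
  set x' := contrX x p0 p1 p2 p3 p4 p5 with hx'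
  set y' := contrY y p1 p2 p3 p4 with hy'
  have m0 : p0 ∈ S := mem_of_moved_x hc (by rw [h.h01]; exact n01.symm)
  have m1 : p1 ∈ S := mem_of_moved_x hc (by rw [inv_eq_of_sq' hx2 h.h01]; exact n01)
  have m2 : p2 ∈ S := mem_of_moved_x hc (by rw [h.h23]; exact n23.symm)
  have m3 : p3 ∈ S := mem_of_moved_x hc (by rw [inv_eq_of_sq' hx2 h.h23]; exact n23)
  have m4 : p4 ∈ S := mem_of_moved_x hc (by rw [h.h45]; exact n45.symm)
  have m5 : p5 ∈ S := mem_of_moved_x hc (by rw [inv_eq_of_sq' hx2 h.h45]; exact n45)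
  set S' := S \ {p1, p2, p3, p4} with hS'
  have hmemS' : ∀ v, v ∈ S' ↔ v ∈ S ∧ v ≠ p1 ∧ v ≠ p2 ∧ v ≠ p3 ∧ v ≠ p4 := by
    intro v; simp [hS', Finset.mem_sdiff]
  have hsub : S' ⊆ S := Finset.sdiff_subset
  have hcard : S'.card < S.card := sdiff_card_lt m1 (by simp)
  have hc' : Cfg S' x' y' := by
    refine ⟨X1, Y1, ?_, ?_, ?_⟩
    · intro v hv
      by_cases h1 : v = p1
      · rw [h1]; exact X4
      by_cases h2 : v = p2
      · rw [h2]; exact X5
      by_cases h3 : v = p3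
      · rw [h3]; exact X6
      by_cases h4 : v = p4
      · rw [h4]; exact X7
      have hvS : v ∉ S := fun hh => hv ((hmemS' v).mpr ⟨hh, h1, h2, h3, h4⟩)
      have h0 : v ≠ p0 := by rintro rfl; exact hvS m0
      have h5 : v ≠ p5 := by rintro rfl; exact hvS m5
      rw [X8 v h0 h1 h2 h3 h4 h5, hc.xS v hvS]
    · intro v hv
      by_cases h1 : v = p1
      · rw [h1]; exact Y2
      by_cases h2 : v = p2
      · rw [h2]; exact Y3
      by_cases h3 : v = p3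
      · rw [h3]; exact Y4
      by_cases h4 : v = p4
      · rw [h4]; exact Y5
      have hvS : v ∉ S := fun hh => hv ((hmemS' v).mpr ⟨hh, h1, h2, h3, h4⟩)
      rw [Y6 v h1 h2 h3 h4, hc.yS v hvS]
    · have := hc.bal
      omega
  obtain ⟨z', hz2, hzS, hxz, hyz⟩ := ih S' x' y' hcard hc' hne
  have z1 : z' p1 = p1 := hzS p1 (by simp [hS'])
  have z2 : z' p2 = p2 := hzS p2 (by simp [hS'])
  have z3 : z' p3 = p3 := hzS p3 (by simp [hS'])
  have z4 : z' p4 = p4 := hzS p4 (by simp [hS'])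
  set B := swap p1 p2 * swap p3 p4 with hB
  have hBB : B * B = 1 := by
    have hl : [p1, p2, p3, p4].Nodup := by simp [*]
    have := model_eq' 4 [p1, p2, p3, p4] rfl hl [(0,1),(2,3),(0,1),(2,3)] [] (by decide)
    simpa [swapsProd, mul_assoc, hB] using this
  have hcomm : Commute z' B :=
    (commute_swap_of_fix z1 z2).mul_right (commute_swap_of_fix z3 z4)
  refine ⟨z' * B, sq_mul_of_commute hz2 hBB hcomm, ?_, ?_, ?_⟩
  · intro v hv
    have h1 : v ≠ p1 := by rintro rfl; exact hv m1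
    have h2 : v ≠ p2 := by rintro rfl; exact hv m2
    have h3 : v ≠ p3 := by rintro rfl; exact hv m3
    have h4 : v ≠ p4 := by rintro rfl; exact hv m4
    rw [hB, Perm.mul_apply, Perm.mul_apply, swap_apply_of_ne_of_ne h3 h4,
      swap_apply_of_ne_of_ne h1 h2]
    exact hzS v (fun hh => hv (hsub hh))
  · -- x side
    have hσ : (swap p0 p5 * swap p4 p5 * swap p2 p3 * swap p0 p1) * B
        = (swap p0 p1 * swap p1 p3) * (swap p5 p4 * swap p4 p2) := by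
      have hl : [p0, p1, p2, p3, p4, p5].Nodup := h.nd
      have := model_eq' 6 [p0, p1, p2, p3, p4, p5] rfl hl
        [(0,5),(4,5),(2,3),(0,1),(1,2),(3,4)] [(0,1),(1,3),(5,4),(4,2)] (by decide)
      simpa [swapsProd, mul_assoc, hB] using this
    have key : x * (z' * B) = z'⁻¹ * ((z' * x') * ((swap p0 p1 * swap p1 p3) *
        (swap p5 p4 * swap p4 p2))) * z'⁻¹⁻¹ := by
      rw [← hσ]
      conv_lhs => rw [X10]
      rw [inv_inv]
      calc x' * (swap p0 p5 * swap p4 p5 * swap p2 p3 * swap p0 p1) * (z' * B)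
          = x' * (swap p0 p5 * swap p4 p5 * swap p2 p3 * swap p0 p1) * (B * z') := by
            rw [hcomm.eq]
        _ = z'⁻¹ * (z' * x' * ((swap p0 p5 * swap p4 p5 * swap p2 p3 * swap p0 p1) * B)) * z' := by
            group
    rw [key]
    apply OddOrd.conj
    rw [← mul_assoc]
    have h0 : OddOrd (z' * x') := oddOrd_mul_comm hxz
    have h1 : OddOrd (z' * x' * (swap p0 p1 * swap p1 p3)) := by
      apply OddOrd.insert h0
      · rw [Perm.mul_apply, X4, z1]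
      · rw [Perm.mul_apply, X6, z3]
      · exact n13
      · exact n01
      · exact n03
    apply OddOrd.insert h1
    · rw [Perm.mul_apply, cyc3_apply_other n04.symm n14.symm n34.symm, Perm.mul_apply, X7, z4]
    · rw [Perm.mul_apply, cyc3_apply_other n02.symm n12.symm n23, Perm.mul_apply, X5, z2]
    · exact n24.symm
    · exact n45.symm
    · exact n25.symm
  · -- y side
    have key : y * (z' * B) = y' * z' := by
      conv_lhs => rw [Y8]
      rw [lift_general, hB]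
      · simp only [mul_assoc, swap_mul_self_mul, swap_mul_self, mul_one]
      · exact ((commute_swap_of_fix z3 z4).mul_right (commute_swap_of_fix z1 z2)).symm
    rw [key]; exact hyz

end Cfsg.Agent.Helper16.Lfg
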