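import Mathlib
import Cfsg.Agent.Lib.Helper16.LfgA
import Cfsg.Agent.Lib.Helper16.LfgB
import Cfsg.Agent.Lib.Helper16.LfgC
import Cfsg.Agent.Lib.Helper16.LfgD
import Cfsg.Agent.Lib.Helper16.LfgE
import Cfsg.Agent.Lib.Helper16.LfgF
import Cfsg.Agent.Lib.Helper16.LfgG

/-! Absorption of a four-cycle. -/

set_option linter.unusedSectionVars false
set_option linter.unusedVariables false

namespace Cfsg.Agent.Helper16.Lfg

open Equiv

variable {α : Type*} [DecidableEq α] [Fintype α]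
variable {S : Finset α} {x y : Perm α} {p0 p1 p2 p3 : α}

theorem Is4.x_facts (hx : x * x = 1) (h : Is4 x y p0 p1 p2 p3) :
    (x * swap p0 p1 * swap p2 p3) * (x * swap p0 p1 * swap p2 p3) = 1 ∧
    (x * swap p0 p1 * swap p2 p3) p0 = p0 ∧ (x * swap p0 p1 * swap p2 p3) p1 = p1 ∧
    (x * swap p0 p1 * swap p2 p3) p2 = p2 ∧ (x * swap p0 p1 * swap p2 p3) p3 = p3 ∧
    (∀ v, v ≠ p0 → v ≠ p1 → v ≠ p2 → v ≠ p3 → (x * swap p0 p1 * swap p2 p3) v = x v) ∧
    (x * swap p0 p1 * swap p2 p3).support.card + 4 = x.support.card ∧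
    x = (x * swap p0 p1 * swap p2 p3) * (swap p2 p3 * swap p0 p1) := by
  obtain ⟨x1, hx1⟩ : ∃ x1, x1 = x * swap p0 p1 := ⟨_, rfl⟩
  have x1sq : x1 * x1 = 1 := by rw [hx1]; exact cut_sq hx h.x0
  have x1p0 : x1 p0 = p0 := by rw [hx1]; exact cut_apply_left hx h.x0
  have x1p1 : x1 p1 = p1 := by rw [hx1]; exact cut_apply_right h.x0
  have x1o : ∀ v, v ≠ p0 → v ≠ p1 → x1 v = x v := by
    intro v h0 h1; rw [hx1]; exact cut_apply_other h0 h1
  have x1c : x1.support.card + 2 = x.support.card := by rw [hx1]; exact cut_card hx h.n01 h.x0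
  have x1p2 : x1 p2 = p3 := by rw [x1o p2 h.n02.symm h.n12.symm, h.x2]
  rw [← hx1]
  refine ⟨cut_sq x1sq x1p2, ?_, ?_, cut_apply_left x1sq x1p2, cut_apply_right x1p2, ?_, ?_, ?_⟩
  · rw [cut_apply_other h.n02 h.n03, x1p0]
  · rw [cut_apply_other h.n12 h.n13, x1p1]
  · intro v h0 h1 h2 h3
    rw [cut_apply_other h2 h3, x1o v h0 h1]
  · have := cut_card x1sq h.n23 x1p2
    omega
  · rw [hx1]
    simp only [mul_assoc, swap_mul_self_mul, swap_mul_self, mul_one]

theorem Is4.y_facts (hy : y * y = 1) (h : Is4 x y p0 p1 p2 p3) :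
    (y * swap p1 p2 * swap p3 p0) * (y * swap p1 p2 * swap p3 p0) = 1 ∧
    (y * swap p1 p2 * swap p3 p0) p0 = p0 ∧ (y * swap p1 p2 * swap p3 p0) p1 = p1 ∧
    (y * swap p1 p2 * swap p3 p0) p2 = p2 ∧ (y * swap p1 p2 * swap p3 p0) p3 = p3 ∧
    (∀ v, v ≠ p0 → v ≠ p1 → v ≠ p2 → v ≠ p3 → (y * swap p1 p2 * swap p3 p0) v = y v) ∧
    (y * swap p1 p2 * swap p3 p0).support.card + 4 = y.support.card ∧
    y = (y * swap p1 p2 * swap p3 p0) * (swap p3 p0 * swap p1 p2) := by
  have h' := h.symm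
  obtain ⟨a1, a2, a3, a4, a5, a6, a7, a8⟩ := h'.x_facts hy
  exact ⟨a1, a5, a2, a3, a4, fun v h0 h1 h2 h3 => a6 v h1 h2 h3 h0, a7, a8⟩

/-- absorption, case of a fixed point of `z'` -/
theorem absorb_fixed {x' y' z' : Perm α} {w : α}
    (h : Is4 x y p0 p1 p2 p3)
    (hxe : x = x' * (swap p2 p3 * swap p0 p1)) (hye : y = y' * (swap p3 p0 * swap p1 p2))
    (x0 : x' p0 = p0) (x1 : x' p1 = p1) (x2 : x' p2 = p2) (x3 : x' p3 = p3)
    (y0 : y' p0 = p0) (y1 : y' p1 = p1) (y2 : y' p2 = p2) (y3 : y' p3 = p3)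
    (z0 : z' p0 = p0) (z1 : z' p1 = p1) (z2 : z' p2 = p2) (z3 : z' p3 = p3)
    (hz2 : z' * z' = 1) (zw : z' w = w)
    (w0 : w ≠ p0) (w1 : w ≠ p1) (w2 : w ≠ p2) (w3 : w ≠ p3)
    (hxz : OddOrd (x' * z')) (hyz : OddOrd (y' * z')) :
    (z' * (swap p0 w * swap p1 p2)) * (z' * (swap p0 w * swap p1 p2)) = 1 ∧
    OddOrd (x * (z' * (swap p0 w * swap p1 p2))) ∧
    OddOrd (y * (z' * (swap p0 w * swap p1 p2))) := by
  have hl : [p0, p1, p2, p3, w].Nodup := by
    have := h.n01; have := h.n02; have := h.n03; have := h.n12; have := h.n13; have := h.n23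
    simp [*, Ne.symm w0, Ne.symm w1, Ne.symm w2, Ne.symm w3]
  set B := swap p0 w * swap p1 p2 with hB
  have hBB : B * B = 1 := by
    have := model_eq' 5 [p0, p1, p2, p3, w] rfl hl [(0,4),(1,2),(0,4),(1,2)] [] (by decide)
    simpa [swapsProd, mul_assoc, hB] using this
  have hcomm : Commute z' B :=
    (commute_swap_of_fix z0 zw).mul_right (commute_swap_of_fix z1 z2)
  refine ⟨sq_mul_of_commute hz2 hBB hcomm, ?_, ?_⟩
  · have hσ : (swap p2 p3 * swap p0 p1) * B
        = (swap w p2 * swap p2 p0) * (swap w p1 * swap p1 p3) := by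
      have := model_eq' 5 [p0, p1, p2, p3, w] rfl hl
        [(2,3),(0,1),(0,4),(1,2)] [(4,2),(2,0),(4,1),(1,3)] (by decide)
      simpa [swapsProd, mul_assoc, hB] using this
    have hcA : Commute (swap p2 p3 * swap p0 p1) z' :=
      ((commute_swap_of_fix z2 z3).symm).mul_left ((commute_swap_of_fix z0 z1).symm)
    rw [hxe, lift_general hcA, hσ, ← mul_assoc]
    have h1 : OddOrd (x' * z' * (swap w p2 * swap p2 p0)) := by
      apply OddOrd.insert hxz
      · rw [Perm.mul_apply, z2, x2]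
      · rw [Perm.mul_apply, z0, x0]
      · exact h.n02.symm
      · exact w2
      · exact w0
    apply OddOrd.insert h1
    · rw [Perm.mul_apply, cyc3_apply_other w1.symm h.n12 h.n01.symm, Perm.mul_apply, z1, x1]
    · rw [Perm.mul_apply, cyc3_apply_other w3.symm h.n23.symm h.n03.symm, Perm.mul_apply, z3, x3]
    · exact h.n13
    · exact w1
    · exact w3
  · have hσ : (swap p3 p0 * swap p1 p2) * B = swap w p3 * swap p3 p0 := by
      have := model_eq' 5 [p0, p1, p2, p3, w] rfl hl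
        [(3,0),(1,2),(0,4),(1,2)] [(4,3),(3,0)] (by decide)
      simpa [swapsProd, mul_assoc, hB] using this
    have hcA : Commute (swap p3 p0 * swap p1 p2) z' :=
      ((commute_swap_of_fix z3 z0).symm).mul_left ((commute_swap_of_fix z1 z2).symm)
    rw [hye, lift_general hcA, hσ]
    apply OddOrd.insert hyz
    · rw [Perm.mul_apply, z3, y3]
    · rw [Perm.mul_apply, z0, y0]
    · exact h.n03.symm
    · exact w3
    · exact w0

/-- absorption, case of a transposition `(w w')` of `z'` -/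
theorem absorb_moved {x' y' z' : Perm α} {w w' : α}
    (h : Is4 x y p0 p1 p2 p3)
    (hxe : x = x' * (swap p2 p3 * swap p0 p1)) (hye : y = y' * (swap p3 p0 * swap p1 p2))
    (x0 : x' p0 = p0) (x1 : x' p1 = p1) (x2 : x' p2 = p2) (x3 : x' p3 = p3)
    (y0 : y' p0 = p0) (y1 : y' p1 = p1) (y2 : y' p2 = p2) (y3 : y' p3 = p3)
    (z0 : z' p0 = p0) (z1 : z' p1 = p1) (z2 : z' p2 = p2) (z3 : z' p3 = p3)
    (hz2 : z' * z' = 1) (zw : z' w = w') (hww : w ≠ w')
    (w0 : w ≠ p0) (w1 : w ≠ p1) (w2 : w ≠ p2) (w3 : w ≠ p3)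
    (w0' : w' ≠ p0) (w1' : w' ≠ p1) (w2' : w' ≠ p2) (w3' : w' ≠ p3)
    (hxz : OddOrd (x' * z')) (hyz : OddOrd (y' * z')) :
    (z' * swap w w' * (swap w p0 * swap p1 p3 * swap p2 w')) *
      (z' * swap w w' * (swap w p0 * swap p1 p3 * swap p2 w')) = 1 ∧
    OddOrd (x * (z' * swap w w' * (swap w p0 * swap p1 p3 * swap p2 w'))) ∧
    OddOrd (y * (z' * swap w w' * (swap w p0 * swap p1 p3 * swap p2 w'))) := by
  have hl : [p0, p1, p2, p3, w, w'].Nodup := by
    have := h.n01; have := h.n02; have := h.n03; have := h.n12; have := h.n13; have := h.n23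
    simp [*, Ne.symm w0, Ne.symm w1, Ne.symm w2, Ne.symm w3, Ne.symm w0', Ne.symm w1',
      Ne.symm w2', Ne.symm w3']
  obtain ⟨z'', hz''⟩ : ∃ z'', z'' = z' * swap w w' := ⟨_, rfl⟩
  rw [← hz'']
  have z''sq : z'' * z'' = 1 := by rw [hz'']; exact cut_sq hz2 zw
  have z''w : z'' w = w := by rw [hz'']; exact cut_apply_left hz2 zw
  have z''w' : z'' w' = w' := by rw [hz'']; exact cut_apply_right zw
  have z''0 : z'' p0 = p0 := by rw [hz'', cut_apply_other w0.symm w0'.symm, z0]
  have z''1 : z'' p1 = p1 := by rw [hz'', cut_apply_other w1.symm w1'.symm, z1]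
  have z''2 : z'' p2 = p2 := by rw [hz'', cut_apply_other w2.symm w2'.symm, z2]
  have z''3 : z'' p3 = p3 := by rw [hz'', cut_apply_other w3.symm w3'.symm, z3]
  set B := swap w p0 * swap p1 p3 * swap p2 w' with hB
  have hBB : B * B = 1 := by
    have := model_eq' 6 [p0, p1, p2, p3, w, w'] rfl hl
      [(4,0),(1,3),(2,5),(4,0),(1,3),(2,5)] [] (by decide)
    simpa [swapsProd, mul_assoc, hB] using this
  have hcomm : Commute z'' B :=
    ((commute_swap_of_fix z''w z''0).mul_right (commute_swap_of_fix z''1 z''3)).mul_right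
      (commute_swap_of_fix z''2 z''w')
  refine ⟨sq_mul_of_commute z''sq hBB hcomm, ?_, ?_⟩
  · have hσ : swap w w' * ((swap p2 p3 * swap p0 p1) * B)
        = (swap w p1 * swap p1 p2) * (swap w' p3 * swap p3 p0) := by
      have := model_eq' 6 [p0, p1, p2, p3, w, w'] rfl hl
        [(4,5),(2,3),(0,1),(4,0),(1,3),(2,5)] [(4,1),(1,2),(5,3),(3,0)] (by decide)
      simpa [swapsProd, mul_assoc, hB] using this
    have hcA : Commute (swap p2 p3 * swap p0 p1) z'' :=
      ((commute_swap_of_fix z''2 z''3).symm).mul_left ((commute_swap_of_fix z''0 z''1).symm)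
    have key : x * (z'' * B) = (x' * z') * ((swap w p1 * swap p1 p2) * (swap w' p3 * swap p3 p0)) := by
      rw [hxe, lift_general hcA, ← hσ, hz'']
      group
    rw [key, ← mul_assoc]
    have h1 : OddOrd (x' * z' * (swap w p1 * swap p1 p2)) := by
      apply OddOrd.insert hxz
      · rw [Perm.mul_apply, z1, x1]
      · rw [Perm.mul_apply, z2, x2]
      · exact h.n12
      · exact w1
      · exact w2
    apply OddOrd.insert h1
    · rw [Perm.mul_apply, cyc3_apply_other w3.symm h.n13.symm h.n23.symm, Perm.mul_apply, z3, x3]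
    · rw [Perm.mul_apply, cyc3_apply_other w0.symm h.n01 h.n02, Perm.mul_apply, z0, x0]
    · exact h.n03.symm
    · exact w3'
    · exact w0'
  · have hσ : swap w w' * ((swap p3 p0 * swap p1 p2) * B)
        = (swap w p3 * swap p3 p2) * (swap w' p1 * swap p1 p0) := by
      have := model_eq' 6 [p0, p1, p2, p3, w, w'] rfl hl
        [(4,5),(3,0),(1,2),(4,0),(1,3),(2,5)] [(4,3),(3,2),(5,1),(1,0)] (by decide)
      simpa [swapsProd, mul_assoc, hB] using this
    have hcA : Commute (swap p3 p0 * swap p1 p2) z'' :=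
      ((commute_swap_of_fix z''3 z''0).symm).mul_left ((commute_swap_of_fix z''1 z''2).symm)
    have key : y * (z'' * B) = (y' * z') * ((swap w p3 * swap p3 p2) * (swap w' p1 * swap p1 p0)) := by
      rw [hye, lift_general hcA, ← hσ, hz'']
      group
    rw [key, ← mul_assoc]
    have h1 : OddOrd (y' * z' * (swap w p3 * swap p3 p2)) := by
      apply OddOrd.insert hyz
      · rw [Perm.mul_apply, z3, y3]
      · rw [Perm.mul_apply, z2, y2]
      · exact h.n23.symm
      · exact w3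
      · exact w2
    apply OddOrd.insert h1
    · rw [Perm.mul_apply, cyc3_apply_other w1.symm h.n13 h.n12, Perm.mul_apply, z1, y1]
    · rw [Perm.mul_apply, cyc3_apply_other w0.symm h.n03 h.n02, Perm.mul_apply, z0, y0]
    · exact h.n01.symm
    · exact w1'
    · exact w0'

/-- Removing a four-cycle. -/
theorem red_four (hc : Cfg S x y) (ih : IH S) (hexc : ¬ Exc S x y)
    (h : Is4 x y p0 p1 p2 p3) : Sol S x y := by
  have hx2 := hc.x2
  have hy2 := hc.y2
  obtain ⟨X1, X2, X3, X4, X5, X6, X7, X8⟩ := h.x_facts hx2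
  obtain ⟨Y1, Y2, Y3, Y4, Y5, Y6, Y7, Y8⟩ := h.y_facts hy2
  obtain ⟨x', hx'⟩ : ∃ x', x' = x * swap p0 p1 * swap p2 p3 := ⟨_, rfl⟩
  obtain ⟨y', hy'⟩ : ∃ y', y' = y * swap p1 p2 * swap p3 p0 := ⟨_, rfl⟩
  rw [← hx'] at X1 X2 X3 X4 X5 X6 X7 X8
  rw [← hy'] at Y1 Y2 Y3 Y4 Y5 Y6 Y7 Y8
  have m0 : p0 ∈ S := mem_of_moved_x hc (by rw [h.x0]; exact h.n01.symm)
  have m1 : p1 ∈ S := mem_of_moved_x hc (by rw [inv_eq_of_sq' hx2 h.x0]; exact h.n01)
  have m2 : p2 ∈ S := mem_of_moved_x hc (by rw [h.x2]; exact h.n23.symm)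
  have m3 : p3 ∈ S := mem_of_moved_x hc (by rw [inv_eq_of_sq' hx2 h.x2]; exact h.n23)
  set S' := S \ {p0, p1, p2, p3} with hS'
  have hmemS' : ∀ v, v ∈ S' ↔ v ∈ S ∧ v ≠ p0 ∧ v ≠ p1 ∧ v ≠ p2 ∧ v ≠ p3 := by
    intro v; simp [hS', Finset.mem_sdiff]
  have hsub : S' ⊆ S := Finset.sdiff_subset
  have hcard : S'.card < S.card := sdiff_card_lt m0 (by simp)
  have hc' : Cfg S' x' y' := by
    refine ⟨X1, Y1, ?_, ?_, ?_⟩
    · intro v hv
      by_cases h0 : v = p0
      · rw [h0]; exact X2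
      by_cases h1 : v = p1
      · rw [h1]; exact X3
      by_cases h2 : v = p2
      · rw [h2]; exact X4
      by_cases h3 : v = p3
      · rw [h3]; exact X5
      have hvS : v ∉ S := fun hh => hv ((hmemS' v).mpr ⟨hh, h0, h1, h2, h3⟩)
      rw [X6 v h0 h1 h2 h3, hc.xS v hvS]
    · intro v hv
      by_cases h0 : v = p0
      · rw [h0]; exact Y2
      by_cases h1 : v = p1
      · rw [h1]; exact Y3
      by_cases h2 : v = p2
      · rw [h2]; exact Y4
      by_cases h3 : v = p3
      · rw [h3]; exact Y5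
      have hvS : v ∉ S := fun hh => hv ((hmemS' v).mpr ⟨hh, h0, h1, h2, h3⟩)
      rw [Y6 v h0 h1 h2 h3, hc.yS v hvS]
    · have := hc.bal
      omega
  by_cases hE : Exc S' x' y'
  · obtain ⟨q0, q1, q2, q3, hq, hS'q⟩ := hE.is4_of_agree (x := x) (y := y)
      (fun v hv => by
        obtain ⟨-, h0, h1, h2, h3⟩ := (hmemS' v).mp hv
        exact X6 v h0 h1 h2 h3)
      (fun v hv => by
        obtain ⟨-, h0, h1, h2, h3⟩ := (hmemS' v).mp hv
        exact Y6 v h0 h1 h2 h3)
    have hq0 : q0 ∈ S' := by rw [hS'q]; simp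
    have hq1 : q1 ∈ S' := by rw [hS'q]; simp
    have hq2 : q2 ∈ S' := by rw [hS'q]; simp
    have hq3 : q3 ∈ S' := by rw [hS'q]; simp
    obtain ⟨-, a00, a01, a02, a03⟩ := (hmemS' q0).mp hq0
    obtain ⟨-, a10, a11, a12, a13⟩ := (hmemS' q1).mp hq1
    obtain ⟨-, a20, a21, a22, a23⟩ := (hmemS' q2).mp hq2
    obtain ⟨-, a30, a31, a32, a33⟩ := (hmemS' q3).mp hq3
    have hS : S = {p0, p1, p2, p3, q0, q1, q2, q3} := by
      ext v
      constructor
      · intro hv
        by_cases h0 : v = p0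
        · simp [h0]
        by_cases h1 : v = p1
        · simp [h1]
        by_cases h2 : v = p2
        · simp [h2]
        by_cases h3 : v = p3
        · simp [h3]
        have hvS' : v ∈ S' := (hmemS' v).mpr ⟨hv, h0, h1, h2, h3⟩
        rw [hS'q] at hvS'
        simp only [Finset.mem_insert, Finset.mem_singleton] at hvS' ⊢
        tauto
      · intro hv
        simp only [Finset.mem_insert, Finset.mem_singleton] at hv
        rcases hv with rfl | rfl | rfl | rfl | rfl | rfl | rfl | rfl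
        · exact m0
        · exact m1
        · exact m2
        · exact m3
        · exact hsub hq0
        · exact hsub hq1
        · exact hsub hq2
        · exact hsub hq3
    have hl : [p0, p1, p2, p3, q0, q1, q2, q3].Nodup := by
      have := h.n01; have := h.n02; have := h.n03; have := h.n12; have := h.n13; have := h.n23
      have := hq.n01; have := hq.n02; have := hq.n03; have := hq.n12; have := hq.n13
      have := hq.n23
      simp [*, Ne.symm a00, Ne.symm a01, Ne.symm a02, Ne.symm a03, Ne.symm a10, Ne.symm a11,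
        Ne.symm a12, Ne.symm a13, Ne.symm a20, Ne.symm a21, Ne.symm a22, Ne.symm a23,
        Ne.symm a30, Ne.symm a31, Ne.symm a32, Ne.symm a33]
    exact sol_two_four hc hl hS h hq
  · obtain ⟨z', hz2, hzS, hxz, hyz⟩ := ih S' x' y' hcard hc' hE
    have z0 : z' p0 = p0 := hzS p0 (by simp [hS'])
    have z1 : z' p1 = p1 := hzS p1 (by simp [hS'])
    have z2 : z' p2 = p2 := hzS p2 (by simp [hS'])
    have z3 : z' p3 = p3 := hzS p3 (by simp [hS'])
    have hne : S'.Nonempty := by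
      by_contra hemp
      rw [Finset.not_nonempty_iff_eq_empty] at hemp
      apply hexc
      refine ⟨p0, p1, p2, p3, h, ?_⟩
      ext v
      constructor
      · intro hv
        by_contra hnot
        simp only [Finset.mem_insert, Finset.mem_singleton, not_or] at hnot
        have : v ∈ S' := (hmemS' v).mpr ⟨hv, hnot.1, hnot.2.1, hnot.2.2.1, hnot.2.2.2⟩
        rw [hemp] at this
        exact absurd this (Finset.notMem_empty v)
      · intro hv
        simp only [Finset.mem_insert, Finset.mem_singleton] at hv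
        rcases hv with rfl | rfl | rfl | rfl
        · exact m0
        · exact m1
        · exact m2
        · exact m3
    by_cases hw : ∃ w ∈ S', z' w = w
    · obtain ⟨w, hwS', zw⟩ := hw
      obtain ⟨hwS, w0, w1, w2, w3⟩ := (hmemS' w).mp hwS'
      obtain ⟨A1, A2, A3⟩ := absorb_fixed h X8 Y8 X2 X3 X4 X5 Y2 Y3 Y4 Y5 z0 z1 z2 z3 hz2 zw
        w0 w1 w2 w3 hxz hyz
      refine ⟨_, A1, ?_, A2, A3⟩
      intro v hv
      have h0 : v ≠ p0 := by rintro rfl; exact hv m0
      have h1 : v ≠ p1 := by rintro rfl; exact hv m1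
      have h2 : v ≠ p2 := by rintro rfl; exact hv m2
      have hvw : v ≠ w := by rintro rfl; exact hv hwS
      rw [Perm.mul_apply, Perm.mul_apply, swap_apply_of_ne_of_ne h1 h2,
        swap_apply_of_ne_of_ne h0 hvw]
      exact hzS v (fun hh => hv (hsub hh))
    · push Not at hw
      obtain ⟨w, hwS'⟩ := hne
      obtain ⟨w', hw'⟩ : ∃ w', w' = z' w := ⟨_, rfl⟩
      have hww : w ≠ w' := by rw [hw']; exact (hw w hwS').symm
      have zw' : z' w' = w := by rw [hw', inv_apply_of_sq hz2]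
      have hw'S' : w' ∈ S' := by
        by_contra hn
        have := hzS w' hn
        rw [zw'] at this
        exact hww this
      obtain ⟨hwS, w0, w1, w2, w3⟩ := (hmemS' w).mp hwS'
      obtain ⟨hw'S, w0', w1', w2', w3'⟩ := (hmemS' w').mp hw'S'
      obtain ⟨A1, A2, A3⟩ := absorb_moved h X8 Y8 X2 X3 X4 X5 Y2 Y3 Y4 Y5 z0 z1 z2 z3 hz2
        hw'.symm hww w0 w1 w2 w3 w0' w1' w2' w3' hxz hyz
      refine ⟨_, A1, ?_, A2, A3⟩
      intro v hv
      have h0 : v ≠ p0 := by rintro rfl; exact hv m0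
      have h1 : v ≠ p1 := by rintro rfl; exact hv m1
      have h2 : v ≠ p2 := by rintro rfl; exact hv m2
      have h3 : v ≠ p3 := by rintro rfl; exact hv m3
      have hvw : v ≠ w := by rintro rfl; exact hv hwS
      have hvw' : v ≠ w' := by rintro rfl; exact hv hw'S
      rw [Perm.mul_apply, Perm.mul_apply, Perm.mul_apply, Perm.mul_apply,
        swap_apply_of_ne_of_ne h2 hvw', swap_apply_of_ne_of_ne h1 h3,
        swap_apply_of_ne_of_ne hvw h0, swap_apply_of_ne_of_ne hvw hvw']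
      exact hzS v (fun hh => hv (hsub hh))

end Cfsg.Agent.Helper16.Lfg
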