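import Mathlib
import Cfsg.Agent.Lib.Helper16.LfgA
import Cfsg.Agent.Lib.Helper16.LfgB
import Cfsg.Agent.Lib.Helper16.LfgC
import Cfsg.Agent.Lib.Helper16.LfgD
import Cfsg.Agent.Lib.Helper16.LfgE
import Cfsg.Agent.Lib.Helper16.LfgF
import Cfsg.Agent.Lib.Helper16.LfgG
import Cfsg.Agent.Lib.Helper16.LfgH

/-! The main induction. -/

set_option linter.unusedSectionVars false
set_option linter.unusedVariables false

namespace Cfsg.Agent.Helper16.Lfg

open Equiv

variable {α : Type*} [DecidableEq α] [Fintype α]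
variable {S : Finset α} {x y : Perm α}

theorem apply_ne (g : Perm α) {u v s t : α} (hu : g u = s) (hv : g v = t) (h : u ≠ v) : s ≠ t := by
  rintro rfl
  exact h (g.injective (hu.trans hv.symm))

theorem Cfg.x_mem (hc : Cfg S x y) {v : α} (hv : v ∈ S) : x v ∈ S := by
  by_contra hn
  have h1 := hc.xS (x v) hn
  have := x.injective h1
  rw [this] at hn
  exact hn hv

theorem Cfg.y_mem (hc : Cfg S x y) {v : α} (hv : v ∈ S) : y v ∈ S := hc.symm.x_mem hv

theorem exists_opposite (hc : Cfg S x y) {a : α} (hxa : x a = a) (hya : y a ≠ a) :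
    ∃ a', x a' ≠ a' ∧ y a' = a' := by
  by_contra hcon
  push Not at hcon
  have hsub : x.support ⊆ y.support := by
    intro v hv
    rw [Perm.mem_support] at hv ⊢
    exact hcon v hv
  have heq := Finset.eq_of_subset_of_card_le hsub (le_of_eq hc.bal.symm)
  have : a ∈ x.support := by rw [heq, Perm.mem_support]; exact hya
  rw [Perm.mem_support] at this
  exact this hxa

/-- Case B, a point of `S` fixed by `x`. -/
theorem caseB_fix (hc : Cfg S x y) (ih : IH S) (no4 : ¬ ∃ q0 q1 q2 q3, Is4 x y q0 q1 q2 q3)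
    {a : α} (haS : a ∈ S) (hxa : x a = a) : Sol S x y := by
  by_cases hya : y a = a
  · exact red_fixed hc ih no4 haS hxa hya
  obtain ⟨b, hb⟩ : ∃ b, b = y a := ⟨_, rfl⟩
  have hab : a ≠ b := by rw [hb]; exact fun h => hya h.symm
  by_cases hxb : x b = b
  · obtain ⟨a', hxa', hya'⟩ := exists_opposite hc hxa hya
    obtain ⟨b', hb'⟩ : ∃ b', b' = x a' := ⟨_, rfl⟩
    have hab' : a' ≠ b' := by rw [hb']; exact fun h => hxa' h.symm
    by_cases hyb' : y b' = b'
    · exact red_pair hc ih no4 hya' hb'.symm hab' hyb' hxa hb.symm hab hxb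
    · exact red_path hc ih hya' hb'.symm hab' rfl (fun h => hyb' h.symm)
  · have := red_path hc.symm (fun S' x' y' h1 h2 h3 => ih S' x' y' h1 h2 h3)
      hxa hb.symm hab rfl (fun h => hxb h.symm)
    exact this.symm

/-- Case B, both involutions fixed-point-free on `S`. -/
theorem caseB_fpf (hc : Cfg S x y) (ih : IH S) (no4 : ¬ ∃ q0 q1 q2 q3, Is4 x y q0 q1 q2 q3)
    (hfx : ∀ a ∈ S, x a ≠ a) (hfy : ∀ a ∈ S, y a ≠ a) {p1 : α} (m1 : p1 ∈ S) : Sol S x y := by
  have hx2 := hc.x2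
  have hy2 := hc.y2
  obtain ⟨p0, x10⟩ : ∃ p0, x p1 = p0 := ⟨_, rfl⟩
  obtain ⟨p2, y12⟩ : ∃ p2, y p1 = p2 := ⟨_, rfl⟩
  have x01 : x p0 = p1 := inv_eq_of_sq' hx2 x10
  have y21 : y p2 = p1 := inv_eq_of_sq' hy2 y12
  have m0 : p0 ∈ S := by rw [← x10]; exact hc.x_mem m1
  have m2 : p2 ∈ S := by rw [← y12]; exact hc.y_mem m1
  have n01 : p0 ≠ p1 := by rw [← x10]; exact hfx p1 m1
  have n12 : p1 ≠ p2 := by rw [← y12]; exact (hfy p1 m1).symm
  by_cases n02 : p0 = p2
  · exact red_shared hc ih no4 n01.symm x10 (by rw [y12, n02])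
  obtain ⟨p3, x23⟩ : ∃ p3, x p2 = p3 := ⟨_, rfl⟩
  have x32 : x p3 = p2 := inv_eq_of_sq' hx2 x23
  have m3 : p3 ∈ S := by rw [← x23]; exact hc.x_mem m2
  have n23 : p2 ≠ p3 := by rw [← x23]; exact (hfx p2 m2).symm
  have n13 : p1 ≠ p3 := apply_ne x x01 x23 n02
  have n03 : p0 ≠ p3 := apply_ne x x10 x23 n12
  obtain ⟨p4, y34⟩ : ∃ p4, y p3 = p4 := ⟨_, rfl⟩
  have y43 : y p4 = p3 := inv_eq_of_sq' hy2 y34
  have m4 : p4 ∈ S := by rw [← y34]; exact hc.y_mem m3
  have n34 : p3 ≠ p4 := by rw [← y34]; exact (hfy p3 m3).symm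
  have n24 : p2 ≠ p4 := apply_ne y y12 y34 n13
  have n14 : p1 ≠ p4 := apply_ne y y21 y34 n23
  by_cases n04 : p0 = p4
  · exfalso
    apply no4
    refine ⟨p0, p1, p2, p3, x01, y12, x23, ?_, n01, n02, n03, n12, n13, n23⟩
    rw [y34, n04]
  obtain ⟨p5, x45⟩ : ∃ p5, x p4 = p5 := ⟨_, rfl⟩
  have x54 : x p5 = p4 := inv_eq_of_sq' hx2 x45
  have m5 : p5 ∈ S := by rw [← x45]; exact hc.x_mem m4
  have n45 : p4 ≠ p5 := by rw [← x45]; exact (hfx p4 m4).symm
  have n35 : p3 ≠ p5 := apply_ne x x23 x45 n24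
  have n25 : p2 ≠ p5 := apply_ne x x32 x45 n34
  have n15 : p1 ≠ p5 := apply_ne x x01 x45 n04
  have n05 : p0 ≠ p5 := apply_ne x x10 x45 n14
  have hseg : Seg x y p0 p1 p2 p3 p4 p5 := by
    refine ⟨?_, x01, y12, x23, y34, x45⟩
    simp [*]
  by_cases hE : Exc (S \ {p1, p2, p3, p4}) (contrX x p0 p1 p2 p3 p4 p5) (contrY y p1 p2 p3 p4)
  · -- the eight-cycle
    obtain ⟨X1, X2, X3, X4, X5, X6, X7, X8, X9, X10⟩ := hseg.x_facts hx2
    obtain ⟨Y1, Y2, Y3, Y4, Y5, Y6, Y7, Y8⟩ := hseg.y_facts hy2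
    have hmemS' : ∀ v, v ∈ S \ {p1, p2, p3, p4} ↔ v ∈ S ∧ v ≠ p1 ∧ v ≠ p2 ∧ v ≠ p3 ∧ v ≠ p4 := by
      intro v; simp [Finset.mem_sdiff]
    have m0' : p0 ∈ S \ {p1, p2, p3, p4} := (hmemS' p0).mpr ⟨m0, n01, n02, n03, n04⟩
    obtain ⟨p6, y56⟩ : ∃ p6, y p5 = p6 := ⟨_, rfl⟩
    have y65 : y p6 = p5 := inv_eq_of_sq' hy2 y56
    have n06 : p0 ≠ p6 := by
      intro h06
      have h1 : contrY y p1 p2 p3 p4 p0 = y p0 := Y6 p0 n01 n02 n03 n04
      have h2 : y p0 = p5 := by rw [h06]; exact y65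
      have := hE.x_ne_y X1 Y1 p0 m0'
      rw [X2, h1, h2] at this
      exact this rfl
    have m6 : p6 ∈ S := by rw [← y56]; exact hc.y_mem m5
    have n56 : p5 ≠ p6 := by rw [← y56]; exact (hfy p5 m5).symm
    have n16 : p1 ≠ p6 := apply_ne y y21 y56 n25
    have n26 : p2 ≠ p6 := apply_ne y y12 y56 n15
    have n36 : p3 ≠ p6 := apply_ne y y43 y56 n45
    have n46 : p4 ≠ p6 := apply_ne y y34 y56 n35
    obtain ⟨p7, x67⟩ : ∃ p7, x p6 = p7 := ⟨_, rfl⟩
    have x76 : x p7 = p6 := inv_eq_of_sq' hx2 x67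
    have m7 : p7 ∈ S := by rw [← x67]; exact hc.x_mem m6
    have n67 : p6 ≠ p7 := by rw [← x67]; exact (hfx p6 m6).symm
    have n07 : p0 ≠ p7 := apply_ne x x10 x67 n16
    have n17 : p1 ≠ p7 := apply_ne x x01 x67 n06
    have n27 : p2 ≠ p7 := apply_ne x x32 x67 n36
    have n37 : p3 ≠ p7 := apply_ne x x23 x67 n26
    have n47 : p4 ≠ p7 := apply_ne x x54 x67 n56
    have n57 : p5 ≠ p7 := apply_ne x x45 x67 n46
    have hl : [p0, p1, p2, p3, p4, p5, p6, p7].Nodup := by simp [*]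
    have hsub4 : ({p0, p5, p6, p7} : Finset α) ⊆ S \ {p1, p2, p3, p4} := by
      intro v hv
      simp only [Finset.mem_insert, Finset.mem_singleton] at hv
      rcases hv with rfl | rfl | rfl | rfl
      · exact m0'
      · exact (hmemS' _).mpr ⟨m5, n15.symm, n25.symm, n35.symm, n45.symm⟩
      · exact (hmemS' _).mpr ⟨m6, n16.symm, n26.symm, n36.symm, n46.symm⟩
      · exact (hmemS' _).mpr ⟨m7, n17.symm, n27.symm, n37.symm, n47.symm⟩
    have hcard4 : ({p0, p5, p6, p7} : Finset α).card = 4 := by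
      rw [Finset.card_insert_of_notMem, Finset.card_insert_of_notMem,
        Finset.card_insert_of_notMem, Finset.card_singleton]
      · simp [n67]
      · simp [n56, n57]
      · simp [n05, n06, n07]
    have hS'eq : ({p0, p5, p6, p7} : Finset α) = S \ {p1, p2, p3, p4} :=
      Finset.eq_of_subset_of_card_le hsub4 (by rw [hcard4]; exact hE.card_le)
    have hS : S = {p0, p1, p2, p3, p4, p5, p6, p7} := by
      ext v
      constructor
      · intro hv
        by_cases h1 : v = p1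
        · simp [h1]
        by_cases h2 : v = p2
        · simp [h2]
        by_cases h3 : v = p3
        · simp [h3]
        by_cases h4 : v = p4
        · simp [h4]
        have hvS' : v ∈ S \ {p1, p2, p3, p4} := (hmemS' v).mpr ⟨hv, h1, h2, h3, h4⟩
        rw [← hS'eq] at hvS'
        simp only [Finset.mem_insert, Finset.mem_singleton] at hvS' ⊢
        tauto
      · intro hv
        simp only [Finset.mem_insert, Finset.mem_singleton] at hv
        rcases hv with rfl | rfl | rfl | rfl | rfl | rfl | rfl | rfl <;> assumption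
    have y70 : y p7 = p0 := by
      have hm : y p7 ∈ S := hc.y_mem m7
      have hne7 : y p7 ≠ p7 := hfy p7 m7
      rw [hS] at hm
      simp only [Finset.mem_insert, Finset.mem_singleton] at hm
      rcases hm with h | h | h | h | h | h | h | h
      · exact h
      · exact absurd (inv_eq_of_sq' hy2 h) (by rw [y12]; exact n27)
      · exact absurd (inv_eq_of_sq' hy2 h) (by rw [y21]; exact n17)
      · exact absurd (inv_eq_of_sq' hy2 h) (by rw [y34]; exact n47)
      · exact absurd (inv_eq_of_sq' hy2 h) (by rw [y43]; exact n37)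
      · exact absurd (inv_eq_of_sq' hy2 h) (by rw [y56]; exact n67)
      · exact absurd (inv_eq_of_sq' hy2 h) (by rw [y65]; exact n57)
      · exact absurd h hne7
    exact sol_eight_cycle hc hl hS x01 x23 x45 x67 y12 y34 y56 y70
  · exact red_contract hc ih hseg hE

end Cfsg.Agent.Helper16.Lfg
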