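import Mathlib
import Cfsg.Agent.Lib.Helper16.LfgA
import Cfsg.Agent.Lib.Helper16.LfgB
import Cfsg.Agent.Lib.Helper16.LfgC
import Cfsg.Agent.Lib.Helper16.LfgD
import Cfsg.Agent.Lib.Helper16.LfgE
import Cfsg.Agent.Lib.Helper16.LfgF
import Cfsg.Agent.Lib.Helper16.LfgG
import Cfsg.Agent.Lib.Helper16.LfgH
import Cfsg.Agent.Lib.Helper16.LfgI

/-! The main theorem on common neighbours. -/

set_option linter.unusedSectionVars false
set_option linter.unusedVariables false

namespace Cfsg.Agent.Helper16.Lfg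

open Equiv

variable {α : Type*} [DecidableEq α] [Fintype α]

theorem sol_main : ∀ (n : ℕ) (S : Finset α) (x y : Perm α), S.card = n → Cfg S x y →
    ¬ Exc S x y → Sol S x y := by
  intro n
  induction n using Nat.strong_induction_on with
  | _ n IHn =>
  intro S x y hn hc hexc
  have ih : IH S := fun S' x' y' hlt hc' he' => IHn S'.card (hn ▸ hlt) S' x' y' rfl hc' he'
  by_cases h4 : ∃ q0 q1 q2 q3, Is4 x y q0 q1 q2 q3
  · obtain ⟨q0, q1, q2, q3, h⟩ := h4
    exact red_four hc ih hexc h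
  by_cases hfx : ∃ a ∈ S, x a = a
  · obtain ⟨a, haS, hxa⟩ := hfx
    exact caseB_fix hc ih h4 haS hxa
  by_cases hfy : ∃ a ∈ S, y a = a
  · obtain ⟨a, haS, hya⟩ := hfy
    have h4' : ¬ ∃ q0 q1 q2 q3, Is4 y x q0 q1 q2 q3 := by
      rintro ⟨q0, q1, q2, q3, h⟩
      exact h4 ⟨q1, q2, q3, q0, h.symm⟩
    exact (caseB_fix hc.symm ih h4' haS hya).symm
  push Not at hfx hfy
  by_cases hS : S = ∅
  · refine ⟨1, by simp, fun _ _ => rfl, ?_, ?_⟩
    · have : x = 1 := by
        ext v; exact hc.xS v (by rw [hS]; exact Finset.notMem_empty v)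
      rw [this, mul_one]; exact oddOrd_one
    · have : y = 1 := by
        ext v; exact hc.yS v (by rw [hS]; exact Finset.notMem_empty v)
      rw [this, mul_one]; exact oddOrd_one
  · obtain ⟨a, haS⟩ := Finset.nonempty_iff_ne_empty.mpr hS
    exact caseB_fpf hc ih h4 hfx hfy haS

/-- Any two conjugate involutions of `Perm α`, `|α| ≥ 5`, have a common neighbour. -/
theorem exists_common (hα : 5 ≤ Fintype.card α) {x y : Perm α} (hx : x * x = 1) (hy : y * y = 1)
    (hxy : IsConj x y) :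
    ∃ z : Perm α, IsConj x z ∧ OddOrd (x * z) ∧ OddOrd (z * y) := by
  have hc : Cfg (Finset.univ : Finset α) x y := by
    refine ⟨hx, hy, fun a ha => absurd (Finset.mem_univ a) ha,
      fun a ha => absurd (Finset.mem_univ a) ha, ?_⟩
    obtain ⟨g, hg⟩ := isConj_iff.mp hxy
    rw [← hg, Perm.card_support_conj]
  have hexc : ¬ Exc (Finset.univ : Finset α) x y := by
    intro he
    have := he.card_le
    rw [Finset.card_univ] at this
    omega
  obtain ⟨z, hz2, -, hxz, hyz⟩ := sol_main _ _ x y rfl hc hexc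
  refine ⟨z, ?_, hxz, oddOrd_mul_comm hyz⟩
  -- z is conjugate to x
  obtain ⟨N, hN, hpow⟩ := hxz
  obtain ⟨j, hj⟩ := hN
  rw [isConj_iff]
  refine ⟨(x * z) ^ j, ?_⟩
  -- (xz)^j x (xz)^{-j} = z
  have hxinv : x⁻¹ = x := inv_eq_self_of_sq hx
  have hzinv : z⁻¹ = z := inv_eq_self_of_sq hz2
  -- x (xz)^j x = (zx)^j ; (xz)⁻¹ = z x
  have h1 : ((x * z) ^ j)⁻¹ = (z * x) ^ j := by
    rw [← inv_pow, mul_inv_rev, hxinv, hzinv]
  have h2 : ∀ k : ℕ, x * (z * x) ^ k = (x * z) ^ k * x := by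
    intro k
    induction k with
    | zero => simp
    | succ k ih => rw [pow_succ, ← mul_assoc, ih, pow_succ]; group
  rw [h1]
  calc (x * z) ^ j * x * (z * x) ^ j = (x * z) ^ j * ((x * z) ^ j * x) := by rw [mul_assoc, h2]
    _ = (x * z) ^ (2 * j) * x := by rw [two_mul, pow_add]; group
    _ = (x * z) ^ (2 * j + 1) * ((x * z)⁻¹ * x) := by rw [pow_succ]; group
    _ = z := by rw [← hj, hpow, mul_inv_rev, hxinv, hzinv]; rw [one_mul, mul_assoc, hx, mul_one]

end Cfsg.Agent.Helper16.Lfg
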