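import Mathlib
import Cfsg.Agent.Lib.Helper16.LfgA
import Cfsg.Agent.Lib.Helper16.LfgB
import Cfsg.Agent.Lib.Helper16.LfgC
import Cfsg.Agent.Lib.Helper16.LfgD
import Cfsg.Agent.Lib.Helper16.LfgE
import Cfsg.Agent.Lib.Helper16.LfgJ

/-! Non-adjacent pairs and the graph-theoretic wrap-up. -/

set_option linter.unusedSectionVars false
set_option linter.unusedVariables false

namespace Cfsg.Agent.Helper16.Lfg

open Equiv

variable {α : Type*} [DecidableEq α] [Fintype α]

/-- a conjugate of `t` commuting with `t` and different from it -/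
theorem exists_commuting_conj (hα : 5 ≤ Fintype.card α) {t : Perm α} (ht2 : t * t = 1)
    (ht1 : t ≠ 1) : ∃ y₀ : Perm α, IsConj t y₀ ∧ y₀ ≠ t ∧ Commute t y₀ := by
  obtain ⟨a, hta⟩ : ∃ a, t a ≠ a := by
    by_contra hcon
    push Not at hcon
    exact ht1 (Equiv.ext hcon)
  obtain ⟨b, hb⟩ : ∃ b, t a = b := ⟨_, rfl⟩
  have hab : a ≠ b := by rw [← hb]; exact hta.symm
  have htb : t b = a := inv_eq_of_sq' ht2 hb
  by_cases hcase : ∃ c, c ≠ a ∧ c ≠ b ∧ t c ≠ c
  · obtain ⟨c, hca, hcb, htc⟩ := hcase
    obtain ⟨d, hd⟩ : ∃ d, t c = d := ⟨_, rfl⟩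
    have hcd : c ≠ d := by rw [← hd]; exact htc.symm
    have htd : t d = c := inv_eq_of_sq' ht2 hd
    have hda : d ≠ a := by rintro rfl; rw [hb] at htd; exact hcb htd.symm
    have hdb : d ≠ b := by rintro rfl; rw [htb] at htd; exact hca htd.symm
    have hl : [a, b, c, d].Nodup := by
      simp [hab, hca.symm, hcb.symm, hda.symm, hdb.symm, hcd]
    -- cuts
    obtain ⟨t1, ht1'⟩ : ∃ t1, t1 = t * swap a b := ⟨_, rfl⟩
    have t1sq : t1 * t1 = 1 := by rw [ht1']; exact cut_sq ht2 hb
    have t1a : t1 a = a := by rw [ht1']; exact cut_apply_left ht2 hb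
    have t1b : t1 b = b := by rw [ht1']; exact cut_apply_right hb
    have t1c : t1 c = d := by rw [ht1', cut_apply_other hca hcb, hd]
    obtain ⟨t', ht'⟩ : ∃ t', t' = t1 * swap c d := ⟨_, rfl⟩
    have t'c : t' c = c := by rw [ht']; exact cut_apply_left t1sq t1c
    have t'd : t' d = d := by rw [ht']; exact cut_apply_right t1c
    have t'a : t' a = a := by rw [ht', cut_apply_other hca.symm hda.symm, t1a]
    have t'b : t' b = b := by rw [ht', cut_apply_other hcb.symm hdb.symm, t1b]
    have t'sq : t' * t' = 1 := by rw [ht']; exact cut_sq t1sq t1c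
    have hte : t = t' * (swap c d * swap a b) := by
      rw [ht', ht1']
      simp only [mul_assoc, swap_mul_self_mul, swap_mul_self, mul_one]
    set g := swap b c with hg
    have hginv : g⁻¹ = g := by rw [hg, swap_inv]
    have hcg : Commute t' g := commute_swap_of_fix t'b t'c
    have hcA : Commute t' (swap c d * swap a b) :=
      (commute_swap_of_fix t'c t'd).mul_right (commute_swap_of_fix t'a t'b)
    have hAg4 : ((swap c d * swap a b) * g) ^ 4 = 1 := by
      have := model_eq' 4 [a, b, c, d] rfl hl
        [(2,3),(0,1),(1,2),(2,3),(0,1),(1,2),(2,3),(0,1),(1,2),(2,3),(0,1),(1,2)] [] (by decide)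
      have h2 : ((swap c d * swap a b) * g) ^ 4
          = swap c d * (swap a b * (swap b c * (swap c d * (swap a b * (swap b c *
            (swap c d * (swap a b * (swap b c * (swap c d * (swap a b * swap b c)))))))))) := by
        rw [hg]; simp only [pow_succ, pow_zero, one_mul, mul_assoc]
      rw [h2]
      simpa [swapsProd, mul_assoc] using this
    have htg4 : (t * g) ^ 4 = 1 := by
      have h1 : t * g = t' * ((swap c d * swap a b) * g) := by rw [hte]; group
      have h2 : Commute t' ((swap c d * swap a b) * g) := hcA.mul_right hcg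
      rw [h1, h2.mul_pow, hAg4, mul_one]
      have : t' ^ 4 = (t' * t') * (t' * t') := by
        rw [← pow_two t', ← pow_add]
      rw [this, t'sq, one_mul]
    refine ⟨g * t * g⁻¹, isConj_iff.mpr ⟨g, rfl⟩, ?_, ?_⟩
    · intro heq
      have : (g * t * g⁻¹) a = t a := by rw [heq]
      rw [hginv, Perm.mul_apply, Perm.mul_apply, hg, swap_apply_of_ne_of_ne hab hca.symm, hb,
        swap_apply_left] at this
      exact hcb this
    · unfold Commute SemiconjBy
      rw [hginv]
      have hinv : (t * g)⁻¹ = g * t := by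
        rw [mul_inv_rev, hginv, inv_eq_self_of_sq ht2]
      have h1 : t * (g * t * g) = (t * g) ^ 2 := by rw [pow_two]; group
      have h2 : g * t * g * t = ((t * g)⁻¹) ^ 2 := by rw [hinv, pow_two]; group
      rw [h1, h2, inv_pow]
      apply eq_inv_of_mul_eq_one_left
      rw [← pow_add]; exact htg4
  · -- t is a single transposition
    push Not at hcase
    have hte : t = swap a b := by
      ext v
      by_cases hva : v = a
      · rw [hva, hb, swap_apply_left]
      by_cases hvb : v = b
      · rw [hvb, htb, swap_apply_right]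
      rw [swap_apply_of_ne_of_ne hva hvb]
      by_contra hne
      exact hne (hcase v hva hvb)
    have hcard : 1 < (Finset.univ \ {a, b} : Finset α).card := by
      have h1 : (Finset.univ \ {a, b} : Finset α).card
          = Fintype.card α - ({a, b} : Finset α).card := by
        rw [Finset.card_sdiff_of_subset (Finset.subset_univ _), Finset.card_univ]
      have h2 : ({a, b} : Finset α).card ≤ 2 := Finset.card_le_two
      omega
    obtain ⟨c, hc, d, hd, hcd⟩ := Finset.one_lt_card.mp hcard
    simp only [Finset.mem_sdiff, Finset.mem_univ, Finset.mem_insert, Finset.mem_singleton,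
      not_or, true_and] at hc hd
    obtain ⟨hca, hcb⟩ := hc
    obtain ⟨hda, hdb⟩ := hd
    refine ⟨swap c d, ?_, ?_, ?_⟩
    · rw [hte]
      exact isConj_iff.mpr ⟨swap a c * swap b d, by
        rw [← swap_apply_apply]
        congr 1
        · rw [Perm.mul_apply, swap_apply_of_ne_of_ne hab (Ne.symm hda), swap_apply_left]
        · rw [Perm.mul_apply, swap_apply_left, swap_apply_of_ne_of_ne hda (Ne.symm hcd)]⟩
    · rw [hte]
      intro heq
      have : swap c d a = swap a b a := by rw [heq]
      rw [swap_apply_left, swap_apply_of_ne_of_ne (Ne.symm hca) (Ne.symm hda)] at this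
      exact hab this
    · rw [hte]
      exact commute_swap_of_fix (swap_apply_of_ne_of_ne hca hcb)
        (swap_apply_of_ne_of_ne hda hdb)

end Cfsg.Agent.Helper16.Lfg
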