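import Mathlib
import Cfsg.Agent.Lib.Helper16.LfgA
import Cfsg.Agent.Lib.Helper16.LfgJ
import Cfsg.Agent.Lib.Helper16.LfgK

/-! The local fusion graph of an involution class of `Sym(n)`, `n ≥ 5`. -/

set_option linter.unusedSectionVars false
set_option linter.unusedVariables false

namespace Cfsg.Agent.Helper16.Lfg

open Equiv

theorem lfg_main (n : ℕ) (hn : 5 ≤ n) (t : Equiv.Perm (Fin n)) (ht : orderOf t = 2) :
    (SimpleGraph.fromRel fun x y : {x : Equiv.Perm (Fin n) // IsConj t x} =>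
        Odd (orderOf (x.1 * y.1))).Connected ∧
      (SimpleGraph.fromRel fun x y : {x : Equiv.Perm (Fin n) // IsConj t x} =>
        Odd (orderOf (x.1 * y.1))).diam = 2 := by
  classical
  set G := SimpleGraph.fromRel fun x y : {x : Equiv.Perm (Fin n) // IsConj t x} =>
        Odd (orderOf (x.1 * y.1)) with hG
  have ht2 : t * t = 1 := by rw [← pow_two, ← ht]; exact pow_orderOf_eq_one t
  have ht1 : t ≠ 1 := by rintro rfl; simp at ht
  have hcard : 5 ≤ Fintype.card (Fin n) := by simpa using hn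
  have hsq : ∀ x : {x : Equiv.Perm (Fin n) // IsConj t x}, x.1 * x.1 = 1 := by
    rintro ⟨x, hx⟩
    obtain ⟨g, rfl⟩ := isConj_iff.mp hx
    calc g * t * g⁻¹ * (g * t * g⁻¹) = g * (t * t) * g⁻¹ := by group
      _ = 1 := by rw [ht2]; group
  have hconj : ∀ x y : {x : Equiv.Perm (Fin n) // IsConj t x}, IsConj x.1 y.1 :=
    fun x y => x.2.symm.trans y.2
  have key : ∀ x y : {x : Equiv.Perm (Fin n) // IsConj t x},
      ∃ z : {x : Equiv.Perm (Fin n) // IsConj t x}, (x = z ∨ G.Adj x z) ∧ (z = y ∨ G.Adj z y) := by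
    intro x y
    obtain ⟨z, hz, h1, h2⟩ := exists_common hcard (hsq x) (hsq y) (hconj x y)
    refine ⟨⟨z, x.2.trans hz⟩, ?_, ?_⟩
    · by_cases h : x = ⟨z, x.2.trans hz⟩
      · exact Or.inl h
      · right
        rw [hG, SimpleGraph.fromRel_adj]
        exact ⟨h, Or.inl ((oddOrd_iff _).mp h1)⟩
    · by_cases h : (⟨z, x.2.trans hz⟩ : {x : Equiv.Perm (Fin n) // IsConj t x}) = y
      · exact Or.inl h
      · right
        rw [hG, SimpleGraph.fromRel_adj]
        exact ⟨h, Or.inl ((oddOrd_iff _).mp h2)⟩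
  have hle : ∀ x y, G.edist x y ≤ 2 := by
    intro x y
    obtain ⟨z, h1, h2⟩ := key x y
    have e1 : G.edist x z ≤ 1 := by
      rcases h1 with rfl | h
      · simp
      · exact (SimpleGraph.edist_eq_one_iff_adj.mpr h).le
    have e2 : G.edist z y ≤ 1 := by
      rcases h2 with rfl | h
      · simp
      · exact (SimpleGraph.edist_eq_one_iff_adj.mpr h).le
    calc G.edist x y ≤ G.edist x z + G.edist z y := SimpleGraph.edist_triangle
      _ ≤ 1 + 1 := add_le_add e1 e2
      _ = 2 := by norm_num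
  have hediam : G.ediam ≤ 2 := SimpleGraph.ediam_le_of_edist_le hle
  have : Nonempty {x : Equiv.Perm (Fin n) // IsConj t x} := ⟨⟨t, IsConj.refl t⟩⟩
  have hne_top : G.ediam ≠ ⊤ := ne_top_of_le_ne_top (by simp) hediam
  have hconn : G.Connected := SimpleGraph.connected_of_ediam_ne_top hne_top
  refine ⟨hconn, ?_⟩
  obtain ⟨y₀, hy₀, hne, hcomm⟩ := exists_commuting_conj hcard ht2 ht1
  obtain ⟨X, hX⟩ : ∃ X : {x : Equiv.Perm (Fin n) // IsConj t x}, X = ⟨t, IsConj.refl t⟩ := ⟨_, rfl⟩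
  obtain ⟨Y, hY⟩ : ∃ Y : {x : Equiv.Perm (Fin n) // IsConj t x}, Y = ⟨y₀, hy₀⟩ := ⟨_, rfl⟩
  have hXY : X ≠ Y := by
    rw [hX, hY]
    intro h
    exact hne (Subtype.mk.inj h).symm
  have hy2 : y₀ * y₀ = 1 := hsq ⟨y₀, hy₀⟩
  have hord : orderOf (t * y₀) = 2 := by
    have : Fact (Nat.Prime 2) := ⟨Nat.prime_two⟩
    apply orderOf_eq_prime
    · rw [pow_two]
      calc t * y₀ * (t * y₀) = t * (y₀ * t) * y₀ := by group
        _ = t * (t * y₀) * y₀ := by rw [hcomm.eq]
        _ = (t * t) * (y₀ * y₀) := by group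
        _ = 1 := by rw [ht2, hy2, one_mul]
    · intro h
      apply hne
      have : y₀ = t⁻¹ := eq_inv_of_mul_eq_one_right h
      rw [this, inv_eq_self_of_sq ht2]
  have hnadj : ¬ G.Adj X Y := by
    rw [hG, SimpleGraph.fromRel_adj, hX, hY]
    rintro ⟨-, h | h⟩
    · simp only at h
      rw [hord] at h
      exact absurd h (by decide)
    · simp only at h
      rw [← hcomm.eq, hord] at h
      exact absurd h (by decide)
  have h2le : 2 ≤ G.edist X Y := by
    have hfin : G.edist X Y ≠ ⊤ := ne_top_of_le_ne_top (by simp) (hle X Y)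
    obtain ⟨k, hk⟩ := ENat.ne_top_iff_exists.mp hfin
    have h0 : G.edist X Y ≠ 0 := fun h => hXY (SimpleGraph.edist_eq_zero_iff.mp h)
    have h1 : G.edist X Y ≠ 1 := fun h => hnadj (SimpleGraph.edist_eq_one_iff_adj.mp h)
    rw [← hk] at h0 h1 ⊢
    have k0 : k ≠ 0 := fun h => h0 (by rw [h]; rfl)
    have k1 : k ≠ 1 := fun h => h1 (by rw [h]; rfl)
    have : 2 ≤ k := by omega
    exact_mod_cast this
  have hdiam : G.ediam = 2 := le_antisymm hediam (h2le.trans SimpleGraph.edist_le_ediam)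
  rw [SimpleGraph.diam, hdiam]
  rfl

end Cfsg.Agent.Helper16.Lfg
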