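import Mathlib
import Cfsg.Agent.Lib.Helper26.MHDefs
import Cfsg.Agent.Lib.Helper26.MHBW

/-!
# S4221 piece P2A, core (helper16): `φ = 2`, a four-group in a two-point stabilizer is impossible

`core` is the statement of the piece `phi_two_four_group` with the other pieces it uses (`card_Phi`,
`St4_eq_of_fixed`, `exists_vdata`, `star`) as explicit hypotheses; `bw_gen` is used directly.
-/

set_option autoImplicit false
set_option linter.unusedSectionVars false
set_option linter.unusedVariables false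

namespace Cfsg.Agent.Helper26.MH.P2A

open MulAction Cfsg.Agent.Helper22.SharpFour Cfsg.Agent.Helper26.MH

variable {G : Type*} [Group G] [Finite G] {α : Type*} [Fintype α] [DecidableEq α] [MulAction G α]

theorem inv_eq {t : G} (ht : IsInv t) : t⁻¹ = t := inv_eq_of_mul_eq_one_left ht.1

theorem smul_smul_self {t : G} (ht : IsInv t) (x : α) : t • t • x = x := by
  rw [← mul_smul, ht.1, one_smul]

/-- the fixed points of an involution fixing `p ≠ q`, when all involutions fix exactly two points -/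
theorem fix_two (hphi : ∀ t : G, IsInv t → (fixF α t).card = 2) {t : G} (ht : IsInv t) {p q : α}
    (hpq : p ≠ q) (hp : t • p = p) (hq : t • q = q) {z : α} (hz : t • z = z) : z = p ∨ z = q := by
  have hsub : ({p, q} : Finset α) ⊆ fixF α t := by
    intro y hy
    rw [Finset.mem_insert, Finset.mem_singleton] at hy
    rw [mem_fixF]
    rcases hy with rfl | rfl
    · exact hp
    · exact hq
  have hcard : (fixF α t).card ≤ ({p, q} : Finset α).card := by
    rw [hphi t ht, Finset.card_pair hpq]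
  have heq := Finset.eq_of_subset_of_card_le hsub hcard
  have hmem : z ∈ ({p, q} : Finset α) := by rw [heq, mem_fixF]; exact hz
  rw [Finset.mem_insert, Finset.mem_singleton] at hmem
  exact hmem

/-- conjugation by an element permuting the four points preserves the stabilizer -/
theorem conj_mem_St4 {a b c d : α} {t : G}
    (hmap : ∀ y, (y = a ∨ y = b ∨ y = c ∨ y = d) →
      (t⁻¹ • y = a ∨ t⁻¹ • y = b ∨ t⁻¹ • y = c ∨ t⁻¹ • y = d))
    {g : G} (hg : g ∈ St4 G a b c d) : t * g * t⁻¹ ∈ St4 G a b c d := by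
  rw [mem_St4] at hg ⊢
  have key : ∀ y, (y = a ∨ y = b ∨ y = c ∨ y = d) → (t * g * t⁻¹) • y = y := by
    intro y hy
    have h1 : g • (t⁻¹ • y) = t⁻¹ • y := by
      rcases hmap y hy with h | h | h | h <;> rw [h]
      · exact hg.1
      · exact hg.2.1
      · exact hg.2.2.1
      · exact hg.2.2.2
    rw [mul_smul, mul_smul, h1, smul_inv_smul]
  exact ⟨key a (Or.inl rfl), key b (Or.inr (Or.inl rfl)), key c (Or.inr (Or.inr (Or.inl rfl))),
    key d (Or.inr (Or.inr (Or.inr rfl)))⟩

theorem inv_mem_normalizer {a b c d : α} {t : G} (ht : IsInv t)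
    (hmap : ∀ y, (y = a ∨ y = b ∨ y = c ∨ y = d) →
      (t • y = a ∨ t • y = b ∨ t • y = c ∨ t • y = d)) :
    t ∈ Subgroup.normalizer (St4 G a b c d : Set G) := by
  have hmap' : ∀ y, (y = a ∨ y = b ∨ y = c ∨ y = d) →
      (t⁻¹ • y = a ∨ t⁻¹ • y = b ∨ t⁻¹ • y = c ∨ t⁻¹ • y = d) := by
    rw [inv_eq ht]; exact hmap
  rw [Subgroup.mem_normalizer_iff]
  intro g
  constructor
  · intro hg; exact conj_mem_St4 hmap' hg
  · intro hg
    have h1 := conj_mem_St4 hmap' hg
    have e : t * (t * g * t⁻¹) * t⁻¹ = g := by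
      rw [inv_eq ht]
      calc t * (t * g * t) * t = (t * t) * g * (t * t) := by group
        _ = g := by rw [ht.1, one_mul, mul_one]
    rwa [e] at h1

/-- an element of odd order commuting with an involution `w` with `Fix w = {p,q}` fixes `p` and `q` -/
theorem cen_fix (hphi : ∀ t : G, IsInv t → (fixF α t).card = 2) {K : Subgroup G}
    (hK : Odd (Nat.card K)) {w : G} (hw : IsInv w) {p q : α} (hpq : p ≠ q) (hp : w • p = p)
    (hq : w • q = q) {g : G} (hg : g ∈ cen K w) : g • p = p ∧ g • q = q := by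
  rw [mem_cen] at hg
  obtain ⟨hgK, hcomm⟩ := hg
  have hfix : ∀ z : α, w • z = z → w • (g • z) = g • z := by
    intro z hz
    rw [← mul_smul, ← hcomm, mul_smul, hz]
  have hodd : Odd (orderOf g) := by
    have h1 : orderOf g ∣ Nat.card K := by
      have h2 := orderOf_dvd_natCard (⟨g, hgK⟩ : K)
      rwa [Subgroup.orderOf_mk] at h2
    exact Odd.of_dvd_nat hK h1
  have hgp := fix_two hphi hw hpq hp hq (hfix p hp)
  have hgq := fix_two hphi hw hpq hp hq (hfix q hq)
  by_contra hcon
  have h1 : g • p = q ∧ g • q = p := by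
    rcases hgp with h1 | h1
    · rcases hgq with h2 | h2
      · exact absurd (MulAction.injective (β := α) g (h1.trans h2.symm)) hpq
      · exact absurd ⟨h1, h2⟩ hcon
    · rcases hgq with h2 | h2
      · exact ⟨h1, h2⟩
      · exact absurd (MulAction.injective (β := α) g (h1.trans h2.symm)) hpq
  have hpow : ∀ k : ℕ, g ^ (2 * k + 1) • p = q := by
    intro k
    induction k with
    | zero => simpa using h1.1
    | succ k ih =>
      have e : g ^ (2 * (k + 1) + 1) = g * g * g ^ (2 * k + 1) := by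
        rw [show 2 * (k + 1) + 1 = 2 + (2 * k + 1) by ring, pow_add, pow_two]
      rw [e, mul_smul, mul_smul, ih, h1.2, h1.1]
  obtain ⟨k, hk⟩ := hodd
  have h2 := hpow k
  rw [← hk, pow_orderOf_eq_one, one_smul] at h2
  exact hpq h2

/-- parity: an involution acting on a finset stable under it -/
theorem card_mod_two_of_invol {t : G} (ht : IsInv t) (F : Finset α) (hF : ∀ z ∈ F, t • z ∈ F) :
    F.card % 2 = (F.filter (fun z => t • z = z)).card % 2 := by
  have hsplit : (F.filter (fun z => t • z = z)).card + (F.filter (fun z => ¬ t • z = z)).card =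
      F.card := Finset.card_filter_add_card_filter_not _
  have heven : Even (F.filter (fun z => ¬ t • z = z)).card := by
    have hsum : ∑ x ∈ F.filter (fun z => ¬ t • z = z), (1 : ZMod 2) = 0 := by
      refine Finset.sum_involution (fun z _ => t • z) ?_ ?_ ?_ ?_
      · intro z _; decide
      · intro z hz _; exact (Finset.mem_filter.mp hz).2
      · intro z hz
        rw [Finset.mem_filter] at hz ⊢
        refine ⟨hF z hz.1, ?_⟩
        rw [smul_smul_self ht]
        exact fun h => hz.2 h.symm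
      · intro z _; exact smul_smul_self ht z
    rw [Finset.sum_const, nsmul_eq_mul, mul_one] at hsum
    exact (ZMod.natCast_eq_zero_iff_even).mp hsum
  obtain ⟨m, hm⟩ := heven
  omega


/-- `Phi α K` is stable under an involution normalizing `K` -/
theorem Phi_stable {K : Subgroup G} {t : G} (ht : IsInv t)
    (hN : t ∈ Subgroup.normalizer (K : Set G)) {z : α} (hz : z ∈ Phi α K) : t • z ∈ Phi α K := by
  intro g hg
  have h1 : t * g * t⁻¹ ∈ K := (Subgroup.mem_normalizer_iff.mp hN g).mp hg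
  have h2 := hz _ h1
  have e : g • t • z = t • ((t * g * t⁻¹) • z) := by
    rw [← mul_smul, ← mul_smul, inv_eq ht]
    congr 1
    calc g * t = (t * t) * g * t := by rw [ht.1, one_mul]
      _ = t * (t * g * t) := by group
  rw [e, h2]

/-- the piece `phi_two_four_group`, with the other pieces as hypotheses -/
theorem core (h : Hall G α) (h8 : 8 ≤ Fintype.card α)
    (hphi : ∀ t : G, IsInv t → (fixF α t).card = 2)
    (Hcard : ∀ {p q r s : α}, D4 p q r s →
      (Nat.card (Phi α (St4 G p q r s)) = 4 ∨ Nat.card (Phi α (St4 G p q r s)) = 5 ∨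
        Nat.card (Phi α (St4 G p q r s)) = 6 ∨ Nat.card (Phi α (St4 G p q r s)) = 11))
    (Hst : ∀ {p q r s p' q' r' s' : α}, D4 p q r s → D4 p' q' r' s' →
      p' ∈ Phi α (St4 G p q r s) → q' ∈ Phi α (St4 G p q r s) →
      r' ∈ Phi α (St4 G p q r s) → s' ∈ Phi α (St4 G p q r s) →
      St4 G p' q' r' s' = St4 G p q r s)
    (Hv : ∀ {p q r s : α}, D4 p q r s → ∃ a c : G, VData p q r s a c)
    (Hstar : ∀ {t : G}, IsInv t → ∀ {f₁ f₂ x y : α}, t • f₁ = f₁ → t • f₂ = f₂ → f₁ ≠ f₂ →
      t • x ≠ x → t • y ≠ y → y ≠ x → y ≠ t • x →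
      (fixF α t).card * ((fixF α t).card - 1) * Nat.card (cen (St4 G x (t • x) f₁ f₂) t) =
        (Fintype.card α - (fixF α t).card - 2) * Nat.card (cen (St4 G x (t • x) y (t • y)) t))
    {p q : α} (hpq : p ≠ q) {w₁ w₂ : G}
    (hw₁ : IsInv w₁) (hw₂ : IsInv w₂) (hne : w₁ ≠ w₂) (hcomm : w₁ * w₂ = w₂ * w₁)
    (h1p : w₁ • p = p) (h1q : w₁ • q = q) (h2p : w₂ • p = p) (h2q : w₂ • q = q) : False := by
  classical
  have hw₃ : IsInv (w₁ * w₂) := by
    constructor
    · calc w₁ * w₂ * (w₁ * w₂) = w₁ * (w₂ * w₁) * w₂ := by group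
        _ = w₁ * (w₁ * w₂) * w₂ := by rw [hcomm]
        _ = (w₁ * w₁) * (w₂ * w₂) := by group
        _ = 1 := by rw [hw₁.1, hw₂.1, one_mul]
    · intro h12
      apply hne
      have e : w₁ = w₂⁻¹ := eq_inv_of_mul_eq_one_left h12
      rw [e, inv_eq hw₂]
  have h3p : (w₁ * w₂) • p = p := by rw [mul_smul, h2p, h1p]
  have h3q : (w₁ * w₂) • q = q := by rw [mul_smul, h2q, h1q]
  -- a point outside `{p,q}`
  obtain ⟨x, hxp, hxq⟩ : ∃ x : α, x ≠ p ∧ x ≠ q := by
    by_contra hcon
    push Not at hcon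
    have hsub : (Finset.univ : Finset α) ⊆ {p, q} := by
      intro y _
      rw [Finset.mem_insert, Finset.mem_singleton]
      by_cases hy : y = p
      · exact Or.inl hy
      · exact Or.inr (hcon y hy)
    have h1 := Finset.card_le_card hsub
    rw [Finset.card_univ, Finset.card_pair hpq] at h1
    omega
  have hmv : ∀ w : G, IsInv w → w • p = p → w • q = q → w • x ≠ x := by
    intro w hw hp hq hx
    rcases fix_two hphi hw hpq hp hq hx with h' | h'
    · exact hxp h'
    · exact hxq h'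
  have hnp : ∀ w : G, IsInv w → w • p = p → w • x ≠ p := by
    intro w hw hp hx
    apply hxp
    have := smul_smul_self hw x
    rw [hx, hp] at this
    exact this.symm
  obtain ⟨x₁, hx₁⟩ : ∃ y, w₁ • x = y := ⟨_, rfl⟩
  obtain ⟨x₂, hx₂⟩ : ∃ y, w₂ • x = y := ⟨_, rfl⟩
  obtain ⟨x₃, hx₃⟩ : ∃ y, (w₁ * w₂) • x = y := ⟨_, rfl⟩
  have e11 : w₁ • x₁ = x := by rw [← hx₁]; exact smul_smul_self hw₁ x
  have e12 : w₁ • x₂ = x₃ := by rw [← hx₂, ← hx₃, mul_smul]
  have e13 : w₁ • x₃ = x₂ := by rw [← e12]; exact smul_smul_self hw₁ x₂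
  have e22 : w₂ • x₂ = x := by rw [← hx₂]; exact smul_smul_self hw₂ x
  have e21 : w₂ • x₁ = x₃ := by rw [← hx₁, ← hx₃, ← mul_smul, hcomm]
  have e23 : w₂ • x₃ = x₁ := by rw [← e21]; exact smul_smul_self hw₂ x₁
  have hD : D4 x x₁ x₂ x₃ := by
    have hab : x ≠ x₁ := fun hh => hmv w₁ hw₁ h1p h1q (by rw [hx₁]; exact hh.symm)
    have hac : x ≠ x₂ := fun hh => hmv w₂ hw₂ h2p h2q (by rw [hx₂]; exact hh.symm)
    have had : x ≠ x₃ := fun hh => hmv _ hw₃ h3p h3q (by rw [hx₃]; exact hh.symm)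
    refine ⟨hab, hac, had, ?_, ?_, ?_⟩
    · intro hh
      apply had
      have : w₁ • x₁ = w₁ • x₂ := congrArg (fun y => w₁ • y) hh
      rw [e11, e12] at this
      exact this
    · intro hh
      apply hac
      have : w₁ • x₁ = w₁ • x₃ := congrArg (fun y => w₁ • y) hh
      rw [e11, e13] at this
      exact this
    · intro hh
      apply hab
      have : w₂ • x₂ = w₂ • x₃ := congrArg (fun y => w₂ • y) hh
      rw [e22, e23] at this
      exact this
  have hKodd := h.odd x x₁ x₂ x₃ hD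
  have hN1 : w₁ ∈ Subgroup.normalizer (St4 G x x₁ x₂ x₃ : Set G) := by
    apply inv_mem_normalizer hw₁
    rintro y (rfl | rfl | rfl | rfl)
    · exact Or.inr (Or.inl hx₁)
    · exact Or.inl e11
    · exact Or.inr (Or.inr (Or.inr e12))
    · exact Or.inr (Or.inr (Or.inl e13))
  have hN2 : w₂ ∈ Subgroup.normalizer (St4 G x x₁ x₂ x₃ : Set G) := by
    apply inv_mem_normalizer hw₂
    rintro y (rfl | rfl | rfl | rfl)
    · exact Or.inr (Or.inr (Or.inl hx₂))
    · exact Or.inr (Or.inr (Or.inr e21))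
    · exact Or.inl e22
    · exact Or.inr (Or.inl e23)
  have hgen := bw_gen (St4 G x x₁ x₂ x₃) hKodd w₁ w₂ hw₁ hw₂ hcomm hne hN1 hN2
  -- `K` fixes `p`
  have hKp : ∀ g ∈ St4 G x x₁ x₂ x₃, g • p = p := by
    have hle : St4 G x x₁ x₂ x₃ ≤ stabilizer G p := by
      rw [← hgen]
      refine sup_le (sup_le ?_ ?_) ?_
      · intro g hg
        exact mem_stabilizer_iff.mpr (cen_fix hphi hKodd hw₁ hpq h1p h1q hg).1
      · intro g hg
        exact mem_stabilizer_iff.mpr (cen_fix hphi hKodd hw₃ hpq h3p h3q hg).1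
      · intro g hg
        exact mem_stabilizer_iff.mpr (cen_fix hphi hKodd hw₂ hpq h2p h2q hg).1
    intro g hg
    exact mem_stabilizer_iff.mp (hle hg)
  -- membership in `Phi`
  have hPx : x ∈ Phi α (St4 G x x₁ x₂ x₃) := fun g hg => (mem_St4.mp hg).1
  have hPx₁ : x₁ ∈ Phi α (St4 G x x₁ x₂ x₃) := fun g hg => (mem_St4.mp hg).2.1
  have hPx₂ : x₂ ∈ Phi α (St4 G x x₁ x₂ x₃) := fun g hg => (mem_St4.mp hg).2.2.1
  have hPx₃ : x₃ ∈ Phi α (St4 G x x₁ x₂ x₃) := fun g hg => (mem_St4.mp hg).2.2.2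
  have hPp : p ∈ Phi α (St4 G x x₁ x₂ x₃) := hKp
  have hpx : p ≠ x := hxp.symm
  have hpx₁ : p ≠ x₁ := fun hh => hnp w₁ hw₁ h1p (by rw [hx₁]; exact hh.symm)
  have hpx₂ : p ≠ x₂ := fun hh => hnp w₂ hw₂ h2p (by rw [hx₂]; exact hh.symm)
  have hpx₃ : p ≠ x₃ := fun hh => hnp _ hw₃ h3p (by rw [hx₃]; exact hh.symm)
  -- the finset of fixed points of `K`
  obtain ⟨F, hF⟩ : ∃ F : Finset α, ∀ z, z ∈ F ↔ z ∈ Phi α (St4 G x x₁ x₂ x₃) :=
    ⟨Finset.univ.filter (fun z => z ∈ Phi α (St4 G x x₁ x₂ x₃)), fun z => by simp⟩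
  have hFcard : Nat.card (Phi α (St4 G x x₁ x₂ x₃)) = F.card := by
    rw [Nat.card_coe_set_eq, ← Set.ncard_coe_finset]
    congr 1
    ext z
    exact (hF z).symm
  have h5 : 5 ≤ F.card := by
    have hsub : ({p, x, x₁, x₂, x₃} : Finset α) ⊆ F := by
      intro y hy
      simp only [Finset.mem_insert, Finset.mem_singleton] at hy
      rw [hF]
      rcases hy with rfl | rfl | rfl | rfl | rfl
      · exact hPp
      · exact hPx
      · exact hPx₁
      · exact hPx₂
      · exact hPx₃
    have hc : ({p, x, x₁, x₂, x₃} : Finset α).card = 5 := by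
      rw [Finset.card_insert_of_notMem, Finset.card_insert_of_notMem, Finset.card_insert_of_notMem,
        Finset.card_pair hD.cd]
      · simp only [Finset.mem_insert, Finset.mem_singleton]
        push Not
        exact ⟨hD.bc, hD.bd⟩
      · simp only [Finset.mem_insert, Finset.mem_singleton]
        push Not
        exact ⟨hD.ab, hD.ac, hD.ad⟩
      · simp only [Finset.mem_insert, Finset.mem_singleton]
        push Not
        exact ⟨hpx, hpx₁, hpx₂, hpx₃⟩
    rw [← hc]
    exact Finset.card_le_card hsub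
  -- the four-group data on `{x,x₁,x₂,x₃}`
  obtain ⟨a, c, hV⟩ := Hv hD
  have ha := hV.ia
  obtain ⟨a1, a2, a3, a4⟩ := hV.ta
  have hNa : a ∈ Subgroup.normalizer (St4 G x x₁ x₂ x₃ : Set G) := by
    apply inv_mem_normalizer ha
    rintro y (rfl | rfl | rfl | rfl)
    · exact Or.inr (Or.inl a1)
    · exact Or.inl a2
    · exact Or.inr (Or.inr (Or.inl a3))
    · exact Or.inr (Or.inr (Or.inr a4))
  have hfixa : ∀ z : α, a • z = z → z = x₂ ∨ z = x₃ := fun z hz =>
    fix_two hphi ha hD.cd a3 a4 hz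
  have hFst : ∀ z ∈ F, a • z ∈ F := by
    intro z hz
    rw [hF] at hz ⊢
    exact Phi_stable ha hNa hz
  have hpar := card_mod_two_of_invol ha F hFst
  have hfilt : (F.filter (fun z => a • z = z)) = {x₂, x₃} := by
    ext z
    rw [Finset.mem_filter, Finset.mem_insert, Finset.mem_singleton]
    constructor
    · rintro ⟨_, hz⟩; exact hfixa z hz
    · rintro (rfl | rfl)
      · exact ⟨(hF _).mpr hPx₂, a3⟩
      · exact ⟨(hF _).mpr hPx₃, a4⟩
  rw [hfilt, Finset.card_pair hD.cd] at hpar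
  have h6 : F.card = 6 := by
    have := Hcard hD
    rw [hFcard] at this
    omega
  -- the two further fixed points
  have hsub4 : ({x, x₁, x₂, x₃} : Finset α) ⊆ F := by
    intro y hy
    simp only [Finset.mem_insert, Finset.mem_singleton] at hy
    rw [hF]
    rcases hy with rfl | rfl | rfl | rfl
    · exact hPx
    · exact hPx₁
    · exact hPx₂
    · exact hPx₃
  have hc4 : ({x, x₁, x₂, x₃} : Finset α).card = 4 := by
    rw [Finset.card_insert_of_notMem, Finset.card_insert_of_notMem, Finset.card_pair hD.cd]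
    · simp only [Finset.mem_insert, Finset.mem_singleton]
      push Not
      exact ⟨hD.bc, hD.bd⟩
    · simp only [Finset.mem_insert, Finset.mem_singleton]
      push Not
      exact ⟨hD.ab, hD.ac, hD.ad⟩
  have hE2 : (F \ {x, x₁, x₂, x₃}).card = 2 := by
    rw [Finset.card_sdiff_of_subset hsub4, h6, hc4]
  obtain ⟨u, u', huu', hE⟩ := Finset.card_eq_two.mp hE2
  have hmemE : ∀ z, z ∈ F \ {x, x₁, x₂, x₃} ↔
      (z ∈ F ∧ z ≠ x ∧ z ≠ x₁ ∧ z ≠ x₂ ∧ z ≠ x₃) := by
    intro z
    simp only [Finset.mem_sdiff, Finset.mem_insert, Finset.mem_singleton]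
    push Not
    rfl
  have hu : u ∈ F \ {x, x₁, x₂, x₃} := by rw [hE]; simp
  have hu' : u' ∈ F \ {x, x₁, x₂, x₃} := by rw [hE]; simp
  obtain ⟨huF, hux, hux₁, hux₂, hux₃⟩ := (hmemE u).mp hu
  obtain ⟨hu'F, hu'x, hu'x₁, hu'x₂, hu'x₃⟩ := (hmemE u').mp hu'
  -- `a` swaps `u` and `u'`
  have hau_ne : a • u ≠ u := by
    intro hh
    rcases hfixa u hh with h' | h'
    · exact hux₂ h'
    · exact hux₃ h'
  have hauE : a • u ∈ F \ {x, x₁, x₂, x₃} := by
    rw [hmemE]
    refine ⟨hFst u huF, ?_, ?_, ?_, ?_⟩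
    · intro hh
      apply hux₁
      have := smul_smul_self ha u
      rw [hh, a1] at this
      exact this.symm
    · intro hh
      apply hux
      have := smul_smul_self ha u
      rw [hh, a2] at this
      exact this.symm
    · intro hh
      apply hux₂
      have := smul_smul_self ha u
      rw [hh, a3] at this
      exact this.symm
    · intro hh
      apply hux₃
      have := smul_smul_self ha u
      rw [hh, a4] at this
      exact this.symm
  have hau : a • u = u' := by
    rw [hE, Finset.mem_insert, Finset.mem_singleton] at hauE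
    rcases hauE with h' | h'
    · exact absurd h' hau_ne
    · exact h'
  -- the second 4-set
  have hD2 : D4 x x₁ u u' := ⟨hD.ab, fun hh => hux hh.symm, fun hh => hu'x hh.symm,
    fun hh => hux₁ hh.symm, fun hh => hu'x₁ hh.symm, huu'⟩
  have hSt := Hst hD hD2 hPx hPx₁ ((hF u).mp huF) ((hF u').mp hu'F)
  have hstar := Hstar ha (f₁ := x₂) (f₂ := x₃) (x := x) (y := u) a3 a4 hD.cd
    (by rw [a1]; exact hD.ab.symm) hau_ne hux (by rw [a1]; exact hux₁)
  rw [a1, hau, hSt, hphi a ha] at hstar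
  have hpos : 0 < Nat.card (cen (St4 G x x₁ x₂ x₃) a) := Nat.card_pos
  have h2 : 2 * (2 - 1) = Fintype.card α - 2 - 2 := Nat.eq_of_mul_eq_mul_right hpos hstar
  omega

end Cfsg.Agent.Helper26.MH.P2A
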