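import Mathlib
import Cfsg.Agent.Lib.Helper26.MHDefs
import Cfsg.Agent.Lib.Helper16.MHP2ACore
import Cfsg.Agent.Lib.Helper1.MHWITT
import Cfsg.Agent.Lib.Helper1.MHSTAR
import Cfsg.Agent.Lib.Helper23.MHVGRP

/-!
# S4221 piece P2A (helper16): `φ = 2`, a four-group in a two-point stabilizer is impossible
-/

set_option autoImplicit false
set_option linter.unusedSectionVars false

namespace Cfsg.Agent.Helper26.MH

open MulAction Cfsg.Agent.Helper22.SharpFour

variable {G : Type*} [Group G] [Finite G] {α : Type*} [Fintype α] [DecidableEq α] [MulAction G α]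

theorem phi_two_four_group (h : Hall G α) (h8 : 8 ≤ Fintype.card α)
    (hphi : ∀ t : G, IsInv t → (fixF α t).card = 2) {p q : α} (hpq : p ≠ q) {w₁ w₂ : G}
    (hw₁ : IsInv w₁) (hw₂ : IsInv w₂) (hne : w₁ ≠ w₂) (hcomm : w₁ * w₂ = w₂ * w₁)
    (h1p : w₁ • p = p) (h1q : w₁ • q = q) (h2p : w₂ • p = p) (h2q : w₂ • q = q) : False :=
  P2A.core h h8 hphi (fun hd => card_Phi h hd)
    (fun hd hd' hp hq hr hs => St4_eq_of_fixed h hd hd' hp hq hr hs)
    (fun hd => exists_vdata h hd)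
    (fun ht _ _ _ _ hf₁ hf₂ hf hx hy hyx hyx' => star h h8 ht hf₁ hf₂ hf hx hy hyx hyx')
    hpq hw₁ hw₂ hne hcomm h1p h1q h2p h2q

end Cfsg.Agent.Helper26.MH
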