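import Mathlib

/-!
# Towards normal four-subgroups of `2`-groups of rank at least three (helper16)

Arithmetic and cyclic-group preliminaries.
-/

set_option autoImplicit false

namespace Cfsg.Agent.Helper16

namespace NormalFour

/-- If `2 ^ n ∣ k ^ 2 - 1` then `2 ^ n ∣ 2 (k - 1)` or `2 ^ n ∣ 2 (k + 1)`. -/
theorem two_pow_dvd_cases (n : ℕ) (k : ℤ) (h : (2 : ℤ) ^ n ∣ k ^ 2 - 1) :
    (2 : ℤ) ^ n ∣ 2 * (k - 1) ∨ (2 : ℤ) ^ n ∣ 2 * (k + 1) := by
  rcases Nat.eq_zero_or_pos n with rfl | hn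
  · left; simp
  have hodd : Odd k := by
    have h2 : (2 : ℤ) ∣ k ^ 2 - 1 := dvd_trans (dvd_pow_self 2 hn.ne') h
    rcases Int.even_or_odd k with hk | hk
    · exfalso
      obtain ⟨m, rfl⟩ := hk
      have e : (m + m) ^ 2 - 1 = 2 * (2 * m ^ 2) - 1 := by ring
      rw [e] at h2
      omega
    · exact hk
  obtain ⟨m, rfl⟩ := hodd
  have e : (2 * m + 1) ^ 2 - 1 = m * (4 * (m + 1)) := by ring
  have e' : (2 * m + 1) ^ 2 - 1 = (m + 1) * (4 * m) := by ring
  rcases Int.even_or_odd m with hm | hm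
  · left
    have hc : IsCoprime ((2 : ℤ) ^ n) (m + 1) := (Int.isCoprime_two_left.2 hm.add_one).pow_left
    rw [e'] at h
    have := hc.dvd_of_dvd_mul_left h
    have e2 : (2 : ℤ) * (2 * m + 1 - 1) = 4 * m := by ring
    rw [e2]; exact this
  · right
    have hc : IsCoprime ((2 : ℤ) ^ n) m := (Int.isCoprime_two_left.2 hm).pow_left
    rw [e] at h
    have := hc.dvd_of_dvd_mul_left h
    have e2 : (2 : ℤ) * (2 * m + 1 + 1) = 4 * (m + 1) := by ring
    rw [e2]; exact this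

/-- If `2 ^ n ∣ 2 (k - 1)`, `n ≥ 3` and `2 ^ n ∣ i (k + 1)` then `2 ^ n ∣ 2 i`. -/
theorem two_pow_dvd_two_mul (n : ℕ) (hn : 3 ≤ n) (k i : ℤ) (h1 : (2 : ℤ) ^ n ∣ 2 * (k - 1))
    (h2 : (2 : ℤ) ^ n ∣ i * (k + 1)) : (2 : ℤ) ^ n ∣ 2 * i := by
  obtain ⟨n', rfl⟩ : ∃ n', n = n' + 3 := ⟨n - 3, by omega⟩
  obtain ⟨c, hc⟩ := h1
  -- k - 1 = 2 ^ (n' + 2) * c
  have hk : k = 2 ^ (n' + 2) * c + 1 := by
    have : (2 : ℤ) * (k - 1) = 2 * (2 ^ (n' + 2) * c) := by rw [hc]; ring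
    have := mul_left_cancel₀ (two_ne_zero) this
    linarith
  have hk1 : k + 1 = 2 * (2 * (2 ^ n' * c) + 1) := by rw [hk]; ring
  have hodd : Odd (2 * ((2 : ℤ) ^ n' * c) + 1) := ⟨_, rfl⟩
  have hcop : IsCoprime ((2 : ℤ) ^ (n' + 3)) (2 * ((2 : ℤ) ^ n' * c) + 1) :=
    (Int.isCoprime_two_left.2 hodd).pow_left
  rw [hk1] at h2
  have h3 : (2 : ℤ) ^ (n' + 3) ∣ (2 * i) * (2 * ((2 : ℤ) ^ n' * c) + 1) := by
    convert h2 using 1; ring
  exact hcop.dvd_of_dvd_mul_right h3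

variable {P : Type*} [Group P]

/-- Conjugation by `e` acts on `⟨a⟩` as the `k`-th power map if it does so on `a`. -/
theorem conj_zpowers (a e : P) (k : ℤ) (h : e * a * e⁻¹ = a ^ k) :
    ∀ x ∈ Subgroup.zpowers a, e * x * e⁻¹ = x ^ k := by
  intro x hx
  obtain ⟨j, rfl⟩ := Subgroup.mem_zpowers_iff.1 hx
  have h1 : e * a ^ j * e⁻¹ = (e * a * e⁻¹) ^ j := by
    have := map_zpow (MulAut.conj e) a j
    simpa [MulAut.conj_apply] using this
  rw [h1, h, ← zpow_mul, ← zpow_mul, mul_comm]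

/-- An element commuting with `a` centralizes `⟨a⟩`. -/
theorem mem_centralizer_zpowers (a e : P) (h : e * a = a * e) :
    e ∈ Subgroup.centralizer (Subgroup.zpowers a : Set P) := by
  rw [Subgroup.mem_centralizer_iff]
  intro x hx
  obtain ⟨j, rfl⟩ := Subgroup.mem_zpowers_iff.1 (SetLike.mem_coe.1 hx)
  have hc : Commute e a := h
  exact (hc.zpow_right j).eq.symm

/-- In a cyclic subgroup there is at most one involution. -/
theorem involution_unique [Finite P] (a : P) (x y : P) (hx : x ∈ Subgroup.zpowers a)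
    (hy : y ∈ Subgroup.zpowers a) (hx2 : x ^ 2 = 1) (hy2 : y ^ 2 = 1) (hx1 : x ≠ 1) (hy1 : y ≠ 1) :
    x = y := by
  classical
  have : Fintype ↥(Subgroup.zpowers a) := Fintype.ofFinite _
  have hle := IsCyclic.card_pow_eq_one_le (α := ↥(Subgroup.zpowers a)) (n := 2) two_pos
  by_contra hne
  have hsub : ({1, ⟨x, hx⟩, ⟨y, hy⟩} : Finset ↥(Subgroup.zpowers a)) ⊆
      Finset.univ.filter (fun b => b ^ 2 = 1) := by
    intro b hb
    simp only [Finset.mem_insert, Finset.mem_singleton] at hb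
    simp only [Finset.mem_filter, Finset.mem_univ, true_and]
    rcases hb with rfl | rfl | rfl
    · simp
    · exact Subtype.ext (by simpa using hx2)
    · exact Subtype.ext (by simpa using hy2)
  have hcard : ({1, ⟨x, hx⟩, ⟨y, hy⟩} : Finset ↥(Subgroup.zpowers a)).card = 3 := by
    rw [Finset.card_eq_three]
    exact ⟨1, ⟨x, hx⟩, ⟨y, hy⟩, fun h => hx1 (congrArg Subtype.val h).symm,
      fun h => hy1 (congrArg Subtype.val h).symm, fun h => hne (congrArg Subtype.val h), rfl⟩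
  have := Finset.card_le_card hsub
  omega

end NormalFour

end Cfsg.Agent.Helper16
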