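import Mathlib
import Cfsg.Agent.Lib.Helper16.NormalFourA

/-!
# Normal four-subgroups: the case of a cyclic self-centralizing normal subgroup (helper16)
-/

set_option autoImplicit false

namespace Cfsg.Agent.Helper16

namespace NormalFour

variable {P : Type*} [Group P] [Finite P]

/-- Two elements of `A` (of order `8`) which, together with their product, avoid a normal subgroup
meeting `A` in at most two elements. -/
theorem exists_pair_not_mem (N A : Subgroup P) [hN : N.Normal] (hA8 : Nat.card A = 8)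
    (hNA : Nat.card (N ⊓ A : Subgroup P) ≤ 2) :
    ∃ e₁ ∈ A, ∃ e₂ ∈ A, e₁ ∉ N ∧ e₂ ∉ N ∧ e₁ * e₂ ∉ N := by
  classical
  set T : Subgroup A := N.subgroupOf A with hT
  have hTc : Nat.card T ≤ 2 := by
    rw [hT, ← Subgroup.inf_subgroupOf_right,
      Nat.card_congr (Subgroup.subgroupOfEquivOfLe (inf_le_right : N ⊓ A ≤ A)).toEquiv]
    exact hNA
  have hQ : 4 ≤ Nat.card (A ⧸ T) := by
    have h1 := Subgroup.card_eq_card_quotient_mul_card_subgroup T
    rw [hA8] at h1
    by_contra hlt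
    push Not at hlt
    have hpos : 0 < Nat.card T := Nat.card_pos
    nlinarith
  have : Fintype (A ⧸ T) := Fintype.ofFinite _
  rw [Nat.card_eq_fintype_card] at hQ
  obtain ⟨q₁, hq₁⟩ : ∃ q₁ : A ⧸ T, q₁ ≠ 1 := Fintype.exists_ne_of_one_lt_card (by omega) 1
  obtain ⟨q₂, -, hq₂⟩ := Finset.exists_mem_notMem_of_card_lt_card
    (s := ({1, q₁⁻¹} : Finset (A ⧸ T))) (t := Finset.univ) (by
      have := Finset.card_le_two (a := (1 : A ⧸ T)) (b := q₁⁻¹)
      rw [Finset.card_univ]; omega)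
  simp only [Finset.mem_insert, Finset.mem_singleton, not_or] at hq₂
  obtain ⟨e₁, rfl⟩ := QuotientGroup.mk_surjective q₁
  obtain ⟨e₂, rfl⟩ := QuotientGroup.mk_surjective q₂
  refine ⟨e₁.1, e₁.2, e₂.1, e₂.2, ?_, ?_, ?_⟩
  · intro h
    apply hq₁
    rw [QuotientGroup.eq_one_iff]
    exact Subgroup.mem_subgroupOf.2 h
  · intro h
    apply hq₂.1
    rw [QuotientGroup.eq_one_iff]
    exact Subgroup.mem_subgroupOf.2 h
  · intro h
    apply hq₂.2
    rw [← mul_eq_one_iff_eq_inv', ← QuotientGroup.mk_mul, QuotientGroup.eq_one_iff]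
    exact Subgroup.mem_subgroupOf.2 (by simpa using h)

/-- A finite `2`-group with a cyclic self-centralizing normal subgroup and an elementary abelian
subgroup of order `8` has a normal four-subgroup. -/
theorem cyclic_case (hP : IsPGroup 2 P) (a : P) (hN : (Subgroup.zpowers a).Normal)
    (hC : Subgroup.centralizer (Subgroup.zpowers a : Set P) = Subgroup.zpowers a)
    (A : Subgroup P) (hA8 : Nat.card A = 8) (hA2 : ∀ x ∈ A, x ^ 2 = 1) :
    ∃ U : Subgroup P, U.Normal ∧ Nat.card U = 4 ∧ ∀ u ∈ U, u ^ 2 = 1 := by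
  classical
  set N := Subgroup.zpowers a with hNdef
  obtain ⟨n, hao⟩ := IsPGroup.iff_orderOf.1 hP a
  have haN : a ∈ N := Subgroup.mem_zpowers a
  -- involutions of `N` are central
  have hcent : ∀ t ∈ N, t ^ 2 = 1 → ∀ s : P, s * t * s⁻¹ = t := by
    intro t ht ht2 s
    by_cases ht1 : t = 1
    · rw [ht1]; group
    · refine involution_unique a _ _ (hN.conj_mem t ht s) ht ?_ ht2 ?_ ht1
      · rw [conj_pow, ht2]; group
      · intro h
        apply ht1
        have := congrArg (fun y => s⁻¹ * y * s) h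
        simpa [mul_assoc] using this
  -- elements outside `N` do not commute with `a`
  have hncomm : ∀ e : P, e ∉ N → e * a * e⁻¹ ≠ a := by
    intro e he h
    apply he
    rw [← hC]
    apply mem_centralizer_zpowers
    calc e * a = (e * a * e⁻¹) * e := by group
      _ = a * e := by rw [h]
  -- action of involutions on `a`
  have hact : ∀ e : P, e ^ 2 = 1 → ∃ k : ℤ, e * a * e⁻¹ = a ^ k ∧
      (a ^ (2 * (k - 1)) = 1 ∨ a ^ (2 * (k + 1)) = 1) := by
    intro e he
    have hmem : e * a * e⁻¹ ∈ N := hN.conj_mem a haN e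
    obtain ⟨k, hk⟩ := Subgroup.mem_zpowers_iff.1 hmem
    refine ⟨k, hk.symm, ?_⟩
    have hconj := conj_zpowers a e k hk.symm
    have hinv : e⁻¹ = e := by
      rw [inv_eq_iff_mul_eq_one, ← pow_two]; exact he
    have h1 : e * (e * a * e⁻¹) * e⁻¹ = a := by
      rw [hinv]
      calc e * (e * a * e) * e = (e * e) * a * (e * e) := by group
        _ = a := by rw [← pow_two, he]; group
    have h2 : a ^ (k * k) = a := by
      rw [zpow_mul, ← hconj (a ^ k) (Subgroup.zpow_mem_zpowers a k), hk, h1]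
    have h3 : a ^ (k ^ 2 - 1) = 1 := by
      rw [zpow_sub, zpow_one, pow_two, h2, mul_inv_cancel]
    have h4 : ((orderOf a : ℕ) : ℤ) ∣ k ^ 2 - 1 := orderOf_dvd_iff_zpow_eq_one.2 h3
    rw [hao] at h4
    have h5 : (2 : ℤ) ^ n ∣ k ^ 2 - 1 := by exact_mod_cast h4
    rcases two_pow_dvd_cases n k h5 with h6 | h6
    · left
      apply orderOf_dvd_iff_zpow_eq_one.1
      rw [hao]; exact_mod_cast h6
    · right
      apply orderOf_dvd_iff_zpow_eq_one.1
      rw [hao]; exact_mod_cast h6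
  -- `N ⊓ A` has at most two elements
  have hNA : Nat.card (N ⊓ A : Subgroup P) ≤ 2 := by
    by_contra hlt
    push Not at hlt
    have : Fintype ↥(N ⊓ A) := Fintype.ofFinite _
    rw [Nat.card_eq_fintype_card] at hlt
    obtain ⟨x, y, w, hxy, hxw, hyw⟩ := Fintype.two_lt_card_iff.1 hlt
    have hsq : ∀ v : ↥(N ⊓ A), (v : P) ^ 2 = 1 := fun v => hA2 _ v.2.2
    have hmem : ∀ v : ↥(N ⊓ A), (v : P) ∈ N := fun v => v.2.1
    have key : ∀ u v : ↥(N ⊓ A), (u : P) ≠ 1 → (v : P) ≠ 1 → u = v := by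
      intro u v hu hv
      exact Subtype.ext (involution_unique a _ _ (hmem u) (hmem v) (hsq u) (hsq v) hu hv)
    by_cases hx1 : (x : P) = 1
    · have hy1 : (y : P) ≠ 1 := fun h => hxy (Subtype.ext (hx1.trans h.symm))
      have hw1 : (w : P) ≠ 1 := fun h => hxw (Subtype.ext (hx1.trans h.symm))
      exact hyw (key y w hy1 hw1)
    · by_cases hy1 : (y : P) = 1
      · have hw1 : (w : P) ≠ 1 := fun h => hyw (Subtype.ext (hy1.trans h.symm))
        exact hxw (key x w hx1 hw1)
      · exact hxy (key x y hx1 hy1)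
  obtain ⟨e₁, he₁A, e₂, he₂A, he₁N, he₂N, he₁₂N⟩ := exists_pair_not_mem N A hA8 hNA
  have he₁2 := hA2 e₁ he₁A
  have he₂2 := hA2 e₂ he₂A
  obtain ⟨k₁, hk₁, hk₁'⟩ := hact e₁ he₁2
  obtain ⟨k₂, hk₂, hk₂'⟩ := hact e₂ he₂2
  have hk₁₂ : (e₁ * e₂) * a * (e₁ * e₂)⁻¹ = a ^ (k₂ * k₁) := by
    have h1 : (e₁ * e₂) * a * (e₁ * e₂)⁻¹ = e₁ * (e₂ * a * e₂⁻¹) * e₁⁻¹ := by group
    rw [h1, hk₂, conj_zpowers a e₁ k₁ hk₁ _ (Subgroup.zpow_mem_zpowers a k₂), ← zpow_mul]
  have hsq_zpow : ∀ m : ℤ, (a ^ m) ^ 2 = a ^ (2 * m) := by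
    intro m
    rw [← zpow_natCast, ← zpow_mul]
    congr 1
    push_cast; ring
  -- `a ^ 4 ≠ 1`
  have ha4 : a ^ 4 ≠ 1 := by
    intro h4
    have hw2 : (a ^ 2) ^ 2 = 1 := by rw [← pow_mul]; exact h4
    have hwN : a ^ 2 ∈ N := Subgroup.pow_mem _ haN 2
    by_cases hw1 : a ^ 2 = 1
    · exact hncomm e₁ he₁N (hcent a haN hw1 e₁)
    · have hinvcase : ∀ (e : P) (k : ℤ), e ∉ N → e * a * e⁻¹ = a ^ k →
          (a ^ (2 * (k - 1)) = 1 ∨ a ^ (2 * (k + 1)) = 1) → a ^ k = a⁻¹ := by
        intro e k heN hek hcase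
        have hne : a ^ k ≠ a := fun h => hncomm e heN (hek.trans h)
        rcases hcase with h | h
        · have ht2 : (a ^ (k - 1)) ^ 2 = 1 := by rw [hsq_zpow]; exact h
          have ht1 : a ^ (k - 1) ≠ 1 := by
            intro h1
            apply hne
            have : a ^ k = a ^ (k - 1) * a := by rw [← zpow_add_one]; congr 1; ring
            rw [this, h1, one_mul]
          have := involution_unique a _ _ (Subgroup.zpow_mem_zpowers a (k - 1)) hwN ht2 hw2 ht1 hw1
          have h3 : a ^ k = a ^ (k - 1) * a := by rw [← zpow_add_one]; congr 1; ring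
          rw [h3, this, eq_inv_iff_mul_eq_one]
          calc a ^ 2 * a * a = a ^ 4 := by group
            _ = 1 := h4
        · have ht2 : (a ^ (k + 1)) ^ 2 = 1 := by rw [hsq_zpow]; exact h
          by_cases hc1 : a ^ (k + 1) = 1
          · rw [zpow_add_one] at hc1
            exact eq_inv_of_mul_eq_one_left hc1
          · exfalso
            apply hne
            have := involution_unique a _ _ (Subgroup.zpow_mem_zpowers a (k + 1)) hwN ht2 hw2 hc1 hw1
            rw [zpow_add_one] at this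
            have h5 : a ^ k = a ^ 2 * a⁻¹ := by rw [← this]; group
            rw [h5]; group
      have h1 := hinvcase e₁ k₁ he₁N hk₁ hk₁'
      have h2 := hinvcase e₂ k₂ he₂N hk₂ hk₂'
      apply hncomm (e₁ * e₂) he₁₂N
      rw [hk₁₂, zpow_mul, h2, inv_zpow, h1, inv_inv]
  have hn3 : 3 ≤ n := by
    by_contra hlt
    push Not at hlt
    apply ha4
    have : orderOf a ∣ 4 := by
      rw [hao]
      exact pow_dvd_pow 2 (by omega : n ≤ 2)
    exact orderOf_dvd_iff_pow_eq_one.1 this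
  -- a good element
  obtain ⟨e, k, heA, heN, hek, hgood⟩ : ∃ (e : P) (k : ℤ), e ∈ A ∧ e ∉ N ∧ e * a * e⁻¹ = a ^ k ∧
      a ^ (2 * (k - 1)) = 1 := by
    rcases hk₁' with h | h1
    · exact ⟨e₁, k₁, he₁A, he₁N, hk₁, h⟩
    rcases hk₂' with h | h2
    · exact ⟨e₂, k₂, he₂A, he₂N, hk₂, h⟩
    refine ⟨e₁ * e₂, k₂ * k₁, A.mul_mem he₁A he₂A, he₁₂N, hk₁₂, ?_⟩
    have e3 : (2 : ℤ) * (k₂ * k₁ - 1)
        = (2 * (k₁ + 1)) * (k₂ + 1) - 2 * (k₁ + 1) - 2 * (k₂ + 1) := by ring
    rw [e3, zpow_sub, zpow_sub, zpow_mul, h1, h2, one_zpow]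
    simp
  have he2 : e ^ 2 = 1 := hA2 e heA
  have heinv : e⁻¹ = e := by
    rw [inv_eq_iff_mul_eq_one, ← pow_two]; exact he2
  set t : P := a ^ (k - 1) with ht
  have htN : t ∈ N := Subgroup.zpow_mem_zpowers a (k - 1)
  have ht2 : t ^ 2 = 1 := by rw [ht, hsq_zpow]; exact hgood
  have hak : a ^ k = t * a := by rw [ht, ← zpow_add_one]; congr 1; ring
  have ht1 : t ≠ 1 := by
    intro h1
    apply hncomm e heN
    rw [hek, hak, h1, one_mul]
  have htc : ∀ s : P, s * t * s⁻¹ = t := hcent t htN ht2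
  have hcomm : Commute e t := by
    have := htc e
    show e * t = t * e
    calc e * t = (e * t * e⁻¹) * e := by group
      _ = t * e := by rw [this]
  have htinv : t⁻¹ = t := by
    rw [inv_eq_iff_mul_eq_one, ← pow_two]; exact ht2
  let U : Subgroup P :=
    { carrier := {x | ∃ i j : ℕ, x = e ^ i * t ^ j}
      mul_mem' := by
        rintro x y ⟨i, j, rfl⟩ ⟨i', j', rfl⟩
        refine ⟨i + i', j + j', ?_⟩
        have hc : t ^ j * e ^ i' = e ^ i' * t ^ j := ((hcomm.pow_pow i' j).eq).symm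
        calc e ^ i * t ^ j * (e ^ i' * t ^ j') = e ^ i * (t ^ j * e ^ i') * t ^ j' := by group
          _ = e ^ i * (e ^ i' * t ^ j) * t ^ j' := by rw [hc]
          _ = e ^ (i + i') * t ^ (j + j') := by rw [pow_add, pow_add]; group
      one_mem' := ⟨0, 0, by simp⟩
      inv_mem' := by
        rintro x ⟨i, j, rfl⟩
        refine ⟨i, j, ?_⟩
        rw [mul_inv_rev, ← inv_pow, ← inv_pow, heinv, htinv]
        exact ((hcomm.pow_pow i j).eq).symm }
  have hUmem : ∀ x, x ∈ U ↔ ∃ i j : ℕ, x = e ^ i * t ^ j := fun x => Iff.rfl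
  have heU : e ∈ U := (hUmem e).2 ⟨1, 0, by simp⟩
  have htU : t ∈ U := (hUmem t).2 ⟨0, 1, by simp⟩
  have hetU : e * t ∈ U := (hUmem _).2 ⟨1, 1, by simp⟩
  -- exponent two
  have hU2 : ∀ u ∈ U, u ^ 2 = 1 := by
    intro u hu
    obtain ⟨i, j, rfl⟩ := (hUmem u).1 hu
    rw [(hcomm.pow_pow i j).mul_pow, ← pow_mul, ← pow_mul, mul_comm i, mul_comm j, pow_mul,
      pow_mul, he2, ht2, one_pow, one_pow, one_mul]
  -- cardinality
  have hU4 : Nat.card U = 4 := by
    have hle : Nat.card U ≤ 4 := by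
      let f : Fin 2 × Fin 2 → U := fun ij => ⟨e ^ (ij.1 : ℕ) * t ^ (ij.2 : ℕ), (hUmem _).2 ⟨_, _, rfl⟩⟩
      have hf : Function.Surjective f := by
        rintro ⟨x, hx⟩
        obtain ⟨i, j, rfl⟩ := (hUmem x).1 hx
        refine ⟨(⟨i % 2, Nat.mod_lt _ two_pos⟩, ⟨j % 2, Nat.mod_lt _ two_pos⟩), ?_⟩
        apply Subtype.ext
        show e ^ (i % 2) * t ^ (j % 2) = e ^ i * t ^ j
        rw [← pow_eq_pow_mod i he2, ← pow_eq_pow_mod j ht2]
      have := Nat.card_le_card_of_surjective f hf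
      simpa using this
    have hzt : Subgroup.zpowers t ≤ U := Subgroup.zpowers_le.2 htU
    have hct : Nat.card (Subgroup.zpowers t) = 2 := by
      rw [Nat.card_zpowers]
      exact orderOf_eq_prime ht2 ht1
    have hdvd : 2 ∣ Nat.card U := by
      rw [← hct]; exact Subgroup.card_dvd_of_le hzt
    have hgt : 2 < Nat.card U := by
      by_contra hle2
      push Not at hle2
      have := Subgroup.eq_of_le_of_card_ge hzt (by rw [hct]; exact hle2)
      apply heN
      have h1 : e ∈ Subgroup.zpowers t := by rw [this]; exact heU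
      exact (Subgroup.zpowers_le.2 htN) h1
    omega
  -- conjugates of `e`
  have hconjU : ∀ s : P, s * e * s⁻¹ ∈ U := by
    intro s
    set e' := s * e * s⁻¹ with he'
    -- `e'` acts on `a` as `e` does
    have h1 : e' * a * e'⁻¹ = a ^ k := by
      have hy : s⁻¹ * a * s ∈ N := by
        have := hN.conj_mem a haN s⁻¹
        simpa using this
      have h2 : e' * a * e'⁻¹ = s * (e * (s⁻¹ * a * s) * e⁻¹) * s⁻¹ := by rw [he']; group
      rw [h2, conj_zpowers a e k hek _ hy]
      have h3 : s * (s⁻¹ * a * s) ^ k * s⁻¹ = (s * (s⁻¹ * a * s) * s⁻¹) ^ k := by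
        have := map_zpow (MulAut.conj s) (s⁻¹ * a * s) k
        simpa [MulAut.conj_apply] using this
      rw [h3]
      congr 1
      group
    set b := e * e' with hb
    have hbcomm : b * a = a * b := by
      have h2 : b * a * b⁻¹ = e * (e' * a * e'⁻¹) * e⁻¹ := by rw [hb]; group
      have h3 : e * a ^ k * e⁻¹ = a := by
        have h4 : e * (e * a * e⁻¹) * e⁻¹ = a := by
          rw [heinv]
          calc e * (e * a * e) * e = (e * e) * a * (e * e) := by group
            _ = a := by rw [← pow_two, he2]; group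
        rw [← hek]; exact h4
      rw [h1, h3] at h2
      calc b * a = (b * a * b⁻¹) * b := by group
        _ = a * b := by rw [h2]
    have hbN : b ∈ N := by
      rw [← hC]
      exact mem_centralizer_zpowers a b hbcomm
    have he'2 : e' ^ 2 = 1 := by
      rw [he', conj_pow, he2]; group
    have he'b : e' = e * b := by
      rw [hb, ← mul_assoc, ← pow_two, he2, one_mul]
    have hbk : b ^ (k + 1) = 1 := by
      have h2 : e * b * (e * b) = 1 := by rw [← he'b, ← pow_two]; exact he'2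
      have h3 : e * b * e⁻¹ = b ^ k := conj_zpowers a e k hek b hbN
      rw [zpow_add_one, ← h3, heinv]
      calc e * b * e * b = e * b * (e * b) := by group
        _ = 1 := h2
    obtain ⟨i, hi⟩ := Subgroup.mem_zpowers_iff.1 hbN
    have hb2 : b ^ 2 = 1 := by
      rw [← hi, hsq_zpow]
      apply orderOf_dvd_iff_zpow_eq_one.1
      rw [hao]
      have hd1 : (2 : ℤ) ^ n ∣ 2 * (k - 1) := by
        have := orderOf_dvd_iff_zpow_eq_one.2 hgood
        rw [hao] at this
        exact_mod_cast this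
      have hd2 : (2 : ℤ) ^ n ∣ i * (k + 1) := by
        have h5 : a ^ (i * (k + 1)) = 1 := by rw [zpow_mul, hi]; exact hbk
        have := orderOf_dvd_iff_zpow_eq_one.2 h5
        rw [hao] at this
        exact_mod_cast this
      have := two_pow_dvd_two_mul n hn3 k i hd1 hd2
      exact_mod_cast this
    by_cases hb1 : b = 1
    · rw [he'b, hb1, mul_one]; exact heU
    · have := involution_unique a _ _ hbN htN hb2 ht2 hb1 ht1
      rw [he'b, this]; exact hetU
  have hUn : U.Normal := by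
    constructor
    intro x hx s
    obtain ⟨i, j, rfl⟩ := (hUmem x).1 hx
    have h1 : s * (e ^ i * t ^ j) * s⁻¹ = (s * e * s⁻¹) ^ i * (s * t * s⁻¹) ^ j := by
      rw [conj_pow, conj_pow]; group
    rw [h1, htc s]
    exact U.mul_mem (U.pow_mem (hconjU s) i) (U.pow_mem htU j)
  exact ⟨U, hUn, hU4, hU2⟩

end NormalFour

end Cfsg.Agent.Helper16
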