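import Mathlib
import Cfsg.Agent.Lib.Helper16.NormalFourB
import Cfsg.Agent.Lib.Helper16.UniqueOrderP
import Cfsg.Agent.Lib.Helper1.MaxAbelianBound
import Cfsg.Agent.Lib.Helper4.CyclicMax
import Cfsg.Agent.Lib.Helper22.OddCyclicMax

/-!
# Normal four-subgroups of `2`-groups of rank at least three (helper16)

`NormalFour.exists_normal_four`: a finite `2`-group containing an elementary abelian subgroup of
order `8` has a normal elementary abelian subgroup of order `4`.
-/

set_option autoImplicit false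

namespace Cfsg.Agent.Helper16

namespace NormalFour

variable {P : Type*} [Group P] [Finite P]

/-- A non-cyclic abelian normal subgroup of a finite `2`-group contains a normal four-subgroup of
the whole group. -/
theorem noncyclic_case (hP : IsPGroup 2 P) (N : Subgroup P) [hN : N.Normal]
    (hNc : ∀ x ∈ N, ∀ y ∈ N, x * y = y * x) (hncyc : ¬ IsCyclic N) :
    ∃ U : Subgroup P, U.Normal ∧ Nat.card U = 4 ∧ ∀ u ∈ U, u ^ 2 = 1 := by
  classical
  have hF : Fact (Nat.Prime 2) := ⟨Nat.prime_two⟩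
  -- two independent involutions
  have hnu : ¬ UniqueOrderP 2 N := by
    intro h
    exact hncyc (isCyclic_of_comm_of_uniqueOrderP (hP.to_subgroup N)
      (fun x y => Subtype.ext (hNc x x.2 y y.2)) h)
  unfold UniqueOrderP at hnu
  push Not at hnu
  obtain ⟨x, y, hx, hy, hyx⟩ := hnu
  -- `Ω₁(N)`
  let Ω : Subgroup P :=
    { carrier := {g | g ∈ N ∧ g ^ 2 = 1}
      mul_mem' := by
        rintro g h ⟨hg, hg2⟩ ⟨hh, hh2⟩
        refine ⟨N.mul_mem hg hh, ?_⟩
        have hc : Commute g h := hNc g hg h hh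
        rw [hc.mul_pow, hg2, hh2, one_mul]
      one_mem' := ⟨N.one_mem, one_pow 2⟩
      inv_mem' := by
        rintro g ⟨hg, hg2⟩
        exact ⟨N.inv_mem hg, by rw [inv_pow, hg2, inv_one]⟩ }
  have hΩmem : ∀ g, g ∈ Ω ↔ g ∈ N ∧ g ^ 2 = 1 := fun g => Iff.rfl
  haveI hΩn : Ω.Normal := by
    constructor
    intro g hg s
    obtain ⟨hgN, hg2⟩ := (hΩmem g).1 hg
    exact (hΩmem _).2 ⟨hN.conj_mem g hgN s, by rw [conj_pow, hg2]; group⟩
  have hxΩ : (x : P) ∈ Ω := by
    refine (hΩmem _).2 ⟨x.2, ?_⟩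
    have : x ^ 2 = 1 := by rw [← hx]; exact pow_orderOf_eq_one x
    simpa using congrArg Subtype.val this
  have hyΩ : (y : P) ∈ Ω := by
    refine (hΩmem _).2 ⟨y.2, ?_⟩
    have : y ^ 2 = 1 := by rw [← hy]; exact pow_orderOf_eq_one y
    simpa using congrArg Subtype.val this
  have hx1 : x ≠ 1 := by
    intro h; rw [h, orderOf_one] at hx; norm_num at hx
  have hy1 : y ≠ 1 := by
    intro h; rw [h, orderOf_one] at hy; norm_num at hy
  have hxy : y ≠ x := by
    intro h; apply hyx; rw [h]; exact Subgroup.mem_zpowers x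
  -- `Ω` has at least three elements
  have hΩ3 : 3 ≤ Nat.card Ω := by
    have : Fintype Ω := Fintype.ofFinite _
    rw [Nat.card_eq_fintype_card]
    have h3 : 2 < Fintype.card Ω := by
      rw [Fintype.two_lt_card_iff]
      refine ⟨1, ⟨x, hxΩ⟩, ⟨y, hyΩ⟩, ?_, ?_, ?_⟩
      · intro h
        apply hx1
        exact Subtype.ext (congrArg Subtype.val h).symm
      · intro h
        apply hy1
        exact Subtype.ext (congrArg Subtype.val h).symm
      · intro h
        apply hxy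
        exact Subtype.ext (congrArg Subtype.val h).symm
    omega
  have hne0 : (⊥ : Subgroup P) ≠ Ω := by
    intro h
    rw [← h, Subgroup.card_bot] at hΩ3
    omega
  obtain ⟨K₁, hK₁n, -, hK₁Ω, hK₁c⟩ :=
    Cfsg.Agent.Helper22.exists_normal_step hP Ω ⊥ bot_le hne0
  rw [Subgroup.card_bot, mul_one] at hK₁c
  haveI := hK₁n
  have hne1 : K₁ ≠ Ω := by
    intro h
    rw [h] at hK₁c
    omega
  obtain ⟨K₂, hK₂n, -, hK₂Ω, hK₂c⟩ :=
    Cfsg.Agent.Helper22.exists_normal_step hP Ω K₁ hK₁Ω hne1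
  rw [hK₁c] at hK₂c
  exact ⟨K₂, hK₂n, hK₂c, fun u hu => ((hΩmem u).1 (hK₂Ω hu)).2⟩

/-- **Normal four-subgroups.** A finite `2`-group containing an elementary abelian subgroup of
order `8` has a normal elementary abelian subgroup of order `4`. -/
theorem exists_normal_four (hP : IsPGroup 2 P) (A : Subgroup P) (hA8 : Nat.card A = 8)
    (hA2 : ∀ x ∈ A, x ^ 2 = 1) :
    ∃ U : Subgroup P, U.Normal ∧ Nat.card U = 4 ∧ ∀ u ∈ U, u ^ 2 = 1 := by
  classical
  have hF : Fact (Nat.Prime 2) := ⟨Nat.prime_two⟩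
  let 𝒜 : Set (Subgroup P) := {B | B.Normal ∧ IsMulCommutative B}
  have hfin : 𝒜.Finite := Set.toFinite 𝒜
  have hne : 𝒜.Nonempty :=
    ⟨⊥, inferInstance, ⟨⟨fun a b => Subsingleton.elim _ _⟩⟩⟩
  obtain ⟨N, ⟨hNn, hNc⟩, hmax⟩ := hfin.exists_maximal hne
  haveI := hNn
  have hC : Subgroup.centralizer (N : Set P) = N := by
    apply Cfsg.Agent.Helper1.centralizer_eq_of_max_normal_abelian hP N hNc
    intro B hBn hBc hNB
    exact le_antisymm (hmax ⟨hBn, hBc⟩ hNB) hNB
  by_cases hcyc : IsCyclic N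
  · obtain ⟨a, -, ha⟩ := Cfsg.Agent.Helper4.exists_zpowers_eq_of_isCyclic N hcyc
    subst ha
    exact cyclic_case hP a hNn hC A hA8 hA2
  · refine noncyclic_case hP N ?_ hcyc
    intro x hx y hy
    have := hNc.is_comm.comm (⟨x, hx⟩ : N) ⟨y, hy⟩
    exact congrArg Subtype.val this

end NormalFour

end Cfsg.Agent.Helper16
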