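import Mathlib
import Cfsg.Agent.Lib.Helper16.NormalFourC
import Cfsg.Agent.Lib.Helper19.PGroupBasic

/-!
# Normal four-subgroups: auxiliary statements for the rank-three transfer argument (helper16)
-/

set_option autoImplicit false

namespace Cfsg.Agent.Helper16

namespace NormalFour

/-- Elements of `⟨z⟩` for an involution `z`. -/
theorem mem_zpowers_involution {P : Type*} [Group P] {z w : P} (hz : z ^ 2 = 1)
    (hw : w ∈ Subgroup.zpowers z) : w = 1 ∨ w = z := by
  obtain ⟨j, rfl⟩ := Subgroup.mem_zpowers_iff.1 hw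
  rcases Int.even_or_odd' j with ⟨m, rfl | rfl⟩
  · left
    rw [zpow_mul, zpow_ofNat, hz, one_zpow]
  · right
    rw [zpow_add_one, zpow_mul, zpow_ofNat, hz, one_zpow, one_mul]

/-- The elements of a normal four-subgroup of a finite `2`-group. -/
theorem normal_four_elements {P : Type*} [Group P] [Finite P] (hP : IsPGroup 2 P)
    (U : Subgroup P) [hU : U.Normal] (hU4 : Nat.card U = 4) (hU2 : ∀ v ∈ U, v ^ 2 = 1) :
    ∃ z u : P, z ∈ U ∧ u ∈ U ∧ z ≠ 1 ∧ u ≠ 1 ∧ u ≠ z ∧ z ∈ Subgroup.center P ∧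
      (∀ v ∈ U, v = 1 ∨ v = z ∨ v = u ∨ v = u * z) ∧
      ∀ s : P, s * u * s⁻¹ = u ∨ s * u * s⁻¹ = u * z := by
  classical
  have hF : Fact (Nat.Prime 2) := ⟨Nat.prime_two⟩
  have hne : U ≠ ⊥ := by
    intro h
    rw [h, Subgroup.card_bot] at hU4
    omega
  have h1 := Cfsg.Agent.Helper19.normal_inf_center_ne_bot hP U hne
  obtain ⟨z₀, hz₀⟩ := (Subgroup.ne_bot_iff_exists_ne_one).1 h1
  obtain ⟨z, hzU, hzc, hz1'⟩ : ∃ z : P, z ∈ U ∧ z ∈ Subgroup.center P ∧ z ≠ 1 :=
    ⟨z₀, z₀.2.1, z₀.2.2, fun h => hz₀ (Subtype.ext h)⟩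
  have hz2 : z ^ 2 = 1 := hU2 z hzU
  have hZU : Subgroup.zpowers z ≤ U := Subgroup.zpowers_le.2 hzU
  have hZc : Nat.card (Subgroup.zpowers z) = 2 := by
    rw [Nat.card_zpowers]
    exact orderOf_eq_prime hz2 hz1'
  -- an element of `U` outside `⟨z⟩`
  obtain ⟨u, huU, huZ⟩ : ∃ u ∈ U, u ∉ Subgroup.zpowers z := by
    by_contra hcon
    push Not at hcon
    have : U ≤ Subgroup.zpowers z := hcon
    have := Subgroup.card_le_of_le this
    omega
  have hu1 : u ≠ 1 := fun h => huZ (h ▸ Subgroup.one_mem _)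
  have huz : u ≠ z := fun h => huZ (h ▸ Subgroup.mem_zpowers z)
  -- index two
  have hidx : ((Subgroup.zpowers z).subgroupOf U).index = 2 := by
    have h2 := Subgroup.card_mul_index ((Subgroup.zpowers z).subgroupOf U)
    rw [Nat.card_congr (Subgroup.subgroupOfEquivOfLe hZU).toEquiv, hZc, hU4] at h2
    omega
  have hcoset : ∀ v ∈ U, v ∉ Subgroup.zpowers z → u⁻¹ * v ∈ Subgroup.zpowers z := by
    intro v hv hvZ
    have h3 := Subgroup.mul_mem_iff_of_index_two hidx (a := (⟨u, huU⟩ : U)⁻¹) (b := ⟨v, hv⟩)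
    simp only [Subgroup.mem_subgroupOf, Subgroup.coe_mul, Subgroup.coe_inv, inv_mem_iff] at h3
    exact h3.2 ⟨fun h => absurd h huZ, fun h => absurd h hvZ⟩
  have helts : ∀ v ∈ U, v = 1 ∨ v = z ∨ v = u ∨ v = u * z := by
    intro v hv
    by_cases hvZ : v ∈ Subgroup.zpowers z
    · rcases mem_zpowers_involution hz2 hvZ with h | h
      · exact Or.inl h
      · exact Or.inr (Or.inl h)
    · rcases mem_zpowers_involution hz2 (hcoset v hv hvZ) with h | h
      · right; right; left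
        rw [inv_mul_eq_one] at h
        exact h.symm
      · right; right; right
        rw [inv_mul_eq_iff_eq_mul] at h
        exact h
  refine ⟨z, u, hzU, huU, hz1', hu1, huz, hzc, helts, ?_⟩
  intro s
  have hsU : s * u * s⁻¹ ∈ U := hU.conj_mem u huU s
  have hsZ : s * u * s⁻¹ ∉ Subgroup.zpowers z := by
    intro h
    apply huZ
    rcases mem_zpowers_involution hz2 h with h | h
    · have : u = 1 := by
        have := congrArg (fun y => s⁻¹ * y * s) h
        simpa [mul_assoc] using this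
      exact absurd this hu1
    · have hzs : s * z * s⁻¹ = z := by
        rw [Subgroup.mem_center_iff] at hzc
        rw [hzc s]; group
      have : u = z := by
        have h5 : s * u * s⁻¹ = s * z * s⁻¹ := by rw [h, hzs]
        have := congrArg (fun y => s⁻¹ * y * s) h5
        simpa [mul_assoc] using this
      exact absurd this huz
  rcases helts _ hsU with h | h | h | h
  · exact absurd (h ▸ Subgroup.one_mem _) hsZ
  · exact absurd (h ▸ Subgroup.mem_zpowers z) hsZ
  · exact Or.inl h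
  · exact Or.inr h

variable {G : Type*} [Group G]

/-- If every element of `K` conjugates `u` to `u` or `u z` (with `z` an involution fixed by `K`),
then the centralizer of `u` has relative index `1` or `2` in `K`. -/
theorem relIndex_centralizer_le_two (K : Subgroup G) (u z : G) (hz2 : z ^ 2 = 1)
    (hzK : ∀ s ∈ K, s * z * s⁻¹ = z) (huK : ∀ s ∈ K, s * u * s⁻¹ = u ∨ s * u * s⁻¹ = u * z) :
    K ≤ Subgroup.centralizer {u} ∨ (Subgroup.centralizer ({u} : Set G)).relIndex K = 2 := by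
  by_cases h : K ≤ Subgroup.centralizer {u}
  · exact Or.inl h
  right
  rw [SetLike.not_le_iff_exists] at h
  obtain ⟨s₀, hs₀K, hs₀⟩ := h
  have hcomm_iff : ∀ s : G, s ∈ Subgroup.centralizer ({u} : Set G) ↔ s * u * s⁻¹ = u := by
    intro s
    rw [Subgroup.mem_centralizer_singleton_iff]
    constructor
    · intro h; rw [h]; group
    · intro h
      calc s * u = (s * u * s⁻¹) * s := by group
        _ = u * s := by rw [h]
  have hs₀u : s₀ * u * s₀⁻¹ = u * z := by
    rcases huK s₀ hs₀K with h | h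
    · exact absurd ((hcomm_iff s₀).2 h) hs₀
    · exact h
  rw [Subgroup.relIndex_eq_two_iff_exists_notMem_and]
  refine ⟨s₀, hs₀K, hs₀, ?_⟩
  intro b hbK
  by_cases hb : b ∈ Subgroup.centralizer ({u} : Set G)
  · exact Or.inr hb
  left
  have hbu : b * u * b⁻¹ = u * z := by
    rcases huK b hbK with h | h
    · exact absurd ((hcomm_iff b).2 h) hb
    · exact h
  rw [hcomm_iff]
  calc b * s₀ * u * (b * s₀)⁻¹ = b * (s₀ * u * s₀⁻¹) * b⁻¹ := by group
    _ = (b * u * b⁻¹) * (b * z * b⁻¹) := by rw [hs₀u]; group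
    _ = u * z * z := by rw [hbu, hzK b hbK]
    _ = u := by rw [mul_assoc, ← pow_two, hz2, mul_one]

/-- Adjoining a commuting involution to a subgroup of exponent two. -/
theorem exists_adjoin_involution [Finite G] (H : Subgroup G) (hH2 : ∀ h ∈ H, h ^ 2 = 1) (y : G)
    (hy2 : y ^ 2 = 1) (hyH : y ∉ H) (hcomm : ∀ h ∈ H, h * y = y * h) :
    ∃ E : Subgroup G, H ≤ E ∧ y ∈ E ∧ Nat.card E = 2 * Nat.card H ∧ (∀ e ∈ E, e ^ 2 = 1) ∧
      ∀ e ∈ E, ∃ h ∈ H, e = h ∨ e = h * y := by
  classical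
  have hyinv : y⁻¹ = y := by rw [inv_eq_iff_mul_eq_one, ← pow_two]; exact hy2
  let E : Subgroup G :=
    { carrier := {g | ∃ h ∈ H, ∃ i : ℕ, g = h * y ^ i}
      mul_mem' := by
        rintro a b ⟨h, hh, i, rfl⟩ ⟨h', hh', i', rfl⟩
        refine ⟨h * h', H.mul_mem hh hh', i + i', ?_⟩
        have hc : Commute h' (y ^ i) := Commute.pow_right (hcomm h' hh') i
        calc h * y ^ i * (h' * y ^ i') = h * (y ^ i * h') * y ^ i' := by group
          _ = h * (h' * y ^ i) * y ^ i' := by rw [hc.eq]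
          _ = h * h' * y ^ (i + i') := by rw [pow_add]; group
      one_mem' := ⟨1, H.one_mem, 0, by simp⟩
      inv_mem' := by
        rintro a ⟨h, hh, i, rfl⟩
        refine ⟨h⁻¹, H.inv_mem hh, i, ?_⟩
        have hc : Commute h⁻¹ (y ^ i) := Commute.pow_right (Commute.inv_left (hcomm h hh)) i
        rw [mul_inv_rev, ← inv_pow, hyinv]
        exact hc.eq.symm }
  have hEmem : ∀ g, g ∈ E ↔ ∃ h ∈ H, ∃ i : ℕ, g = h * y ^ i := fun g => Iff.rfl
  have hHE : H ≤ E := fun h hh => (hEmem h).2 ⟨h, hh, 0, by simp⟩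
  have hyE : y ∈ E := (hEmem y).2 ⟨1, H.one_mem, 1, by simp⟩
  have hE2 : ∀ e ∈ E, e ^ 2 = 1 := by
    intro e he
    obtain ⟨h, hh, i, rfl⟩ := (hEmem e).1 he
    have hc : Commute h (y ^ i) := Commute.pow_right (hcomm h hh) i
    rw [hc.mul_pow, hH2 h hh, ← pow_mul, mul_comm, pow_mul, hy2, one_pow, one_mul]
  have hform : ∀ e ∈ E, ∃ h ∈ H, e = h ∨ e = h * y := by
    intro e he
    obtain ⟨h, hh, i, rfl⟩ := (hEmem e).1 he
    refine ⟨h, hh, ?_⟩
    rw [pow_eq_pow_mod i hy2]
    have : i % 2 = 0 ∨ i % 2 = 1 := by omega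
    rcases this with h0 | h0
    · left; rw [h0, pow_zero, mul_one]
    · right; rw [h0, pow_one]
  refine ⟨E, hHE, hyE, ?_, hE2, hform⟩
  -- cardinality
  have hle : Nat.card E ≤ 2 * Nat.card H := by
    let f : H × Fin 2 → E := fun p =>
      ⟨(p.1 : G) * y ^ (p.2 : ℕ), (hEmem _).2 ⟨p.1, p.1.2, p.2, rfl⟩⟩
    have hf : Function.Surjective f := by
      rintro ⟨e, he⟩
      obtain ⟨h, hh, i, rfl⟩ := (hEmem e).1 he
      refine ⟨(⟨h, hh⟩, ⟨i % 2, Nat.mod_lt _ two_pos⟩), ?_⟩
      apply Subtype.ext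
      show h * y ^ (i % 2) = h * y ^ i
      rw [← pow_eq_pow_mod i hy2]
    have := Nat.card_le_card_of_surjective f hf
    rw [Nat.card_prod, Nat.card_fin, mul_comm] at this
    exact this
  have hdvd : Nat.card H ∣ Nat.card E := Subgroup.card_dvd_of_le hHE
  have hlt : Nat.card H < Nat.card E := by
    by_contra hge
    push Not at hge
    have := Subgroup.eq_of_le_of_card_ge hHE hge
    exact hyH (this ▸ hyE)
  obtain ⟨c, hc⟩ := hdvd
  have hpos : 0 < Nat.card H := Nat.card_pos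
  have hc2 : c = 2 := by
    have h1 : 1 < c := by
      by_contra hc1
      push Not at hc1
      have : Nat.card H * c ≤ Nat.card H * 1 := Nat.mul_le_mul_left _ hc1
      omega
    have h2 : c ≤ 2 := by
      by_contra hc3
      push Not at hc3
      have : Nat.card H * 3 ≤ Nat.card H * c := Nat.mul_le_mul_left _ hc3
      omega
    omega
  rw [hc, hc2, mul_comm]

end NormalFour

end Cfsg.Agent.Helper16
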