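import Mathlib
import Cfsg.Agent.Lib.Helper3.SmallOrd
import Cfsg.Agent.Lib.Lead.PermTools
import Cfsg.Agent.Lib.Helper27.Ord459N19

/-!
# S1022 piece K1 (helper16): the possible overgroups of `P ⊔ T` in which `P` is not normal.
Core version with `|N(P)| = 456` as a hypothesis, then the wrapper using piece N19.
-/

set_option autoImplicit false

namespace Cfsg.Agent.Helper3.Ord459

variable {G : Type*} [Group G] [Finite G] [IsSimpleGroup G]

/-- arithmetic: the admissible numbers of Sylow 19-subgroups -/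
theorem k1_arith (n : ℕ) (hd : n ∣ 6048) (hm : n % 19 = 1) : n = 1 ∨ n = 96 ∨ n = 1008 := by
  have hmem : n ∈ Nat.divisors 6048 := Nat.mem_divisors.2 ⟨hd, by norm_num⟩
  simp only [Nat.divisors_ofNat, Finset.mem_insert, Finset.mem_singleton] at hmem
  omega

/-- K1 core: `|N(P)| = 456` as a hypothesis. -/
theorem key_cases_core (h : Nat.card G = 459648) (P : Sylow 19 G)
    (hN456 : Nat.card (Subgroup.normalizer ((P : Subgroup G) : Set G)) = 456)
    (H : Subgroup G) (hH : H ≠ ⊤)
    (hPH : (P : Subgroup G) ≤ H) (T : Subgroup G) (hT : Nat.card T = 4) (hTH : T ≤ H)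
    (hTC : T ≤ Subgroup.centralizer ((P : Subgroup G) : Set G))
    (hn : ¬ H ≤ Subgroup.normalizer ((P : Subgroup G) : Set G)) :
    (Nat.card H = 7296 ∧
      Nat.card (H ⊓ Subgroup.normalizer ((P : Subgroup G) : Set G) : Subgroup G) = 76) ∨
    H.index = 21 := by
  have h19 : Fact (Nat.Prime 19) := ⟨by norm_num⟩
  have hG : ∃ x y : G, x * y ≠ y * x :=
    Cfsg.Agent.Lead.nonabelian_of_not_prime (by rw [h]; norm_num)
  obtain ⟨hcardS, -, -⟩ := Cfsg.Agent.Lead.sylow_facts (G := G) (p := 19) (k := 1) (m := 24192)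
    (by rw [h]; norm_num) (by norm_num)
  have hP19 : Nat.card (P : Subgroup G) = 19 := by simpa using hcardS P
  -- `P ⊔ T ≤ H ∩ N(P)`
  have hPC : (P : Subgroup G) ≤ Subgroup.centralizer ((P : Subgroup G) : Set G) := by
    have hcyc : IsCyclic (P : Subgroup G) := isCyclic_of_prime_card hP19
    have hMC : IsMulCommutative (P : Subgroup G) := IsCyclic.isMulCommutative
    intro x hx
    rw [Subgroup.mem_centralizer_iff]
    intro y hy
    have := isMulCommutative_iff.mp hMC ⟨y, hy⟩ ⟨x, hx⟩
    exact congrArg Subtype.val this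
  have hsupHN : (P : Subgroup G) ⊔ T ≤ H ⊓ Subgroup.normalizer ((P : Subgroup G) : Set G) :=
    le_inf (sup_le hPH hTH)
      ((sup_le hPC hTC).trans (Subgroup.centralizer_le_normalizer ((P : Subgroup G) : Set G)))
  have hd76 : 76 ∣ Nat.card (H ⊓ Subgroup.normalizer ((P : Subgroup G) : Set G) : Subgroup G) := by
    have d1 : 19 ∣ Nat.card (H ⊓ Subgroup.normalizer ((P : Subgroup G) : Set G) : Subgroup G) := by
      have := Subgroup.card_dvd_of_le (le_sup_left.trans hsupHN :
        (P : Subgroup G) ≤ H ⊓ Subgroup.normalizer ((P : Subgroup G) : Set G))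
      rwa [hP19] at this
    have d2 : 4 ∣ Nat.card (H ⊓ Subgroup.normalizer ((P : Subgroup G) : Set G) : Subgroup G) := by
      have := Subgroup.card_dvd_of_le (le_sup_right.trans hsupHN :
        T ≤ H ⊓ Subgroup.normalizer ((P : Subgroup G) : Set G))
      rwa [hT] at this
    omega
  have hd456 : Nat.card (H ⊓ Subgroup.normalizer ((P : Subgroup G) : Set G) : Subgroup G) ∣ 456 := by
    have := Subgroup.card_dvd_of_le (inf_le_right :
      H ⊓ Subgroup.normalizer ((P : Subgroup G) : Set G) ≤ _)
    rwa [hN456] at this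
  -- Sylow counting in `H`
  have hnorm : Subgroup.normalizer (((P.subtype hPH : Sylow 19 H) : Subgroup H) : Set H) =
      (Subgroup.normalizer ((P : Subgroup G) : Set G)).subgroupOf H := by
    rw [Sylow.coe_subtype]
    exact (Subgroup.subgroupOf_normalizer_eq hPH).symm
  have hmul := Cfsg.Agent.Lead.card_sylow_mul_card_normalizer (P.subtype hPH : Sylow 19 H)
  rw [hnorm, Cfsg.Agent.Lead.card_subgroupOf_eq, inf_comm] at hmul
  have hmod : Nat.card (Sylow 19 H) % 19 = 1 := by
    have := card_sylow_modEq_one 19 H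
    exact this
  have hHdvd : Nat.card H ∣ 459648 := by
    have := Subgroup.card_subgroup_dvd_card H
    rwa [h] at this
  have hidx := Subgroup.card_mul_index H
  rw [h] at hidx
  have hfac := Cfsg.Agent.Helper3.SmallOrd.two_mul_card_dvd_factorial_index hG H hH
  rw [h] at hfac
  -- name the numbers
  generalize hc : Nat.card (H ⊓ Subgroup.normalizer ((P : Subgroup G) : Set G) : Subgroup G) = c
    at hd76 hd456 hmul
  generalize hnn : Nat.card (Sylow 19 H) = n at hmul hmod
  generalize hcH : Nat.card H = m at hmul hHdvd hidx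
  generalize hi : H.index = i at hidx hfac
  -- `n ≠ 1`
  have hn1 : n ≠ 1 := by
    rintro rfl
    apply hn
    have hle : H ⊓ Subgroup.normalizer ((P : Subgroup G) : Set G) ≤ H := inf_le_left
    have heq : H ⊓ Subgroup.normalizer ((P : Subgroup G) : Set G) = H :=
      Subgroup.eq_of_le_of_card_ge hle (by rw [hc, hcH]; omega)
    rw [← heq]
    exact inf_le_right
  obtain ⟨j, rfl⟩ := hd76
  have hj : j = 1 ∨ j = 2 ∨ j = 3 ∨ j = 6 := by
    have hle : 76 * j ≤ 456 := Nat.le_of_dvd (by norm_num) hd456
    have hj6 : j ≤ 6 := by omega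
    interval_cases j <;> omega
  have hnd : n ∣ 6048 := by
    have h1 : n * 76 ∣ 6048 * 76 := by
      have : n * 76 ∣ m := by
        rw [← hmul]
        exact ⟨j, by ring⟩
      exact this.trans (by norm_num at hHdvd ⊢; exact hHdvd)
    exact Nat.dvd_of_mul_dvd_mul_right (by norm_num) h1
  have hi6 : ∀ k : ℕ, k ≤ 6 → ¬ (2 * 459648 ∣ k.factorial) := by
    intro k hk
    interval_cases k <;> decide
  subst hmul
  rcases k1_arith n hnd hmod with rfl | rfl | rfl
  · exact absurd rfl hn1
  · rcases hj with rfl | rfl | rfl | rfl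
    · left
      exact ⟨by omega, rfl⟩
    · omega
    · right
      omega
    · omega
  · exfalso
    have : i ≤ 6 := by
      rcases hj with rfl | rfl | rfl | rfl <;> omega
    exact hi6 i this hfac

/-- K1: a proper subgroup `H` containing `P` and a subgroup `T` of order 4 centralizing `P`, in which
`P` is not normal, has order 7296 with `|H ∩ N(P)| = 76`, or has index 21. -/
theorem key_cases (h : Nat.card G = 459648) (P : Sylow 19 G) (H : Subgroup G) (hH : H ≠ ⊤)
    (hPH : (P : Subgroup G) ≤ H) (T : Subgroup G) (hT : Nat.card T = 4) (hTH : T ≤ H)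
    (hTC : T ≤ Subgroup.centralizer ((P : Subgroup G) : Set G))
    (hn : ¬ H ≤ Subgroup.normalizer ((P : Subgroup G) : Set G)) :
    (Nat.card H = 7296 ∧
      Nat.card (H ⊓ Subgroup.normalizer ((P : Subgroup G) : Set G) : Subgroup G) = 76) ∨
    H.index = 21 := by
  obtain ⟨-, -, hN456, -⟩ := data h P
  exact key_cases_core h P hN456 H hH hPH T hT hTH hTC hn

end Cfsg.Agent.Helper3.Ord459
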