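import Mathlib
import Cfsg.Agent.Lib.Helper3.SmallOrd
import Cfsg.Agent.Lib.Lead.PermTools
import Cfsg.Agent.S0087

/-!
# S1022 piece K3 (helper16): the transfer case `|H| = 7296`.
-/

set_option autoImplicit false

namespace Cfsg.Agent.Helper3.Ord459

/-- abstract core: a group of order `7296 = 2^7 * 3 * 19` in which a Sylow 19-subgroup is central
in its normalizer of order 76 does not exist -/
theorem k3_core {X : Type*} [Group X] [Finite X] (hX : Nat.card X = 7296) (P : Sylow 19 X)
    (hNC : Subgroup.normalizer ((P : Subgroup X) : Set X) ≤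
      Subgroup.centralizer ((P : Subgroup X) : Set X))
    (hN : Nat.card (Subgroup.normalizer ((P : Subgroup X) : Set X)) = 76) : False := by
  have h19 : Fact (Nat.Prime 19) := ⟨by norm_num⟩
  have h3 : Fact (Nat.Prime 3) := ⟨by norm_num⟩
  obtain ⟨hcardS, -, -⟩ := Cfsg.Agent.Lead.sylow_facts (G := X) (p := 19) (k := 1) (m := 384)
    (by rw [hX]; norm_num) (by norm_num)
  have hP19 : Nat.card (P : Subgroup X) = 19 := by simpa using hcardS P
  -- Burnside
  have hidx : (P : Subgroup X).index = 384 := by
    have := (P : Subgroup X).card_mul_index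
    rw [hP19, hX] at this
    omega
  have hHall : Nat.Coprime (Nat.card (P : Subgroup X)) (P : Subgroup X).index := by
    rw [hP19, hidx]; norm_num
  obtain ⟨O, hOn, hOc⟩ := Cfsg.Agent.S0087.result (P : Subgroup X) hHall hNC
  have hOcard : Nat.card O = 384 := by
    have := hOc.card_mul_card
    rw [hP19, hX] at this
    omega
  have hOidx : O.index = 19 := by
    have := O.card_mul_index
    rw [hOcard, hX] at this
    omega
  -- a Sylow 3-subgroup of `O`
  obtain ⟨R⟩ : Nonempty (Sylow 3 O) := inferInstance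
  obtain ⟨hcardR, -, -⟩ := Cfsg.Agent.Lead.sylow_facts (G := O) (p := 3) (k := 1) (m := 128)
    (by rw [hOcard]; norm_num) (by norm_num)
  have hRcard : Nat.card (R : Subgroup O) = 3 := by simpa using hcardR R
  have hRX : Nat.card ((R : Subgroup O).map O.subtype) = 3 := by
    rw [Subgroup.card_map_of_injective O.subtype_injective]; exact hRcard
  have hfr : Subgroup.normalizer (((R : Subgroup O).map O.subtype : Subgroup X) : Set X) ⊔ O = ⊤ :=
    Sylow.normalizer_sup_eq_top R
  -- 19 divides the order of the normalizer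
  have hd19 : 19 ∣ Nat.card
      (Subgroup.normalizer (((R : Subgroup O).map O.subtype : Subgroup X) : Set X)) := by
    by_contra hnd
    have hcop : Nat.Coprime 19 (Nat.card
        (Subgroup.normalizer (((R : Subgroup O).map O.subtype : Subgroup X) : Set X))) :=
      (Nat.Prime.coprime_iff_not_dvd (by norm_num)).2 hnd
    have hle : Subgroup.normalizer (((R : Subgroup O).map O.subtype : Subgroup X) : Set X) ≤ O := by
      intro a ha
      rw [← QuotientGroup.eq_one_iff]
      have h1 : orderOf ((a : X) : X ⧸ O) ∣ orderOf a := orderOf_map_dvd (QuotientGroup.mk' O) a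
      have h2 : orderOf a ∣ Nat.card
          (Subgroup.normalizer (((R : Subgroup O).map O.subtype : Subgroup X) : Set X)) :=
        Subgroup.orderOf_dvd_natCard _ ha
      have h3' : orderOf ((a : X) : X ⧸ O) ∣ 19 := by
        have := orderOf_dvd_natCard ((a : X) : X ⧸ O)
        rwa [← Subgroup.index_eq_card, hOidx] at this
      have h4 : orderOf ((a : X) : X ⧸ O) ∣ 1 := by
        have := Nat.dvd_gcd h3' (h1.trans h2)
        rwa [hcop] at this
      exact orderOf_eq_one_iff.1 (Nat.dvd_one.1 h4)
    rw [sup_of_le_right hle] at hfr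
    have := Subgroup.card_top (G := X)
    rw [← hfr, hOcard, hX] at this
    omega
  -- an element of order 19 normalizing, hence centralizing
  obtain ⟨y, hy⟩ := exists_prime_orderOf_dvd_card' (G := Subgroup.normalizer
    (((R : Subgroup O).map O.subtype : Subgroup X) : Set X)) 19 hd19
  have hyo : orderOf (y : X) = 19 := by rw [Subgroup.orderOf_coe]; exact hy
  have hzc : Nat.card (Subgroup.zpowers (y : X)) = 19 := by rw [Nat.card_zpowers, hyo]
  have hzp : IsPGroup 19 (Subgroup.zpowers (y : X)) := IsPGroup.of_card (n := 1) (by rw [hzc, pow_one])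
  have hzN : Subgroup.zpowers (y : X) ≤
      Subgroup.normalizer (((R : Subgroup O).map O.subtype : Subgroup X) : Set X) :=
    Subgroup.zpowers_le.2 y.2
  obtain ⟨t, ht, ht1, htc⟩ := Cfsg.Agent.Lead.exists_ne_one_fixed_of_pgroup
    (Subgroup.zpowers (y : X)) ((R : Subgroup O).map O.subtype) hzp hzN (by rw [hRX]; norm_num)
  have hyC : (y : X) ∈ Subgroup.centralizer (((R : Subgroup O).map O.subtype : Subgroup X) : Set X) :=
    Cfsg.Agent.Lead.mem_centralizer_of_commute_of_prime_card (p := 3) _ hRX ht ht1
      (htc _ (Subgroup.mem_zpowers _))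
  -- the Sylow 19-subgroup generated by `y`
  obtain ⟨Q, hQ⟩ := hzp.exists_le_sylow
  have hQ19 : Nat.card (Q : Subgroup X) = 19 := by simpa using hcardS Q
  have hzQ : Subgroup.zpowers (y : X) = (Q : Subgroup X) :=
    Subgroup.eq_of_le_of_card_ge hQ (by rw [hQ19, hzc])
  have hRC : (R : Subgroup O).map O.subtype ≤ Subgroup.centralizer ((Q : Subgroup X) : Set X) := by
    intro r hr
    rw [Subgroup.mem_centralizer_iff]
    intro q hq
    have hq' : q ∈ Subgroup.zpowers (y : X) := by rw [hzQ]; exact hq
    obtain ⟨k, rfl⟩ := Subgroup.mem_zpowers_iff.1 hq'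
    have hc : Commute (y : X) r := ((Subgroup.mem_centralizer_iff.1 hyC) r hr).symm
    exact (hc.zpow_left k).eq
  have hRN := hRC.trans (Subgroup.centralizer_le_normalizer ((Q : Subgroup X) : Set X))
  have hdvd := Subgroup.card_dvd_of_le hRN
  rw [hRX] at hdvd
  have e1 := Cfsg.Agent.Lead.card_sylow_mul_card_normalizer P
  have e2 := Cfsg.Agent.Lead.card_sylow_mul_card_normalizer Q
  rw [hN, hX] at e1
  rw [hX] at e2
  have hn : Nat.card (Sylow 19 X) = 96 := by omega
  rw [hn] at e2
  have : Nat.card (Subgroup.normalizer ((Q : Subgroup X) : Set X)) = 76 := by omega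
  rw [this] at hdvd
  omega

variable {G : Type*} [Group G] [Finite G] [IsSimpleGroup G]

/-- K3: the transfer case. -/
theorem key_7296 (h : Nat.card G = 459648) (P : Sylow 19 G) (H : Subgroup G)
    (hPH : (P : Subgroup G) ≤ H) (hcard : Nat.card H = 7296)
    (hN : Nat.card (H ⊓ Subgroup.normalizer ((P : Subgroup G) : Set G) : Subgroup G) = 76)
    (T : Subgroup G) (hT : Nat.card T = 4) (hTH : T ≤ H)
    (hTC : T ≤ Subgroup.centralizer ((P : Subgroup G) : Set G)) :
    False := by
  have h19 : Fact (Nat.Prime 19) := ⟨by norm_num⟩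
  obtain ⟨hcardS, -, -⟩ := Cfsg.Agent.Lead.sylow_facts (G := G) (p := 19) (k := 1) (m := 24192)
    (by rw [h]; norm_num) (by norm_num)
  have hP19 : Nat.card (P : Subgroup G) = 19 := by simpa using hcardS P
  -- `H ∩ N(P) = P ⊔ T ≤ C(P)`
  have hPC : (P : Subgroup G) ≤ Subgroup.centralizer ((P : Subgroup G) : Set G) := by
    have hcyc : IsCyclic (P : Subgroup G) := isCyclic_of_prime_card hP19
    have hMC : IsMulCommutative (P : Subgroup G) := IsCyclic.isMulCommutative
    intro x hx
    rw [Subgroup.mem_centralizer_iff]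
    intro y hy
    have := isMulCommutative_iff.mp hMC ⟨y, hy⟩ ⟨x, hx⟩
    exact congrArg Subtype.val this
  have hsupC : (P : Subgroup G) ⊔ T ≤ Subgroup.centralizer ((P : Subgroup G) : Set G) :=
    sup_le hPC hTC
  have hsupHN : (P : Subgroup G) ⊔ T ≤ H ⊓ Subgroup.normalizer ((P : Subgroup G) : Set G) :=
    le_inf (sup_le hPH hTH)
      (hsupC.trans (Subgroup.centralizer_le_normalizer ((P : Subgroup G) : Set G)))
  have hsupcard : 76 ≤ Nat.card ((P : Subgroup G) ⊔ T : Subgroup G) := by
    have d1 : 19 ∣ Nat.card ((P : Subgroup G) ⊔ T : Subgroup G) := by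
      have := Subgroup.card_dvd_of_le (le_sup_left : (P : Subgroup G) ≤ (P : Subgroup G) ⊔ T)
      rwa [hP19] at this
    have d2 : 4 ∣ Nat.card ((P : Subgroup G) ⊔ T : Subgroup G) := by
      have := Subgroup.card_dvd_of_le (le_sup_right : T ≤ (P : Subgroup G) ⊔ T)
      rwa [hT] at this
    have hpos : 0 < Nat.card ((P : Subgroup G) ⊔ T : Subgroup G) := Nat.card_pos
    omega
  have hsupeq : (P : Subgroup G) ⊔ T = H ⊓ Subgroup.normalizer ((P : Subgroup G) : Set G) :=
    Subgroup.eq_of_le_of_card_ge hsupHN (by rw [hN]; exact hsupcard)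
  have hHNC : H ⊓ Subgroup.normalizer ((P : Subgroup G) : Set G) ≤
      Subgroup.centralizer ((P : Subgroup G) : Set G) := by
    rw [← hsupeq]; exact hsupC
  -- transport to the group `H`
  have hnorm : Subgroup.normalizer (((P.subtype hPH : Sylow 19 H) : Subgroup H) : Set H) =
      (Subgroup.normalizer ((P : Subgroup G) : Set G)).subgroupOf H := by
    rw [Sylow.coe_subtype]
    exact (Subgroup.subgroupOf_normalizer_eq hPH).symm
  apply k3_core (X := H) hcard (P.subtype hPH)
  · intro x hx
    rw [hnorm, Subgroup.mem_subgroupOf] at hx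
    have hx' : (x : G) ∈ Subgroup.centralizer ((P : Subgroup G) : Set G) := hHNC ⟨x.2, hx⟩
    rw [Subgroup.mem_centralizer_iff]
    intro y hy
    rw [SetLike.mem_coe, Sylow.coe_subtype, Subgroup.mem_subgroupOf] at hy
    apply Subtype.ext
    simp only [Subgroup.coe_mul]
    exact (Subgroup.mem_centralizer_iff.1 hx') y hy
  · rw [hnorm, Cfsg.Agent.Lead.card_subgroupOf_eq, inf_comm]
    exact hN

end Cfsg.Agent.Helper3.Ord459
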