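import Mathlib
import Cfsg.Agent.Lib.Lead.TwReeSetup
import Cfsg.Agent.Lib.Lead.TwG2AutE
import Cfsg.Agent.Lib.Helper28.PAGen

/-!
# S4613 piece PA-TWG2: the small Ree groups have no `3'`-automorphism fixing a Sylow 3-subgroup pointwise
-/

set_option autoImplicit false
set_option linter.unusedSectionVars false
set_option linter.unusedVariables false

namespace Cfsg.Agent.Helper28.PA

open Cfsg Cfsg.Lie Cfsg.Agent.Lead.Chev Cfsg.Agent.Lead.ZPM Cfsg.Agent.Lead.Tw.G2Aut Cfsg.Agent.Lead.Tw.G2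

open scoped Pointwise

/-- generic reduction: it is enough to treat one fixed `p`-subgroup `U` -/
theorem twg2_noPAut_of_pgroup {G : Type*} [Group G] [Finite G] (p : ℕ) [Fact p.Prime]
    (U : Subgroup G) (hU : IsPGroup p U)
    (h : ∀ β : MulAut G, ¬ p ∣ orderOf β → (∀ y ∈ U, β y = y) → β = 1) : NoPAut p G := by
  intro α hα P hfix
  obtain ⟨P', hP'⟩ := hU.exists_le_sylow
  obtain ⟨g, hg⟩ := MulAction.exists_smul_eq G P P'
  set β : MulAut G := MulAut.conj g * α * (MulAut.conj g)⁻¹ with hβ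
  have hord : orderOf β = orderOf α := by
    have := MulEquiv.orderOf_eq (MulAut.conj (MulAut.conj g)) α
    rw [← this]; rfl
  have hβfix : ∀ y ∈ U, β y = y := by
    intro y hy
    have hy' : y ∈ (P' : Subgroup G) := hP' hy
    rw [← hg] at hy'
    have h1 : g⁻¹ * y * g ∈ (P : Subgroup G) := by
      have h0 : y ∈ (MulAut.conj g • (P : Subgroup G)) := hy'
      rw [Subgroup.mem_pointwise_smul_iff_inv_smul_mem] at h0
      simpa [MulAut.smul_def, MulAut.conj_apply] using h0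
    have h2 := hfix _ h1
    show (MulAut.conj g) (α ((MulAut.conj g)⁻¹ y)) = y
    rw [MulAut.conj_inv_apply, h2, MulAut.conj_apply]
    group
  have hβ1 : β = 1 := h β (by rw [hord]; exact hα) hβfix
  rw [hβ] at hβ1
  have : α = (MulAut.conj g)⁻¹ * 1 * MulAut.conj g := by
    rw [← hβ1]; group
  simpa using this

section

variable {K : Type*} [Field K] [Fintype K] [CharP K 3] {m : ℕ} (hK : Fintype.card K = 3 ^ (2 * m + 1))
  (hperf : ∀ x : K, ∃ y : K, y ^ 3 = x) (f : K ≃+* K) (hf : ∀ t, f t = t ^ (3 ^ m))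
include hK hperf hf

/-- the standard Sylow 3-subgroup `U¹` -/
def twg2_U (K : Type*) [Field K] (m : ℕ) : Subgroup ↥(twistedG2 K (3 ^ m)) :=
  (chevG2.posUnipotent K).subgroupOf (twistedG2 K (3 ^ m))

omit hK hperf hf [Fintype K] [CharP K 3] in
theorem twg2_mem_U (x : ↥(twistedG2 K (3 ^ m))) :
    x ∈ twg2_U K m ↔ (x : GL chevG2.Idx K) ∈ chevG2.posUnipotent K := Iff.rfl

theorem twg2_coords (x : ↥(twistedG2 K (3 ^ m))) (hx : x ∈ twg2_U K m) :
    ∃ t u v : K, x = XG m t u v := by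
  obtain ⟨t, u, v, e⟩ := exists_coords hK hperf f hf (x : GL chevG2.Idx K) ⟨hx, x.2⟩
  exact ⟨t, u, v, Subtype.ext e⟩

theorem twg2_XG_mem (t u v : K) : XG m t u v ∈ twg2_U K m :=
  (xU_mem hK hperf f hf t u v).1

theorem twg2_isPGroup : IsPGroup 3 (twg2_U K m) := by
  rintro ⟨x, hx⟩
  obtain ⟨t, u, v, rfl⟩ := twg2_coords hK hperf f hf x hx
  refine ⟨2, Subtype.ext ?_⟩
  set M := model hK hperf f hf with hM
  show (XG m t u v) ^ 3 ^ 2 = 1
  have h1 : (XG m t u v) ^ 3 = M.X 0 0 (2 * t ^ 2 * (t ^ 3 ^ m) ^ 3) := M.cube t u v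
  have h2 : (M.X 0 0 (2 * t ^ 2 * (t ^ 3 ^ m) ^ 3)) ^ 3 = 1 := (M.cube_eq_one_iff _ _ _).2 rfl
  calc (XG m t u v) ^ 3 ^ 2 = ((XG m t u v) ^ 3) ^ 3 := by rw [← pow_mul]; norm_num
    _ = 1 := by rw [h1, h2]

theorem twg2_borel_le_normalizer (b : ↥(twistedG2 K (3 ^ m)))
    (hb : (b : GL chevG2.Idx K) ∈ chevG2.borelSubgroup K) :
    b ∈ Subgroup.normalizer (twg2_U K m : Set ↥(twistedG2 K (3 ^ m))) := by
  rw [Subgroup.mem_normalizer_iff]
  intro x
  constructor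
  · intro hx
    exact (mem_borel_iff_normalizes hK hperf f hf b).1 hb x hx
  · intro hx
    have hb' : ((b⁻¹ : ↥(twistedG2 K (3 ^ m))) : GL chevG2.Idx K) ∈ chevG2.borelSubgroup K := by
      rw [Subgroup.coe_inv]
      exact inv_mem hb
    have h1 := (mem_borel_iff_normalizes hK hperf f hf b⁻¹).1 hb' (b * x * b⁻¹) hx
    have e : b⁻¹ * (b * x * b⁻¹) * b⁻¹⁻¹ = x := by group
    rw [e] at h1
    exact h1

theorem twg2_centralizer_le :
    Subgroup.centralizer (twg2_U K m : Set ↥(twistedG2 K (3 ^ m))) ≤ twg2_U K m := by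
  intro g hg
  rw [Subgroup.mem_centralizer_iff] at hg
  have hconj : ∀ x ∈ twg2_U K m, g * x * g⁻¹ = x := by
    intro x hx
    have := hg x hx
    rw [← this, mul_inv_cancel_right]
  have hgB : (g : GL chevG2.Idx K) ∈ chevG2.borelSubgroup K := by
    apply (mem_borel_iff_normalizes hK hperf f hf g).2
    intro x hx
    rw [hconj x hx]
    exact hx
  obtain ⟨u, hu, d, hd, e⟩ := (clsData hK hperf f hf).borel_decomp hS hC (g : GL chevG2.Idx K) hgB g.2
  obtain ⟨t, u', v, hu'⟩ := exists_coords hK hperf f hf u hu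
  obtain ⟨y, hy⟩ := exists_param hK hperf f hf d hd
  have eb : g = XG m t u' v * hhG hK hperf f hf y := Subtype.ext (by
    rw [e, hu', hy]
    rfl)
  set M := model hK hperf f hf with hM
  have h1 := hconj (XG m 1 0 0) (twg2_XG_mem hK hperf f hf 1 0 0)
  have hc : hhG hK hperf f hf y * XG m 1 0 0 * (hhG hK hperf f hf y)⁻¹ =
      XG m ((l1 m y : K) * 1) ((l2 m y : K) * 0) ((y : K) * 0) := M.conj y 1 0 0
  -- `x₀ (h x h⁻¹) = x x₀`
  have h2 : XG m t u' v * (hhG hK hperf f hf y * XG m 1 0 0 * (hhG hK hperf f hf y)⁻¹) =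
      XG m 1 0 0 * XG m t u' v := by
    have : XG m 1 0 0 * XG m t u' v = (g * XG m 1 0 0 * g⁻¹) * XG m t u' v := by rw [h1]
    rw [this, eb]
    group
  rw [hc] at h2
  obtain ⟨w₁, e₁⟩ := M.mul_gen t u' v ((l1 m y : K) * 1) ((l2 m y : K) * 0) ((y : K) * 0)
  obtain ⟨w₂, e₂⟩ := M.mul_gen 1 0 0 t u' v
  have e₃ : M.X (t + (l1 m y : K) * 1) (u' + (l2 m y : K) * 0 - t * (((l1 m y : K) * 1) ^ 3 ^ m) ^ 3) w₁ =
      M.X (1 + t) (0 + u' - 1 * (t ^ 3 ^ m) ^ 3) w₂ := by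
    rw [← e₁, ← e₂]
    exact h2
  have h3 := (M.X_inj _ _ _ _ _ _ e₃).1
  have hl1 : ((l1 m y : Kˣ) : K) = 1 := by linear_combination h3
  have hy1 : (y : K) = 1 := by
    rw [M.y_eq y, hl1, gg_one]
    ring
  have hy1' : y = 1 := Units.ext hy1
  rw [eb, hy1', map_one, mul_one]
  exact twg2_XG_mem hK hperf f hf t u' v

theorem twg2_main (hm : 1 ≤ m) :
    haveI : Fact (Nat.Prime 3) := ⟨Nat.prime_three⟩
    NoPAut 3 ↥(twistedG2 K (3 ^ m)) := by
  have : Fact (Nat.Prime 3) := ⟨Nat.prime_three⟩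
  apply twg2_noPAut_of_pgroup 3 (twg2_U K m) (twg2_isPGroup hK hperf f hf)
  intro β hβ hfix
  have hN := fix_normalizer_self 3 β hβ (twg2_U K m) (twg2_isPGroup hK hperf f hf) hfix
    (twg2_centralizer_le hK hperf f hf)
  apply eq_one_of_fix_borel hK hperf f hf hm β
  intro b hb
  exact hN b (twg2_borel_le_normalizer hK hperf f hf b hb)

end

/-- FAMILY PA-TWG2 -/
theorem noPAut_twistedG2 {F : Type*} [Field F] [Fintype F] (m : ℕ) (hm : 1 ≤ m)
    (hF : Fintype.card F = 3 ^ (2 * m + 1)) :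
    haveI : Fact (Nat.Prime 3) := ⟨Nat.prime_three⟩
    NoPAut 3 (twistedG2 F (3 ^ m)) := by
  obtain ⟨hc, hperf, f, hf⟩ := Cfsg.Agent.Lead.Tw.exists_ree_setup 3 Nat.prime_three m hF
  have := hc
  exact twg2_main hF hperf f hf hm

end Cfsg.Agent.Helper28.PA
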