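import Mathlib

set_option autoImplicit false

namespace Cfsg.Agent.Helper16

/-- If the `2`-subgroup `T ≤ H` has even index in `H`, there is a `2`-subgroup `K` with
`T ≤ K ≤ H`, `[K : T] = 2`, and `K` normalizes `T`. -/
theorem exists_two_overgroup {G : Type*} [Group G] [Finite G] (T H : Subgroup G) (hTH : T ≤ H)
    (hT : IsPGroup 2 T) (h2 : 2 ∣ T.relIndex H) :
    ∃ K : Subgroup G, T ≤ K ∧ K ≤ H ∧ T.relIndex K = 2 ∧ IsPGroup 2 K ∧
      ∀ g ∈ K, ∀ t ∈ T, g * t * g⁻¹ ∈ T := by
  have : Fact (Nat.Prime 2) := ⟨Nat.prime_two⟩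
  obtain ⟨n, hn⟩ := hT.exists_card_eq
  have hT' : Nat.card (T.subgroupOf H) = 2 ^ n := by
    rw [← hn]
    exact Nat.card_congr (Subgroup.subgroupOfEquivOfLe hTH).toEquiv
  have hdvd : 2 ^ (n + 1) ∣ Nat.card H := by
    rw [← Subgroup.card_mul_index (T.subgroupOf H), hT', pow_succ]
    exact Nat.mul_dvd_mul_left _ h2
  obtain ⟨K', hK'card, hK'le⟩ := Sylow.exists_subgroup_card_pow_succ hdvd hT'
  refine ⟨K'.map H.subtype, ?_, ?_, ?_, ?_, ?_⟩
  · intro t ht
    exact ⟨⟨t, hTH ht⟩, hK'le (by simpa [Subgroup.mem_subgroupOf] using ht), rfl⟩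
  · rintro _ ⟨y, _, rfl⟩
    exact y.2
  · have hTK : T ≤ K'.map H.subtype := by
      intro t ht
      exact ⟨⟨t, hTH ht⟩, hK'le (by simpa [Subgroup.mem_subgroupOf] using ht), rfl⟩
    have hcardK : Nat.card (K'.map H.subtype) = 2 ^ (n + 1) := by
      rw [← hK'card]
      exact Nat.card_congr (K'.equivMapOfInjective H.subtype H.subtype_injective).symm.toEquiv
    have h1 := Subgroup.relIndex_mul_relIndex (⊥ : Subgroup G) T (K'.map H.subtype) bot_le hTK
    rw [Subgroup.relIndex_bot_left, Subgroup.relIndex_bot_left, hcardK, hn, pow_succ] at h1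
    have hpos : 0 < 2 ^ n := by positivity
    nlinarith
  · exact IsPGroup.of_card (n := n + 1) (by
      rw [← hK'card]
      exact Nat.card_congr (K'.equivMapOfInjective H.subtype H.subtype_injective).symm.toEquiv)
  · -- normality: T' has index 2 in K'
    have hidx : ((T.subgroupOf H).subgroupOf K').index = 2 := by
      have h1 := Subgroup.card_mul_index ((T.subgroupOf H).subgroupOf K')
      have h2' : Nat.card ((T.subgroupOf H).subgroupOf K') = 2 ^ n := by
        rw [← hT']
        exact Nat.card_congr (Subgroup.subgroupOfEquivOfLe hK'le).toEquiv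
      rw [h2', hK'card, pow_succ] at h1
      have hpos : 0 < 2 ^ n := by positivity
      nlinarith
    have hnorm := Subgroup.normal_of_index_eq_two hidx
    rintro _ ⟨g, hg, rfl⟩ t ht
    have := hnorm.conj_mem ⟨⟨t, hTH ht⟩, hK'le (by simpa [Subgroup.mem_subgroupOf] using ht)⟩
      (by simpa [Subgroup.mem_subgroupOf] using ht) ⟨g, hg⟩
    simpa [Subgroup.mem_subgroupOf] using this

end Cfsg.Agent.Helper16
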