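import Mathlib
import Cfsg.Prelude.Def_FusionSystem
import Cfsg.Prelude.Def_FusionComponents
import Cfsg.Agent.Lib.Helper3.PPowDefs
import Cfsg.Agent.Lib.Helper25.FusionSat4
import Cfsg.Agent.Lib.Helper25.FusionSubSys
import Cfsg.Agent.Lib.Helper25.SylowIn
import Cfsg.Agent.Lib.Helper16.ResLim2

/-!
# S5113 piece D14 (helper16): transitivity of `p`-power index, uniqueness
-/

set_option autoImplicit false
set_option linter.unusedVariables false

namespace Cfsg.Agent.Helper3.PPow

open Cfsg Cfsg.FusionSystem Cfsg.Agent.Helper25 Cfsg.Agent.Helper16.ResLim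

universe u

variable {Ω : Type u} [Group Ω]

/-- PIECE D1. Transitivity of `p`-power index. -/
theorem hasPPowerIndexIn_trans {S M T : Subgroup Ω} (p : ℕ) (F : FusionSystem S) (E : FusionSystem M)
    (D : FusionSystem T) (hTM : T ≤ M) (hMS : M ≤ S) (hE : E.HasPPowerIndexIn F p)
    (hD : D.HasPPowerIndexIn E p) (hT : F.hyperfocalSubgroup p ≤ T) : D.HasPPowerIndexIn F p := by
  refine ⟨fun P => (hD.1 P).trans (hE.1 P), hT, ?_⟩
  intro P hPT
  have h1 : (pResidual p ↥(F.autGroup P)).map (F.autGroup P).subtype ≤ E.autGroup P :=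
    hE.2.2 P (hPT.trans hTM)
  exact (pResidual_map_le p (F.autGroup P) (E.autGroup P) h1).trans (hD.2.2 P hPT)

/-- PIECE D4. Uniqueness. -/
theorem pPowerIndex_unique {S : Subgroup Ω} [Finite S] (p : ℕ) [Fact p.Prime] (hS : IsPGroup p S)
    (F : FusionSystem S) (T : Subgroup Ω) (hTS : T ≤ S) (E E' : FusionSystem T)
    (hE : E.IsSaturated p) (hE' : E'.IsSaturated p) (hEi : E.HasPPowerIndexIn F p)
    (hE'i : E'.HasPPowerIndexIn F p) : E' = E := by
  have : Finite ↥T := finite_of_le_finite hTS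
  have hTp : IsPGroup p ↥T := hS.to_le hTS
  apply Cfsg.Agent.Helper16.ResLim.fs_ext
  intro P
  apply Set.Subset.antisymm
  · exact hom_subset_of_pResidual p hTp F E' hE' hE'i.1 hTS E le_rfl hEi.2.2 P
  · exact hom_subset_of_pResidual p hTp F E hE hEi.1 hTS E' le_rfl hE'i.2.2 P

end Cfsg.Agent.Helper3.PPow
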