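import Mathlib
import Cfsg.Prelude.Def_FusionSystem
import Cfsg.Agent.Lib.Helper25.FusionInvariant
import Cfsg.Agent.Lib.Helper25.FusionHyp
import Cfsg.Agent.Lib.Helper25.FusionSat3

/-!
# Subsystems of `p`-power index are normal (helper16), part 2: the Frattini condition
-/

set_option autoImplicit false

namespace Cfsg.Agent.Helper16.PPowNormal

open Cfsg Cfsg.FusionSystem Cfsg.Agent.Helper25

variable {Ω : Type*} [Group Ω] {S : Subgroup Ω}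

/-- images of `O^p` under an arbitrary homomorphism -/
theorem map_pResidual_le_hom {G G' : Type*} [Group G] [Group G'] (p : ℕ) (f : G →* G') :
    (pResidual p G).map f ≤ pResidual p G' := by
  unfold pResidual
  rw [MonoidHom.map_closure]
  apply Subgroup.closure_mono
  rintro _ ⟨g, hg, rfl⟩
  show Nat.Coprime (orderOf (f g)) p
  exact Nat.Coprime.coprime_dvd_left (orderOf_map_dvd f g) hg

/-- **Claim A.** `O^p(Aut_F(P))` restricts into `E`. -/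
theorem pResidual_le_KInv (p : ℕ) (F : FusionSystem S) {T : Subgroup Ω} (E : FusionSystem T)
    (hT : F.StronglyClosed T) (hEi : E.HasPPowerIndexIn F p) {P : Subgroup Ω} (hPS : P ≤ S)
    (ν : ↥(F.autGroup P)) (hν : ν ∈ pResidual p ↥(F.autGroup P)) :
    (ν : MulAut P) ∈ KInv E hT P hPS := by
  have hmem : ∀ a : ↥(F.autGroup P), resT hT P hPS a ∈ F.autGroup (P ⊓ T) := by
    intro a
    rw [mem_autGroup_iff F (inf_le_left.trans hPS)]
    have e : (P ⊓ T).subtype.comp (resT hT P hPS a).toMonoidHom =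
        (P.subtype.comp (a : MulAut P).toMonoidHom).comp (Subgroup.inclusion inf_le_left) := by
      ext x; rfl
    rw [e]
    exact restrict_mem F inf_le_left ((mem_autGroup_iff F hPS _).mp a.2)
  set f : ↥(F.autGroup P) →* ↥(F.autGroup (P ⊓ T)) :=
    (resT hT P hPS).codRestrict (F.autGroup (P ⊓ T)) hmem with hf
  have h1 : f ν ∈ pResidual p ↥(F.autGroup (P ⊓ T)) := map_pResidual_le_hom p f ⟨ν, hν, rfl⟩
  have h2 : ((f ν : ↥(F.autGroup (P ⊓ T))) : MulAut ↥(P ⊓ T)) ∈ E.autGroup (P ⊓ T) :=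
    hEi.2.2 (P ⊓ T) inf_le_right ⟨f ν, h1, rfl⟩
  exact ⟨ν, h2, rfl⟩

/-- **Claim B.** Conjugation by `Aut_S(P)` preserves `KInv`. -/
theorem KInv_conj_autInducedBy {F : FusionSystem S} {T : Subgroup Ω} {E : FusionSystem T}
    (hAI : AutInv F E) (hT : F.StronglyClosed T) {P : Subgroup Ω} (hPS : P ≤ S)
    {σ : MulAut P} (hσ : σ ∈ autInducedBy S P) {γ : MulAut P} (hγ : γ ∈ KInv E hT P hPS) :
    σ * γ * σ⁻¹ ∈ KInv E hT P hPS := by
  obtain ⟨s, hs, hσs⟩ := (mem_autInducedBy_iff σ).mp hσ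
  have hσF : σ ∈ F.autGroup P := autInducedBy_le_autGroup F hPS hσ
  have hsN := mem_normalizer_of_stronglyClosed hT hs
  set α : MulAut T := Subgroup.normalizerMonoidHom T ⟨s, hsN⟩ with hα
  have hαF : α ∈ F.autGroup T := by
    apply autInducedBy_le_autGroup F hT.1
    exact (mem_autInducedBy_iff _).mpr ⟨s, hs, fun x => normalizerMonoidHom_apply_coe T ⟨s, hsN⟩ x⟩
  have hαs : ∀ x : T, ((α x : T) : Ω) = s * (x : Ω) * s⁻¹ :=
    fun x => normalizerMonoidHom_apply_coe T ⟨s, hsN⟩ x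
  rw [mem_KInv hT hPS] at hγ ⊢
  obtain ⟨hγF, hγE⟩ := hγ
  refine ⟨Subgroup.mul_mem _ (Subgroup.mul_mem _ hσF hγF) (Subgroup.inv_mem _ hσF), ?_⟩
  have hstab : ∀ (δ : MulAut P), δ ∈ F.autGroup P → ∀ x : ↥(P ⊓ T),
      ((δ ⟨x, x.2.1⟩ : P) : Ω) ∈ P ⊓ T :=
    fun δ hδ x => ⟨(δ _).2, aut_mem_of_stronglyClosed F hT hPS hδ x.2.2⟩
  obtain ⟨χ, hχ, hχv⟩ := hAI hαF (inf_le_right : P ⊓ T ≤ T) hγE
  have hσinv : ∀ y : ↥(P ⊓ T), s * ((σ⁻¹ ⟨y, y.2.1⟩ : P) : Ω) * s⁻¹ = y := by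
    intro y
    rw [← hσs]
    simp
  have hle : P ⊓ T ≤ ((P ⊓ T).subgroupOf T).map (T.subtype.comp α.toMonoidHom) := by
    intro y hy
    have h1 := hstab σ⁻¹ (Subgroup.inv_mem _ hσF) ⟨y, hy⟩
    refine ⟨⟨_, h1.2⟩, Subgroup.mem_subgroupOf.mpr h1, ?_⟩
    show ((α ⟨_, h1.2⟩ : T) : Ω) = y
    rw [hαs]
    exact hσinv ⟨y, hy⟩
  have hχ' := restrict_mem E hle hχ
  have e : (P.subtype.comp (σ * γ * σ⁻¹).toMonoidHom).comp (Subgroup.inclusion inf_le_left) =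
      χ.comp (Subgroup.inclusion hle) := by
    ext y
    have h1 := hstab σ⁻¹ (Subgroup.inv_mem _ hσF) y
    have h2 := hχv ⟨_, h1⟩
    show ((σ (γ (σ⁻¹ ⟨y, y.2.1⟩)) : P) : Ω) = χ ⟨y, hle y.2⟩
    have h3 : ((α ⟨((⟨((σ⁻¹ ⟨y, y.2.1⟩ : P) : Ω), h1⟩ : ↥(P ⊓ T)) : Ω), h1.2⟩ : T) : Ω) = y := by
      rw [hαs]
      exact hσinv y
    rw [hom_congr_val χ (hle y.2) (mem_map_aut (inf_le_right : P ⊓ T ≤ T) α ⟨_, h1⟩) h3.symm, h2,
      hαs, hσs]
    rfl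
  rw [e]
  exact hχ'

/-- `KInv` is normal in `Aut_F(P)` for fully automized `P`. -/
theorem KInv_conj_mem_of_fullyAutomized [Finite S] (p : ℕ) [Fact p.Prime] {F : FusionSystem S}
    {T : Subgroup Ω} {E : FusionSystem T} (hAI : AutInv F E) (hT : F.StronglyClosed T)
    (hEi : E.HasPPowerIndexIn F p) {P : Subgroup Ω} (hPS : P ≤ S) (hFA : F.IsFullyAutomized p P)
    {β : MulAut P} (hβ : β ∈ F.autGroup P) {γ : MulAut P} (hγ : γ ∈ KInv E hT P hPS) :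
    β * γ * β⁻¹ ∈ KInv E hT P hPS := by
  obtain ⟨σ, hσ, ν, hν, rfl⟩ := exists_mul_autInducedBy_pResidual p F hFA hβ
  have hνK := pResidual_le_KInv p F E hT hEi hPS ν hν
  have h1 : (ν : MulAut P) * γ * (ν : MulAut P)⁻¹ ∈ KInv E hT P hPS :=
    Subgroup.mul_mem _ (Subgroup.mul_mem _ hνK hγ) (Subgroup.inv_mem _ hνK)
  have h2 := KInv_conj_autInducedBy hAI hT hPS hσ h1
  have e : σ * (ν : MulAut P) * γ * (σ * (ν : MulAut P))⁻¹ =
      σ * ((ν : MulAut P) * γ * (ν : MulAut P)⁻¹) * σ⁻¹ := by group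
  rw [e]
  exact h2

/-- **W3.** The Frattini condition. -/
theorem frattini_of_pPowerIndex [Finite S] (p : ℕ) [Fact p.Prime] (hS : IsPGroup p S)
    (F : FusionSystem S) (hF : F.IsSaturated p) {T : Subgroup Ω} (E : FusionSystem T)
    (hT : F.StronglyClosed T) (hAI : AutInv F E) (hEi : E.HasPPowerIndexIn F p)
    {P : Subgroup Ω} (hPT : P ≤ T) {φ : P →* Ω} (hφ : φ ∈ F.Hom P) :
    ∃ α ∈ F.autGroup T, ∃ φ₀ ∈ E.Hom P, ∀ (x : P) (hx : φ₀ x ∈ T),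
      φ x = ((α ⟨φ₀ x, hx⟩ : T) : Ω) := by
  have hTS : T ≤ S := hT.1
  have hPr : FrattiniPr F E P φ := normal_family_induction' p hS F hF hTS
    (fun g hg v hv => conj_mem_of_stronglyClosed' F hT hg hv) (FrattiniPr F E)
    (frattiniPr_conj hT) (frattiniPr_comp hAI hT)
    (fun hφ h ψ hψ hinv => frattiniPr_inv hAI hT hφ h ψ hψ hinv)
    (fun P hPS hTP α hα => frattiniPr_of_le hT hPS hTP hα)
    (KInv E hT) (fun P hPS _ γ hγ => ((mem_KInv hT hPS).mp hγ).1)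
    (fun P hPS hess β hβ γ hγ => KInv_conj_mem_of_fullyAutomized p hAI hT hEi hPS
      (of_fullyNormalized p hS F hF hess.2.1).2.1 hβ hγ)
    (fun P hPS _ g hgT hgN => normalizerMonoidHom_mem_KInv hT hPS hgT hgN)
    (fun P hPS _ γ hγ => frattiniPr_of_mem_KInv hT hPS hγ) hφ
  obtain ⟨α, hα, φ₀, hφ₀, hv⟩ := hPr
  have hle : P ≤ P ⊓ T := le_inf le_rfl hPT
  refine ⟨α, hα, φ₀.comp (Subgroup.inclusion hle), restrict_mem E hle hφ₀, fun x hx => ?_⟩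
  exact hv ⟨x, ⟨x.2, hPT x.2⟩⟩

end Cfsg.Agent.Helper16.PPowNormal
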