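import Mathlib
import Cfsg.Agent.Lib.Helper10.PUDefs
import Cfsg.Agent.Lib.Helper21.PL3Defs

/-!
# S2511 (element orders of `PSU_n(q)^3 × Z_r^m`): shared definitions (helper16)

See `plans/S2511_plan.md`, `plans/S2511_Skel.lean.txt`.
`MU q n = (q^n - (-1)^n) / ((q+1) gcd(n, q+1))` is the order of the cyclic Coxeter torus of `PSU_n(q)`
(`Cfsg.Agent.Helper10.PU.wfun q n = (q^n - (-1)^n) / (q+1)`).
-/

set_option autoImplicit false

namespace Cfsg.Agent.Helper16.PU3

/-- the order `(q^n - (-1)^n) / ((q+1) gcd(n, q+1))` of the Coxeter torus of `PSU_n(q)` -/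
def MU (q n : ℕ) : ℕ := Cfsg.Agent.Helper10.PU.wfun q n / Nat.gcd n (q + 1)

end Cfsg.Agent.Helper16.PU3
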