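import Mathlib
import Cfsg.Agent.Lib.Helper10.PUDefs
import Cfsg.Agent.Lib.Helper16.PUEDefs
import Cfsg.Agent.Lib.PUE.PUEONB
import Cfsg.Agent.Lib.PUE.PUECONG
import Cfsg.Agent.Lib.PUE.PUECONJ
import Cfsg.Agent.Lib.PUE.PUEUNIP
import Cfsg.Agent.Lib.PUE.PUEHYP
import Cfsg.Agent.Lib.PUE.PUETR
import Cfsg.Agent.Lib.PUE.PUEGRAM
import Cfsg.Agent.Lib.PUE.PUEZETA
import Cfsg.Agent.Lib.PUE.PUESINGER
import Cfsg.Agent.Lib.PUE.PUEUNI2
import Cfsg.Agent.Lib.PUE.PUEUNI3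
import Cfsg.Agent.Lib.PUE.PUECENT
import Cfsg.Agent.Lib.PUE.PUEBLOCK

/-! # S2263 PART E (helper16): assembly of `exists_order_eq` from the pieces PUE-*. -/

set_option autoImplicit false

namespace Cfsg.Agent.Helper10.PU

open Matrix Cfsg.Agent.Helper11.Herm

universe u

section asm

variable {F : Type u} [Field F] [Fintype F] {q : ℕ}

/-- a torus element of order `q ^ n + 1` in `U_n(q)`, `n` odd. -/
theorem exists_torus_odd (hF : Fintype.card F = q ^ 2) (φ : F →+* F) (hφ : ∀ x, φ x = x ^ q)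
    (n : ℕ) (hn : Odd n) :
    ∃ A : Matrix (Fin n) (Fin n) F, IsU φ A ∧ orderOf A = q ^ n + 1 := by
  obtain ⟨K, _, _, _, τ, ζ, hfr, hτF, hττ, hζ, hζo⟩ := exists_zeta_field hF φ hφ n hn
  have hφφ := frob_frob hF φ hφ
  have htr := trace_semilinear φ hφφ τ hτF hττ
  let b : Module.Basis (Fin n) F K := Module.finBasisOfFinrankEq F K hfr
  obtain ⟨H, A0, hH, hdet, hA0, hord⟩ := exists_gram φ τ hτF hττ htr ζ hζ b
  obtain ⟨P, hP⟩ := exists_cong φ hφφ (frob_norm_surj hF φ hφ) (frob_trace_ne_zero hF φ hφ)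
    H hH hdet
  obtain ⟨hU, ho⟩ := isU_conj_of_cong φ H P A0 hP hA0
  exact ⟨_, hU, by rw [ho, hord, hζo]⟩

/-- a torus element of order `q ^ (2k) - 1` in `U_{2k}(q)` (indexed by `Fin k ⊕ Fin k`). -/
theorem exists_torus_even (hF : Fintype.card F = q ^ 2) (φ : F →+* F) (hφ : ∀ x, φ x = x ^ q)
    (k : ℕ) (hk : 1 ≤ k) :
    ∃ A : Matrix (Fin k ⊕ Fin k) (Fin k ⊕ Fin k) F, IsU φ A ∧ orderOf A = q ^ (2 * k) - 1 := by
  obtain ⟨S, hS, hSo⟩ := exists_singer (F := F) k hk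
  have hφφ := frob_frob hF φ hφ
  obtain ⟨hJ, hJd, hinv, hord⟩ := hyp_block φ hφφ S hS
  obtain ⟨P, hP⟩ := exists_cong φ hφφ (frob_norm_surj hF φ hφ) (frob_trace_ne_zero hF φ hφ)
    (Jhyp F (Fin k)) hJ hJd
  obtain ⟨hU, ho⟩ := isU_conj_of_cong φ _ P _ hP hinv
  exact ⟨_, hU, by rw [ho, hord, hSo, hF, ← pow_mul]⟩

omit [Fintype F] in
theorem pue_one_unip (k : ℕ) (c : F) (h : (1 : Matrix (Fin 1) (Fin 1) F) ^ k = c • 1) : c = 1 := by
  rw [one_pow] at h
  have := congrFun (congrFun h 0) 0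
  simpa using this.symm

end asm

/-- PART E of S2263: an element of order `Bnd p f d` in `PGU_d(q)`. -/
theorem exists_order_eq {F : Type*} [Field F] [Fintype F] (p f d : ℕ) (hp : p.Prime) (hf : 1 ≤ f)
    (q : ℕ) (hq : q = p ^ f) (hF : Fintype.card F = q ^ 2) (hd : 3 ≤ d)
    (h32 : ¬ (d = 3 ∧ q = 2)) :
    ∃ g : (↥(Cfsg.GU d F q) ⧸ Subgroup.center ↥(Cfsg.GU d F q)), orderOf g = Bnd p f d := by
  obtain ⟨φ, hφ⟩ := exists_frob hF
  have hcent := fun (g : ↥(Cfsg.GU d F q)) (k : ℕ) => mk_pow_eq_one_iff hF φ hφ d (by omega) g k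
  have hq2 : 2 ≤ q := by
    rw [hq]
    calc 2 ≤ p := hp.two_le
      _ = p ^ 1 := (pow_one p).symm
      _ ≤ p ^ f := Nat.pow_le_pow_right hp.pos hf
  unfold Bnd
  by_cases hodd : Odd d
  · rw [if_pos hodd]
    by_cases hf2 : 2 ≤ f
    · -- (E1)
      rw [if_pos hf2]
      obtain ⟨k, hk⟩ := hodd
      obtain ⟨A, hA, hAo⟩ := exists_torus_even hF φ hφ k (by omega)
      obtain ⟨g, hg⟩ := exists_of_blocks hF φ hφ (κ₁ := Fin k ⊕ Fin k) (κ₂ := Fin 1) d
        (by simp only [Fintype.card_sum, Fintype.card_fin]; omega) hcent A 1 hA (isU_one φ)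
        pue_one_unip
      refine ⟨g, ?_⟩
      rw [hg, hAo, orderOf_one, Nat.lcm_one_right, ← hq, show d - 1 = 2 * k by omega]
    · -- (E2)
      rw [if_neg hf2]
      have hf1 : f = 1 := by omega
      have hqp : q = p := by rw [hq, hf1, pow_one]
      have hqP : q.Prime := hqp ▸ hp
      have hodd2 : Odd (d - 2) := by
        obtain ⟨k, hk⟩ := hodd
        exact ⟨k - 1, by omega⟩
      obtain ⟨A, hA, hAo⟩ := exists_torus_odd hF φ hφ (d - 2) hodd2
      obtain ⟨D, hD, hDo, hDn⟩ := exists_uni2 hF φ hφ hqP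
      obtain ⟨g, hg⟩ := exists_of_blocks hF φ hφ (κ₁ := Fin (d - 2)) (κ₂ := Fin 2) d
        (by simp only [Fintype.card_fin]; omega) hcent A D hA hD
        (fun k c h => eq_one_of_nilp D 2 hDn k c h)
      refine ⟨g, ?_⟩
      rw [hg, hAo, hDo, ← hqp]
      have hcop : Nat.Coprime (q ^ (d - 2) + 1) q := by
        obtain ⟨m, hm⟩ : ∃ m, d - 2 = m + 1 := ⟨d - 3, by omega⟩
        rw [hm, pow_succ]
        simp
      rw [hcop.lcm_eq_mul]
  · rw [if_neg hodd]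
    have heven : Even d := Nat.not_odd_iff_even.1 hodd
    by_cases h2q : 2 < p ^ f
    · -- (E3)
      rw [if_pos h2q]
      have hodd1 : Odd (d - 1) := by
        obtain ⟨k, hk⟩ := heven
        exact ⟨k - 1, by omega⟩
      obtain ⟨A, hA, hAo⟩ := exists_torus_odd hF φ hφ (d - 1) hodd1
      obtain ⟨g, hg⟩ := exists_of_blocks hF φ hφ (κ₁ := Fin (d - 1)) (κ₂ := Fin 1) d
        (by simp only [Fintype.card_fin]; omega) hcent A 1 hA (isU_one φ) pue_one_unip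
      refine ⟨g, ?_⟩
      rw [hg, hAo, orderOf_one, Nat.lcm_one_right, ← hq]
    · -- (E4)
      rw [if_neg h2q]
      have hq2' : q = 2 := by rw [hq] at hq2 ⊢; omega
      subst hq2'
      have hodd3 : Odd (d - 3) := by
        obtain ⟨k, hk⟩ := heven
        exact ⟨k - 2, by omega⟩
      obtain ⟨A, hA, hAo⟩ := exists_torus_odd hF φ hφ (d - 3) hodd3
      obtain ⟨D, hD, hDo, hDn⟩ := exists_uni3 hF φ hφ
      obtain ⟨g, hg⟩ := exists_of_blocks hF φ hφ (κ₁ := Fin (d - 3)) (κ₂ := Fin 3) d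
        (by simp only [Fintype.card_fin]; omega) hcent A D hA hD
        (fun k c h => eq_one_of_nilp D 3 hDn k c h)
      refine ⟨g, ?_⟩
      rw [hg, hAo, hDo]
      have hcop : Nat.Coprime (2 ^ (d - 3) + 1) 4 := by
        have h1 : 1 ≤ d - 3 := by
          obtain ⟨k, hk⟩ := heven
          omega
        have : Odd (2 ^ (d - 3) + 1) := by
          refine Even.add_one ?_
          exact (Nat.even_pow.2 ⟨even_two, by omega⟩)
        exact (Nat.Coprime.pow_right 2 (Nat.coprime_two_right.2 this) : Nat.Coprime _ (2 ^ 2))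
      rw [hcop.lcm_eq_mul, mul_comm]

end Cfsg.Agent.Helper10.PU
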