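import Mathlib
import Cfsg.Prelude.Def_Local
import Cfsg.Agent.Lib.Helper22.QAutDefs

set_option autoImplicit false
set_option linter.unusedSectionVars false

namespace Cfsg.Agent.Helper22.QAut

variable {G : Type*} [Group G] [Finite G] {p q : ℕ} [Fact p.Prime] [Fact q.Prime]

omit [Finite G] [Fact p.Prime] [Fact q.Prime] in
/-- if `y h y⁻¹ = w h` with `y` commuting with `w`, then `y^k h y^-k = w^k h`. -/
theorem q2_conj_pow {y h w : G} (hyh : y * h * y⁻¹ = w * h) (hyw : y * w = w * y) (k : ℕ) :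
    y ^ k * h * (y ^ k)⁻¹ = w ^ k * h := by
  induction k with
  | zero => simp
  | succ k ih =>
    have hywk : y * w ^ k = w ^ k * y := (Commute.pow_right (show Commute y w from hyw) k).eq
    calc y ^ (k + 1) * h * (y ^ (k + 1))⁻¹ = y * (y ^ k * h * (y ^ k)⁻¹) * y⁻¹ := by
          rw [pow_succ']; group
      _ = y * (w ^ k * h) * y⁻¹ := by rw [ih]
      _ = (y * w ^ k) * (h * y⁻¹) := by group
      _ = w ^ k * y * (h * y⁻¹) := by rw [hywk]
      _ = w ^ k * (y * h * y⁻¹) := by group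
      _ = w ^ k * (w * h) := by rw [hyh]
      _ = w ^ (k + 1) * h := by rw [pow_succ]; group

/-- Piece Q2. -/
theorem exists_qact_quotient (hpq : p ≠ q) (W : Subgroup G) [W.Normal] (hW : IsPGroup p ↥W)
    (hnW : ¬ QAct q W) (H : Subgroup G) (hH : IsPGroup p ↥H) (hq : QAct q H) :
    ∃ H' : Subgroup (G ⧸ W), IsPGroup p ↥H' ∧ QAct q H' := by
  obtain ⟨y, hyN, ⟨c, hyc⟩, hyC⟩ := hq
  -- y centralizes W
  have hyW : y ∈ Subgroup.centralizer (W : Set G) := by
    by_contra hcon
    apply hnW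
    refine ⟨y, ?_, ⟨c, hyc⟩, hcon⟩
    rw [Subgroup.normalizer_eq_top]; trivial
  refine ⟨H.map (QuotientGroup.mk' W), hH.map _, QuotientGroup.mk' W y, ?_, ⟨c, ?_⟩, ?_⟩
  · exact Subgroup.le_normalizer_map _ (Subgroup.mem_map_of_mem _ hyN)
  · rw [← map_pow, hyc, map_one]
  · intro hcen
    apply hyC
    rw [Subgroup.mem_centralizer_iff]
    intro h hh
    -- w = y h y⁻¹ h⁻¹ ∈ W
    have h1 := Subgroup.mem_centralizer_iff.1 hcen (QuotientGroup.mk' W h)
      (Subgroup.mem_map_of_mem _ hh)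
    have hw : y * h * y⁻¹ * h⁻¹ ∈ W := by
      rw [← QuotientGroup.eq_one_iff]
      have : ((y * h * y⁻¹ * h⁻¹ : G) : G ⧸ W) =
          QuotientGroup.mk' W y * QuotientGroup.mk' W h * (QuotientGroup.mk' W y)⁻¹ *
            (QuotientGroup.mk' W h)⁻¹ := by simp
      rw [this, ← h1]; group
    set w := y * h * y⁻¹ * h⁻¹ with hwdef
    have hyh : y * h * y⁻¹ = w * h := by rw [hwdef]; group
    have hyw : y * w = w * y := (Subgroup.mem_centralizer_iff.1 hyW w hw).symm
    have hk := q2_conj_pow hyh hyw (q ^ c)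
    rw [hyc] at hk
    have hwq : w ^ q ^ c = 1 := by
      have : h = w ^ q ^ c * h := by simpa using hk
      calc w ^ q ^ c = w ^ q ^ c * h * h⁻¹ := by group
        _ = h * h⁻¹ := by rw [← this]
        _ = 1 := mul_inv_cancel h
    obtain ⟨d, hd⟩ := hW ⟨w, hw⟩
    have hwp : w ^ p ^ d = 1 := by
      have := congrArg Subtype.val hd
      simpa using this
    have hcop : Nat.Coprime (q ^ c) (p ^ d) :=
      Nat.Coprime.pow _ _ ((Nat.coprime_primes Fact.out Fact.out).2 (Ne.symm hpq))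
    have hw1 : w = 1 := by
      rw [← orderOf_eq_one_iff]
      have h1 := orderOf_dvd_of_pow_eq_one hwq
      have h2 := orderOf_dvd_of_pow_eq_one hwp
      have := Nat.dvd_gcd h1 h2
      rw [hcop] at this
      exact Nat.dvd_one.1 this
    rw [hw1, one_mul] at hyh
    calc h * y = y * h * y⁻¹ * y := by rw [hyh]
      _ = y * h := by group

end Cfsg.Agent.Helper22.QAut
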