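import Mathlib
import Cfsg.Prelude.Def_Local
import Cfsg.Agent.Lib.Helper22.QAutDefs

set_option autoImplicit false
set_option linter.unusedSectionVars false

namespace Cfsg.Agent.Helper22.QAut

variable {G : Type*} [Group G] [Finite G] {p q : ℕ} [Fact p.Prime] [Fact q.Prime]

/-- Piece Q3. -/
theorem good_of_quotient (hpq : p ≠ q) (W : Subgroup G) [W.Normal] (hW : IsPGroup p ↥W)
    (h : Good p q (G ⧸ W)) : Good p q G := by
  obtain ⟨K', S', ⟨x', hx'N, ⟨c, hx'c⟩, hx'C⟩, hS'p, hS'idx, hK'S', hS'N⟩ := h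
  have hsurj : Function.Surjective (QuotientGroup.mk' W) := QuotientGroup.mk'_surjective W
  obtain ⟨x, rfl⟩ := hsurj x'
  have hker : IsPGroup p ↥(QuotientGroup.mk' W).ker := by
    rw [QuotientGroup.ker_mk']; exact hW
  -- x^(q^c) ∈ W
  have hxW : x ^ q ^ c ∈ W := by
    rw [← QuotientGroup.eq_one_iff]
    have : ((x ^ q ^ c : G) : G ⧸ W) = (QuotientGroup.mk' W x) ^ q ^ c := by simp
    rw [this, hx'c]
  obtain ⟨d, hd⟩ := hW ⟨x ^ q ^ c, hxW⟩
  have hxd : (x ^ q ^ c) ^ p ^ d = 1 := by
    have := congrArg Subtype.val hd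
    simpa using this
  have hcomapN : (Subgroup.normalizer (K' : Set (G ⧸ W))).comap (QuotientGroup.mk' W) ≤
      Subgroup.normalizer ((K'.comap (QuotientGroup.mk' W) : Subgroup G) : Set G) :=
    Subgroup.le_normalizer_comap _
  refine ⟨K'.comap (QuotientGroup.mk' W), S'.comap (QuotientGroup.mk' W), ?_, ?_, ?_, ?_, ?_⟩
  · refine ⟨x ^ p ^ d, ?_, ⟨c, ?_⟩, ?_⟩
    · apply Subgroup.pow_mem
      apply hcomapN
      exact hx'N
    · rw [← pow_mul, mul_comm, pow_mul]; exact hxd
    · intro hcen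
      apply hx'C
      -- the image of x^(p^d) centralizes K'
      have h1 : (QuotientGroup.mk' W x) ^ p ^ d ∈ Subgroup.centralizer (K' : Set (G ⧸ W)) := by
        rw [Subgroup.mem_centralizer_iff]
        intro k' hk'
        obtain ⟨k, rfl⟩ := hsurj k'
        have hk : k ∈ K'.comap (QuotientGroup.mk' W) := hk'
        have := Subgroup.mem_centralizer_iff.1 hcen k hk
        have := congrArg (QuotientGroup.mk' W) this
        simpa using this
      have hord : orderOf (QuotientGroup.mk' W x) ∣ q ^ c := orderOf_dvd_of_pow_eq_one hx'c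
      have hcop : Nat.Coprime (p ^ d) (orderOf (QuotientGroup.mk' W x)) := by
        apply Nat.Coprime.coprime_dvd_right hord
        exact Nat.Coprime.pow _ _ ((Nat.coprime_primes Fact.out Fact.out).2 hpq)
      obtain ⟨m, hm⟩ := exists_pow_eq_self_of_coprime hcop
      rw [← hm]
      exact Subgroup.pow_mem _ h1 m
  · exact hS'p.comap_of_ker_isPGroup _ hker
  · rw [Subgroup.index_comap_of_surjective _ hsurj]; exact hS'idx
  · exact Subgroup.comap_mono hK'S'
  · exact (Subgroup.comap_mono hS'N).trans hcomapN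

end Cfsg.Agent.Helper22.QAut
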