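import Mathlib
import Cfsg.Prelude.Def_Local
import Cfsg.Agent.Lib.Helper22.QAutDefs

set_option autoImplicit false
set_option linter.unusedSectionVars false

namespace Cfsg.Agent.Helper22.QAut

/-- conjugation fixes a normal subgroup -/
theorem stepb_map_conj_normal {X : Type*} [Group X] (B : Subgroup X) [hB : B.Normal] (b : X) :
    B.map (MulAut.conj b).toMonoidHom = B := by
  ext x
  rw [Subgroup.mem_map]
  constructor
  · rintro ⟨y, hy, rfl⟩
    simp only [MulEquiv.coe_toMonoidHom, MulAut.conj_apply]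
    exact hB.conj_mem y hy b
  · intro hx
    refine ⟨b⁻¹ * x * b, ?_, ?_⟩
    · have := hB.conj_mem x hx b⁻¹
      simpa using this
    · simp only [MulEquiv.coe_toMonoidHom, MulAut.conj_apply]; group

/-- the abstract form of STEPB: `B ⊴ X`, `T` a Sylow `p`-subgroup with `B T = X`. -/
theorem stepb_abs {X : Type*} [Group X] [Finite X] {p q : ℕ} [Fact p.Prime] [Fact q.Prime]
    (B : Subgroup X) [hBn : B.Normal] (T : Sylow p X) (hBT : B ⊔ (T : Subgroup X) = ⊤) :
    ∃ Y T₀ : Subgroup X, Y ≤ B ∧ IsPGroup q ↥Y ∧ ¬ q ∣ Y.relIndex B ∧ T₀ ≤ (T : Subgroup X) ∧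
      T₀ ≤ Subgroup.normalizer (Y : Set X) ∧ T₀ ⊔ ((T : Subgroup X) ⊓ B) = (T : Subgroup X) := by
  classical
  obtain ⟨Y'⟩ : Nonempty (Sylow q ↥B) := inferInstance
  have hFr := Sylow.normalizer_sup_eq_top Y'
  set Y₀ : Subgroup X := (Y' : Subgroup ↥B).map B.subtype with hY₀
  set N₁ : Subgroup X := Subgroup.normalizer (Y₀ : Set X) with hN₁
  obtain ⟨T₁'⟩ : Nonempty (Sylow p ↥N₁) := inferInstance
  set T₁ : Subgroup X := (T₁' : Subgroup ↥N₁).map N₁.subtype with hT₁
  -- X / B is a p-group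
  have hquot : IsPGroup p (X ⧸ B) := by
    intro g
    obtain ⟨x, rfl⟩ := QuotientGroup.mk'_surjective B g
    have hx : x ∈ ((B ⊔ (T : Subgroup X) : Subgroup X) : Set X) := by rw [hBT]; trivial
    rw [Subgroup.normal_mul] at hx
    obtain ⟨b, hb, t, ht, rfl⟩ := Set.mem_mul.1 hx
    obtain ⟨k, hk⟩ := T.2 ⟨t, ht⟩
    refine ⟨k, ?_⟩
    have hb1 : QuotientGroup.mk' B b = 1 := (QuotientGroup.eq_one_iff b).2 hb
    have h1 : QuotientGroup.mk' B (b * t) = QuotientGroup.mk' B t := by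
      rw [map_mul, hb1, one_mul]
    rw [h1, ← map_pow]
    have : t ^ p ^ k = 1 := by
      have := congrArg Subtype.val hk
      simpa using this
    rw [this, map_one]
  -- the restriction of the quotient map to N₁ is onto
  have hf : Function.Surjective ((QuotientGroup.mk' B).comp N₁.subtype) := by
    intro g
    obtain ⟨x, rfl⟩ := QuotientGroup.mk'_surjective B g
    have hx : x ∈ ((N₁ ⊔ B : Subgroup X) : Set X) := by rw [hFr]; trivial
    rw [Subgroup.mul_normal] at hx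
    obtain ⟨n, hn, b, hb, rfl⟩ := Set.mem_mul.1 hx
    refine ⟨⟨n, hn⟩, ?_⟩
    simp only [MonoidHom.coe_comp, Function.comp_apply, Subgroup.subtype_apply]
    have hb1 : QuotientGroup.mk' B b = 1 := (QuotientGroup.eq_one_iff b).2 hb
    rw [map_mul, hb1, mul_one]
  have htop : (⊤ : Subgroup (X ⧸ B)) = (T₁'.mapSurjective hf : Subgroup (X ⧸ B)) :=
    (T₁'.mapSurjective hf).is_maximal' (hquot.to_subgroup ⊤) le_top
  -- T₁ B = X
  have hT₁B : T₁ ⊔ B = ⊤ := by
    rw [eq_top_iff]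
    intro x _
    have hx : QuotientGroup.mk' B x ∈ (T₁'.mapSurjective hf : Subgroup (X ⧸ B)) := by
      rw [← htop]; trivial
    rw [Sylow.coe_mapSurjective, Subgroup.mem_map] at hx
    obtain ⟨n, hn, hnx⟩ := hx
    simp only [MonoidHom.coe_comp, Function.comp_apply, Subgroup.subtype_apply] at hnx
    have hb : (n : X)⁻¹ * x ∈ B := by
      rw [← QuotientGroup.eq_one_iff]
      have : (((n : X)⁻¹ * x : X) : X ⧸ B) =
          (QuotientGroup.mk' B (n : X))⁻¹ * QuotientGroup.mk' B x := by simp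
      rw [this, hnx, inv_mul_cancel]
    have : x = (n : X) * ((n : X)⁻¹ * x) := by group
    rw [this]
    exact Subgroup.mul_mem_sup (Subgroup.mem_map_of_mem _ hn) hb
  -- conjugate T₁ into T
  have hT₁p : IsPGroup p ↥T₁ := T₁'.2.map _
  obtain ⟨P, hP⟩ := hT₁p.exists_le_sylow
  obtain ⟨g, hg⟩ := MulAction.exists_smul_eq X P T
  have hgmem : g ∈ (((T : Subgroup X) ⊔ B : Subgroup X) : Set X) := by
    rw [sup_comm, hBT]; trivial
  rw [Subgroup.mul_normal] at hgmem
  obtain ⟨t, ht, b, hb, rfl⟩ := Set.mem_mul.1 hgmem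
  have hconj : ∀ x ∈ T₁, b * x * b⁻¹ ∈ (T : Subgroup X) := by
    intro x hx
    have h1 : (t * b) * x * (t * b)⁻¹ ∈ ((t * b) • P : Sylow p X) := by
      show (t * b) * x * (t * b)⁻¹ ∈ (((t * b) • P : Sylow p X) : Subgroup X)
      rw [Sylow.coe_subgroup_smul]
      have : (t * b) * x * (t * b)⁻¹ = MulAut.conj (t * b) • x := by
        rw [MulAut.smul_def, MulAut.conj_apply]
      rw [this, Subgroup.smul_mem_pointwise_smul_iff]
      exact hP hx
    rw [hg] at h1
    have h2 : t⁻¹ * ((t * b) * x * (t * b)⁻¹) * t ∈ (T : Subgroup X) :=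
      Subgroup.mul_mem _ (Subgroup.mul_mem _ (Subgroup.inv_mem _ ht) h1) ht
    have h3 : t⁻¹ * ((t * b) * x * (t * b)⁻¹) * t = b * x * b⁻¹ := by group
    rwa [h3] at h2
  have hBmap := stepb_map_conj_normal B b
  refine ⟨Y₀.map (MulAut.conj b).toMonoidHom, T₁.map (MulAut.conj b).toMonoidHom,
    ?_, ?_, ?_, ?_, ?_, ?_⟩
  · rw [← hBmap]
    exact Subgroup.map_mono (Subgroup.map_subtype_le _)
  · exact (Y'.2.map _).map _
  · rw [← hBmap]
    rw [Subgroup.relIndex_map_map_of_injective _ _ (MulAut.conj b).injective]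
    have : Y₀.relIndex B = (Y' : Subgroup ↥B).index := by
      rw [Subgroup.relIndex, hY₀]
      congr 1
      ext y
      rw [Subgroup.mem_subgroupOf, Subgroup.mem_map]
      constructor
      · rintro ⟨z, hz, hzy⟩
        have : z = y := Subtype.ext hzy
        rwa [← this]
      · intro hy
        exact ⟨y, hy, rfl⟩
    rw [this]
    exact Y'.not_dvd_index
  · intro x hx
    rw [Subgroup.mem_map] at hx
    obtain ⟨y, hy, rfl⟩ := hx
    simp only [MulEquiv.coe_toMonoidHom, MulAut.conj_apply]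
    exact hconj y hy
  · have h1 : T₁ ≤ N₁ := Subgroup.map_subtype_le _
    exact (Subgroup.map_mono h1).trans (Subgroup.le_normalizer_map _)
  · apply le_antisymm
    · apply sup_le
      · intro x hx
        rw [Subgroup.mem_map] at hx
        obtain ⟨y, hy, rfl⟩ := hx
        simp only [MulEquiv.coe_toMonoidHom, MulAut.conj_apply]
        exact hconj y hy
      · exact inf_le_left
    · intro x hx
      have htop2 : T₁.map (MulAut.conj b).toMonoidHom ⊔ B = ⊤ := by
        rw [← hBmap, ← Subgroup.map_sup, hT₁B, ← MonoidHom.range_eq_map,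
          MonoidHom.range_eq_top]
        exact (MulAut.conj b).surjective
      have hx2 : x ∈ ((T₁.map (MulAut.conj b).toMonoidHom ⊔ B : Subgroup X) : Set X) := by
        rw [htop2]; trivial
      rw [Subgroup.mul_normal] at hx2
      obtain ⟨t₀, ht₀, b₁, hb₁, rfl⟩ := Set.mem_mul.1 hx2
      have ht₀T : t₀ ∈ (T : Subgroup X) := by
        have ht₀' : t₀ ∈ T₁.map (MulAut.conj b).toMonoidHom := ht₀
        rw [Subgroup.mem_map] at ht₀'
        obtain ⟨y, hy, rfl⟩ := ht₀'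
        simp only [MulEquiv.coe_toMonoidHom, MulAut.conj_apply]
        exact hconj y hy
      have hb₁T : b₁ ∈ (T : Subgroup X) := by
        have : b₁ = t₀⁻¹ * (t₀ * b₁) := by group
        rw [this]
        exact Subgroup.mul_mem _ (Subgroup.inv_mem _ ht₀T) hx
      exact Subgroup.mul_mem_sup ht₀ ⟨hb₁T, hb₁⟩

section pieces
variable {G : Type*} [Group G] [Finite G] {p q : ℕ} [Fact p.Prime] [Fact q.Prime]

/-- Piece STEPB (Frattini in `B T` for a Sylow `q`-subgroup of `B`). -/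
theorem exists_invariant_sylow (hpq : p ≠ q) (T B H : Subgroup G) (hT : IsPGroup p ↥T)
    (hTB : T ≤ Subgroup.normalizer (B : Set G)) (hTsyl : ¬ p ∣ T.relIndex (B ⊔ T))
    (hH : T ⊓ B = H) :
    ∃ Y T₀ : Subgroup G, Y ≤ B ∧ IsPGroup q ↥Y ∧ ¬ q ∣ Y.relIndex B ∧ T₀ ≤ T ∧
      T₀ ≤ Subgroup.normalizer (Y : Set G) ∧ T₀ ⊔ H = T := by
  have hBX : B ≤ B ⊔ T := le_sup_left
  have hTX : T ≤ B ⊔ T := le_sup_right
  have hXN : B ⊔ T ≤ Subgroup.normalizer (B : Set G) := sup_le Subgroup.le_normalizer hTB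
  have hBn : (B.subgroupOf (B ⊔ T)).Normal :=
    (Subgroup.normal_subgroupOf_iff_le_normalizer hBX).2 hXN
  have hT' : IsPGroup p ↥(T.subgroupOf (B ⊔ T)) := hT.comap_subtype
  have hidx : ¬ p ∣ (T.subgroupOf (B ⊔ T)).index := hTsyl
  have hsup : B.subgroupOf (B ⊔ T) ⊔ ((hT'.toSylow hidx : Sylow p ↥(B ⊔ T)) :
      Subgroup ↥(B ⊔ T)) = ⊤ := by
    rw [IsPGroup.toSylow_coe, ← Subgroup.subgroupOf_sup hBX hTX, Subgroup.subgroupOf_self]
  obtain ⟨Y', T₀', hY'B, hY'q, hY'idx, hT₀'T, hT₀'N, hT₀'sup⟩ :=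
    stepb_abs (q := q) (B.subgroupOf (B ⊔ T)) (hT'.toSylow hidx) hsup
  rw [IsPGroup.toSylow_coe] at hT₀'T hT₀'sup
  have hinj : Function.Injective (B ⊔ T).subtype := Subgroup.subtype_injective _
  have hBmap : (B.subgroupOf (B ⊔ T)).map (B ⊔ T).subtype = B :=
    Subgroup.map_subgroupOf_eq_of_le hBX
  have hTmap : (T.subgroupOf (B ⊔ T)).map (B ⊔ T).subtype = T :=
    Subgroup.map_subgroupOf_eq_of_le hTX
  refine ⟨Y'.map (B ⊔ T).subtype, T₀'.map (B ⊔ T).subtype, ?_, hY'q.map _, ?_, ?_, ?_, ?_⟩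
  · exact (Subgroup.map_mono hY'B).trans hBmap.le
  · have h1 := Subgroup.relIndex_map_map_of_injective Y' (B.subgroupOf (B ⊔ T)) hinj
    rw [hBmap] at h1
    rw [h1]
    exact hY'idx
  · exact (Subgroup.map_mono hT₀'T).trans hTmap.le
  · exact (Subgroup.map_mono hT₀'N).trans (Subgroup.le_normalizer_map _)
  · have := congrArg (Subgroup.map (B ⊔ T).subtype) hT₀'sup
    rw [Subgroup.map_sup, Subgroup.map_inf_eq _ _ _ hinj, hTmap, hBmap, hH] at this
    exact this

end pieces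

end Cfsg.Agent.Helper22.QAut
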