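import Mathlib
import Cfsg.Agent.Lib.Helper16.Conj

set_option autoImplicit false

namespace Cfsg.Agent.Helper16

/-- If a finite group `S` is generated by `a`, `b` and a central subgroup `D`, and `b` inverts `a`
modulo `D`, then the commutator subgroup of `S` lies in the cyclic subgroup generated by the
commutator of `b` and `a`. -/
theorem commutator_le_zpowers_of_inverting {S : Type*} [Group S] [Finite S] (a b : S)
    (D : Subgroup S) (hD : D ≤ Subgroup.center S)
    (hgen : Subgroup.closure ({a, b} ∪ (D : Set S)) = ⊤) (hinv : b * a * b⁻¹ * a ∈ D) :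
    commutator S ≤ Subgroup.zpowers (b * a * b⁻¹ * a⁻¹) := by
  obtain ⟨d, hd⟩ : ∃ d, d = b * a * b⁻¹ * a := ⟨_, rfl⟩
  obtain ⟨c, hc⟩ : ∃ c, c = b * a * b⁻¹ * a⁻¹ := ⟨_, rfl⟩
  rw [← hc]
  rw [← hd] at hinv
  have hdc : ∀ x : S, x * d = d * x := fun x => (Subgroup.mem_center_iff.1 (hD hinv)) x
  have hbab : b * a * b⁻¹ = d * a⁻¹ := by rw [hd]; group
  have hcd : c = d * a⁻¹ * a⁻¹ := by rw [hc, hbab]
  have hac : a * c * a⁻¹ = c := by
    rw [hcd]
    calc a * (d * a⁻¹ * a⁻¹) * a⁻¹ = (a * d) * a⁻¹ * a⁻¹ * a⁻¹ := by group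
      _ = d * a * a⁻¹ * a⁻¹ * a⁻¹ := by rw [hdc a]
      _ = d * a⁻¹ * a⁻¹ := by group
  have hbc : b * c * b⁻¹ = c⁻¹ := by
    have h1 : b * c * b⁻¹ = (b * d * b⁻¹) * (b * a * b⁻¹)⁻¹ * (b * a * b⁻¹)⁻¹ := by
      rw [hcd]; group
    have h2 : b * d * b⁻¹ = d := by rw [hdc b, mul_inv_cancel_right]
    rw [h1, h2, hbab, hcd]
    have h3 : (d * a⁻¹)⁻¹ = a * d⁻¹ := by group
    rw [h3]
    have h4 : d⁻¹ * a = a * d⁻¹ := by
      have := hdc (d⁻¹ * a * d⁻¹)
      have e1 : d⁻¹ * a * d⁻¹ * d = d⁻¹ * a := by group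
      have e2 : d * (d⁻¹ * a * d⁻¹) = a * d⁻¹ := by group
      rw [e1, e2] at this
      exact this
    calc d * (a * d⁻¹) * (a * d⁻¹) = d * a * (d⁻¹ * a) * d⁻¹ := by group
      _ = d * a * (a * d⁻¹) * d⁻¹ := by rw [h4]
      _ = (d * a) * a * d⁻¹ * d⁻¹ := by group
      _ = (a * d) * a * d⁻¹ * d⁻¹ := by rw [hdc a]
      _ = a * (d * a) * d⁻¹ * d⁻¹ := by group
      _ = a * (a * d) * d⁻¹ * d⁻¹ := by rw [hdc a]
      _ = (d * a⁻¹ * a⁻¹)⁻¹ := by simp [mul_assoc]
  -- zpowers c is normal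
  have hnorm : (Subgroup.zpowers c).Normal := by
    rw [← Subgroup.normalizer_eq_top_iff, eq_top_iff, ← hgen, Subgroup.closure_le]
    have key : ∀ g : S, g * c * g⁻¹ ∈ Subgroup.zpowers c →
        g ∈ Subgroup.normalizer (Subgroup.zpowers c : Set S) := by
      intro g hg
      rw [mem_normalizer_iff_map_conj_eq]
      apply map_conj_eq_of_le
      rw [MonoidHom.map_zpowers, Subgroup.zpowers_le]
      simpa using hg
    rintro g ((hg | hg) | hg)
    · rw [hg]; apply key; rw [hac]; exact Subgroup.mem_zpowers c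
    · rw [Set.mem_singleton_iff] at hg
      rw [hg]; apply key; rw [hbc]; exact Subgroup.inv_mem _ (Subgroup.mem_zpowers c)
    · apply key
      have : g * c * g⁻¹ = c := by
        have := (Subgroup.mem_center_iff.1 (hD hg)) c
        rw [← this, mul_inv_cancel_right]
      rw [this]; exact Subgroup.mem_zpowers c
  rw [← Subgroup.Normal.quotient_commutative_iff_commutator_le]
  -- the quotient is generated by commuting elements
  have hmap : Subgroup.closure ((QuotientGroup.mk' (Subgroup.zpowers c)) '' ({a, b} ∪ (D : Set S)))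
      = ⊤ := by
    rw [← MonoidHom.map_closure, hgen, ← MonoidHom.range_eq_map, MonoidHom.range_eq_top]
    exact QuotientGroup.mk'_surjective _
  have hab : (QuotientGroup.mk' (Subgroup.zpowers c)) a * (QuotientGroup.mk' (Subgroup.zpowers c)) b
      = (QuotientGroup.mk' (Subgroup.zpowers c)) b * (QuotientGroup.mk' (Subgroup.zpowers c)) a := by
    rw [← map_mul, ← map_mul]
    symm
    rw [QuotientGroup.mk'_apply, QuotientGroup.mk'_apply, QuotientGroup.eq]
    have : (b * a)⁻¹ * (a * b) = (b * a)⁻¹ * c⁻¹ * ((b * a)⁻¹)⁻¹ := by rw [hc]; group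
    rw [this]
    exact hnorm.conj_mem _ (Subgroup.inv_mem _ (Subgroup.mem_zpowers c)) _
  have hcomm : IsMulCommutative (Subgroup.closure
      ((QuotientGroup.mk' (Subgroup.zpowers c)) '' ({a, b} ∪ (D : Set S)))) := by
    apply Subgroup.isMulCommutative_closure
    have hcen : ∀ x ∈ D, ∀ y : S, (QuotientGroup.mk' (Subgroup.zpowers c)) x *
        (QuotientGroup.mk' (Subgroup.zpowers c)) y = (QuotientGroup.mk' (Subgroup.zpowers c)) y *
        (QuotientGroup.mk' (Subgroup.zpowers c)) x := by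
      intro x hx y
      rw [← map_mul, ← map_mul, (Subgroup.mem_center_iff.1 (hD hx)) y]
    rintro _ ⟨x, (hx | hx) | hx, rfl⟩ _ ⟨y, (hy | hy) | hy, rfl⟩
    · rw [hx, hy]
    · rw [Set.mem_singleton_iff] at hy; rw [hx, hy]; exact hab
    · exact (hcen y hy x).symm
    · rw [Set.mem_singleton_iff] at hx; rw [hx, hy]; exact hab.symm
    · rw [Set.mem_singleton_iff] at hx hy; rw [hx, hy]
    · exact (hcen y hy x).symm
    · exact hcen x hx y
    · exact hcen x hx y
    · exact hcen x hx y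
  rw [hmap] at hcomm
  rw [isMulCommutative_iff]
  intro x y
  have := hcomm.is_comm.comm ⟨x, Subgroup.mem_top x⟩ ⟨y, Subgroup.mem_top y⟩
  exact congrArg Subtype.val this

end Cfsg.Agent.Helper16
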