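import Mathlib

/-!
# Elementary facts on generalized quaternion groups (helper16)

For `QuaternionGroup k` with `2 ≤ k`: the element `a k` is the unique involution, it is a square,
and every central element squares to one.
-/

set_option autoImplicit false

namespace Cfsg.Agent.Helper16.QuatProd

open QuaternionGroup

theorem zmod_two_mul_eq_zero {k : ℕ} (hk : 1 ≤ k) (i : ZMod (2 * k)) (h : i + i = 0) :
    i = 0 ∨ i = (k : ZMod (2 * k)) := by
  haveI : NeZero (2 * k) := ⟨by omega⟩
  have hv : ((i.val + i.val : ℕ) : ZMod (2 * k)) = 0 := by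
    push_cast
    rw [ZMod.natCast_zmod_val]
    exact h
  rw [ZMod.natCast_eq_zero_iff] at hv
  have hlt : i.val < 2 * k := ZMod.val_lt i
  obtain ⟨c, hc⟩ := hv
  have hc' : i.val = k * c := by nlinarith
  have hc2 : c < 2 := by
    by_contra hcon
    push Not at hcon
    nlinarith
  interval_cases c
  · left
    have : i.val = 0 := by simpa using hc'
    exact (ZMod.val_eq_zero i).1 this
  · right
    have : i.val = k := by simpa using hc'
    rw [← ZMod.natCast_zmod_val i, this]

theorem natCast_ne_zero {k : ℕ} (hk : 1 ≤ k) : (k : ZMod (2 * k)) ≠ 0 := by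
  intro h
  rw [ZMod.natCast_eq_zero_iff] at h
  have := Nat.le_of_dvd (by omega) h
  omega

theorem a_k_ne_one {k : ℕ} (hk : 1 ≤ k) : (a (k : ZMod (2 * k)) : QuaternionGroup k) ≠ 1 := by
  intro h
  rw [one_def] at h
  injection h with h
  exact natCast_ne_zero hk h

theorem a_k_sq {k : ℕ} : (a (k : ZMod (2 * k)) : QuaternionGroup k) * a (k : ZMod (2 * k)) = 1 := by
  rw [a_mul_a, one_def]
  congr 1
  have : ((2 * k : ℕ) : ZMod (2 * k)) = 0 := ZMod.natCast_self _
  push_cast at this
  rw [← this]
  ring

theorem xa_zero_sq {k : ℕ} : (xa 0 : QuaternionGroup k) * xa 0 = a (k : ZMod (2 * k)) := by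
  rw [xa_mul_xa]
  congr 1
  ring

theorem eq_one_or_eq_of_sq {k : ℕ} (hk : 1 ≤ k) (x : QuaternionGroup k) (hx : x * x = 1) :
    x = 1 ∨ x = a (k : ZMod (2 * k)) := by
  cases x with
  | a i =>
    rw [a_mul_a, one_def] at hx
    injection hx with hx
    rcases zmod_two_mul_eq_zero hk i hx with h | h
    · left; rw [h]; rfl
    · right; rw [h]
  | xa i =>
    exfalso
    rw [xa_mul_xa, one_def] at hx
    injection hx with hx
    apply natCast_ne_zero hk
    have : (k : ZMod (2 * k)) + i - i = k := by ring
    rw [this] at hx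
    exact hx

theorem sq_eq_one_of_central {k : ℕ} (hk : 2 ≤ k) (c : QuaternionGroup k)
    (hc : ∀ x : QuaternionGroup k, c * x = x * c) : c * c = 1 := by
  cases c with
  | a i =>
    have h := hc (xa 0)
    rw [a_mul_xa, xa_mul_a] at h
    injection h with h
    rw [a_mul_a, one_def]
    congr 1
    have : i + i = (0 + i) - (0 - i) := by ring
    rw [this, ← h]
    ring
  | xa i =>
    exfalso
    have h := hc (a 1)
    rw [xa_mul_a, a_mul_xa] at h
    injection h with h
    have h2 : ((2 : ℕ) : ZMod (2 * k)) = 0 := by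
      push_cast
      have : (2 : ZMod (2 * k)) = (i + 1) - (i - 1) := by ring
      rw [this, h]
      ring
    rw [ZMod.natCast_eq_zero_iff] at h2
    have := Nat.le_of_dvd (by omega) h2
    omega

end Cfsg.Agent.Helper16.QuatProd
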