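import Mathlib
import Cfsg.Prelude.Def_TwoFusion

/-!
# Sylow 2-subgroups `Q × R` with `Q` quaternion-like (helper16)

If a Sylow 2-subgroup `S` of `G` is an internal direct product `Q × R` where `Q` has a unique
involution `z` which is a square, all central elements of `Q` square to one, and all involutions of
`R` are central in `R`, then the product of the `N_G(S)`-conjugates of `z` is an involution of `S`
whose only `G`-conjugate in `S` is itself.
-/

set_option autoImplicit false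
set_option linter.unusedSectionVars false

namespace Cfsg.Agent.Helper16.QuatProd

open Cfsg

variable {G : Type*} [Group G]

/-- the hypotheses on the pair `(Q, R)`, bundled -/
structure Setup (S Q R : Subgroup G) (z b : G) : Prop where
  hQS : Q ≤ S
  hRS : R ≤ S
  hcomm : ∀ a ∈ Q, ∀ c ∈ R, a * c = c * a
  hdisj : Q ⊓ R = ⊥
  hsup : Q ⊔ R = S
  hzQ : z ∈ Q
  hz1 : z ≠ 1
  hzz : z * z = 1
  hbQ : b ∈ Q
  hbz : b * b = z
  huniq : ∀ x ∈ Q, x * x = 1 → x = 1 ∨ x = z
  hcent : ∀ c ∈ Q, (∀ x ∈ Q, c * x = x * c) → c * c = 1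
  hR : ∀ r ∈ R, orderOf r = 2 → ∀ s ∈ R, r * s = s * r

namespace Setup

variable {S Q R : Subgroup G} {z b : G}

theorem decomp (h : Setup S Q R z b) {s : G} (hs : s ∈ S) :
    ∃ q ∈ Q, ∃ r ∈ R, s = q * r := by
  let T : Subgroup G :=
    { carrier := {s | ∃ q ∈ Q, ∃ r ∈ R, s = q * r}
      one_mem' := ⟨1, Q.one_mem, 1, R.one_mem, by simp⟩
      mul_mem' := by
        rintro _ _ ⟨q1, h1, r1, k1, rfl⟩ ⟨q2, h2, r2, k2, rfl⟩
        refine ⟨q1 * q2, Q.mul_mem h1 h2, r1 * r2, R.mul_mem k1 k2, ?_⟩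
        have := h.hcomm q2 h2 r1 k1
        calc q1 * r1 * (q2 * r2) = q1 * (r1 * q2) * r2 := by group
          _ = q1 * (q2 * r1) * r2 := by rw [this]
          _ = q1 * q2 * (r1 * r2) := by group
      inv_mem' := by
        rintro _ ⟨q, hq, r, hr, rfl⟩
        refine ⟨q⁻¹, Q.inv_mem hq, r⁻¹, R.inv_mem hr, ?_⟩
        have := h.hcomm q⁻¹ (Q.inv_mem hq) r⁻¹ (R.inv_mem hr)
        rw [mul_inv_rev, this] }
  have hle : Q ⊔ R ≤ T := by
    apply sup_le
    · intro q hq
      exact ⟨q, hq, 1, R.one_mem, by simp⟩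
    · intro r hr
      exact ⟨1, Q.one_mem, r, hr, by simp⟩
  rw [← h.hsup] at hs
  exact hle hs

theorem eq_one_of_mem_of_mem (h : Setup S Q R z b) {x : G} (hQ : x ∈ Q) (hR : x ∈ R) : x = 1 := by
  have : x ∈ Q ⊓ R := ⟨hQ, hR⟩
  rw [h.hdisj] at this
  exact Subgroup.mem_bot.1 this

/-- `Q` is normal in `S` -/
theorem conj_mem (h : Setup S Q R z b) {s x : G} (hs : s ∈ S) (hx : x ∈ Q) :
    s * x * s⁻¹ ∈ Q := by
  obtain ⟨q, hq, r, hr, rfl⟩ := h.decomp hs
  have hc := h.hcomm x hx r hr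
  have : q * r * x * (q * r)⁻¹ = q * x * q⁻¹ := by
    calc q * r * x * (q * r)⁻¹ = q * (r * x) * r⁻¹ * q⁻¹ := by group
      _ = q * (x * r) * r⁻¹ * q⁻¹ := by rw [hc]
      _ = q * x * q⁻¹ := by group
  rw [this]
  exact Q.mul_mem (Q.mul_mem hq hx) (Q.inv_mem hq)

/-- `z` is central in `Q` -/
theorem z_comm (h : Setup S Q R z b) {x : G} (hx : x ∈ Q) : z * x = x * z := by
  have h1 : (x * z * x⁻¹) * (x * z * x⁻¹) = 1 := by
    calc (x * z * x⁻¹) * (x * z * x⁻¹) = x * (z * z) * x⁻¹ := by group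
      _ = 1 := by rw [h.hzz]; group
  have hm : x * z * x⁻¹ ∈ Q := Q.mul_mem (Q.mul_mem hx h.hzQ) (Q.inv_mem hx)
  rcases h.huniq _ hm h1 with h2 | h2
  · exfalso
    apply h.hz1
    have : z = x⁻¹ * (x * z * x⁻¹) * x := by group
    rw [this, h2]; group
  · calc z * x = (x * z * x⁻¹) * x := by rw [h2]
      _ = x * z := by group

/-- every element of `S` of square one is central in `S` -/
theorem inv_central (h : Setup S Q R z b) {s t : G} (hs : s ∈ S) (hss : s * s = 1) (ht : t ∈ S) :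
    s * t = t * s := by
  obtain ⟨q, hq, r, hr, rfl⟩ := h.decomp hs
  obtain ⟨q', hq', r', hr', rfl⟩ := h.decomp ht
  have hqr := h.hcomm q hq r hr
  have hsq : (q * q) * (r * r) = 1 := by
    calc (q * q) * (r * r) = q * (q * r) * r := by group
      _ = q * (r * q) * r := by rw [hqr]
      _ = (q * r) * (q * r) := by group
      _ = 1 := hss
  have hqq : q * q = 1 := by
    apply h.eq_one_of_mem_of_mem (Q.mul_mem hq hq)
    have : q * q = (r * r)⁻¹ := eq_inv_of_mul_eq_one_left hsq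
    rw [this]
    exact R.inv_mem (R.mul_mem hr hr)
  have hrr : r * r = 1 := by
    rw [hqq, one_mul] at hsq
    exact hsq
  -- `q` commutes with `q'`
  have hq1 : q * q' = q' * q := by
    rcases h.huniq q hq hqq with h1 | h1
    · rw [h1]; simp
    · rw [h1]; exact h.z_comm hq'
  -- `r` commutes with `r'`
  have hr1 : r * r' = r' * r := by
    by_cases hr0 : r = 1
    · rw [hr0]; simp
    · have : orderOf r = 2 := by
        apply orderOf_eq_prime
        · rw [pow_two]; exact hrr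
        · exact hr0
      exact h.hR r hr this r' hr'
  have h3 := h.hcomm q' hq' r hr
  have h4 := h.hcomm q hq r' hr'
  have h5 := h.hcomm q' hq' r' hr'
  calc q * r * (q' * r') = q * (r * q') * r' := by group
    _ = q * (q' * r) * r' := by rw [h3]
    _ = (q * q') * (r * r') := by group
    _ = (q' * q) * (r' * r) := by rw [hq1, hr1]
    _ = q' * (q * r') * r := by group
    _ = q' * (r' * q) * r := by rw [h4]
    _ = q' * r' * (q * r) := by group

variable [Finite G]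

/-- if `Q` and its conjugate by `g ∈ N(S)` share a nontrivial element then `g` fixes `z` -/
theorem conj_z_of_inter (h : Setup S Q R z b) (hS : IsPGroup 2 S) {g v : G}
    (hv : v ∈ Q) (hgv : g⁻¹ * v * g ∈ Q) (hv1 : v ≠ 1) : g * z * g⁻¹ = z := by
  obtain ⟨k, hk⟩ := hS ⟨v, h.hQS hv⟩
  have hk' : v ^ 2 ^ k = 1 := by
    have := congrArg Subtype.val hk
    simpa using this
  obtain ⟨j, hj, hjo⟩ := (Nat.dvd_prime_pow Nat.prime_two).1 (orderOf_dvd_of_pow_eq_one hk')
  have hj0 : j ≠ 0 := by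
    rintro rfl
    rw [pow_zero, orderOf_eq_one_iff] at hjo
    exact hv1 hjo
  obtain ⟨i, rfl⟩ := Nat.exists_eq_succ_of_ne_zero hj0
  set v' := v ^ 2 ^ i with hv'
  have hv'1 : v' ≠ 1 := by
    apply pow_ne_one_of_lt_orderOf (by positivity)
    rw [hjo]
    exact Nat.pow_lt_pow_right (by norm_num) (Nat.lt_succ_self i)
  have hv'2 : v' * v' = 1 := by
    rw [hv', ← pow_add, ← two_mul, ← pow_succ', ← hjo]
    exact pow_orderOf_eq_one v
  have hv'Q : v' ∈ Q := Q.pow_mem hv _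
  have e1 : v' = z := by
    rcases h.huniq v' hv'Q hv'2 with h1 | h1
    · exact absurd h1 hv'1
    · exact h1
  have hc : g⁻¹ * v' * g = (g⁻¹ * v * g) ^ 2 ^ i := by
    rw [hv']
    have := map_pow (MulAut.conj g⁻¹).toMonoidHom v (2 ^ i)
    simpa [MulAut.conj_apply] using this
  have hc2 : (g⁻¹ * v' * g) * (g⁻¹ * v' * g) = 1 := by
    calc (g⁻¹ * v' * g) * (g⁻¹ * v' * g) = g⁻¹ * (v' * v') * g := by group
      _ = 1 := by rw [hv'2]; group
  have hcQ : g⁻¹ * v' * g ∈ Q := by rw [hc]; exact Q.pow_mem hgv _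
  have e2 : g⁻¹ * v' * g = z := by
    rcases h.huniq _ hcQ hc2 with h1 | h1
    · exfalso
      apply hv'1
      have : v' = g * (g⁻¹ * v' * g) * g⁻¹ := by group
      rw [this, h1]; group
    · exact h1
  rw [e1] at e2
  calc g * z * g⁻¹ = g * (g⁻¹ * z * g) * g⁻¹ := by rw [e2]
    _ = z := by group

/-- a conjugate of `z` by an element of `N(S)` other than `z` lies in `R` -/
theorem conj_z_mem_R (h : Setup S Q R z b) (hS : IsPGroup 2 S) {g : G}
    (hg : g ∈ Subgroup.normalizer (S : Set G)) (hne : g * z * g⁻¹ ≠ z) : g * z * g⁻¹ ∈ R := by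
  have hgS : ∀ s, s ∈ S ↔ g * s * g⁻¹ ∈ S := fun s => Subgroup.mem_normalizer_iff.1 hg s
  have hgS' : ∀ s, s ∈ S → g⁻¹ * s * g ∈ S := by
    intro s hs
    rw [hgS]
    have : g * (g⁻¹ * s * g) * g⁻¹ = s := by group
    rw [this]; exact hs
  -- trivial intersection
  have hint : ∀ v ∈ Q, g⁻¹ * v * g ∈ Q → v = 1 := by
    intro v hv hgv
    by_contra hv1
    exact hne (h.conj_z_of_inter hS hv hgv hv1)
  -- elements of `Q^g` commute with elements of `Q`
  have hcm : ∀ x ∈ Q, ∀ w : G, g⁻¹ * w * g ∈ Q → w * x = x * w := by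
    intro x hx w hw
    have hwS : w ∈ S := by
      rw [hgS]
      have := (hgS (g⁻¹ * w * g)).1 (h.hQS hw)
      have e : g * (g⁻¹ * w * g) * g⁻¹ = w := by group
      rw [e] at this
      rw [← hgS]; exact this
    have hc1 : w * x * w⁻¹ * x⁻¹ ∈ Q := Q.mul_mem (h.conj_mem hwS hx) (Q.inv_mem hx)
    have hc2 : g⁻¹ * (w * x * w⁻¹ * x⁻¹) * g ∈ Q := by
      have hx' : g⁻¹ * x * g ∈ S := hgS' x (h.hQS hx)
      have e : g⁻¹ * (w * x * w⁻¹ * x⁻¹) * g
          = (g⁻¹ * w * g) * ((g⁻¹ * x * g) * (g⁻¹ * w * g)⁻¹ * (g⁻¹ * x * g)⁻¹) := by group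
      rw [e]
      exact Q.mul_mem hw (h.conj_mem hx' (Q.inv_mem hw))
    have := hint _ hc1 hc2
    calc w * x = (w * x * w⁻¹ * x⁻¹) * (x * w) := by group
      _ = x * w := by rw [this, one_mul]
  -- the element `w = g b g⁻¹`
  have hwQ : g⁻¹ * (g * b * g⁻¹) * g ∈ Q := by
    have : g⁻¹ * (g * b * g⁻¹) * g = b := by group
    rw [this]; exact h.hbQ
  have hwS : g * b * g⁻¹ ∈ S := (hgS b).1 (h.hQS h.hbQ)
  obtain ⟨q, hq, r, hr, hw⟩ := h.decomp hwS
  have hqc : ∀ x ∈ Q, q * x = x * q := by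
    intro x hx
    have e1 : q = (g * b * g⁻¹) * r⁻¹ := by rw [hw]; group
    have e2 := hcm x hx _ hwQ
    have e3 := h.hcomm x hx r⁻¹ (R.inv_mem hr)
    calc q * x = (g * b * g⁻¹) * (r⁻¹ * x) := by rw [e1]; group
      _ = (g * b * g⁻¹) * (x * r⁻¹) := by rw [e3]
      _ = ((g * b * g⁻¹) * x) * r⁻¹ := by group
      _ = (x * (g * b * g⁻¹)) * r⁻¹ := by rw [e2]
      _ = x * q := by rw [e1]; group
  have hqq := h.hcent q hq hqc
  have hqr := h.hcomm q hq r hr
  have : g * z * g⁻¹ = r * r := by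
    calc g * z * g⁻¹ = (g * b * g⁻¹) * (g * b * g⁻¹) := by rw [← h.hbz]; group
      _ = (q * r) * (q * r) := by rw [hw]
      _ = q * (r * q) * r := by group
      _ = q * (q * r) * r := by rw [hqr]
      _ = (q * q) * (r * r) := by group
      _ = r * r := by rw [hqq, one_mul]
  rw [this]
  exact R.mul_mem hr hr

end Setup

end Cfsg.Agent.Helper16.QuatProd
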