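import Mathlib
import Cfsg.Agent.Lib.Helper16.QuatProdB

/-!
# Sylow 2-subgroups `Q × R` with `Q` quaternion-like: the isolated involution (helper16)
-/

set_option autoImplicit false
set_option linter.unusedSectionVars false

namespace Cfsg.Agent.Helper16.QuatProd

open Cfsg

variable {G : Type*} [Group G] [Finite G]

namespace Setup

variable {Q R : Subgroup G} {z b : G}

/-- the subgroup of central elements of `S` of square one -/
def omegaZ (S : Subgroup G) : Subgroup G where
  carrier := {x | x ∈ S ∧ x * x = 1 ∧ ∀ t ∈ S, x * t = t * x}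
  one_mem' := ⟨S.one_mem, by simp, by simp⟩
  mul_mem' := by
    rintro x y ⟨hx, hxx, hxc⟩ ⟨hy, hyy, hyc⟩
    refine ⟨S.mul_mem hx hy, ?_, ?_⟩
    · calc x * y * (x * y) = x * (y * x) * y := by group
        _ = x * (x * y) * y := by rw [hxc y hy]
        _ = (x * x) * (y * y) := by group
        _ = 1 := by rw [hxx, hyy, one_mul]
    · intro t ht
      calc x * y * t = x * (y * t) := by group
        _ = x * (t * y) := by rw [hyc t ht]
        _ = (x * t) * y := by group
        _ = (t * x) * y := by rw [hxc t ht]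
        _ = t * (x * y) := by group
  inv_mem' := by
    rintro x ⟨hx, hxx, hxc⟩
    have hinv : x⁻¹ = x := inv_eq_of_mul_eq_one_left hxx
    rw [hinv]
    exact ⟨hx, hxx, hxc⟩

theorem exists_isolated (S : Sylow 2 G) (h : Setup (S : Subgroup G) Q R z b) :
    ∃ e : G, orderOf e = 2 ∧ e ∈ S ∧ ∀ g : G, g * e * g⁻¹ ∈ S → g * e * g⁻¹ = e := by
  classical
  have hS : IsPGroup 2 (S : Subgroup G) := S.isPGroup'
  set N := Subgroup.normalizer ((S : Subgroup G) : Set G) with hN
  -- the orbit of `z`
  let O : Set G := {y | ∃ g ∈ N, y = g * z * g⁻¹}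
  have hOfin : O.Finite := Set.toFinite O
  let l : List G := hOfin.toFinset.toList
  have hl : ∀ y, y ∈ l ↔ ∃ g ∈ N, y = g * z * g⁻¹ := by
    intro y
    simp [l, O]
  have hlnd : l.Nodup := Finset.nodup_toList _
  have hzS : z ∈ (S : Subgroup G) := h.hQS h.hzQ
  -- the orbit lies in `omegaZ S`
  have hOmega : ∀ y ∈ l, y ∈ omegaZ (S : Subgroup G) := by
    intro y hy
    obtain ⟨g, hg, rfl⟩ := (hl y).1 hy
    have hyS : g * z * g⁻¹ ∈ (S : Subgroup G) := (Subgroup.mem_normalizer_iff.1 hg z).1 hzS
    have hyy : (g * z * g⁻¹) * (g * z * g⁻¹) = 1 := by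
      calc (g * z * g⁻¹) * (g * z * g⁻¹) = g * (z * z) * g⁻¹ := by group
        _ = 1 := by rw [h.hzz]; group
    exact ⟨hyS, hyy, fun t ht => h.inv_central hyS hyy ht⟩
  have hpc : l.Pairwise Commute := by
    rw [List.pairwise_iff_forall_sublist]
    intro x y hxy
    have hx : x ∈ l := hxy.subset (by simp)
    have hy : y ∈ l := hxy.subset (by simp)
    exact (hOmega x hx).2.2 y (hOmega y hy).1
  set e := l.prod with he
  have heO : e ∈ omegaZ (S : Subgroup G) := Subgroup.list_prod_mem _ hOmega
  have hzl : z ∈ l := (hl z).2 ⟨1, N.one_mem, by simp⟩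
  -- `e ≠ 1`
  have he1 : e ≠ 1 := by
    intro he1
    have hperm : l.Perm (z :: l.erase z) := List.perm_cons_erase hzl
    have hprod : e = z * (l.erase z).prod := by
      rw [he, hperm.prod_eq' hpc, List.prod_cons]
    have hR : (l.erase z).prod ∈ R := by
      apply Subgroup.list_prod_mem
      intro y hy
      rw [hlnd.mem_erase_iff] at hy
      obtain ⟨g, hg, rfl⟩ := (hl y).1 hy.2
      exact h.conj_z_mem_R hS hg hy.1
    apply h.hz1
    apply h.eq_one_of_mem_of_mem h.hzQ
    have : z = ((l.erase z).prod)⁻¹ := by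
      rw [he1] at hprod
      exact eq_inv_of_mul_eq_one_left hprod.symm
    rw [this]
    exact R.inv_mem hR
  -- invariance under `N`
  have hinvN : ∀ n ∈ N, n * e * n⁻¹ = e := by
    intro n hn
    have h1 : n * e * n⁻¹ = (l.map (fun y => n * y * n⁻¹)).prod := by
      have h0 := map_list_prod (MulAut.conj n).toMonoidHom l
      have h2 : l.map (MulAut.conj n).toMonoidHom = l.map (fun y => n * y * n⁻¹) := by
        apply List.map_congr_left
        intro y _
        simp [MulAut.conj_apply]
      rw [h2] at h0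
      rw [← h0]
      simp [MulAut.conj_apply, he]
    have hnd2 : (l.map (fun y => n * y * n⁻¹)).Nodup := by
      apply hlnd.map
      intro x y hxy
      simpa using hxy
    have hperm : l.Perm (l.map (fun y => n * y * n⁻¹)) := by
      rw [List.perm_ext_iff_of_nodup hlnd hnd2]
      intro y
      rw [List.mem_map]
      constructor
      · intro hy
        refine ⟨n⁻¹ * y * n, ?_, by group⟩
        obtain ⟨g, hg, rfl⟩ := (hl y).1 hy
        exact (hl _).2 ⟨n⁻¹ * g, N.mul_mem (N.inv_mem hn) hg, by group⟩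
      · rintro ⟨x, hx, rfl⟩
        obtain ⟨g, hg, rfl⟩ := (hl x).1 hx
        exact (hl _).2 ⟨n * g, N.mul_mem hn hg, by group⟩
    rw [h1, ← hperm.prod_eq' hpc]
  have hee : e * e = 1 := heO.2.1
  have heS : e ∈ (S : Subgroup G) := heO.1
  refine ⟨e, ?_, heS, ?_⟩
  · apply orderOf_eq_prime
    · rw [pow_two]; exact hee
    · exact he1
  · intro g hg
    have : Fact (Nat.Prime 2) := ⟨Nat.prime_two⟩
    have hx : e ∈ Subgroup.centralizer ((S : Subgroup G) : Set G) := by
      rw [Subgroup.mem_centralizer_iff]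
      intro t ht
      exact (heO.2.2 t ht).symm
    have hgg : (g * e * g⁻¹) * (g * e * g⁻¹) = 1 := by
      calc (g * e * g⁻¹) * (g * e * g⁻¹) = g * (e * e) * g⁻¹ := by group
        _ = 1 := by rw [hee]; group
    have hy : (g⁻¹)⁻¹ * e * g⁻¹ ∈ Subgroup.centralizer ((S : Subgroup G) : Set G) := by
      rw [inv_inv, Subgroup.mem_centralizer_iff]
      intro t ht
      exact (h.inv_central hg hgg ht).symm
    obtain ⟨n, hn, hne⟩ := S.conj_eq_normalizer_conj_of_mem_centralizer e g⁻¹ hx hy
    rw [inv_inv] at hne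
    rw [hne]
    have := hinvN n⁻¹ (N.inv_mem hn)
    rw [inv_inv] at this
    exact this

end Setup

end Cfsg.Agent.Helper16.QuatProd
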