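import Mathlib
import Cfsg.Prelude.Def_Solvable
import Cfsg.Agent.Lib.Helper9.PCoreSub
import Cfsg.Agent.Lib.Helper24.RealPrimeE

set_option autoImplicit false

/-!
Piece 3 of S4330 (for helper8): the statement follows from the key lemma on coprime linear actions.
-/

namespace Cfsg.Agent.Helper16.S4330P3

open Cfsg
open scoped Pointwise

universe u

section basic

variable {G : Type u} [Group G]

theorem conj_smul_isPGroup {p : ℕ} {A : Subgroup G} (hA : IsPGroup p A) (g : G) :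
    IsPGroup p ↥(MulAut.conj g • A) := by
  rw [Subgroup.pointwise_smul_def]
  exact hA.map _

theorem conj_mem_conj_smul {A : Subgroup G} {a : G} (ha : a ∈ A) (g : G) :
    g * a * g⁻¹ ∈ MulAut.conj g • A := by
  rw [Subgroup.mem_smul_pointwise_iff_exists]
  exact ⟨a, ha, by rw [MulAut.smul_def, MulAut.conj_apply]⟩

theorem exists_of_mem_conj_smul {A : Subgroup G} {g x : G} (hx : x ∈ MulAut.conj g • A) :
    ∃ a ∈ A, x = g * a * g⁻¹ := by
  rw [Subgroup.mem_smul_pointwise_iff_exists] at hx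
  obtain ⟨a, ha, rfl⟩ := hx
  exact ⟨a, ha, by rw [MulAut.smul_def, MulAut.conj_apply]⟩

/-- If `A` is a subnormal `p`-subgroup of `A ⊔ B` and `B` is a `p`-group, then `A ⊔ B` is a
`p`-group. -/
theorem isPGroup_sup_of_subnormal [Finite G] {p : ℕ} [Fact p.Prime] {A B : Subgroup G}
    (hA : IsPGroup p A) (hB : IsPGroup p B) (hs : (A.subgroupOf (A ⊔ B)).IsSubnormal) :
    IsPGroup p ↥(A ⊔ B) := by
  have h1 : A.subgroupOf (A ⊔ B) ≤ pCore p ↥(A ⊔ B) :=
    Cfsg.Agent.Helper9.subnormal_pGroup_le_pCore p _ hs hA.comap_subtype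
  have hO : IsPGroup p (pCore p ↥(A ⊔ B)) := Cfsg.Agent.Helper9.pCore_isPGroup' p _
  have hOc : (pCore p ↥(A ⊔ B)).Characteristic := Cfsg.Agent.Helper9.pCore_characteristic p
  have hOn : (pCore p ↥(A ⊔ B)).Normal := inferInstance
  have hB' : IsPGroup p (B.subgroupOf (A ⊔ B)) := hB.comap_subtype
  have h2 : IsPGroup p ↥(pCore p ↥(A ⊔ B) ⊔ B.subgroupOf (A ⊔ B)) :=
    IsPGroup.to_sup_of_normal_left hO hB'
  have h3 : pCore p ↥(A ⊔ B) ⊔ B.subgroupOf (A ⊔ B) = ⊤ := by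
    apply top_unique
    have : (A ⊔ B).subgroupOf (A ⊔ B) = A.subgroupOf (A ⊔ B) ⊔ B.subgroupOf (A ⊔ B) :=
      Subgroup.subgroupOf_sup le_sup_left le_sup_right
    rw [Subgroup.subgroupOf_self] at this
    rw [this]
    exact sup_le_sup_right h1 _
  intro g
  obtain ⟨k, hk⟩ := h2 ⟨g, h3 ▸ Subgroup.mem_top g⟩
  exact ⟨k, congrArg Subtype.val hk⟩

/-- The hypothesis in its `p`-group form. -/
def Hyp (p : ℕ) (A : Subgroup G) : Prop :=
  ∀ c : G, ∃ g : G, IsConj c g ∧ IsPGroup p ↥(A ⊔ MulAut.conj g • A)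

theorem hyp_of_subnormal [Finite G] {p : ℕ} [Fact p.Prime] {A : Subgroup G} (hA : IsPGroup p A)
    (h : ∀ c : G, ∃ g : G, IsConj c g ∧ (A.subgroupOf (A ⊔ MulAut.conj g • A)).IsSubnormal) :
    Hyp p A := by
  intro c
  obtain ⟨g, hcg, hs⟩ := h c
  exact ⟨g, hcg, isPGroup_sup_of_subnormal hA (conj_smul_isPGroup hA g) hs⟩

/-- The hypothesis passes to quotients. -/
theorem Hyp.map {p : ℕ} {A : Subgroup G} (h : Hyp p A) (N : Subgroup G) [N.Normal] :
    Hyp p (A.map (QuotientGroup.mk' N)) := by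
  intro c
  obtain ⟨c, rfl⟩ := QuotientGroup.mk'_surjective N c
  obtain ⟨g, hcg, hg⟩ := h c
  refine ⟨QuotientGroup.mk' N g, (QuotientGroup.mk' N).map_isConj hcg, ?_⟩
  have hle : A.map (QuotientGroup.mk' N) ⊔
      MulAut.conj (QuotientGroup.mk' N g) • A.map (QuotientGroup.mk' N) ≤
      (A ⊔ MulAut.conj g • A).map (QuotientGroup.mk' N) := by
    apply sup_le
    · exact Subgroup.map_mono le_sup_left
    · intro x hx
      obtain ⟨y, hy, rfl⟩ := exists_of_mem_conj_smul hx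
      obtain ⟨a, ha, rfl⟩ := hy
      refine ⟨g * a * g⁻¹, le_sup_right (a := A) (conj_mem_conj_smul ha g), ?_⟩
      rw [map_mul, map_mul, map_inv]
  exact (hg.map (QuotientGroup.mk' N)).to_le hle

end basic

section main

variable (key : ∀ (N : Type u) [CommGroup N] [Finite N] (p : ℕ) [Fact p.Prime], p ≠ 2 →
  (Nat.card N).Coprime p → ∀ (H M : Subgroup (MulAut N)), M ≤ H →
    (∀ h ∈ H, ∀ m ∈ M, h * m * h⁻¹ ∈ M) → IsPGroup p M → ∀ a ∈ M, a ≠ 1 →
      ∃ v : N, ∀ h ∈ H, (h * a * h⁻¹) v ≠ v)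

include key in
theorem main_aux (p : ℕ) [Fact p.Prime] (hp : p ≠ 2) :
    ∀ (n : ℕ) (G : Type u) [Group G] [Finite G], Nat.card G = n → Group.IsSolvable G →
      ∀ A : Subgroup G, IsPGroup p A → Hyp p A → A ≤ pCore p G := by
  intro n
  induction n using Nat.strong_induction_on with
  | _ n ih =>
  intro G _ _ hn hsol A hA hyp
  by_cases hnt : Nontrivial G
  swap
  · rw [not_nontrivial_iff_subsingleton] at hnt
    intro x _
    rw [Subsingleton.elim x 1]
    exact Subgroup.one_mem _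
  -- a nontrivial normal abelian r-subgroup
  have hsolT : Group.IsSolvable ↥(⊤ : Subgroup G) :=
    Group.isSolvable_of_isSolvable_injective (Subgroup.subtype_injective _)
  obtain ⟨r, hr, N₀, hN₀n, -, hN₀ne, hcomm, hN₀r⟩ :=
    Cfsg.Agent.Helper24.RealP.exists_normal_abelian_pgroup (⊤ : Subgroup G) hsolT top_ne_bot
  have hrF : Fact r.Prime := ⟨hr⟩
  have hcommG : ∀ x ∈ N₀, ∀ y ∈ N₀, x * y = y * x := fun x hx y hy =>
    congrArg Subtype.val (hcomm ⟨x, hx⟩ ⟨y, hy⟩)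
  -- the quotient
  have hlt : Nat.card (G ⧸ N₀) < n := by
    rw [← hn, ← Subgroup.index_eq_card, ← Subgroup.index_mul_card N₀]
    have h1 : 1 < Nat.card N₀ := by
      rw [Finite.one_lt_card_iff_nontrivial]
      exact (Subgroup.nontrivial_iff_ne_bot N₀).mpr hN₀ne
    have h0 : 0 < N₀.index := Nat.pos_of_ne_zero Subgroup.index_ne_zero_of_finite
    nlinarith
  have hsolQ : Group.IsSolvable (G ⧸ N₀) :=
    Group.isSolvable_of_surjective (QuotientGroup.mk'_surjective N₀)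
  have hAq : A.map (QuotientGroup.mk' N₀) ≤ pCore p (G ⧸ N₀) :=
    ih _ hlt (G ⧸ N₀) rfl hsolQ _ (hA.map _) (hyp.map N₀)
  have hOq : IsPGroup p (pCore p (G ⧸ N₀)) := Cfsg.Agent.Helper9.pCore_isPGroup' p _
  have hOqc : (pCore p (G ⧸ N₀)).Characteristic := Cfsg.Agent.Helper9.pCore_characteristic p
  have hOqn : (pCore p (G ⧸ N₀)).Normal := inferInstance
  set M : Subgroup G := (pCore p (G ⧸ N₀)).comap (QuotientGroup.mk' N₀) with hM
  have hMn : M.Normal := hOqn.comap _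
  have hAM : A ≤ M := Subgroup.map_le_iff_le_comap.mp hAq
  have hN₀M : N₀ ≤ M := by
    intro x hx
    rw [hM, Subgroup.mem_comap]
    have : QuotientGroup.mk' N₀ x = 1 := (QuotientGroup.eq_one_iff x).mpr hx
    rw [this]
    exact Subgroup.one_mem _
  have hMpow : ∀ m ∈ M, ∃ k : ℕ, m ^ p ^ k ∈ N₀ := by
    intro m hm
    obtain ⟨k, hk⟩ := hOq ⟨QuotientGroup.mk' N₀ m, hm⟩
    refine ⟨k, ?_⟩
    have : QuotientGroup.mk' N₀ (m ^ p ^ k) = 1 := by
      rw [map_pow]
      exact congrArg Subtype.val hk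
    exact (QuotientGroup.eq_one_iff _).mp this
  by_cases hrp : r = p
  · -- M is a normal p-subgroup
    subst hrp
    have hMp : IsPGroup r M := by
      rintro ⟨m, hm⟩
      obtain ⟨k, hk⟩ := hMpow m hm
      obtain ⟨j, hj⟩ := hN₀r ⟨m ^ r ^ k, hk⟩
      refine ⟨k + j, Subtype.ext ?_⟩
      have : (m ^ r ^ k) ^ r ^ j = 1 := congrArg Subtype.val hj
      rw [pow_add, pow_mul]
      exact this
    exact hAM.trans (Cfsg.Agent.Helper9.le_pCore' hMn hMp)
  -- r ≠ p
  have hcop : (Nat.card ↥N₀).Coprime p := by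
    obtain ⟨j, hj⟩ := hN₀r.exists_card_eq
    rw [hj]
    exact Nat.Coprime.pow_left j ((Nat.coprime_primes hr (Fact.out : p.Prime)).mpr hrp)
  have hpr_one : ∀ w : G, w ∈ N₀ → (∃ k : ℕ, w ^ p ^ k = 1) → w = 1 := by
    intro w hw ⟨k, hk⟩
    obtain ⟨j, hj⟩ := hN₀r ⟨w, hw⟩
    have hj' : w ^ r ^ j = 1 := congrArg Subtype.val hj
    have h1 : orderOf w ∣ p ^ k := orderOf_dvd_of_pow_eq_one hk
    have h2 : orderOf w ∣ r ^ j := orderOf_dvd_of_pow_eq_one hj'
    have h3 : Nat.Coprime (p ^ k) (r ^ j) :=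
      Nat.Coprime.pow k j ((Nat.coprime_primes (Fact.out : p.Prime) hr).mpr (Ne.symm hrp))
    exact orderOf_eq_one_iff.mp (Nat.eq_one_of_dvd_coprimes h3 h1 h2)
  -- A centralizes N₀
  have hAC : A ≤ Subgroup.centralizer (N₀ : Set G) := by
    by_contra hnot
    obtain ⟨a, haA, haC⟩ := SetLike.not_le_iff_exists.mp hnot
    let _ : CommGroup ↥N₀ := { (inferInstance : Group ↥N₀) with mul_comm := hcomm }
    let φ : G →* MulAut ↥N₀ := MulAut.conjNormal
    have hφ : ∀ (g : G) (v : ↥N₀), ((φ g v : ↥N₀) : G) = g * v * g⁻¹ := fun g v =>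
      MulAut.conjNormal_apply g v
    have hφN : ∀ x ∈ N₀, φ x = 1 := by
      intro x hx
      ext v
      rw [hφ, MulAut.one_apply, hcommG x hx v v.2, mul_inv_cancel_right]
    have hMp' : IsPGroup p ↥(M.map φ) := by
      rintro ⟨_, m, hm, rfl⟩
      obtain ⟨k, hk⟩ := hMpow m hm
      refine ⟨k, Subtype.ext ?_⟩
      show (φ m) ^ p ^ k = 1
      rw [← map_pow]
      exact hφN _ hk
    have hnorm : ∀ h ∈ φ.range, ∀ m ∈ M.map φ, h * m * h⁻¹ ∈ M.map φ := by
      rintro _ ⟨x, rfl⟩ _ ⟨m, hm, rfl⟩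
      exact ⟨x * m * x⁻¹, hMn.conj_mem m hm x, by rw [map_mul, map_mul, map_inv]⟩
    have hφa : φ a ≠ 1 := by
      intro h1
      apply haC
      rw [Subgroup.mem_centralizer_iff]
      intro v hv
      have := hφ a ⟨v, hv⟩
      rw [h1, MulAut.one_apply] at this
      show v * a = a * v
      have h2 : a * v * a⁻¹ = v := this.symm
      calc v * a = (a * v * a⁻¹) * a := by rw [h2]
        _ = a * v := by group
    obtain ⟨v, hv⟩ := key ↥N₀ p hp hcop φ.range (M.map φ) (Subgroup.map_le_range φ M) hnorm hMp'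
      (φ a) (Subgroup.mem_map_of_mem φ (hAM haA)) hφa
    obtain ⟨g, hvg, hgp⟩ := hyp (v : G)
    obtain ⟨x, hx⟩ := isConj_iff.mp hvg
    have hgN : g ∈ N₀ := hx ▸ hN₀n.conj_mem _ v.2 x
    have hw1 : a⁻¹ * (g * a * g⁻¹) ∈ A ⊔ MulAut.conj g • A :=
      Subgroup.mul_mem _ (le_sup_left (a := A) (A.inv_mem haA))
        (le_sup_right (a := A) (conj_mem_conj_smul haA g))
    have hw2 : a⁻¹ * (g * a * g⁻¹) ∈ N₀ := by
      have : a⁻¹ * (g * a * g⁻¹) = (a⁻¹ * g * a⁻¹⁻¹) * g⁻¹ := by group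
      rw [this]
      exact N₀.mul_mem (hN₀n.conj_mem g hgN a⁻¹) (N₀.inv_mem hgN)
    have hw3 : a⁻¹ * (g * a * g⁻¹) = 1 := by
      apply hpr_one _ hw2
      obtain ⟨k, hk⟩ := hgp ⟨_, hw1⟩
      exact ⟨k, congrArg Subtype.val hk⟩
    have hcomm_ag : g * a = a * g := by
      have : g * a * g⁻¹ = a := by
        have := congrArg (fun t => a * t) hw3
        simpa using this
      calc g * a = (g * a * g⁻¹) * g := by group
        _ = a * g := by rw [this]
    apply hv (φ x⁻¹) ⟨x⁻¹, rfl⟩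
    apply Subtype.ext
    have : φ x⁻¹ * φ a * (φ x⁻¹)⁻¹ = φ (x⁻¹ * a * x) := by
      rw [map_mul, map_mul, map_inv, inv_inv]
    rw [this, hφ]
    -- (x⁻¹ a x) v (x⁻¹ a x)⁻¹ = v
    have hg : g = x * v * x⁻¹ := hx.symm
    rw [hg] at hcomm_ag
    have : x⁻¹ * a * x * (v : G) = (v : G) * (x⁻¹ * a * x) := by
      have h1 : x⁻¹ * (a * (x * v * x⁻¹)) * x = x⁻¹ * ((x * v * x⁻¹) * a) * x := by
        rw [hcomm_ag]
      calc x⁻¹ * a * x * (v : G) = x⁻¹ * (a * (x * v * x⁻¹)) * x := by group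
        _ = x⁻¹ * ((x * v * x⁻¹) * a) * x := h1
        _ = (v : G) * (x⁻¹ * a * x) := by group
    rw [this, mul_inv_cancel_right]
  -- the subgroup C = M ⊓ C_G(N₀)
  set C : Subgroup G := M ⊓ Subgroup.centralizer (N₀ : Set G) with hC
  have hCn : C.Normal := by
    have : (Subgroup.centralizer (N₀ : Set G)).Normal := Subgroup.normal_centralizer
    exact Subgroup.normal_inf_normal _ _
  have hAC' : A ≤ C := le_inf hAM hAC
  -- C is nilpotent
  let f : ↥C →* ↥(pCore p (G ⧸ N₀)) :=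
    ((QuotientGroup.mk' N₀).comp C.subtype).codRestrict _ (fun c => by
      have : (c : G) ∈ M := c.2.1
      exact this)
  have hker : f.ker ≤ Subgroup.center ↥C := by
    intro c hc
    rw [MonoidHom.mem_ker] at hc
    have hcN : (c : G) ∈ N₀ := by
      have : QuotientGroup.mk' N₀ (c : G) = 1 := congrArg Subtype.val hc
      exact (QuotientGroup.eq_one_iff _).mp this
    rw [Subgroup.mem_center_iff]
    intro d
    apply Subtype.ext
    have hd : (d : G) ∈ Subgroup.centralizer (N₀ : Set G) := d.2.2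
    rw [Subgroup.mem_centralizer_iff] at hd
    exact (hd _ hcN).symm
  have hnilO : Group.IsNilpotent ↥(pCore p (G ⧸ N₀)) := hOq.isNilpotent
  have hnilC : Group.IsNilpotent ↥C := Subgroup.isNilpotent_of_ker_le_center f hker
  -- the Sylow p-subgroup of C
  obtain ⟨Q, hQ⟩ := (hA.comap_subtype : IsPGroup p (A.subgroupOf C)).exists_le_sylow
  have hQn : (Q : Subgroup ↥C).Normal := inferInstance
  have hQc : (Q : Subgroup ↥C).Characteristic := Sylow.characteristic_of_normal Q hQn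
  have hQG : ((Q : Subgroup ↥C).map C.subtype).Normal :=
    ConjAct.normal_of_characteristic_of_normal
  have hQp : IsPGroup p ((Q : Subgroup ↥C).map C.subtype) := Q.2.map _
  refine le_trans ?_ (Cfsg.Agent.Helper9.le_pCore' hQG hQp)
  intro a ha
  exact ⟨⟨a, hAC' ha⟩, hQ (Subgroup.mem_subgroupOf.mpr ha), rfl⟩

include key in
/-- Piece 3: S4330 from the key lemma. -/
theorem s4330_of_key {G : Type u} [Group G] [Finite G] (hG : Group.IsSolvable G) (p : ℕ)
    [Fact p.Prime] (hp : p ≠ 2) (A : Subgroup G) (hA : IsPGroup p A)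
    (h : ∀ c : G, ∃ g : G, IsConj c g ∧
      (A.subgroupOf (A ⊔ MulAut.conj g • A)).IsSubnormal) : A ≤ Cfsg.pCore p G :=
  main_aux key p hp _ G rfl hG A hA (hyp_of_subnormal hA h)

end main

end Cfsg.Agent.Helper16.S4330P3
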