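import Mathlib
import Cfsg.Agent.Lib.Helper16.SL2CentB
import Cfsg.Agent.Lib.Helper12.SL2Upper

set_option autoImplicit false
set_option linter.style.haveILetI false
set_option linter.unusedSectionVars false

namespace Cfsg.Agent.Helper16.SL2Cent

open Matrix Matrix.SpecialLinearGroup
open scoped MatrixGroups

theorem mem_map_conj {G : Type*} [Group G] (L : Subgroup G) (n x : G) :
    x ∈ L.map (MulAut.conj n).toMonoidHom ↔ n⁻¹ * x * n ∈ L := by
  constructor
  · rintro ⟨y, hy, rfl⟩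
    have : n⁻¹ * ((MulAut.conj n).toMonoidHom y) * n = y := by
      simp only [MulEquiv.coe_toMonoidHom, MulAut.conj_apply]
      group
    rw [this]
    exact hy
  · intro h
    refine ⟨n⁻¹ * x * n, h, ?_⟩
    simp only [MulEquiv.coe_toMonoidHom, MulAut.conj_apply]
    group

theorem two_ne_zero_of_odd {F : Type*} [Field F] [Fintype F] (hF : Odd (Fintype.card F)) :
    (2 : F) ≠ 0 := by
  apply Ring.two_ne_zero
  intro h
  rw [FiniteField.even_card_iff_char_two] at h
  rw [Nat.odd_iff] at hF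
  omega

theorem two_lt_card_SL2 {F : Type*} [Field F] [Fintype F] : 2 < Nat.card SL(2, F) := by
  rw [Cfsg.Agent.Helper12.card_SL2]
  have hq : 2 ≤ Fintype.card F := Fintype.one_lt_card
  have : 2 * 2 ≤ Fintype.card F ^ 2 := by
    rw [pow_two]; exact Nat.mul_le_mul hq hq
  have h3 : 3 ≤ Fintype.card F ^ 2 - 1 := by omega
  calc 2 < 2 * 3 := by norm_num
    _ ≤ Fintype.card F * (Fintype.card F ^ 2 - 1) := Nat.mul_le_mul hq h3

theorem card_eq_of_card_SL2_eq {F₁ : Type*} [Field F₁] [Fintype F₁] {F₂ : Type*} [Field F₂]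
    [Fintype F₂] (h : Nat.card SL(2, F₁) = Nat.card SL(2, F₂)) :
    Fintype.card F₁ = Fintype.card F₂ := by
  rw [Cfsg.Agent.Helper12.card_SL2, Cfsg.Agent.Helper12.card_SL2] at h
  have hq₁ : 2 ≤ Fintype.card F₁ := Fintype.one_lt_card
  have hq₂ : 2 ≤ Fintype.card F₂ := Fintype.one_lt_card
  have key : ∀ a b : ℕ, 2 ≤ a → a < b → a * (a ^ 2 - 1) < b * (b ^ 2 - 1) := by
    intro a b ha hab
    have h1 : a ^ 2 ≤ b ^ 2 := Nat.pow_le_pow_left hab.le 2
    have h2 : a ^ 2 - 1 ≤ b ^ 2 - 1 := Nat.sub_le_sub_right h1 1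
    have h3 : 2 * 2 ≤ b ^ 2 := by
      rw [pow_two]; exact Nat.mul_le_mul (by omega) (by omega)
    have h4 : 0 < b ^ 2 - 1 := by omega
    calc a * (a ^ 2 - 1) ≤ a * (b ^ 2 - 1) := Nat.mul_le_mul_left a h2
      _ < b * (b ^ 2 - 1) := Nat.mul_lt_mul_of_pos_right hab h4
  rcases Nat.lt_trichotomy (Fintype.card F₁) (Fintype.card F₂) with h' | h' | h'
  · exact absurd h (key _ _ hq₁ h').ne
  · exact h'
  · exact absurd h.symm (key _ _ hq₂ h').ne

section conj

variable {G : Type*} [Group G] [Finite G] {F₁ : Type*} [Field F₁] [Fintype F₁] {F₂ : Type*}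
  [Field F₂] [Fintype F₂]

/-- an element normalizing a central product of two copies of `SL₂` over fields of odd order and
centralizing the common central involution fixes or swaps the two factors -/
theorem conj_cases (h21 : (2 : F₁) ≠ 0) (h22 : (2 : F₂) ≠ 0) (L₁ L₂ : Subgroup G)
    (e₁ : ↥L₁ ≃* SL(2, F₁)) (e₂ : ↥L₂ ≃* SL(2, F₂))
    (hc : ∀ x ∈ L₁, ∀ y ∈ L₂, x * y = y * x)
    (j : G) (hj : orderOf j = 2) (hm : L₁ ⊓ L₂ = Subgroup.zpowers j)
    (n : G) (hnj : n * j = j * n) (hnM : ∀ x ∈ L₁ ⊔ L₂, n * x * n⁻¹ ∈ L₁ ⊔ L₂)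
    (hnM' : ∀ x ∈ L₁ ⊔ L₂, n⁻¹ * x * n ∈ L₁ ⊔ L₂) :
    (L₁.map (MulAut.conj n).toMonoidHom = L₁ ∧ L₂.map (MulAut.conj n).toMonoidHom = L₂) ∨
      (L₁.map (MulAut.conj n).toMonoidHom = L₂ ∧ L₂.map (MulAut.conj n).toMonoidHom = L₁ ∧
        Fintype.card F₁ = Fintype.card F₂) := by
  set c := (MulAut.conj n).toMonoidHom with hcdef
  have hcinj : Function.Injective c := (MulAut.conj n).injective
  set N := L₁.map c with hNdef
  set K := L₂.map c with hKdef
  have hcardN : Nat.card N = Nat.card L₁ :=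
    (Nat.card_congr (L₁.equivMapOfInjective c hcinj).toEquiv).symm
  have hcardK : Nat.card K = Nat.card L₂ :=
    (Nat.card_congr (L₂.equivMapOfInjective c hcinj).toEquiv).symm
  have hcardL₁ : Nat.card L₁ = Nat.card SL(2, F₁) := Nat.card_congr e₁.toEquiv
  have hcardL₂ : Nat.card L₂ = Nat.card SL(2, F₂) := Nat.card_congr e₂.toEquiv
  let eN : ↥N ≃* SL(2, F₁) := (L₁.equivMapOfInjective c hcinj).symm.trans e₁
  let eK : ↥K ≃* SL(2, F₂) := (L₂.equivMapOfInjective c hcinj).symm.trans e₂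
  have hsup : N ⊔ K = L₁ ⊔ L₂ := by
    rw [hNdef, hKdef, ← Subgroup.map_sup]
    apply le_antisymm
    · rintro _ ⟨x, hx, rfl⟩
      exact hnM x hx
    · intro x hx
      rw [hcdef, mem_map_conj]
      exact hnM' x hx
  have hcNK : ∀ x ∈ N, ∀ y ∈ K, x * y = y * x := by
    rintro _ ⟨x, hx, rfl⟩ _ ⟨y, hy, rfl⟩
    rw [← map_mul, ← map_mul, hc x hx y hy]
  have hinf : N ⊓ K = Subgroup.zpowers j := by
    rw [hNdef, hKdef, ← Subgroup.map_inf_eq _ _ _ hcinj, hm, MonoidHom.map_zpowers]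
    congr 1
    rw [hcdef]
    simp only [MulEquiv.coe_toMonoidHom, MulAut.conj_apply]
    rw [hnj]; group
  have hsmall : ∀ (X : Subgroup G), X ≤ Subgroup.zpowers j → Nat.card X ≤ 2 := by
    intro X hX
    calc Nat.card X ≤ Nat.card (Subgroup.zpowers j) := Subgroup.card_le_of_le hX
      _ = 2 := by rw [Nat.card_zpowers, hj]
  have hbigN : 2 < Nat.card N := by rw [hcardN, hcardL₁]; exact two_lt_card_SL2
  have hbigK : 2 < Nat.card K := by rw [hcardK, hcardL₂]; exact two_lt_card_SL2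
  have hL₁sup : L₁ ≤ N ⊔ K := by rw [hsup]; exact le_sup_left
  have hL₂sup : L₂ ≤ N ⊔ K := by rw [hsup]; exact le_sup_right
  have hNsup : N ≤ L₁ ⊔ L₂ := by rw [← hsup]; exact le_sup_left
  have hKsup : K ≤ L₁ ⊔ L₂ := by rw [← hsup]; exact le_sup_right
  have hN := le_or_le h21 h22 N K L₁ L₂ eN eK hcNK hc j hj hinf hNsup hKsup hL₁sup
  have hK := le_or_le h22 h21 K N L₂ L₁ eK eN (fun x hx y hy => (hcNK y hy x hx).symm)
    (fun x hx y hy => (hc y hy x hx).symm) j hj (by rw [inf_comm]; exact hinf)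
    (by rw [sup_comm]; exact hKsup) (by rw [sup_comm]; exact hNsup)
    (by rw [sup_comm]; exact hL₂sup)
  rcases hN with hN | hN
  · -- `N = L₁`
    have hNeq : N = L₁ := Subgroup.eq_of_le_of_card_ge hN (by rw [hcardN])
    left
    refine ⟨hNeq, ?_⟩
    rcases hK with hK | hK
    · exact Subgroup.eq_of_le_of_card_ge hK (by rw [hcardK])
    · exfalso
      have : K ≤ N ⊓ K := le_inf (by rw [hNeq]; exact hK) le_rfl
      rw [hinf] at this
      have := hsmall K this
      omega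
  · -- `N ≤ L₂`
    right
    have h2 := le_or_le h22 h21 L₂ L₁ N K e₂ e₁ (fun x hx y hy => (hc y hy x hx).symm) hcNK j hj
      (by rw [inf_comm]; exact hm) hL₂sup hL₁sup (by rw [sup_comm]; exact hNsup)
    have hNeq : N = L₂ := by
      rcases h2 with h2 | h2
      · exact le_antisymm hN h2
      · exfalso
        have : N ≤ N ⊓ K := le_inf le_rfl (hN.trans h2)
        rw [hinf] at this
        have := hsmall N this
        omega
    have hcards : Nat.card L₁ = Nat.card L₂ := by rw [← hcardN, hNeq]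
    refine ⟨hNeq, ?_, ?_⟩
    · rcases hK with hK | hK
      · exfalso
        have : K ≤ N ⊓ K := le_inf (by rw [hNeq]; exact hK) le_rfl
        rw [hinf] at this
        have := hsmall K this
        omega
      · exact Subgroup.eq_of_le_of_card_ge hK (by rw [hcardK, hcards])
    · apply card_eq_of_card_SL2_eq
      rw [← hcardL₁, ← hcardL₂, hcards]

end conj

end Cfsg.Agent.Helper16.SL2Cent
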