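import Mathlib
import Cfsg.Agent.Lib.Helper12.SL2Odd

set_option autoImplicit false

namespace Cfsg.Agent.Helper16

open Matrix

variable {F : Type*} [Field F]

/-- The central element `-1` of `SL₂(F)`. -/
def negOneSL (F : Type*) [Field F] : Matrix.SpecialLinearGroup (Fin 2) F :=
  ⟨!![-1, 0; 0, -1], by simp [Matrix.det_fin_two]⟩

/-- The element `[[0,1],[-1,0]]` of `SL₂(F)`, whose square is `-1`. -/
def wSL (F : Type*) [Field F] : Matrix.SpecialLinearGroup (Fin 2) F :=
  ⟨!![0, 1; -1, 0], by simp [Matrix.det_fin_two]⟩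

theorem negOneSL_sq : (negOneSL F) ^ 2 = 1 := by
  apply Subtype.ext
  rw [pow_two, Matrix.SpecialLinearGroup.coe_mul]
  ext i j
  fin_cases i <;> fin_cases j <;> simp [negOneSL, Matrix.mul_apply, Fin.sum_univ_two]

theorem wSL_sq : (wSL F) ^ 2 = negOneSL F := by
  apply Subtype.ext
  rw [pow_two, Matrix.SpecialLinearGroup.coe_mul]
  ext i j
  fin_cases i <;> fin_cases j <;> simp [negOneSL, wSL, Matrix.mul_apply, Fin.sum_univ_two]

theorem negOneSL_ne_one (h2 : (2 : F) ≠ 0) : negOneSL F ≠ 1 := by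
  intro h
  have h1 := congrArg (fun A : Matrix.SpecialLinearGroup (Fin 2) F =>
    (A : Matrix (Fin 2) (Fin 2) F) 0 0) h
  simp only [negOneSL, Matrix.SpecialLinearGroup.coe_one] at h1
  simp at h1
  apply h2
  linear_combination (-1 : F) * h1

theorem sl2_entries (A : Matrix.SpecialLinearGroup (Fin 2) F) :
    (A : Matrix (Fin 2) (Fin 2) F) 0 0 * (A : Matrix (Fin 2) (Fin 2) F) 1 1
      - (A : Matrix (Fin 2) (Fin 2) F) 0 1 * (A : Matrix (Fin 2) (Fin 2) F) 1 0 = 1 := by
  have := A.2
  rwa [Matrix.det_fin_two] at this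

theorem sl2_sq_entries (A B : Matrix.SpecialLinearGroup (Fin 2) F) (h : A ^ 2 = B) :
    (A : Matrix (Fin 2) (Fin 2) F) 0 0 * (A : Matrix (Fin 2) (Fin 2) F) 0 0
        + (A : Matrix (Fin 2) (Fin 2) F) 0 1 * (A : Matrix (Fin 2) (Fin 2) F) 1 0
        = (B : Matrix (Fin 2) (Fin 2) F) 0 0 ∧
    (A : Matrix (Fin 2) (Fin 2) F) 0 0 * (A : Matrix (Fin 2) (Fin 2) F) 0 1
        + (A : Matrix (Fin 2) (Fin 2) F) 0 1 * (A : Matrix (Fin 2) (Fin 2) F) 1 1
        = (B : Matrix (Fin 2) (Fin 2) F) 0 1 ∧
    (A : Matrix (Fin 2) (Fin 2) F) 1 0 * (A : Matrix (Fin 2) (Fin 2) F) 0 0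
        + (A : Matrix (Fin 2) (Fin 2) F) 1 1 * (A : Matrix (Fin 2) (Fin 2) F) 1 0
        = (B : Matrix (Fin 2) (Fin 2) F) 1 0 ∧
    (A : Matrix (Fin 2) (Fin 2) F) 1 0 * (A : Matrix (Fin 2) (Fin 2) F) 0 1
        + (A : Matrix (Fin 2) (Fin 2) F) 1 1 * (A : Matrix (Fin 2) (Fin 2) F) 1 1
        = (B : Matrix (Fin 2) (Fin 2) F) 1 1 := by
  have h' : (A : Matrix (Fin 2) (Fin 2) F) * (A : Matrix (Fin 2) (Fin 2) F)
      = (B : Matrix (Fin 2) (Fin 2) F) := by
    rw [← Matrix.SpecialLinearGroup.coe_mul, ← pow_two, h]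
  refine ⟨?_, ?_, ?_, ?_⟩
  · have := congrFun (congrFun h' 0) 0
    simpa [Matrix.mul_apply, Fin.sum_univ_two] using this
  · have := congrFun (congrFun h' 0) 1
    simpa [Matrix.mul_apply, Fin.sum_univ_two] using this
  · have := congrFun (congrFun h' 1) 0
    simpa [Matrix.mul_apply, Fin.sum_univ_two] using this
  · have := congrFun (congrFun h' 1) 1
    simpa [Matrix.mul_apply, Fin.sum_univ_two] using this

/-- In odd characteristic the only involution of `SL₂(F)` is `-1`. -/
theorem sl2_eq_one_or_negOne_of_sq_eq_one (h2 : (2 : F) ≠ 0)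
    (A : Matrix.SpecialLinearGroup (Fin 2) F) (hA : A ^ 2 = 1) : A = 1 ∨ A = negOneSL F := by
  obtain ⟨h00, h01, h10, h11⟩ := sl2_sq_entries A 1 hA
  have hdet := sl2_entries A
  simp only [Matrix.SpecialLinearGroup.coe_one, Matrix.one_apply_eq, ne_eq, zero_ne_one,
    not_false_eq_true, Matrix.one_apply_ne, one_ne_zero] at h00 h01 h10 h11
  set a := (A : Matrix (Fin 2) (Fin 2) F) 0 0 with ha
  set b := (A : Matrix (Fin 2) (Fin 2) F) 0 1 with hb
  set c := (A : Matrix (Fin 2) (Fin 2) F) 1 0 with hc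
  set d := (A : Matrix (Fin 2) (Fin 2) F) 1 1 with hd
  have htr : a + d ≠ 0 := by
    intro h
    have hd' : d = -a := by linear_combination h
    apply h2
    rw [hd'] at hdet
    linear_combination (-1 : F) * h00 + (-1 : F) * hdet
  have hb0 : b = 0 := by
    have : b * (a + d) = 0 := by linear_combination h01
    rcases mul_eq_zero.1 this with h | h
    · exact h
    · exact absurd h htr
  have hc0 : c = 0 := by
    have : c * (a + d) = 0 := by linear_combination h10
    rcases mul_eq_zero.1 this with h | h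
    · exact h
    · exact absurd h htr
  rw [hb0] at h00 hdet
  have haa : (a - 1) * (a + 1) = 0 := by linear_combination h00
  have had : a * d = 1 := by linear_combination hdet
  rcases mul_eq_zero.1 haa with h | h
  · left
    have ha1 : a = 1 := by linear_combination h
    have hd1 : d = 1 := by rw [ha1] at had; linear_combination had
    apply Subtype.ext
    ext i j
    fin_cases i <;> fin_cases j
    · simpa using ha1
    · simpa using hb0
    · simpa using hc0
    · simpa using hd1
  · right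
    have ha1 : a = -1 := by linear_combination h
    have hd1 : d = -1 := by rw [ha1] at had; linear_combination (-1 : F) * had
    apply Subtype.ext
    ext i j
    fin_cases i <;> fin_cases j
    · simpa [negOneSL] using ha1
    · simpa [negOneSL] using hb0
    · simpa [negOneSL] using hc0
    · simpa [negOneSL] using hd1

/-- An element of `SL₂(F)` squaring to `-1` has trace `0` (odd characteristic). -/
theorem sl2_trace_eq_zero_of_sq_eq_negOne
    (A : Matrix.SpecialLinearGroup (Fin 2) F) (hA : A ^ 2 = negOneSL F) :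
    (A : Matrix (Fin 2) (Fin 2) F) 0 0 + (A : Matrix (Fin 2) (Fin 2) F) 1 1 = 0 := by
  obtain ⟨h00, h01, h10, h11⟩ := sl2_sq_entries A _ hA
  have hdet := sl2_entries A
  simp only [negOneSL, Matrix.of_apply, Matrix.cons_val', Matrix.cons_val_zero,
    Matrix.cons_val_one, Matrix.cons_val_fin_one] at h00 h01 h10 h11
  set a := (A : Matrix (Fin 2) (Fin 2) F) 0 0 with ha
  set b := (A : Matrix (Fin 2) (Fin 2) F) 0 1 with hb
  set c := (A : Matrix (Fin 2) (Fin 2) F) 1 0 with hc
  set d := (A : Matrix (Fin 2) (Fin 2) F) 1 1 with hd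
  by_contra htr
  have hb0 : b = 0 := by
    have : b * (a + d) = 0 := by linear_combination h01
    rcases mul_eq_zero.1 this with h | h
    · exact h
    · exact absurd h htr
  rw [hb0] at h00 hdet
  -- a^2 = -1, a d = 1, so d = -a
  apply htr
  have had : a * d = 1 := by linear_combination hdet
  have ha0 : a ≠ 0 := by
    intro h
    rw [h] at had
    simp at had
  have : a * (a + d) = 0 := by linear_combination h00 + had
  rcases mul_eq_zero.1 this with h | h
  · exact absurd h ha0
  · exact h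

theorem ringChar_ne_two_of_two_ne_zero (h2 : (2 : F) ≠ 0) : ringChar F ≠ 2 := by
  intro h
  apply h2
  have := ringChar.Nat.cast_ringChar (R := F)
  rw [h] at this
  exact_mod_cast this

/-- Over a finite field of odd characteristic, any two elements of `SL₂(F)` squaring to `-1` are
conjugate in `SL₂(F)`. -/
theorem sl2_isConj_of_sq_eq_negOne [Fintype F] (h2 : (2 : F) ≠ 0)
    (A B : Matrix.SpecialLinearGroup (Fin 2) F) (hA : A ^ 2 = negOneSL F)
    (hB : B ^ 2 = negOneSL F) : IsConj A B := by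
  have hF : ringChar F ≠ 2 := ringChar_ne_two_of_two_ne_zero h2
  have h4 : (4 : F) ≠ 0 := by
    have : (4 : F) = 2 * 2 := by norm_num
    rw [this]; exact mul_ne_zero h2 h2
  have key : ∀ C : Matrix.SpecialLinearGroup (Fin 2) F, C ^ 2 = negOneSL F →
      (C : Matrix (Fin 2) (Fin 2) F).trace = 0 ∧
        ¬ Cfsg.Agent.Helper12.IsScalar2 (C : Matrix (Fin 2) (Fin 2) F) ∧
        Cfsg.Agent.Helper12.Rep1 C := by
    intro C hC
    have htr := sl2_trace_eq_zero_of_sq_eq_negOne C hC
    have htr' : (C : Matrix (Fin 2) (Fin 2) F).trace = 0 := by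
      rw [Matrix.trace_fin_two]; exact htr
    refine ⟨htr', ?_, ?_⟩
    · rintro ⟨h01, h10, h00⟩
      have hdet := sl2_entries C
      rw [h01] at hdet
      have h1 : (2 : F) * (C : Matrix (Fin 2) (Fin 2) F) 0 0 = 0 := by
        linear_combination htr + h00
      rcases mul_eq_zero.1 h1 with h | h
      · exact h2 h
      · rw [h] at hdet
        simp at hdet
    · apply Cfsg.Agent.Helper12.rep1_of_trace_sq_ne hF
      rw [htr']
      intro h
      apply h4
      rw [← h]; ring
  obtain ⟨hA1, hA2, hA3⟩ := key A hA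
  obtain ⟨hB1, hB2, hB3⟩ := key B hB
  rw [Cfsg.Agent.Helper12.SL2_isConj_iff hF A B hA2 hB2]
  exact ⟨hA1.trans hB1.symm, ⟨fun _ => hB3, fun _ => hA3⟩⟩

end Cfsg.Agent.Helper16
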