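import Mathlib
import Cfsg.Agent.Lib.Helper16.MaxClass
import Cfsg.Agent.Lib.Helper16.MaxClassTwo
import Cfsg.Agent.Lib.Helper16.CyclicTwo

set_option autoImplicit false
set_option linter.unusedSectionVars false
set_option linter.style.haveILetI false

namespace Cfsg.Agent.Helper16
namespace O360

/-- A dihedral group of order eight has the standard generators. -/
theorem exists_dihedral_generators {X : Type*} [Group X] (e : X ≃* DihedralGroup 4) :
    ∃ a s : X, orderOf a = 4 ∧ s * s = 1 ∧ s * a * s = a⁻¹ ∧ s ∉ Subgroup.zpowers a := by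
  refine ⟨e.symm (DihedralGroup.r 1), e.symm (DihedralGroup.sr 0), ?_, ?_, ?_, ?_⟩
  · rw [MulEquiv.orderOf_eq, DihedralGroup.orderOf_r_one]
  · rw [← map_mul, DihedralGroup.sr_mul_self, map_one]
  · rw [← map_mul, ← map_mul, ← map_inv]
    congr 1
  · intro hmem
    obtain ⟨k, hk⟩ := Subgroup.mem_zpowers_iff.1 hmem
    have h1 : (DihedralGroup.r (1 : ZMod 4)) ^ k = DihedralGroup.sr 0 := by
      have := congrArg e hk
      rwa [map_zpow, MulEquiv.apply_symm_apply, MulEquiv.apply_symm_apply] at this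
    rw [DihedralGroup.r_one_zpow] at h1
    exact absurd h1 (by simp)

/-- An element of order three normalizing a dihedral group of order eight centralizes it. -/
theorem commute_of_normalizes_dihedral {C : Type*} [Group C] (P : Subgroup C)
    (hP : Nat.card P = 8) {a s : C} (haP : a ∈ P) (hsP : s ∈ P) (ha : orderOf a = 4)
    (hs : s * s = 1) (hsa : s * a * s = a⁻¹) (hsn : s ∉ Subgroup.zpowers a)
    {c : C} (hc : c ∈ Subgroup.normalizer (P : Set C)) (hc3 : c ^ 3 = 1) :
    ∀ x ∈ P, c * x = x * c := by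
  set A : Subgroup C := Subgroup.zpowers a with hA
  have hAP : A ≤ P := by rw [hA, Subgroup.zpowers_le]; exact haP
  have ha4 : a ^ 4 = 1 := by rw [← ha]; exact pow_orderOf_eq_one a
  have hsinv : s⁻¹ = s := inv_eq_of_mul_eq_one_left hs
  -- `A` has index two in `P`
  set A' : Subgroup P := Subgroup.zpowers (⟨a, haP⟩ : P) with hA'
  have hA'4 : Nat.card A' = 4 := by
    rw [Nat.card_zpowers, ← Subgroup.orderOf_coe]; exact ha
  have hA'idx : A'.index = 2 := by
    have := A'.card_mul_index
    rw [hA'4, hP] at this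
    omega
  have hmemA' : ∀ x : P, x ∈ A' ↔ (x : C) ∈ A := by
    intro x
    rw [hA', hA, Subgroup.mem_zpowers_iff, Subgroup.mem_zpowers_iff]
    constructor
    · rintro ⟨k, hk⟩
      exact ⟨k, by rw [← hk]; simp⟩
    · rintro ⟨k, hk⟩
      exact ⟨k, Subtype.ext (by rw [← hk]; simp)⟩
  have hsA' : (⟨s, hsP⟩ : P) ∉ A' := by rw [hmemA']; exact hsn
  have hrep : ∀ x ∈ P, x ∈ A ∨ s * x ∈ A := by
    intro x hx
    rcases mem_or_inv_mul_mem_of_index_two hA'idx hsA' ⟨x, hx⟩ with h1 | h1
    · left; exact (hmemA' _).1 h1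
    · right
      have := (hmemA' _).1 h1
      simpa [hsinv] using this
  -- conjugation by `s` inverts `A`
  have hsinvA : ∀ w ∈ A, s * w * s = w⁻¹ := by
    intro w hw
    obtain ⟨k, rfl⟩ := Subgroup.mem_zpowers_iff.1 hw
    have h1 : s * a ^ k * s = (s * a * s) ^ k := by
      have : s * a * s = MulAut.conj s a := by rw [MulAut.conj_apply, hsinv]
      rw [this, ← map_zpow, MulAut.conj_apply, hsinv]
    rw [h1, hsa, inv_zpow]
  -- elements of `P` outside `A` are involutions
  have hsq : ∀ x ∈ P, x ∉ A → x * x = 1 := by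
    intro x hx hxA
    rcases hrep x hx with h1 | h1
    · exact absurd h1 hxA
    · have h2 := hsinvA _ h1
      -- s * (s * x) * s = (s * x)⁻¹
      have h3 : s * (s * x) * s = x * s := by rw [← mul_assoc, hs, one_mul]
      rw [h3] at h2
      -- x * s = x⁻¹ * s⁻¹
      have h4 : x * s = x⁻¹ * s := by rw [h2, mul_inv_rev, hsinv]
      have h5 : x = x⁻¹ := mul_right_cancel h4
      calc x * x = x * x⁻¹ := by rw [← h5]
        _ = 1 := mul_inv_cancel x
  -- conjugation by `c`
  have hcP : ∀ x ∈ P, c * x * c⁻¹ ∈ P := fun x hx => (Subgroup.mem_normalizer_iff.1 hc x).1 hx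
  have hord : orderOf (c * a * c⁻¹) = 4 := by
    rw [← ha]
    have : c * a * c⁻¹ = MulAut.conj c a := by rw [MulAut.conj_apply]
    rw [this, MulEquiv.orderOf_eq]
  have hcaA : c * a * c⁻¹ ∈ A := by
    by_contra hn
    have h1 := hsq _ (hcP a haP) hn
    have h2 : orderOf (c * a * c⁻¹) ∣ 2 := orderOf_dvd_of_pow_eq_one (by rw [pow_two]; exact h1)
    rw [hord] at h2
    norm_num at h2
  have hca : c * a * c⁻¹ = a := by
    obtain ⟨k, hk, hka⟩ := mem_zpowers_exists_nat (by norm_num) ha hcaA
    interval_cases k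
    · exfalso
      rw [pow_zero] at hka
      rw [hka, orderOf_one] at hord
      norm_num at hord
    · rw [hka, pow_one]
    · exfalso
      rw [hka] at hord
      have h1 : (a ^ 2) ^ 2 = 1 := by rw [← pow_mul]; exact ha4
      have := orderOf_dvd_of_pow_eq_one h1
      rw [hord] at this
      norm_num at this
    · exfalso
      -- `c` inverts `a`, impossible for an element of order three
      have hinv : c * a * c⁻¹ = a⁻¹ := by
        rw [hka, eq_inv_iff_mul_eq_one, ← pow_succ]; exact ha4
      have hinv' : c * a⁻¹ * c⁻¹ = a := by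
        have : c * a⁻¹ * c⁻¹ = (c * a * c⁻¹)⁻¹ := by group
        rw [this, hinv, inv_inv]
      have h3 : c ^ 3 * a * (c ^ 3)⁻¹ = a⁻¹ := by
        calc c ^ 3 * a * (c ^ 3)⁻¹ = c * (c * (c * a * c⁻¹) * c⁻¹) * c⁻¹ := by
              simp only [pow_succ, pow_zero, one_mul, mul_inv_rev, mul_assoc]
          _ = c * (c * a⁻¹ * c⁻¹) * c⁻¹ := by rw [hinv]
          _ = c * a * c⁻¹ := by rw [hinv']
          _ = a⁻¹ := hinv
      rw [hc3] at h3
      have h4 : a = a⁻¹ := by simpa using h3
      have h5 : a ^ 2 = 1 := by rw [pow_two]; nth_rewrite 2 [h4]; exact mul_inv_cancel a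
      have := orderOf_dvd_of_pow_eq_one h5
      rw [ha] at this
      norm_num at this
  have hcomm_a : c * a = a * c := by
    calc c * a = (c * a * c⁻¹) * c := by group
      _ = a * c := by rw [hca]
  have hcA : ∀ w ∈ A, c * w = w * c := by
    intro w hw
    obtain ⟨k, rfl⟩ := Subgroup.mem_zpowers_iff.1 hw
    exact (Commute.zpow_right (show Commute c a from hcomm_a) k).eq
  -- the conjugate of `s`
  have hcsP := hcP s hsP
  have hcsA : c * s * c⁻¹ ∉ A := by
    intro hmem
    apply hsn
    have h1 := hcA _ hmem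
    -- c * (c s c⁻¹) = (c s c⁻¹) * c  →  c s c⁻¹ = s
    have h2 : c * s * c⁻¹ = s := by
      have : c * (c * s * c⁻¹) = c * s := by
        rw [h1]; group
      exact mul_left_cancel this
    rwa [h2] at hmem
  set w : C := s * (c * s * c⁻¹) with hw
  have hwA : w ∈ A := by
    rcases hrep _ hcsP with h1 | h1
    · exact absurd h1 hcsA
    · exact h1
  have hcs : c * s * c⁻¹ = s * w := by rw [hw, ← mul_assoc, hs, one_mul]
  have hcw := hcA w hwA
  -- iterate
  have hw2 : s * w * s = w⁻¹ := hsinvA w hwA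
  have hsw : w * s = s * w⁻¹ := by
    calc w * s = s * (s * w * s) := by rw [← mul_assoc, ← mul_assoc, hs, one_mul]
      _ = s * w⁻¹ := by rw [hw2]
  have hiter : ∀ k : ℕ, c ^ k * s * (c ^ k)⁻¹ = s * w ^ k := by
    intro k
    induction k with
    | zero => simp
    | succ k ih =>
      have hck : c * w ^ k = w ^ k * c := (Commute.pow_right (show Commute c w from hcw) k).eq
      calc c ^ (k + 1) * s * (c ^ (k + 1))⁻¹ = c * (c ^ k * s * (c ^ k)⁻¹) * c⁻¹ := by
            rw [pow_succ']; group
        _ = c * (s * w ^ k) * c⁻¹ := by rw [ih]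
        _ = (c * s * c⁻¹) * (c * w ^ k) * c⁻¹ := by group
        _ = (s * w) * (w ^ k * c) * c⁻¹ := by rw [hcs, hck]
        _ = s * w ^ (k + 1) := by rw [pow_succ']; group
  have h3 := hiter 3
  rw [hc3] at h3
  have hw3 : w ^ 3 = 1 := by
    have : s = s * w ^ 3 := by simpa using h3
    exact (mul_eq_left.1 this.symm)
  have hw4 : w ^ 4 = 1 := by
    obtain ⟨k, hk⟩ := Subgroup.mem_zpowers_iff.1 hwA
    rw [← hk, ← zpow_natCast, ← zpow_mul, mul_comm, zpow_mul, zpow_natCast, ha4, one_zpow]
  have hw1 : w = 1 := by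
    calc w = w ^ 4 * (w ^ 3)⁻¹ := by group
      _ = 1 := by rw [hw3, hw4]; simp
  rw [hw1, mul_one] at hcs
  have hcomm_s : c * s = s * c := by
    calc c * s = (c * s * c⁻¹) * c := by group
      _ = s * c := by rw [hcs]
  intro x hx
  rcases hrep x hx with h1 | h1
  · exact hcA x h1
  · have h2 := hcA _ h1
    have h3 : s * (c * x) = s * (x * c) := by
      calc s * (c * x) = (s * c) * x := by group
        _ = (c * s) * x := by rw [hcomm_s]
        _ = c * (s * x) := by group
        _ = s * x * c := h2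
        _ = s * (x * c) := by group
    exact mul_left_cancel h3

end O360
end Cfsg.Agent.Helper16
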