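import Mathlib
import Cfsg.Agent.Lib.Helper16.Simple360h
import Cfsg.Agent.Lib.Helper2.SylowSub
import Cfsg.Agent.Lib.Helper20.SylFifteen2

set_option autoImplicit false
set_option linter.unusedSectionVars false
set_option linter.style.haveILetI false

namespace Cfsg.Agent.Helper16
namespace O360

/-- In a group of order `24` with a central involution and dihedral Sylow `2`-subgroups, every
element of order three generates a normal subgroup. -/
theorem normal_zpowers_of_card_twentyfour {C : Type*} [Group C] [Finite C]
    (hC : Nat.card C = 24) (z : C) (hz : orderOf z = 2) (hzc : ∀ x : C, x * z = z * x)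
    (P : Sylow 2 C) (a s : C) (haP : a ∈ P) (hsP : s ∈ P) (ha : orderOf a = 4)
    (hs : s * s = 1) (hsa : s * a * s = a⁻¹) (hsn : s ∉ Subgroup.zpowers a)
    (c : C) (hc : orderOf c = 3) : ∀ x : C, x * c * x⁻¹ ∈ Subgroup.zpowers c := by
  haveI : Fact (Nat.Prime 2) := ⟨Nat.prime_two⟩
  haveI : Fact (Nat.Prime 3) := ⟨Nat.prime_three⟩
  have hP8 : Nat.card (P : Subgroup C) = 8 := by
    have := Cfsg.Agent.Helper2.sylow_card_of_card_eq (p := 2) (a := 3) (m := 3) P
      (by rw [hC]; norm_num) (by decide)
    simpa using this
  have hc3 : c ^ 3 = 1 := by rw [← hc]; exact pow_orderOf_eq_one c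
  have hZ3 : Nat.card (Subgroup.zpowers c) = 3 := by rw [Nat.card_zpowers, hc]
  have hpg : IsPGroup 3 (Subgroup.zpowers c) := IsPGroup.of_card (n := 1) (by rw [hZ3]; norm_num)
  obtain ⟨R, hR⟩ := hpg.exists_le_sylow
  have hR3 : Nat.card (R : Subgroup C) = 3 := by
    have := Cfsg.Agent.Helper2.sylow_card_of_card_eq (p := 3) (a := 1) (m := 8) R
      (by rw [hC]; norm_num) (by decide)
    simpa using this
  have hRc : Subgroup.zpowers c = (R : Subgroup C) := by
    apply Subgroup.eq_of_le_of_card_ge hR
    rw [hZ3, hR3]
  have hidx : (R : Subgroup C).index = 8 := by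
    have := (R : Subgroup C).card_mul_index
    rw [hC, hR3] at this
    omega
  have hdvd : Nat.card (Sylow 3 C) ∣ 8 := by
    rw [← hidx]; exact Sylow.card_dvd_index R
  have hmod : Nat.card (Sylow 3 C) ≡ 1 [MOD 3] := card_sylow_modEq_one 3 C
  have hNidx := Sylow.card_eq_index_normalizer R
  have hcases : Nat.card (Sylow 3 C) = 1 ∨ Nat.card (Sylow 3 C) = 4 := by
    have hmem : Nat.card (Sylow 3 C) ∈ Nat.divisors 8 := by
      rw [Nat.mem_divisors]; exact ⟨hdvd, by norm_num⟩
    have hdivs : Nat.divisors 8 = {1, 2, 4, 8} := by decide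
    rw [hdivs] at hmem
    simp only [Finset.mem_insert, Finset.mem_singleton] at hmem
    rcases hmem with h' | h' | h' | h'
    · exact Or.inl h'
    · exfalso; rw [h'] at hmod; revert hmod; decide
    · exact Or.inr h'
    · exfalso; rw [h'] at hmod; revert hmod; decide
  -- it suffices to show that the normalizer of `R` is everything
  suffices hN : Subgroup.normalizer ((R : Subgroup C) : Set C) = ⊤ by
    intro x
    rw [hRc]
    have hx : x ∈ Subgroup.normalizer ((R : Subgroup C) : Set C) := by rw [hN]; trivial
    apply (Subgroup.mem_normalizer_iff.1 hx c).1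
    rw [← hRc]; exact Subgroup.mem_zpowers c
  rcases hcases with h1 | h4
  · rw [h1] at hNidx
    exact Subgroup.index_eq_one.1 hNidx.symm
  · -- four Sylow 3-subgroups: Burnside gives a normal Sylow 2-subgroup
    exfalso
    set N : Subgroup C := Subgroup.normalizer ((R : Subgroup C) : Set C) with hN
    have hNi : N.index = 4 := by rw [← h4]; exact hNidx.symm
    have hN6 : Nat.card N = 6 := by
      have := N.card_mul_index
      rw [hNi, hC] at this
      omega
    have hNC : N ≤ Subgroup.centralizer ((R : Subgroup C) : Set C) := by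
      set D : Subgroup C := Subgroup.centralizer ({c} : Set C) ⊓ N with hD
      have hcD : c ∈ D := by
        refine Subgroup.mem_inf.2 ⟨Subgroup.mem_centralizer_singleton_iff.2 rfl, ?_⟩
        apply Subgroup.le_normalizer
        rw [← hRc]; exact Subgroup.mem_zpowers c
      have hzD : z ∈ D := by
        refine Subgroup.mem_inf.2 ⟨Subgroup.mem_centralizer_singleton_iff.2 (hzc c).symm, ?_⟩
        rw [hN, Subgroup.mem_normalizer_iff]
        intro y
        have : z * y * z⁻¹ = y := by rw [← hzc y]; group
        rw [this]
      have h3 : 3 ∣ Nat.card D := by rw [← hc]; exact Subgroup.orderOf_dvd_natCard D hcD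
      have h2 : 2 ∣ Nat.card D := by rw [← hz]; exact Subgroup.orderOf_dvd_natCard D hzD
      have h6 : 6 ∣ Nat.card D := by
        have : Nat.Coprime 3 2 := by decide
        exact this.mul_dvd_of_dvd_of_dvd h3 h2
      have hDN : D ≤ N := inf_le_right
      have hDeq : D = N := by
        apply Subgroup.eq_of_le_of_card_ge hDN
        rw [hN6]
        exact Nat.le_of_dvd Nat.card_pos h6
      intro n hn
      rw [← hDeq] at hn
      have h5 := (Subgroup.mem_inf.1 hn).1
      rw [Subgroup.mem_centralizer_singleton_iff] at h5
      rw [Subgroup.mem_centralizer_iff]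
      intro y hy
      rw [← hRc] at hy
      obtain ⟨k, rfl⟩ := Subgroup.mem_zpowers_iff.1 hy
      exact (Commute.zpow_left (show Commute c n from h5.symm) k).eq
    obtain ⟨K, hKn, hK⟩ := Cfsg.Agent.Helper20.SylFifteen.exists_normal_complement R hNC
    have hR3' : Nat.card (R : Subgroup C) = 3 := hR3
    rw [hR3', hC] at hK
    have hK8 : Nat.card K = 8 := by omega
    have hKpg : IsPGroup 2 K := IsPGroup.of_card (n := 3) (by rw [hK8]; norm_num)
    -- `K = P`
    have hKP : K = (P : Subgroup C) := by
      apply Subgroup.eq_of_le_of_card_ge (hKpg.le_sylow_of_normal P)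
      rw [hK8, hP8]
    have hPn : (P : Subgroup C).Normal := hKP ▸ hKn
    have hcN : c ∈ Subgroup.normalizer ((P : Subgroup C) : Set C) := by
      rw [Subgroup.normalizer_eq_top_iff.2 hPn]; trivial
    have hcomm := commute_of_normalizes_dihedral (P : Subgroup C) hP8 haP hsP ha hs hsa hsn
      hcN hc3
    -- the centralizer of `c` has order divisible by `24`
    set D : Subgroup C := Subgroup.centralizer ({c} : Set C) with hD
    have hPD : (P : Subgroup C) ≤ D := by
      intro x hx
      rw [hD, Subgroup.mem_centralizer_singleton_iff]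
      exact (hcomm x hx).symm
    have h8 : 8 ∣ Nat.card D := by
      have := Subgroup.card_dvd_of_le hPD
      rwa [hP8] at this
    have h3 : 3 ∣ Nat.card D := by
      rw [← hc]
      exact Subgroup.orderOf_dvd_natCard D (Subgroup.mem_centralizer_singleton_iff.2 rfl)
    have h24 : 24 ∣ Nat.card D := by
      have : Nat.Coprime 8 3 := by decide
      exact this.mul_dvd_of_dvd_of_dvd h8 h3
    have hDtop : D = ⊤ := by
      apply Subgroup.eq_top_of_le_card
      rw [hC]
      exact Nat.le_of_dvd Nat.card_pos h24
    -- hence `R` is normal, contradicting the Sylow count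
    have hNtop : N = ⊤ := by
      rw [eq_top_iff]
      intro x _
      rw [hN, Subgroup.mem_normalizer_iff]
      have hxc : x * c = c * x := by
        have : x ∈ D := by rw [hDtop]; trivial
        exact Subgroup.mem_centralizer_singleton_iff.1 this
      intro y
      rw [← hRc]
      have hconj : ∀ k : ℤ, x * c ^ k * x⁻¹ = c ^ k := by
        intro k
        have : Commute x (c ^ k) := Commute.zpow_right (show Commute x c from hxc) k
        rw [this.eq, mul_inv_cancel_right]
      constructor
      · intro hy
        obtain ⟨k, rfl⟩ := Subgroup.mem_zpowers_iff.1 hy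
        rw [hconj]; exact Subgroup.zpow_mem_zpowers _ _
      · intro hy
        obtain ⟨k, hk⟩ := Subgroup.mem_zpowers_iff.1 hy
        have h1 : y = x⁻¹ * (x * y * x⁻¹) * x := by group
        have h2 : x⁻¹ * c ^ k * x = c ^ k := by
          have : Commute x (c ^ k) := Commute.zpow_right (show Commute x c from hxc) k
          rw [mul_assoc, ← this.eq, inv_mul_cancel_left]
        rw [h1, ← hk, h2]; exact Subgroup.zpow_mem_zpowers _ _
    rw [hNtop, Subgroup.card_top, hC] at hN6
    norm_num at hN6

end O360
end Cfsg.Agent.Helper16
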