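import Mathlib

/-!
# Tools for the analysis of simple groups of small order (helper16's library)

* `exists_fixed_of_card`: an element of prime order `p` normalizing a subgroup of order `n + 1`
  with `p ∤ n` centralizes one of its nonidentity elements.
* `eq_one_of_central_of_simple`: in a simple group, an element of an abelian Sylow subgroup which
  is central in the normalizer of that Sylow subgroup is trivial (transfer).
-/

set_option autoImplicit false
set_option linter.unusedSectionVars false
set_option linter.style.haveILetI false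

namespace Cfsg.Agent.Helper16
namespace SimpleTools

/-- An element `c` with `c ^ p = 1` normalizing a subgroup of order `n + 1`, where the prime `p`
does not divide `n`, centralizes one of its nonidentity elements. -/
theorem exists_fixed_of_card {G : Type*} [Group G] (P : Subgroup G) {n p : ℕ} [hp : Fact p.Prime]
    (hP : Nat.card P = n + 1) (hpn : ¬ p ∣ n)
    {c : G} (hc : c ∈ Subgroup.normalizer (P : Set G)) (hcp : c ^ p = 1) :
    ∃ x ∈ P, x ≠ 1 ∧ c * x = x * c := by
  classical
  haveI : Finite P := Nat.finite_of_card_ne_zero (by rw [hP]; omega)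
  haveI : Fintype P := Fintype.ofFinite P
  have hcinv : c⁻¹ ∈ Subgroup.normalizer (P : Set G) := Subgroup.inv_mem _ hc
  have hmem : ∀ (d : G), d ∈ Subgroup.normalizer (P : Set G) → ∀ x : P, d * x * d⁻¹ ∈ P :=
    fun d hd x => (Subgroup.mem_normalizer_iff.1 hd x).1 x.2
  have hne : ∀ (d : G) (x : P), (x : G) ≠ 1 → d * x * d⁻¹ ≠ 1 := by
    intro d x hx h1
    apply hx
    calc (x : G) = d⁻¹ * (d * x * d⁻¹) * d := by group
      _ = 1 := by rw [h1]; group
  let σ : Equiv.Perm {x : P // (x : G) ≠ 1} :=
    { toFun := fun x => ⟨⟨c * x.1 * c⁻¹, hmem c hc x.1⟩, hne c x.1 x.2⟩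
      invFun := fun x => ⟨⟨c⁻¹ * x.1 * c⁻¹⁻¹, hmem c⁻¹ hcinv x.1⟩, hne c⁻¹ x.1 x.2⟩
      left_inv := by
        intro x
        apply Subtype.ext
        apply Subtype.ext
        show c⁻¹ * (c * (x.1 : G) * c⁻¹) * c⁻¹⁻¹ = x.1
        group
      right_inv := by
        intro x
        apply Subtype.ext
        apply Subtype.ext
        show c * (c⁻¹ * (x.1 : G) * c⁻¹⁻¹) * c⁻¹ = x.1
        group }
  have hσpow : ∀ (k : ℕ) (x : {x : P // (x : G) ≠ 1}),
      (((σ ^ k) x).1 : G) = c ^ k * x.1 * (c ^ k)⁻¹ := by
    intro k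
    induction k with
    | zero => intro x; simp
    | succ k ih =>
      intro x
      rw [pow_succ', Equiv.Perm.mul_apply]
      show c * (((σ ^ k) x).1 : G) * c⁻¹ = c ^ (k + 1) * x.1 * (c ^ (k + 1))⁻¹
      rw [ih x, pow_succ']
      group
  have hσ : σ ^ p ^ 1 = 1 := by
    ext x
    show (((σ ^ p ^ 1) x).1 : G) = x.1
    rw [pow_one, hσpow, hcp]
    group
  have hcard : Fintype.card {x : P // (x : G) ≠ 1} = n := by
    have h1 : Fintype.card {x : P // (x : G) ≠ 1} = Fintype.card {x : P // x ≠ 1} := by
      apply Fintype.card_congr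
      exact Equiv.subtypeEquivRight (fun x => by
        constructor
        · intro h h1; exact h (by rw [h1]; rfl)
        · intro h h1; exact h (Subtype.ext h1))
    rw [h1, Fintype.card_subtype_compl, Fintype.card_subtype_eq, ← Nat.card_eq_fintype_card, hP]
    omega
  obtain ⟨a, ha⟩ := Equiv.Perm.exists_fixed_point_of_prime (p := p) (n := 1)
    (by rw [hcard]; exact hpn) hσ
  refine ⟨a.1, a.1.2, a.2, ?_⟩
  have h1 : c * (a.1 : G) * c⁻¹ = a.1 := by
    have := congrArg (fun y : {x : P // (x : G) ≠ 1} => ((y.1 : P) : G)) ha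
    exact this
  calc c * (a.1 : G) = (c * a.1 * c⁻¹) * c := by group
    _ = a.1 * c := by rw [h1]

open scoped IsMulCommutative in
/-- In a simple group, an element of an abelian Sylow subgroup that is central in the normalizer
of the Sylow subgroup is trivial (a transfer argument). -/
theorem eq_one_of_central_of_simple {G : Type*} [Group G] [Finite G] [IsSimpleGroup G] {p : ℕ}
    [Fact p.Prime] (P : Sylow p G) (hcomm : IsMulCommutative (P : Subgroup G))
    (hne : (P : Subgroup G) ≠ ⊤) {w : G} (hw : w ∈ P)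
    (hcent : ∀ n ∈ Subgroup.normalizer ((P : Subgroup G) : Set G), n * w = w * n) : w = 1 := by
  by_contra hw1
  have key : ∀ (k : ℕ) (g₀ : G), g₀⁻¹ * w ^ k * g₀ ∈ (P : Subgroup G) →
      g₀⁻¹ * w ^ k * g₀ = w ^ k := by
    intro k g₀ hk
    obtain ⟨n, hn, hn2⟩ := P.conj_eq_normalizer_conj_of_mem (w ^ k) g₀ (pow_mem hw k) hk
    rw [hn2]
    have hc : n * w ^ k = w ^ k * n := (Commute.pow_right (show Commute n w from hcent n hn) k).eq
    calc n⁻¹ * w ^ k * n = n⁻¹ * (w ^ k * n) := by group
      _ = n⁻¹ * (n * w ^ k) := by rw [hc]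
      _ = w ^ k := by group
  have htr := MonoidHom.transfer_eq_pow (MonoidHom.id (P : Subgroup G)) w key
  set φ : G →* (P : Subgroup G) := MonoidHom.transfer (MonoidHom.id (P : Subgroup G)) with hφ
  have hφw : φ w ≠ 1 := by
    rw [htr]
    intro h1
    have h2 : w ^ (P : Subgroup G).index = 1 := by
      have := congrArg Subtype.val h1
      simpa using this
    obtain ⟨k, hk⟩ := (P.isPGroup') ⟨w, hw⟩
    have h3 : w ^ p ^ k = 1 := by
      have := congrArg Subtype.val hk
      simpa using this
    have h5 : orderOf w ∣ Nat.gcd (P : Subgroup G).index (p ^ k) :=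
      Nat.dvd_gcd (orderOf_dvd_of_pow_eq_one h2) (orderOf_dvd_of_pow_eq_one h3)
    have hcop : Nat.Coprime (P : Subgroup G).index (p ^ k) := by
      apply Nat.Coprime.pow_right
      exact ((Nat.Prime.coprime_iff_not_dvd (Fact.out : p.Prime)).2 P.not_dvd_index).symm
    rw [hcop.gcd_eq_one, Nat.dvd_one, orderOf_eq_one_iff] at h5
    exact hw1 h5
  rcases (MonoidHom.normal_ker φ).eq_bot_or_eq_top with hb | ht
  · have hinj : Function.Injective φ := (MonoidHom.ker_eq_bot_iff φ).1 hb
    have hle := Nat.card_le_card_of_injective _ hinj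
    apply hne
    apply Subgroup.eq_top_of_le_card
    exact hle
  · apply hφw
    have : w ∈ φ.ker := by rw [ht]; trivial
    exact this

end SimpleTools
end Cfsg.Agent.Helper16
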