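import Mathlib
import Cfsg.Agent.Lib.Helper16.Simple360a
import Cfsg.Agent.Lib.Helper16.Simple360b
import Cfsg.Agent.Lib.Helper16.Simple360i
import Cfsg.Agent.Lib.Helper16.SimpleTools
import Cfsg.Agent.Lib.Helper20.SylFifteen2

set_option autoImplicit false
set_option linter.unusedSectionVars false
set_option linter.style.haveILetI false

namespace Cfsg.Agent.Helper16
namespace O360

variable {G : Type*} [Group G] [Finite G] [IsSimpleGroup G]

/-- Without subgroups of index six, proper subgroups have index at least eight. -/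
theorem eight_le_index (h : Nat.card G = 360) (hno : ∀ H : Subgroup G, H.index ≠ 6)
    (H : Subgroup G) (hH : H ≠ ⊤) : 8 ≤ H.index := by
  have h6 := six_le_index h H hH
  have h6' := hno H
  have hdvd : H.index ∣ 360 := by rw [← h]; exact H.index_dvd_card
  by_contra hlt
  push Not at hlt
  have h7 : H.index = 7 := by omega
  rw [h7] at hdvd
  norm_num at hdvd

theorem card_le_of_ne_top (h : Nat.card G = 360) (hno : ∀ H : Subgroup G, H.index ≠ 6)
    (H : Subgroup G) (hH : H ≠ ⊤) : Nat.card H ≤ 45 := by
  have h8 := eight_le_index h hno H hH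
  have := H.card_mul_index
  rw [h] at this
  nlinarith

/-- A subgroup of intermediate order is not normalized by the whole group. -/
theorem normalizer_ne_top (h : Nat.card G = 360) (S : Subgroup G) (h1 : 1 < Nat.card S)
    (h2 : Nat.card S < 360) : Subgroup.normalizer (S : Set G) ≠ ⊤ := by
  intro htop
  have hn : S.Normal := Subgroup.normalizer_eq_top_iff.1 htop
  rcases hn.eq_bot_or_eq_top with hb | ht
  · rw [hb] at h1; simp at h1
  · rw [ht, Subgroup.card_top, h] at h2; omega

/-- A subgroup all of whose elements conjugate `c` into `⟨c⟩` normalizes `⟨c⟩`. -/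
theorem le_normalizer_zpowers {G : Type*} [Group G] (S : Subgroup G) (c : G)
    (hS : ∀ x ∈ S, x * c * x⁻¹ ∈ Subgroup.zpowers c) :
    S ≤ Subgroup.normalizer ((Subgroup.zpowers c : Subgroup G) : Set G) := by
  have hfwd : ∀ x ∈ S, ∀ y ∈ Subgroup.zpowers c, x * y * x⁻¹ ∈ Subgroup.zpowers c := by
    intro x hx y hy
    obtain ⟨k, rfl⟩ := Subgroup.mem_zpowers_iff.1 hy
    have : x * c ^ k * x⁻¹ = (x * c * x⁻¹) ^ k := by
      have h1 : x * c * x⁻¹ = MulAut.conj x c := by rw [MulAut.conj_apply]
      rw [h1, ← map_zpow, MulAut.conj_apply]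
    rw [this]
    exact Subgroup.zpow_mem _ (hS x hx) k
  intro x hx
  rw [Subgroup.mem_normalizer_iff]
  intro y
  constructor
  · exact hfwd x hx y
  · intro hy
    have := hfwd x⁻¹ (S.inv_mem hx) _ hy
    have h2 : x⁻¹ * (x * y * x⁻¹) * x⁻¹⁻¹ = y := by group
    rwa [h2] at this

theorem sylow5_card (h : Nat.card G = 360) [Fact (Nat.Prime 5)] (P : Sylow 5 G) :
    Nat.card P = 5 := by
  have := Cfsg.Agent.Helper2.sylow_card_of_card_eq (p := 5) (a := 1) (m := 72) P
    (by rw [h]; norm_num) (by decide)
  simpa using this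

theorem sylow2_card (h : Nat.card G = 360) [Fact (Nat.Prime 2)] (P : Sylow 2 G) :
    Nat.card P = 8 := by
  have := Cfsg.Agent.Helper2.sylow_card_of_card_eq (p := 2) (a := 3) (m := 45) P
    (by rw [h]; norm_num) (by decide)
  simpa using this

theorem normalizer_sylow5_card [Fact (Nat.Prime 5)] (h : Nat.card G = 360)
    (hno : ∀ H : Subgroup G, H.index ≠ 6) (R : Sylow 5 G) :
    Nat.card (Subgroup.normalizer ((R : Subgroup G) : Set G)) = 10 := by
  show Nat.card (Subgroup.normalizer (R : Set G)) = 10
  have hR5 := sylow5_card h R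
  have hidx : (R : Subgroup G).index = 72 := by
    have := (R : Subgroup G).card_mul_index
    rw [h, hR5] at this
    omega
  have hdvd : Nat.card (Sylow 5 G) ∣ 72 := by
    rw [← hidx]; exact Sylow.card_dvd_index R
  have hmod : Nat.card (Sylow 5 G) ≡ 1 [MOD 5] := card_sylow_modEq_one 5 G
  have hNidx := Sylow.card_eq_index_normalizer R
  have hNne := sylow_normalizer_ne_top h R (by rw [hR5]; norm_num) (by rw [hR5]; norm_num)
  have h6 := six_le_index h _ hNne
  have hne6 := hno (Subgroup.normalizer (R : Set G))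
  rw [← hNidx] at h6 hne6
  have hNcard := (Subgroup.normalizer (R : Set G)).card_mul_index
  rw [← hNidx, h] at hNcard
  have hmem : Nat.card (Sylow 5 G) ∈ Nat.divisors 72 := by
    rw [Nat.mem_divisors]; exact ⟨hdvd, by norm_num⟩
  have hdivs : Nat.divisors 72 = {1, 2, 3, 4, 6, 8, 9, 12, 18, 24, 36, 72} := by decide
  rw [hdivs] at hmem
  simp only [Finset.mem_insert, Finset.mem_singleton] at hmem
  rcases hmem with h' | h' | h' | h' | h' | h' | h' | h' | h' | h' | h' | h'
  all_goals try (rw [h'] at hmod h6 hne6; first | omega | (exfalso; revert hmod; decide))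
  rw [h'] at hNcard
  omega

/-- A Sylow `5`-subgroup is self-centralizing. -/
theorem centralizer_sylow5 [Fact (Nat.Prime 5)] (h : Nat.card G = 360)
    (hno : ∀ H : Subgroup G, H.index ≠ 6) (P : Sylow 5 G) :
    Subgroup.centralizer ((P : Subgroup G) : Set G) = P := by
  have hP5 := sylow5_card h P
  have hN10 := normalizer_sylow5_card h hno P
  have hcyc : IsCyclic (P : Subgroup G) := isCyclic_of_prime_card hP5
  have hrel := Cfsg.Agent.Helper20.SylFifteen.relIndex_centralizer_dvd_totient (P : Subgroup G) hcyc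
  rw [hP5] at hrel
  have htot : Nat.totient 5 = 4 := by decide
  rw [htot] at hrel
  have hCN : Subgroup.centralizer ((P : Subgroup G) : Set G) ≤
      Subgroup.normalizer ((P : Subgroup G) : Set G) := Subgroup.centralizer_le_normalizer _
  have hmul := Cfsg.Agent.Helper20.SylFifteen.card_inf_mul_relIndex
    (Subgroup.centralizer ((P : Subgroup G) : Set G)) (Subgroup.normalizer ((P : Subgroup G) : Set G))
  rw [inf_eq_left.2 hCN, hN10] at hmul
  have hPC : (P : Subgroup G) ≤ Subgroup.centralizer ((P : Subgroup G) : Set G) := by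
    have hcomm : IsMulCommutative (P : Subgroup G) := hcyc.isMulCommutative
    intro x hx y hy
    have := hcomm.is_comm.comm (⟨y, hy⟩ : (P : Subgroup G)) ⟨x, hx⟩
    exact congrArg Subtype.val this
  have hC : Nat.card (Subgroup.centralizer ((P : Subgroup G) : Set G)) = 5 ∨
      Nat.card (Subgroup.centralizer ((P : Subgroup G) : Set G)) = 10 := by
    set c := Nat.card (Subgroup.centralizer ((P : Subgroup G) : Set G)) with hc
    set k := (Subgroup.centralizer ((P : Subgroup G) : Set G)).relIndex
      (Subgroup.normalizer ((P : Subgroup G) : Set G)) with hk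
    have hk4 : k ∈ Nat.divisors 4 := by
      rw [Nat.mem_divisors]; exact ⟨hrel, by norm_num⟩
    have hd4 : Nat.divisors 4 = {1, 2, 4} := by decide
    rw [hd4] at hk4
    simp only [Finset.mem_insert, Finset.mem_singleton] at hk4
    rcases hk4 with h6 | h6 | h6 <;> rw [h6] at hmul <;> omega
  rcases hC with hC | hC
  · symm
    apply Subgroup.eq_of_le_of_card_ge hPC
    rw [hC, hP5]
  · exfalso
    have hNC : Subgroup.normalizer ((P : Subgroup G) : Set G) ≤
        Subgroup.centralizer ((P : Subgroup G) : Set G) := by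
      have := Subgroup.eq_of_le_of_card_ge hCN (by rw [hC, hN10])
      rw [this]
    obtain ⟨K, hKn, hK⟩ := Cfsg.Agent.Helper20.SylFifteen.exists_normal_complement P hNC
    have hP5' : Nat.card (P : Subgroup G) = 5 := hP5
    rw [hP5', h] at hK
    rcases hKn.eq_bot_or_eq_top with hb | ht
    · rw [hb] at hK; simp at hK
    · rw [ht, Subgroup.card_top, h] at hK; omega

/-- Elements of order five are self-centralizing. -/
theorem mem_zpowers_of_commute_five (h : Nat.card G = 360)
    (hno : ∀ H : Subgroup G, H.index ≠ 6) {y g : G} (hy : orderOf y = 5)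
    (hg : g * y = y * g) : g ∈ Subgroup.zpowers y := by
  haveI : Fact (Nat.Prime 5) := ⟨by norm_num⟩
  have hZ5 : Nat.card (Subgroup.zpowers y) = 5 := by rw [Nat.card_zpowers, hy]
  have hpg : IsPGroup 5 (Subgroup.zpowers y) := IsPGroup.of_card (n := 1) (by rw [hZ5]; norm_num)
  obtain ⟨P, hP⟩ := hpg.exists_le_sylow
  have hP5 := sylow5_card h P
  have hZP : Subgroup.zpowers y = (P : Subgroup G) := by
    apply Subgroup.eq_of_le_of_card_ge hP
    rw [hZ5, hP5]
  rw [hZP, ← centralizer_sylow5 h hno P, ← hZP]
  rw [Subgroup.mem_centralizer_iff]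
  intro x hx
  obtain ⟨k, rfl⟩ := Subgroup.mem_zpowers_iff.1 hx
  exact ((Commute.zpow_right (show Commute g y from hg) k).eq).symm

/-- A nontrivial `2`-element does not commute with an element of order five. -/
theorem eq_one_of_commute_five (h : Nat.card G = 360)
    (hno : ∀ H : Subgroup G, H.index ≠ 6) {y g : G} (hy : orderOf y = 5)
    (hg : g * y = y * g) {n : ℕ} (hgn : g ^ 2 ^ n = 1) : g = 1 := by
  have hmem := mem_zpowers_of_commute_five h hno hy hg
  have hd := orderOf_dvd_of_mem_zpowers hmem
  rw [hy] at hd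
  have hd2 := orderOf_dvd_of_pow_eq_one hgn
  have h3 : orderOf g ∣ Nat.gcd 5 (2 ^ n) := Nat.dvd_gcd hd hd2
  have h4 : Nat.gcd 5 (2 ^ n) = 1 := by
    have : Nat.Coprime 5 (2 ^ n) := Nat.Coprime.pow_right n (by decide)
    exact this
  rw [h4, Nat.dvd_one, orderOf_eq_one_iff] at h3
  exact h3

end O360
end Cfsg.Agent.Helper16
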