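import Mathlib
import Cfsg.Agent.Lib.Helper2.SylowSub
import Cfsg.Agent.Lib.Helper2.Order60
import Cfsg.Agent.Lib.Helper16.Simple168b
import Cfsg.Agent.Lib.Helper20.SylFifteen2

/-!
# Simple groups of order 504, part a: subgroup indices and the Sylow 7-subgroups
(helper16's library)
-/

set_option autoImplicit false
set_option linter.unusedSectionVars false
set_option linter.style.haveILetI false

namespace Cfsg.Agent.Helper16
namespace O504

variable {G : Type*} [Group G] [Finite G] [IsSimpleGroup G]

/-- A simple group of order 504 has no subgroup of index seven. -/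
theorem index_ne_seven (h : Nat.card G = 504) (H : Subgroup G) : H.index ≠ 7 := by
  classical
  intro h7
  have hH : H ≠ ⊤ := by
    intro ht
    rw [ht, Subgroup.index_top] at h7
    norm_num at h7
  haveI : Fintype (G ⧸ H) := Fintype.ofFinite _
  have hX : Fintype.card (G ⧸ H) = 7 := by
    rw [← Nat.card_eq_fintype_card, ← Subgroup.index_eq_card, h7]
  have hinj := Cfsg.Agent.Helper2.simple_toPermHom_injective H hH
  set φ : G →* Equiv.Perm (G ⧸ H) := MulAction.toPermHom G (G ⧸ H) with hφ
  -- the sign is trivial
  have hsign : ∀ g : G, Equiv.Perm.sign (φ g) = 1 := by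
    have hker : (Equiv.Perm.sign.comp φ).ker = ⊤ := by
      rcases (MonoidHom.normal_ker (Equiv.Perm.sign.comp φ)).eq_bot_or_eq_top with hb | ht
      · exfalso
        have hinj2 : Function.Injective (Equiv.Perm.sign.comp φ) :=
          (MonoidHom.ker_eq_bot_iff _).1 hb
        have hle := Nat.card_le_card_of_injective _ hinj2
        rw [h] at hle
        have : Nat.card ℤˣ = 2 := by
          rw [Nat.card_eq_fintype_card]; rfl
        omega
      · exact ht
    intro g
    have : g ∈ (Equiv.Perm.sign.comp φ).ker := by rw [hker]; trivial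
    exact this
  have hmem : ∀ g : G, φ g ∈ alternatingGroup (G ⧸ H) := fun g =>
    Equiv.Perm.mem_alternatingGroup.2 (hsign g)
  set ψ : G →* alternatingGroup (G ⧸ H) := φ.codRestrict _ hmem with hψ
  have hψinj : Function.Injective ψ := by
    intro a b hab
    apply hinj
    have := congrArg Subtype.val hab
    exact this
  have hA : Nat.card (alternatingGroup (G ⧸ H)) = 2520 := by
    haveI : Nontrivial (G ⧸ H) := by
      rw [← Fintype.one_lt_card_iff_nontrivial, hX]; norm_num
    have h2 := two_mul_card_alternatingGroup (α := G ⧸ H)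
    rw [Nat.card_eq_fintype_card]
    rw [Fintype.card_perm, hX] at h2
    have : Nat.factorial 7 = 5040 := by decide
    omega
  haveI : IsSimpleGroup (alternatingGroup (G ⧸ H)) :=
    alternatingGroup.isSimpleGroup (by rw [Nat.card_eq_fintype_card, hX]; norm_num)
  have hK : Nat.card ψ.range = 504 := by
    rw [← h]
    exact (Nat.card_congr (MonoidHom.ofInjective hψinj).toEquiv).symm
  have hKne : ψ.range ≠ ⊤ := by
    intro ht
    rw [ht, Subgroup.card_top, hA] at hK
    norm_num at hK
  have hidx : ψ.range.index = 5 := by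
    have := ψ.range.card_mul_index
    rw [hK, hA] at this
    omega
  have hdvd := Cfsg.Agent.Helper2.simple_card_dvd_factorial_index' ψ.range hKne
  rw [hA, hidx] at hdvd
  revert hdvd
  decide

/-- Proper subgroups of a simple group of order 504 have index at least eight. -/
theorem eight_le_index (h : Nat.card G = 504) (H : Subgroup G) (hH : H ≠ ⊤) : 8 ≤ H.index := by
  have hfac := Cfsg.Agent.Helper2.simple_card_dvd_factorial_index' H hH
  rw [h] at hfac
  have h7 := index_ne_seven h H
  by_contra hlt
  push Not at hlt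
  have hpos : 0 < H.index := Nat.pos_of_ne_zero H.index_ne_zero_of_finite
  interval_cases H.index <;> first | omega | (revert hfac; decide)

/-- Proper subgroups of a simple group of order 504 have order at most 63. -/
theorem card_le_of_ne_top (h : Nat.card G = 504) (H : Subgroup G) (hH : H ≠ ⊤) :
    Nat.card H ≤ 63 := by
  have h8 := eight_le_index h H hH
  have := H.card_mul_index
  rw [h] at this
  nlinarith

theorem sylow_normalizer_ne_top (h : Nat.card G = 504) {p : ℕ} [Fact p.Prime] (P : Sylow p G)
    (hP1 : 1 < Nat.card P) (hP2 : Nat.card P < 504) :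
    Subgroup.normalizer (P : Set G) ≠ ⊤ := by
  intro htop
  have hn : (P : Subgroup G).Normal := Subgroup.normalizer_eq_top_iff.1 htop
  rcases hn.eq_bot_or_eq_top with hb | ht
  · rw [hb] at hP1; simp at hP1
  · rw [ht, Subgroup.card_top, h] at hP2; omega

theorem sylow7_card (h : Nat.card G = 504) [Fact (Nat.Prime 7)] (P : Sylow 7 G) :
    Nat.card P = 7 := by
  have := Cfsg.Agent.Helper2.sylow_card_of_card_eq (p := 7) (a := 1) (m := 72) P
    (by rw [h]; norm_num) (by decide)
  simpa using this

/-- An element of order three centralizing an element of order seven fixes every Sylow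
`7`-subgroup when there are eight of them. -/
theorem smul_eq_of_commute [Fact (Nat.Prime 7)] (h : Nat.card G = 504)
    (hcard : Nat.card (Sylow 7 G) = 8)
    (P : Sylow 7 G) {z r : G} (hzP : z ∈ P) (hoz : orderOf z = 7) (hr3 : r ^ 3 = 1)
    (hrz : r * z = z * r) (hrP : r • P = P) (Q : Sylow 7 G) : r • Q = Q := by
  have hP7 := sylow7_card h P
  by_cases hQP : Q = P
  · rw [hQP]; exact hrP
  have hrQ : r • Q ≠ P := by
    intro h1
    apply hQP
    have : Q = r⁻¹ • P := by rw [← h1, inv_smul_smul]
    rw [this, ← hrP, inv_smul_smul]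
    exact hrP.symm ▸ rfl
  obtain ⟨n, hn⟩ := O168.exists_pow_smul_eq hcard hP7 hzP hoz hQP hrQ
  have hcomm : ∀ k : ℕ, r * z ^ k = z ^ k * r := by
    intro k
    exact (Commute.pow_right (show Commute r z from hrz) k).eq
  have h2 : r ^ 2 • Q = z ^ (2 * n) • Q := by
    calc r ^ 2 • Q = r • (r • Q) := by rw [pow_two, mul_smul]
      _ = r • (z ^ n • Q) := by rw [hn]
      _ = (r * z ^ n) • Q := by rw [mul_smul]
      _ = (z ^ n * r) • Q := by rw [hcomm]
      _ = z ^ n • (r • Q) := by rw [mul_smul]
      _ = z ^ n • (z ^ n • Q) := by rw [hn]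
      _ = z ^ (2 * n) • Q := by rw [← mul_smul, ← pow_add]; congr 2; ring
  have h3 : r ^ 3 • Q = z ^ (3 * n) • Q := by
    calc r ^ 3 • Q = r • (r ^ 2 • Q) := by rw [pow_succ', mul_smul]
      _ = r • (z ^ (2 * n) • Q) := by rw [h2]
      _ = (r * z ^ (2 * n)) • Q := by rw [mul_smul]
      _ = (z ^ (2 * n) * r) • Q := by rw [hcomm]
      _ = z ^ (2 * n) • (r • Q) := by rw [mul_smul]
      _ = z ^ (2 * n) • (z ^ n • Q) := by rw [hn]
      _ = z ^ (3 * n) • Q := by rw [← mul_smul, ← pow_add]; congr 2; ring
  rw [hr3, one_smul] at h3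
  have h7 := O168.free_of_order hP7 hzP hoz hQP (3 * n) h3.symm
  have h7n : 7 ∣ n := by
    have : Nat.Coprime 7 3 := by decide
    exact this.dvd_of_dvd_mul_left h7
  obtain ⟨m, rfl⟩ := h7n
  have hz7 : z ^ 7 = 1 := by rw [← hoz]; exact pow_orderOf_eq_one z
  rw [← hn, pow_mul, hz7, one_pow, one_smul]

/-- An element fixing every Sylow subgroup is trivial. -/
theorem eq_one_of_smul_eq (h : Nat.card G = 504) {p : ℕ} [Fact p.Prime] (P : Sylow p G)
    (hP1 : 1 < Nat.card P) (hP2 : Nat.card P < 504) {r : G} (hr : ∀ Q : Sylow p G, r • Q = Q) :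
    r = 1 := by
  have hrK : r ∈ (MulAction.toPermHom G (Sylow p G)).ker := by
    rw [MonoidHom.mem_ker]
    exact Equiv.ext (fun Q => hr Q)
  rcases (MonoidHom.normal_ker (MulAction.toPermHom G (Sylow p G))).eq_bot_or_eq_top with hb | ht
  · rw [hb, Subgroup.mem_bot] at hrK
    exact hrK
  · exfalso
    apply sylow_normalizer_ne_top h P hP1 hP2
    rw [eq_top_iff]
    intro g _
    apply Sylow.smul_eq_iff_mem_normalizer.1
    have : g ∈ (MulAction.toPermHom G (Sylow p G)).ker := by rw [ht]; trivial
    rw [MonoidHom.mem_ker] at this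
    have h2 := congrArg (fun σ : Equiv.Perm (Sylow p G) => σ P) this
    exact h2

theorem card_sylow_seven [Fact (Nat.Prime 7)] (h : Nat.card G = 504) :
    Nat.card (Sylow 7 G) = 36 := by
  obtain ⟨P⟩ : Nonempty (Sylow 7 G) := inferInstance
  have hP7 := sylow7_card h P
  have hidx : (P : Subgroup G).index = 72 := by
    have := (P : Subgroup G).card_mul_index
    rw [h, hP7] at this
    omega
  have hdvd : Nat.card (Sylow 7 G) ∣ 72 := by
    rw [← hidx]; exact Sylow.card_dvd_index P
  have hmod : Nat.card (Sylow 7 G) ≡ 1 [MOD 7] := card_sylow_modEq_one 7 G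
  have hNidx := Sylow.card_eq_index_normalizer P
  have hNne := sylow_normalizer_ne_top h P (by rw [hP7]; norm_num) (by rw [hP7]; norm_num)
  have h8 := eight_le_index h _ hNne
  rw [← hNidx] at h8
  have hmem : Nat.card (Sylow 7 G) ∈ Nat.divisors 72 := by
    rw [Nat.mem_divisors]; exact ⟨hdvd, by norm_num⟩
  have hdivs : Nat.divisors 72 = {1, 2, 3, 4, 6, 8, 9, 12, 18, 24, 36, 72} := by decide
  rw [hdivs] at hmem
  simp only [Finset.mem_insert, Finset.mem_singleton] at hmem
  rcases hmem with h' | h' | h' | h' | h' | h' | h' | h' | h' | h' | h' | h'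
  all_goals try (rw [h'] at hmod h8; first | omega | (exfalso; revert hmod; decide))
  · -- eight Sylow subgroups
    exfalso
    have hNcard := (Subgroup.normalizer (P : Set G)).card_mul_index
    rw [← hNidx, h', h] at hNcard
    have hN63 : Nat.card (Subgroup.normalizer (P : Set G)) = 63 := by omega
    have hcyc : IsCyclic (P : Subgroup G) := isCyclic_of_prime_card hP7
    have hrel := Cfsg.Agent.Helper20.SylFifteen.relIndex_centralizer_dvd_totient (P : Subgroup G) hcyc
    rw [hP7] at hrel
    have htot : Nat.totient 7 = 6 := by decide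
    rw [htot] at hrel
    have hCN : Subgroup.centralizer ((P : Subgroup G) : Set G) ≤
        Subgroup.normalizer ((P : Subgroup G) : Set G) := Subgroup.centralizer_le_normalizer _
    have hmul := Cfsg.Agent.Helper20.SylFifteen.card_inf_mul_relIndex
      (Subgroup.centralizer ((P : Subgroup G) : Set G)) (Subgroup.normalizer ((P : Subgroup G) : Set G))
    have hN63' : Nat.card (Subgroup.normalizer ((P : Subgroup G) : Set G)) = 63 := hN63
    rw [inf_eq_left.2 hCN, hN63'] at hmul
    have h3C : 3 ∣ Nat.card (Subgroup.centralizer ((P : Subgroup G) : Set G)) := by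
      set c := Nat.card (Subgroup.centralizer ((P : Subgroup G) : Set G)) with hc
      set k := (Subgroup.centralizer ((P : Subgroup G) : Set G)).relIndex
        (Subgroup.normalizer ((P : Subgroup G) : Set G)) with hk
      have hk6 : k ∈ Nat.divisors 6 := by
        rw [Nat.mem_divisors]; exact ⟨hrel, by norm_num⟩
      have hd6 : Nat.divisors 6 = {1, 2, 3, 6} := by decide
      rw [hd6] at hk6
      simp only [Finset.mem_insert, Finset.mem_singleton] at hk6
      rcases hk6 with h6 | h6 | h6 | h6 <;> rw [h6] at hmul <;> omega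
    haveI : Fact (Nat.Prime 3) := ⟨Nat.prime_three⟩
    obtain ⟨r, hr⟩ := exists_prime_orderOf_dvd_card' (G := Subgroup.centralizer ((P : Subgroup G) : Set G)) 3 h3C
    have hr3 : (r : G) ^ 3 = 1 := by
      have := pow_orderOf_eq_one r
      rw [hr] at this
      exact_mod_cast congrArg Subtype.val this
    have hr1 : (r : G) ≠ 1 := by
      intro h1
      have : r = 1 := Subtype.ext h1
      rw [this, orderOf_one] at hr
      norm_num at hr
    obtain ⟨z, hz⟩ := exists_prime_orderOf_dvd_card' (G := (P : Subgroup G)) 7 (by rw [hP7])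
    have hoz : orderOf (z : G) = 7 := by rw [Subgroup.orderOf_coe]; exact hz
    have hrz : (r : G) * z = z * r := by
      have := r.2
      rw [Subgroup.mem_centralizer_iff] at this
      exact (this z z.2).symm
    have hrP : (r : G) • P = P := Sylow.smul_eq_iff_mem_normalizer.2 (hCN r.2)
    apply hr1
    apply eq_one_of_smul_eq h P (by rw [hP7]; norm_num) (by rw [hP7]; norm_num)
    intro Q
    exact smul_eq_of_commute h h' P z.2 hoz hr3 hrz hrP Q

theorem normalizer_sylow7_card [Fact (Nat.Prime 7)] (h : Nat.card G = 504) (P : Sylow 7 G) :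
    Nat.card (Subgroup.normalizer ((P : Subgroup G) : Set G)) = 14 := by
  have hNidx := Sylow.card_eq_index_normalizer P
  rw [card_sylow_seven h] at hNidx
  have hNcard := (Subgroup.normalizer ((P : Subgroup G) : Set G)).card_mul_index
  have hidx' : (Subgroup.normalizer ((P : Subgroup G) : Set G)).index = 36 := hNidx.symm
  rw [hidx', h] at hNcard
  omega

/-- A Sylow `7`-subgroup is self-centralizing. -/
theorem centralizer_sylow7 [Fact (Nat.Prime 7)] (h : Nat.card G = 504) (P : Sylow 7 G) :
    Subgroup.centralizer ((P : Subgroup G) : Set G) = P := by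
  have hP7 := sylow7_card h P
  have hN14 := normalizer_sylow7_card h P
  have hcyc : IsCyclic (P : Subgroup G) := isCyclic_of_prime_card hP7
  have hrel := Cfsg.Agent.Helper20.SylFifteen.relIndex_centralizer_dvd_totient (P : Subgroup G) hcyc
  rw [hP7] at hrel
  have htot : Nat.totient 7 = 6 := by decide
  rw [htot] at hrel
  have hCN : Subgroup.centralizer ((P : Subgroup G) : Set G) ≤
      Subgroup.normalizer ((P : Subgroup G) : Set G) := Subgroup.centralizer_le_normalizer _
  have hmul := Cfsg.Agent.Helper20.SylFifteen.card_inf_mul_relIndex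
    (Subgroup.centralizer ((P : Subgroup G) : Set G)) (Subgroup.normalizer ((P : Subgroup G) : Set G))
  rw [inf_eq_left.2 hCN, hN14] at hmul
  have hPC : (P : Subgroup G) ≤ Subgroup.centralizer ((P : Subgroup G) : Set G) := by
    have hcomm : IsMulCommutative (P : Subgroup G) := hcyc.isMulCommutative
    intro x hx y hy
    have := hcomm.is_comm.comm (⟨y, hy⟩ : (P : Subgroup G)) ⟨x, hx⟩
    exact congrArg Subtype.val this
  have hC : Nat.card (Subgroup.centralizer ((P : Subgroup G) : Set G)) = 7 ∨
      Nat.card (Subgroup.centralizer ((P : Subgroup G) : Set G)) = 14 := by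
    set c := Nat.card (Subgroup.centralizer ((P : Subgroup G) : Set G)) with hc
    set k := (Subgroup.centralizer ((P : Subgroup G) : Set G)).relIndex
      (Subgroup.normalizer ((P : Subgroup G) : Set G)) with hk
    have hk6 : k ∈ Nat.divisors 6 := by
      rw [Nat.mem_divisors]; exact ⟨hrel, by norm_num⟩
    have hd6 : Nat.divisors 6 = {1, 2, 3, 6} := by decide
    rw [hd6] at hk6
    simp only [Finset.mem_insert, Finset.mem_singleton] at hk6
    rcases hk6 with h6 | h6 | h6 | h6 <;> rw [h6] at hmul <;> omega
  rcases hC with hC | hC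
  · symm
    apply Subgroup.eq_of_le_of_card_ge hPC
    rw [hC, hP7]
  · exfalso
    have hNC : Subgroup.normalizer ((P : Subgroup G) : Set G) ≤
        Subgroup.centralizer ((P : Subgroup G) : Set G) := by
      have := Subgroup.eq_of_le_of_card_ge hCN (by rw [hC, hN14])
      rw [this]
    obtain ⟨K, hKn, hK⟩ := Cfsg.Agent.Helper20.SylFifteen.exists_normal_complement P hNC
    have hP7' : Nat.card (P : Subgroup G) = 7 := hP7
    rw [hP7', h] at hK
    rcases hKn.eq_bot_or_eq_top with hb | ht
    · rw [hb] at hK; simp at hK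
    · rw [ht, Subgroup.card_top, h] at hK; omega

/-- Elements of order seven are self-centralizing. -/
theorem mem_zpowers_of_commute (h : Nat.card G = 504) {y g : G} (hy : orderOf y = 7)
    (hg : g * y = y * g) : g ∈ Subgroup.zpowers y := by
  haveI : Fact (Nat.Prime 7) := ⟨by norm_num⟩
  have hZ7 : Nat.card (Subgroup.zpowers y) = 7 := by rw [Nat.card_zpowers, hy]
  have hpg : IsPGroup 7 (Subgroup.zpowers y) := IsPGroup.of_card (n := 1) (by rw [hZ7]; norm_num)
  obtain ⟨P, hP⟩ := hpg.exists_le_sylow
  have hP7 := sylow7_card h P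
  have hZP : Subgroup.zpowers y = (P : Subgroup G) := by
    apply Subgroup.eq_of_le_of_card_ge hP
    rw [hZ7, hP7]
  rw [hZP, ← centralizer_sylow7 h P, ← hZP]
  rw [Subgroup.mem_centralizer_iff]
  intro x hx
  obtain ⟨k, rfl⟩ := Subgroup.mem_zpowers_iff.1 hx
  exact ((Commute.zpow_right (show Commute g y from hg) k).eq).symm

end O504
end Cfsg.Agent.Helper16
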