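import Mathlib
import Cfsg.Agent.Lib.Helper16.Simple504a

/-!
# Simple groups of order 504, part b: the Sylow 3-subgroups and elements of order six
(helper16's library)
-/

set_option autoImplicit false
set_option linter.unusedSectionVars false
set_option linter.style.haveILetI false

namespace Cfsg.Agent.Helper16
namespace O504

variable {G : Type*} [Group G] [Finite G] [IsSimpleGroup G]

theorem sylow3_card (h : Nat.card G = 504) [Fact (Nat.Prime 3)] (P : Sylow 3 G) :
    Nat.card P = 9 := by
  have := Cfsg.Agent.Helper2.sylow_card_of_card_eq (p := 3) (a := 2) (m := 56) P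
    (by rw [h]; norm_num) (by decide)
  simpa using this

theorem sylow3_comm (h : Nat.card G = 504) [Fact (Nat.Prime 3)] (P : Sylow 3 G) {x y : G}
    (hx : x ∈ P) (hy : y ∈ P) : x * y = y * x := by
  have hP9 := sylow3_card h P
  have hcomm : IsMulCommutative (P : Subgroup G) :=
    IsPGroup.isMulCommutative_of_card_eq_prime_sq (p := 3) (by simpa using hP9)
  have := hcomm.is_comm.comm (⟨x, hx⟩ : (P : Subgroup G)) ⟨y, hy⟩
  exact congrArg Subtype.val this

theorem card_sylow_three [Fact (Nat.Prime 3)] (h : Nat.card G = 504) :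
    Nat.card (Sylow 3 G) = 28 := by
  obtain ⟨P⟩ : Nonempty (Sylow 3 G) := inferInstance
  have hP9 := sylow3_card h P
  have hidx : (P : Subgroup G).index = 56 := by
    have := (P : Subgroup G).card_mul_index
    rw [h, hP9] at this
    omega
  have hdvd : Nat.card (Sylow 3 G) ∣ 56 := by
    rw [← hidx]; exact Sylow.card_dvd_index P
  have hmod : Nat.card (Sylow 3 G) ≡ 1 [MOD 3] := card_sylow_modEq_one 3 G
  have hNidx := Sylow.card_eq_index_normalizer P
  have hNne := sylow_normalizer_ne_top h P (by rw [hP9]; norm_num) (by rw [hP9]; norm_num)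
  have h8 := eight_le_index h _ hNne
  rw [← hNidx] at h8
  have hmem : Nat.card (Sylow 3 G) ∈ Nat.divisors 56 := by
    rw [Nat.mem_divisors]; exact ⟨hdvd, by norm_num⟩
  have hdivs : Nat.divisors 56 = {1, 2, 4, 7, 8, 14, 28, 56} := by decide
  rw [hdivs] at hmem
  simp only [Finset.mem_insert, Finset.mem_singleton] at hmem
  rcases hmem with h' | h' | h' | h' | h' | h' | h' | h'
  all_goals first | exact h' | (rw [h'] at hmod h8; first | omega | (exfalso; revert hmod; decide))

theorem normalizer_sylow3_card [Fact (Nat.Prime 3)] (h : Nat.card G = 504) (P : Sylow 3 G) :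
    Nat.card (Subgroup.normalizer ((P : Subgroup G) : Set G)) = 18 := by
  have hNidx := Sylow.card_eq_index_normalizer P
  rw [card_sylow_three h] at hNidx
  have hNcard := (Subgroup.normalizer ((P : Subgroup G) : Set G)).card_mul_index
  have hidx' : (Subgroup.normalizer ((P : Subgroup G) : Set G)).index = 28 := hNidx.symm
  rw [hidx', h] at hNcard
  omega

open scoped IsMulCommutative in
/-- An element of a Sylow `3`-subgroup that is central in its normalizer is trivial (transfer). -/
theorem eq_one_of_central [Fact (Nat.Prime 3)] (h : Nat.card G = 504) (P : Sylow 3 G) {w : G}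
    (hw : w ∈ P)
    (hcent : ∀ n ∈ Subgroup.normalizer ((P : Subgroup G) : Set G), n * w = w * n) : w = 1 := by
  by_contra hw1
  have hP9 := sylow3_card h P
  haveI hcomm : IsMulCommutative (P : Subgroup G) :=
    IsPGroup.isMulCommutative_of_card_eq_prime_sq (p := 3) (by simpa using hP9)
  have key : ∀ (k : ℕ) (g₀ : G), g₀⁻¹ * w ^ k * g₀ ∈ (P : Subgroup G) →
      g₀⁻¹ * w ^ k * g₀ = w ^ k := by
    intro k g₀ hk
    obtain ⟨n, hn, hn2⟩ := P.conj_eq_normalizer_conj_of_mem (w ^ k) g₀ (pow_mem hw k) hk
    rw [hn2]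
    have hc : n * w ^ k = w ^ k * n := (Commute.pow_right (show Commute n w from hcent n hn) k).eq
    calc n⁻¹ * w ^ k * n = n⁻¹ * (w ^ k * n) := by group
      _ = n⁻¹ * (n * w ^ k) := by rw [hc]
      _ = w ^ k := by group
  have hidx : (P : Subgroup G).index = 56 := by
    have := (P : Subgroup G).card_mul_index
    rw [h, hP9] at this
    omega
  have htr := MonoidHom.transfer_eq_pow (MonoidHom.id (P : Subgroup G)) w key
  set φ : G →* (P : Subgroup G) := MonoidHom.transfer (MonoidHom.id (P : Subgroup G)) with hφ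
  have hφw : φ w ≠ 1 := by
    rw [htr]
    intro h1
    have h2 : w ^ (P : Subgroup G).index = 1 := by
      have := congrArg Subtype.val h1
      simpa using this
    rw [hidx] at h2
    have h3 : w ^ 9 = 1 := by
      have h4 : (⟨w, hw⟩ : (P : Subgroup G)) ^ Nat.card (P : Subgroup G) = 1 := pow_card_eq_one'
      rw [hP9] at h4
      have := congrArg Subtype.val h4
      simpa using this
    have h5 : orderOf w ∣ Nat.gcd 56 9 :=
      Nat.dvd_gcd (orderOf_dvd_of_pow_eq_one h2) (orderOf_dvd_of_pow_eq_one h3)
    have h6 : Nat.gcd 56 9 = 1 := by decide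
    rw [h6, Nat.dvd_one, orderOf_eq_one_iff] at h5
    exact hw1 h5
  rcases (MonoidHom.normal_ker φ).eq_bot_or_eq_top with hb | ht
  · have hinj : Function.Injective φ := (MonoidHom.ker_eq_bot_iff φ).1 hb
    have hle := Nat.card_le_card_of_injective _ hinj
    rw [h, hP9] at hle
    omega
  · apply hφw
    have : w ∈ φ.ker := by rw [ht]; trivial
    exact this

/-- Some involution of the normalizer of a Sylow `3`-subgroup inverts it. -/
theorem exists_inverting [Fact (Nat.Prime 3)] (h : Nat.card G = 504) (P : Sylow 3 G) :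
    ∃ s ∈ Subgroup.normalizer ((P : Subgroup G) : Set G), orderOf s = 2 ∧
      ∀ x ∈ P, s * x * s⁻¹ = x⁻¹ := by
  have hP9 := sylow3_card h P
  have hN18 := normalizer_sylow3_card h P
  haveI : Fact (Nat.Prime 2) := ⟨Nat.prime_two⟩
  obtain ⟨s0, hs0⟩ := exists_prime_orderOf_dvd_card'
    (G := Subgroup.normalizer ((P : Subgroup G) : Set G)) 2 (by rw [hN18]; norm_num)
  have hos : orderOf (s0 : G) = 2 := by rw [Subgroup.orderOf_coe]; exact hs0
  set s : G := (s0 : G) with hs
  have hsN : s ∈ Subgroup.normalizer ((P : Subgroup G) : Set G) := s0.2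
  have hs2 : s * s = 1 := by rw [← pow_two, ← hos]; exact pow_orderOf_eq_one s
  have hsinv : s⁻¹ = s := inv_eq_of_mul_eq_one_left hs2
  refine ⟨s, hsN, hos, ?_⟩
  intro x hx
  have hx' : s * x * s⁻¹ ∈ (P : Subgroup G) := (Subgroup.mem_normalizer_iff.1 hsN x).1 hx
  set w : G := x * (s * x * s⁻¹) with hw
  have hwP : w ∈ (P : Subgroup G) := mul_mem hx hx'
  have hsw : s * w = w * s := by
    have h1 : s * w * s⁻¹ = w := by
      calc s * w * s⁻¹ = (s * x * s⁻¹) * (s * s * x * (s * s)⁻¹) := by rw [hw]; group
        _ = (s * x * s⁻¹) * x := by rw [hs2]; group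
        _ = w := by rw [hw]; exact sylow3_comm h P hx' hx
    calc s * w = (s * w * s⁻¹) * s := by group
      _ = w * s := by rw [h1]
  have hcent : ∀ n ∈ Subgroup.normalizer ((P : Subgroup G) : Set G), n * w = w * n := by
    set D : Subgroup G := Subgroup.centralizer ({w} : Set G) ⊓
      Subgroup.normalizer ((P : Subgroup G) : Set G) with hD
    have hPD : (P : Subgroup G) ≤ D := by
      intro y hy
      refine Subgroup.mem_inf.2 ⟨?_, Subgroup.le_normalizer hy⟩
      rw [Subgroup.mem_centralizer_singleton_iff]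
      exact (sylow3_comm h P hy hwP)
    have hsD : s ∈ D := by
      refine Subgroup.mem_inf.2 ⟨?_, hsN⟩
      rw [Subgroup.mem_centralizer_singleton_iff]
      exact hsw
    have h9 : 9 ∣ Nat.card D := by
      have := Subgroup.card_dvd_of_le hPD
      rwa [hP9] at this
    have h2 : 2 ∣ Nat.card D := by
      rw [← hos]; exact Subgroup.orderOf_dvd_natCard D hsD
    have h18 : 18 ∣ Nat.card D := by
      have : Nat.Coprime 9 2 := by decide
      exact this.mul_dvd_of_dvd_of_dvd h9 h2
    have hDN : D ≤ Subgroup.normalizer ((P : Subgroup G) : Set G) := inf_le_right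
    have hDeq : D = Subgroup.normalizer ((P : Subgroup G) : Set G) := by
      apply Subgroup.eq_of_le_of_card_ge hDN
      rw [hN18]
      exact Nat.le_of_dvd Nat.card_pos h18
    intro n hn
    rw [← hDeq] at hn
    have := (Subgroup.mem_inf.1 hn).1
    rw [Subgroup.mem_centralizer_singleton_iff] at this
    exact this
  have hw1 := eq_one_of_central h P hwP hcent
  rw [hw] at hw1
  exact (eq_inv_of_mul_eq_one_right hw1)

/-- No involution commutes with an element of order three. -/
theorem not_commute_two_three (h : Nat.card G = 504) {t r : G} (ht : orderOf t = 2)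
    (hr : orderOf r = 3) (htr : t * r = r * t) : False := by
  haveI : Fact (Nat.Prime 3) := ⟨Nat.prime_three⟩
  haveI : Fact (Nat.Prime 7) := ⟨by norm_num⟩
  have hZ3 : Nat.card (Subgroup.zpowers r) = 3 := by rw [Nat.card_zpowers, hr]
  have hpg : IsPGroup 3 (Subgroup.zpowers r) := IsPGroup.of_card (n := 1) (by rw [hZ3]; norm_num)
  obtain ⟨P, hP⟩ := hpg.exists_le_sylow
  have hrP : r ∈ (P : Subgroup G) := hP (Subgroup.mem_zpowers r)
  have hP9 := sylow3_card h P
  have hN18 := normalizer_sylow3_card h P
  obtain ⟨s, hsN, hos, hinv⟩ := exists_inverting h P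
  have hs2 : s * s = 1 := by rw [← pow_two, ← hos]; exact pow_orderOf_eq_one s
  have hsinv : s⁻¹ = s := inv_eq_of_mul_eq_one_left hs2
  set C : Subgroup G := Subgroup.centralizer ({r} : Set G) with hC
  have hPC : (P : Subgroup G) ≤ C := by
    intro y hy
    rw [hC, Subgroup.mem_centralizer_singleton_iff]
    exact sylow3_comm h P hy hrP
  have htC : t ∈ C := by
    rw [hC, Subgroup.mem_centralizer_singleton_iff]
    exact htr
  have h18 : 18 ∣ Nat.card C := by
    have h9 : 9 ∣ Nat.card C := by
      have := Subgroup.card_dvd_of_le hPC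
      rwa [hP9] at this
    have h2 : 2 ∣ Nat.card C := by
      rw [← ht]; exact Subgroup.orderOf_dvd_natCard C htC
    have : Nat.Coprime 9 2 := by decide
    exact this.mul_dvd_of_dvd_of_dvd h9 h2
  have h7 : ¬ 7 ∣ Nat.card C := by
    intro h7
    obtain ⟨y, hy⟩ := exists_prime_orderOf_dvd_card' (G := C) 7 h7
    have hoy : orderOf (y : G) = 7 := by rw [Subgroup.orderOf_coe]; exact hy
    have hyr : r * (y : G) = (y : G) * r := by
      have h1 : (y : G) ∈ Subgroup.centralizer ({r} : Set G) := y.2
      rw [Subgroup.mem_centralizer_singleton_iff] at h1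
      exact h1.symm
    have hmem := mem_zpowers_of_commute h hoy hyr
    have hdvd := orderOf_dvd_of_mem_zpowers hmem
    rw [hr, hoy] at hdvd
    norm_num at hdvd
  have hCtop : C ≠ ⊤ := by
    intro htop
    apply h7
    rw [htop, Subgroup.card_top, h]
    norm_num
  -- the normalizer of `⟨r⟩`
  set NR : Subgroup G := Subgroup.normalizer ((Subgroup.zpowers r : Subgroup G) : Set G) with hNR
  have hCN : C ≤ NR := by
    intro c hc
    apply Subgroup.centralizer_le_normalizer _
    rw [Subgroup.mem_centralizer_iff]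
    intro g hg
    obtain ⟨k, rfl⟩ := Subgroup.mem_zpowers_iff.1 hg
    rw [hC, Subgroup.mem_centralizer_singleton_iff] at hc
    exact (Commute.zpow_left (show Commute r c from hc.symm) k).eq
  have hsNR : s ∈ NR := by
    have hfwd : ∀ g ∈ Subgroup.zpowers r, s * g * s⁻¹ ∈ Subgroup.zpowers r := by
      intro g hg
      have hgP : g ∈ (P : Subgroup G) := hP hg
      rw [hinv g hgP]
      exact Subgroup.inv_mem _ hg
    rw [hNR, Subgroup.mem_normalizer_iff]
    intro g
    refine ⟨hfwd g, fun hg => ?_⟩
    have := hfwd _ hg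
    have h2 : s * (s * g * s⁻¹) * s⁻¹ = g := by
      calc s * (s * g * s⁻¹) * s⁻¹ = (s * s) * g * (s * s)⁻¹ := by group
        _ = g := by rw [hs2]; group
    rwa [h2] at this
  have hsC : s ∉ C := by
    intro hsC
    rw [hC, Subgroup.mem_centralizer_singleton_iff] at hsC
    have h1 : s * r * s⁻¹ = r := by
      calc s * r * s⁻¹ = r * s * s⁻¹ := by rw [hsC]
        _ = r := by group
    rw [hinv r hrP] at h1
    have h2 : r ^ 2 = 1 := by
      calc r ^ 2 = r * r := pow_two r
        _ = r⁻¹ * r := by rw [h1]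
        _ = 1 := by group
    have := orderOf_dvd_of_pow_eq_one h2
    rw [hr] at this
    norm_num at this
  have hNRtop : NR ≠ ⊤ := by
    intro htop
    have hn : (Subgroup.zpowers r).Normal := Subgroup.normalizer_eq_top_iff.1 htop
    rcases hn.eq_bot_or_eq_top with hb | htp
    · rw [hb] at hZ3; simp at hZ3
    · rw [htp, Subgroup.card_top, h] at hZ3; norm_num at hZ3
  have hNR63 := card_le_of_ne_top h NR hNRtop
  have hCdvd : Nat.card C ∣ Nat.card NR := Subgroup.card_dvd_of_le hCN
  have hCne : Nat.card C ≠ Nat.card NR := by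
    intro heq
    apply hsC
    have := Subgroup.eq_of_le_of_card_ge hCN heq.ge
    rw [this]; exact hsNR
  have hC18 : Nat.card C = 18 := by
    obtain ⟨a, ha⟩ := h18
    obtain ⟨b, hb⟩ := hCdvd
    have hb0 : b ≠ 0 := by
      rintro rfl
      rw [mul_zero] at hb
      have : 0 < Nat.card NR := Nat.card_pos
      omega
    have hb1 : b ≠ 1 := by
      rintro rfl
      rw [mul_one] at hb
      exact hCne hb.symm
    have hb2 : 2 ≤ b := by omega
    have ha0 : 0 < a := by
      have : 0 < Nat.card C := Nat.card_pos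
      omega
    have : 2 * Nat.card C ≤ Nat.card NR := by
      rw [hb]; nlinarith
    omega
  -- `P` is normal in `C`
  have hrel := Cfsg.Agent.Helper20.SylFifteen.card_inf_mul_relIndex (P : Subgroup G) C
  rw [inf_eq_left.2 hPC, hP9, hC18] at hrel
  have hrel2 : (P : Subgroup G).relIndex C = 2 := by omega
  have hnorm : ((P : Subgroup G).subgroupOf C).Normal := Subgroup.normal_of_index_eq_two hrel2
  have hCNP : C ≤ Subgroup.normalizer ((P : Subgroup G) : Set G) :=
    (Subgroup.normal_subgroupOf_iff_le_normalizer hPC).1 hnorm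
  have hCeq : C = Subgroup.normalizer ((P : Subgroup G) : Set G) := by
    apply Subgroup.eq_of_le_of_card_ge hCNP
    rw [hC18, hN18]
  apply hsC
  rw [hCeq]
  exact hsN

end O504
end Cfsg.Agent.Helper16
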