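import Mathlib
import Cfsg.Agent.Lib.Helper16.Simple504b
import Cfsg.Agent.Lib.Helper16.MaxClass
import Cfsg.Agent.Lib.Helper16.MaxClassTwo
import Cfsg.Agent.Lib.Lead.DihedralRecog
import Cfsg.Agent.S0215
import Cfsg.Agent.S0848

/-!
# Simple groups of order 504, part c: involution centralizers and the Sylow 2-subgroups
(helper16's library)
-/

set_option autoImplicit false
set_option linter.unusedSectionVars false
set_option linter.style.haveILetI false

namespace Cfsg.Agent.Helper16
namespace O504

/-- An element of order dividing three normalizing a subgroup of order eight centralizes one of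
its nonidentity elements. -/
theorem exists_fixed_of_card_eight {G : Type*} [Group G] (P : Subgroup G) (hP : Nat.card P = 8)
    {c : G} (hc : c ∈ Subgroup.normalizer (P : Set G)) (hc3 : c ^ 3 = 1) :
    ∃ x ∈ P, x ≠ 1 ∧ c * x = x * c := by
  classical
  haveI : Finite P := Nat.finite_of_card_ne_zero (by rw [hP]; norm_num)
  haveI : Fintype P := Fintype.ofFinite P
  have hcinv : c⁻¹ ∈ Subgroup.normalizer (P : Set G) := Subgroup.inv_mem _ hc
  have hmem : ∀ (d : G), d ∈ Subgroup.normalizer (P : Set G) → ∀ x : P, d * x * d⁻¹ ∈ P :=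
    fun d hd x => (Subgroup.mem_normalizer_iff.1 hd x).1 x.2
  have hne : ∀ (d : G) (x : P), (x : G) ≠ 1 → d * x * d⁻¹ ≠ 1 := by
    intro d x hx h1
    apply hx
    calc (x : G) = d⁻¹ * (d * x * d⁻¹) * d := by group
      _ = 1 := by rw [h1]; group
  let σ : Equiv.Perm {x : P // (x : G) ≠ 1} :=
    { toFun := fun x => ⟨⟨c * x.1 * c⁻¹, hmem c hc x.1⟩, hne c x.1 x.2⟩
      invFun := fun x => ⟨⟨c⁻¹ * x.1 * c⁻¹⁻¹, hmem c⁻¹ hcinv x.1⟩, hne c⁻¹ x.1 x.2⟩
      left_inv := by
        intro x
        apply Subtype.ext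
        apply Subtype.ext
        show c⁻¹ * (c * (x.1 : G) * c⁻¹) * c⁻¹⁻¹ = x.1
        group
      right_inv := by
        intro x
        apply Subtype.ext
        apply Subtype.ext
        show c * (c⁻¹ * (x.1 : G) * c⁻¹⁻¹) * c⁻¹ = x.1
        group }
  have hσ : σ ^ 3 ^ 1 = 1 := by
    ext x
    show (((σ ^ 3 ^ 1) x).1 : G) = x.1
    have : (σ ^ 3 ^ 1) x = σ (σ (σ x)) := by
      simp [pow_succ, Equiv.Perm.mul_apply]
    rw [this]
    show c * (c * (c * (x.1 : G) * c⁻¹) * c⁻¹) * c⁻¹ = x.1
    have hccc : c * c * c = 1 := by rw [← hc3, pow_succ, pow_two]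
    calc c * (c * (c * (x.1 : G) * c⁻¹) * c⁻¹) * c⁻¹ = (c * c * c) * x.1 * (c * c * c)⁻¹ := by
          simp only [mul_inv_rev, mul_assoc]
      _ = x.1 := by rw [hccc]; group
  have hcard : Fintype.card {x : P // (x : G) ≠ 1} = 7 := by
    have h1 : Fintype.card {x : P // (x : G) ≠ 1} = Fintype.card {x : P // x ≠ 1} := by
      apply Fintype.card_congr
      exact Equiv.subtypeEquivRight (fun x => by
        constructor
        · intro h h1; exact h (by rw [h1]; rfl)
        · intro h h1; exact h (Subtype.ext h1))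
    rw [h1, Fintype.card_subtype_compl, Fintype.card_subtype_eq, ← Nat.card_eq_fintype_card, hP]
  haveI : Fact (Nat.Prime 3) := ⟨Nat.prime_three⟩
  obtain ⟨a, ha⟩ := Equiv.Perm.exists_fixed_point_of_prime (p := 3) (n := 1)
    (by rw [hcard]; norm_num) hσ
  refine ⟨a.1, a.1.2, a.2, ?_⟩
  have h1 : c * (a.1 : G) * c⁻¹ = a.1 := by
    have := congrArg (fun y : {x : P // (x : G) ≠ 1} => ((y.1 : P) : G)) ha
    exact this
  calc c * (a.1 : G) = (c * a.1 * c⁻¹) * c := by group
    _ = a.1 * c := by rw [h1]

/-- A noncommutative group of order eight with a central involution and a second involution is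
dihedral. -/
theorem dihedral_of_card_eight {X : Type*} [Group X] [Finite X] (hX : Nat.card X = 8)
    (hnc : ¬ IsMulCommutative X) (t t' : X) (ht : orderOf t = 2) (ht' : orderOf t' = 2)
    (hne : t' ≠ t) (htc : ∀ x : X, x * t = t * x) : Nonempty (X ≃* DihedralGroup 4) := by
  obtain ⟨a, ha⟩ := exists_orderOf_four_of_card_eight hX hnc
  set A : Subgroup X := Subgroup.zpowers a with hA
  have hA4 : Nat.card A = 4 := by rw [Nat.card_zpowers, ha]
  have hAidx : A.index = 2 := by
    have := A.card_mul_index
    rw [hA4, hX] at this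
    omega
  have hAn : A.Normal := Subgroup.normal_of_index_eq_two hAidx
  -- a criterion for commutativity
  have hcomm_of : ∀ u : X, u ∉ A → u * a = a * u → IsMulCommutative X := by
    intro u hu hua
    have hzp : ∀ x ∈ A, u * x = x * u := by
      intro x hx
      obtain ⟨k, rfl⟩ := Subgroup.mem_zpowers_iff.1 hx
      exact (Commute.zpow_right (show Commute u a from hua) k).eq
    have hAA : ∀ x ∈ A, ∀ y ∈ A, x * y = y * x := by
      intro x hx y hy
      obtain ⟨k, rfl⟩ := Subgroup.mem_zpowers_iff.1 hx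
      obtain ⟨l, rfl⟩ := Subgroup.mem_zpowers_iff.1 hy
      exact (Commute.zpow_zpow (Commute.refl a) k l).eq
    have hrep : ∀ x : X, ∃ p ∈ A, x = p ∨ x = u * p := by
      intro x
      rcases mem_or_inv_mul_mem_of_index_two hAidx hu x with hx | hx
      · exact ⟨x, hx, Or.inl rfl⟩
      · exact ⟨u⁻¹ * x, hx, Or.inr (by group)⟩
    refine ⟨⟨fun x y => ?_⟩⟩
    obtain ⟨p, hp, hx⟩ := hrep x
    obtain ⟨q, hq, hy⟩ := hrep y
    rcases hx with hx | hx <;> rcases hy with hy | hy <;> rw [hx, hy]
    · exact hAA _ hp _ hq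
    · calc p * (u * q) = (p * u) * q := by group
        _ = (u * p) * q := by rw [hzp p hp]
        _ = u * (p * q) := by group
        _ = u * (q * p) := by rw [hAA p hp q hq]
        _ = u * q * p := by group
    · calc u * p * q = u * (p * q) := by group
        _ = u * (q * p) := by rw [hAA p hp q hq]
        _ = (u * q) * p := by group
        _ = (q * u) * p := by rw [hzp q hq]
        _ = q * (u * p) := by group
    · calc u * p * (u * q) = u * (p * u) * q := by group
        _ = u * (u * p) * q := by rw [hzp p hp]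
        _ = u * u * (p * q) := by group
        _ = u * u * (q * p) := by rw [hAA p hp q hq]
        _ = u * (u * q) * p := by group
        _ = u * (q * u) * p := by rw [hzp q hq]
        _ = u * q * (u * p) := by group
  have htA : t ∈ A := by
    by_contra htA
    exact hnc (hcomm_of t htA (htc a).symm)
  have hta : t = a ^ 2 := eq_sq_of_mem_zpowers_of_orderOf_two ha htA ht
  have ht'A : t' ∉ A := by
    intro h
    apply hne
    rw [hta]
    exact eq_sq_of_mem_zpowers_of_orderOf_two ha h ht'
  have ht'2 : t' * t' = 1 := by rw [← pow_two, ← ht']; exact pow_orderOf_eq_one t'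
  have ht'inv : t'⁻¹ = t' := inv_eq_of_mul_eq_one_left ht'2
  have hconj : t' * a * t'⁻¹ ∈ A := hAn.conj_mem a (Subgroup.mem_zpowers a) t'
  obtain ⟨s, hs, hsa⟩ := mem_zpowers_exists_nat (by norm_num) ha hconj
  have hord : orderOf (t' * a * t'⁻¹) = 4 := by
    rw [← ha]
    have : t' * a * t'⁻¹ = MulAut.conj t' a := by rw [MulAut.conj_apply]
    rw [this, MulEquiv.orderOf_eq]
  have hsa' : t' * a * t' = a⁻¹ := by
    rw [ht'inv] at hsa hord
    interval_cases s
    · exfalso
      rw [pow_zero] at hsa
      rw [hsa, orderOf_one] at hord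
      norm_num at hord
    · exfalso
      rw [pow_one] at hsa
      apply hnc
      apply hcomm_of t' ht'A
      calc t' * a = (t' * a * t') * t' := by rw [mul_assoc (t' * a), ht'2, mul_one]
        _ = a * t' := by rw [hsa]
    · exfalso
      rw [hsa] at hord
      have h1 : (a ^ 2) ^ 2 = 1 := by
        have h4 : a ^ 4 = 1 := by rw [← ha]; exact pow_orderOf_eq_one a
        rw [← pow_mul]; exact h4
      have := orderOf_dvd_of_pow_eq_one h1
      rw [hord] at this
      norm_num at this
    · rw [hsa]
      have h4 : a ^ 4 = 1 := by rw [← ha]; exact pow_orderOf_eq_one a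
      rw [eq_inv_iff_mul_eq_one, ← pow_succ, h4]
  exact Cfsg.Agent.Lead.nonempty_mulEquiv_dihedral 4 a t' ha ht'2 hsa' ht'A (by rw [hX])

variable {G : Type*} [Group G] [Finite G] [IsSimpleGroup G]

/-- The centralizer of an involution is a `2`-group. -/
theorem card_centralizer_involution_dvd (h : Nat.card G = 504) {t : G} (ht : orderOf t = 2) :
    Nat.card (Subgroup.centralizer ({t} : Set G)) ∣ 8 := by
  haveI : Fact (Nat.Prime 3) := ⟨Nat.prime_three⟩
  haveI : Fact (Nat.Prime 7) := ⟨by norm_num⟩
  set C : Subgroup G := Subgroup.centralizer ({t} : Set G) with hC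
  have hdvd : Nat.card C ∣ 8 * 63 := by
    have := Subgroup.card_subgroup_dvd_card C
    rwa [h] at this
  have h3 : ¬ 3 ∣ Nat.card C := by
    intro h3
    obtain ⟨r, hr⟩ := exists_prime_orderOf_dvd_card' (G := C) 3 h3
    have hor : orderOf (r : G) = 3 := by rw [Subgroup.orderOf_coe]; exact hr
    have h1 : (r : G) ∈ Subgroup.centralizer ({t} : Set G) := r.2
    rw [Subgroup.mem_centralizer_singleton_iff] at h1
    exact not_commute_two_three h ht hor h1.symm
  have h7 : ¬ 7 ∣ Nat.card C := by
    intro h7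
    obtain ⟨y, hy⟩ := exists_prime_orderOf_dvd_card' (G := C) 7 h7
    have hoy : orderOf (y : G) = 7 := by rw [Subgroup.orderOf_coe]; exact hy
    have h1 : (y : G) ∈ Subgroup.centralizer ({t} : Set G) := y.2
    rw [Subgroup.mem_centralizer_singleton_iff] at h1
    have hmem := mem_zpowers_of_commute h hoy h1.symm
    have hdvd := orderOf_dvd_of_mem_zpowers hmem
    rw [ht, hoy] at hdvd
    norm_num at hdvd
  have hcop : Nat.Coprime (Nat.card C) 63 := by
    have h63 : (63 : ℕ) = 3 ^ 2 * 7 := by norm_num
    rw [h63]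
    apply Nat.Coprime.mul_right
    · apply Nat.Coprime.pow_right
      exact ((Nat.Prime.coprime_iff_not_dvd Nat.prime_three).2 h3).symm
    · exact ((Nat.Prime.coprime_iff_not_dvd (by norm_num : Nat.Prime 7)).2 h7).symm
  exact hcop.dvd_of_dvd_mul_right hdvd

theorem sylow2_card (h : Nat.card G = 504) [Fact (Nat.Prime 2)] (P : Sylow 2 G) :
    Nat.card P = 8 := by
  have := Cfsg.Agent.Helper2.sylow_card_of_card_eq (p := 2) (a := 3) (m := 63) P
    (by rw [h]; norm_num) (by decide)
  simpa using this

theorem commutator_eq_top (h : Nat.card G = 504) : commutator G = ⊤ := by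
  rcases (inferInstance : (commutator G).Normal).eq_bot_or_eq_top with hb | ht
  · exfalso
    haveI : Fact (Nat.Prime 7) := ⟨by norm_num⟩
    obtain ⟨P⟩ : Nonempty (Sylow 7 G) := inferInstance
    have hP7 := sylow7_card h P
    apply sylow_normalizer_ne_top h P (by rw [hP7]; norm_num) (by rw [hP7]; norm_num)
    have hcomm : ∀ a b : G, a * b = b * a := by
      intro a b
      rw [commutator_def, Subgroup.commutator_eq_bot_iff_le_centralizer] at hb
      have := hb (Subgroup.mem_top b)
      rw [Subgroup.mem_centralizer_iff] at this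
      exact this a (Subgroup.mem_top a)
    rw [eq_top_iff]
    intro g _
    show g ∈ Subgroup.normalizer ((P : Subgroup G) : Set G)
    rw [Subgroup.mem_normalizer_iff]
    intro x
    have : g * x * g⁻¹ = x := by rw [hcomm g x]; group
    rw [this]
  · exact ht

/-- The Sylow `2`-subgroups have exponent two. -/
theorem sylow2_sq (h : Nat.card G = 504) [Fact (Nat.Prime 2)] (P : Sylow 2 G) {x : G}
    (hx : x ∈ P) : x * x = 1 := by
  classical
  haveI : Fact (Nat.Prime 3) := ⟨Nat.prime_three⟩
  haveI : Fact (Nat.Prime 7) := ⟨by norm_num⟩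
  have hP8 := sylow2_card h P
  -- a central involution of `P`
  haveI : Nontrivial (P : Subgroup G) := by
    rw [← Finite.one_lt_card_iff_nontrivial, hP8]; norm_num
  haveI hZnt : Nontrivial (Subgroup.center (P : Subgroup G)) := (P.isPGroup').center_nontrivial
  have hZ2 : 2 ∣ Nat.card (Subgroup.center (P : Subgroup G)) := by
    obtain ⟨k, hk⟩ := IsPGroup.iff_card.1 ((P.isPGroup').to_subgroup (Subgroup.center _))
    have h1 : 1 < Nat.card (Subgroup.center (P : Subgroup G)) :=
      Finite.one_lt_card_iff_nontrivial.2 hZnt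
    rw [hk] at h1 ⊢
    rcases k with _ | k
    · simp at h1
    · exact dvd_pow_self 2 (Nat.succ_ne_zero k)
  obtain ⟨z, hz⟩ := exists_prime_orderOf_dvd_card' (G := Subgroup.center (P : Subgroup G)) 2 hZ2
  set t : G := ((z : (P : Subgroup G)) : G) with ht_def
  have htP : t ∈ (P : Subgroup G) := (z : (P : Subgroup G)).2
  have ht : orderOf t = 2 := by
    rw [ht_def, Subgroup.orderOf_coe, Subgroup.orderOf_coe]; exact hz
  have htc : ∀ p ∈ (P : Subgroup G), p * t = t * p := by
    intro p hp
    have := Subgroup.mem_center_iff.1 z.2 ⟨p, hp⟩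
    exact congrArg Subtype.val this
  have ht1 : t ≠ 1 := by
    intro h1
    rw [h1, orderOf_one] at ht
    norm_num at ht
  have ht2 : t * t = 1 := by rw [← pow_two, ← ht]; exact pow_orderOf_eq_one t
  -- the centralizer of `t`
  have hPC : (P : Subgroup G) ≤ Subgroup.centralizer ({t} : Set G) := by
    intro p hp
    rw [Subgroup.mem_centralizer_singleton_iff]
    exact htc p hp
  have hCdvd := card_centralizer_involution_dvd h ht
  have hCP : Subgroup.centralizer ({t} : Set G) = (P : Subgroup G) := by
    symm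
    apply Subgroup.eq_of_le_of_card_ge hPC
    rw [hP8]
    exact Nat.le_of_dvd (by norm_num) hCdvd
  -- the normalizer of `P`
  set N : Subgroup G := Subgroup.normalizer ((P : Subgroup G) : Set G) with hN
  have hNtop : N ≠ ⊤ :=
    sylow_normalizer_ne_top h P (by rw [hP8]; norm_num) (by rw [hP8]; norm_num)
  have hN63 := card_le_of_ne_top h N hNtop
  have hPN : (P : Subgroup G) ≤ N := Subgroup.le_normalizer
  have h8N : 8 ∣ Nat.card N := by
    have := Subgroup.card_dvd_of_le hPN
    rwa [hP8] at this
  have hNdvd : Nat.card N ∣ 504 := by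
    have := Subgroup.card_subgroup_dvd_card N
    rwa [h] at this
  obtain ⟨k, hk⟩ := h8N
  have hk7 : k ≤ 7 := by omega
  have hk63 : k ∣ 63 := by
    rw [hk] at hNdvd
    have : (504 : ℕ) = 8 * 63 := by norm_num
    rw [this] at hNdvd
    exact Nat.dvd_of_mul_dvd_mul_left (by norm_num) hNdvd
  have hkcases : k = 1 ∨ k = 3 ∨ k = 7 := by
    interval_cases k <;> omega
  rcases hkcases with rfl | rfl | rfl
  · -- `P` is self-normalizing
    exfalso
    have hNP : N = (P : Subgroup G) := by
      symm
      apply Subgroup.eq_of_le_of_card_ge hPN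
      rw [hk, hP8]
    by_cases hcomm : IsMulCommutative (P : Subgroup G)
    · have hNC : N ≤ Subgroup.centralizer ((P : Subgroup G) : Set G) := by
        rw [hNP]
        intro a ha b hb
        have := hcomm.is_comm.comm (⟨b, hb⟩ : (P : Subgroup G)) ⟨a, ha⟩
        exact congrArg Subtype.val this
      obtain ⟨K, hKn, hK⟩ := Cfsg.Agent.Helper20.SylFifteen.exists_normal_complement P hNC
      have hP8' : Nat.card (P : Subgroup G) = 8 := hP8
      rw [hP8', h] at hK
      rcases hKn.eq_bot_or_eq_top with hb | htp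
      · rw [hb] at hK; simp at hK
      · rw [htp, Subgroup.card_top, h] at hK; omega
    · by_cases hiso : ∀ g : G, g * t * g⁻¹ ∈ P → g * t * g⁻¹ = t
      · obtain ⟨M, hMn, hModd, hM⟩ := Cfsg.Agent.S0215.result P t ht htP hiso
        rcases hMn.eq_bot_or_eq_top with hb | htp
        · -- `t` is central
          have hcent : Subgroup.centralizer ({t} : Set G) = ⊤ := by
            rw [eq_top_iff]
            intro g _
            rw [Subgroup.mem_centralizer_singleton_iff]
            have := hM g
            rw [hb, Subgroup.mem_bot] at this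
            calc g * t = (t * g * t⁻¹ * g⁻¹)⁻¹ * (t * g) := by group
              _ = t * g := by rw [this, inv_one, one_mul]
          rw [hcent, Subgroup.card_top, h] at hCdvd
          norm_num at hCdvd
        · rw [htp, Subgroup.card_top, h] at hModd
          revert hModd; decide
      · push Not at hiso
        obtain ⟨g, hgP, hgne⟩ := hiso
        have hot' : orderOf (g * t * g⁻¹) = 2 := by
          rw [← ht]
          have : g * t * g⁻¹ = MulAut.conj g t := by rw [MulAut.conj_apply]
          rw [this, MulEquiv.orderOf_eq]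
        obtain ⟨e⟩ := dihedral_of_card_eight (X := (P : Subgroup G)) hP8 hcomm ⟨t, htP⟩
          ⟨g * t * g⁻¹, hgP⟩ (by rw [← Subgroup.orderOf_coe]; exact ht)
          (by rw [← Subgroup.orderOf_coe]; exact hot')
          (fun h1 => hgne (congrArg Subtype.val h1))
          (fun p => Subtype.ext (htc p p.2))
        have e' : Subgroup.centralizer ({t} : Set G) ≃* DihedralGroup 4 :=
          (MulEquiv.subgroupCongr hCP).trans e
        rcases Cfsg.Agent.S0848.result (commutator_eq_top h) t ht e' with h1 | h1 <;>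
          rw [h] at h1 <;> norm_num at h1
  · -- an element of order three normalizing `P`
    exfalso
    obtain ⟨c, hc⟩ := exists_prime_orderOf_dvd_card' (G := N) 3 (by rw [hk]; norm_num)
    have hoc : orderOf (c : G) = 3 := by rw [Subgroup.orderOf_coe]; exact hc
    have hc3 : (c : G) ^ 3 = 1 := by rw [← hoc]; exact pow_orderOf_eq_one _
    obtain ⟨x₀, hx₀P, hx₀1, hx₀c⟩ := exists_fixed_of_card_eight (P : Subgroup G) hP8 c.2 hc3
    have ho8 : orderOf x₀ ∣ 2 ^ 3 := by
      have := Subgroup.orderOf_dvd_natCard (P : Subgroup G) hx₀P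
      rwa [hP8] at this
    obtain ⟨j, hj3, hj⟩ := (Nat.dvd_prime_pow Nat.prime_two).1 ho8
    have hj0 : j ≠ 0 := by
      rintro rfl
      rw [pow_zero, orderOf_eq_one_iff] at hj
      exact hx₀1 hj
    have h2o : 2 ∣ orderOf x₀ := by rw [hj]; exact dvd_pow_self 2 hj0
    have ho0 : orderOf x₀ ≠ 0 := by rw [hj]; positivity
    have hu := orderOf_pow_orderOf_div ho0 h2o
    have huc : x₀ ^ (orderOf x₀ / 2) * (c : G) = (c : G) * x₀ ^ (orderOf x₀ / 2) :=
      ((Commute.pow_right (show Commute (c : G) x₀ from hx₀c) _).eq).symm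
    exact not_commute_two_three h hu hoc huc
  · -- an element of order seven normalizing `P`
    obtain ⟨y0, hy0⟩ := exists_prime_orderOf_dvd_card' (G := N) 7 (by rw [hk]; norm_num)
    set y : G := (y0 : G) with hy_def
    have hoy : orderOf y = 7 := by rw [hy_def, Subgroup.orderOf_coe]; exact hy0
    have hyN : ∀ i : ℕ, y ^ i ∈ N := fun i => Subgroup.pow_mem _ y0.2 i
    have hconjP : ∀ i : ℕ, y ^ i * t * (y ^ i)⁻¹ ∈ (P : Subgroup G) := fun i =>
      (Subgroup.mem_normalizer_iff.1 (hyN i) t).1 htP
    have hinj : ∀ i j : Fin 7, y ^ (i : ℕ) * t * (y ^ (i : ℕ))⁻¹ = y ^ (j : ℕ) * t * (y ^ (j : ℕ))⁻¹ →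
        i = j := by
      intro i j hij
      set e : G := (y ^ (j : ℕ))⁻¹ * y ^ (i : ℕ) with he
      have het : t * e = e * t := by
        have h1 : e * t * e⁻¹ = t := by
          calc e * t * e⁻¹ = (y ^ (j : ℕ))⁻¹ * (y ^ (i : ℕ) * t * (y ^ (i : ℕ))⁻¹) * y ^ (j : ℕ) := by
                rw [he]; group
            _ = (y ^ (j : ℕ))⁻¹ * (y ^ (j : ℕ) * t * (y ^ (j : ℕ))⁻¹) * y ^ (j : ℕ) := by rw [hij]
            _ = t := by group
        calc t * e = (e * t * e⁻¹) * e := by rw [h1]
          _ = e * t := by group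
      have he1 : e = 1 := by
        by_contra hne
        have hemem : e ∈ Subgroup.zpowers y :=
          Subgroup.mul_mem _ (Subgroup.inv_mem _ (Subgroup.pow_mem _ (Subgroup.mem_zpowers y) _))
            (Subgroup.pow_mem _ (Subgroup.mem_zpowers y) _)
        have hoe : orderOf e = 7 := by
          have hd := orderOf_dvd_of_mem_zpowers hemem
          rw [hoy] at hd
          rcases (Nat.dvd_prime (by norm_num : Nat.Prime 7)).1 hd with h1 | h1
          · rw [orderOf_eq_one_iff] at h1; exact absurd h1 hne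
          · exact h1
        have hmem := mem_zpowers_of_commute h hoe het
        have hd := orderOf_dvd_of_mem_zpowers hmem
        rw [ht, hoe] at hd
        norm_num at hd
      have hpow : y ^ (i : ℕ) = y ^ (j : ℕ) := by
        calc y ^ (i : ℕ) = y ^ (j : ℕ) * e := by rw [he]; group
          _ = y ^ (j : ℕ) := by rw [he1, mul_one]
      have := pow_injOn_Iio_orderOf (x := y) (by rw [hoy]; exact i.2) (by rw [hoy]; exact j.2) hpow
      exact Fin.ext this
    -- the seven conjugates of `t` exhaust the nonidentity elements of `P`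
    haveI : Fintype (P : Subgroup G) := Fintype.ofFinite _
    let f : Fin 7 → (P : Subgroup G) := fun i => ⟨y ^ (i : ℕ) * t * (y ^ (i : ℕ))⁻¹, hconjP i⟩
    have hfinj : Function.Injective f := by
      intro i j hij
      exact hinj i j (congrArg Subtype.val hij)
    set S : Finset (P : Subgroup G) := Finset.univ.image f with hS
    have hScard : S.card = 7 := by
      rw [hS, Finset.card_image_of_injective _ hfinj]; simp
    have hSsub : S ⊆ Finset.univ.erase 1 := by
      intro p hp
      rw [hS, Finset.mem_image] at hp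
      obtain ⟨i, -, rfl⟩ := hp
      rw [Finset.mem_erase]
      refine ⟨?_, Finset.mem_univ _⟩
      intro h1
      apply ht1
      have h2 : y ^ (i : ℕ) * t * (y ^ (i : ℕ))⁻¹ = 1 := congrArg Subtype.val h1
      calc t = (y ^ (i : ℕ))⁻¹ * (y ^ (i : ℕ) * t * (y ^ (i : ℕ))⁻¹) * y ^ (i : ℕ) := by group
        _ = 1 := by rw [h2]; group
    have hSeq : S = Finset.univ.erase 1 := by
      apply Finset.eq_of_subset_of_card_le hSsub
      rw [Finset.card_erase_of_mem (Finset.mem_univ _), Finset.card_univ, ← Nat.card_eq_fintype_card,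
        hP8, hScard]
    by_cases hx1 : x = 1
    · rw [hx1, mul_one]
    · have hxS : (⟨x, hx⟩ : (P : Subgroup G)) ∈ S := by
        rw [hSeq, Finset.mem_erase]
        exact ⟨fun h1 => hx1 (congrArg Subtype.val h1), Finset.mem_univ _⟩
      rw [hS, Finset.mem_image] at hxS
      obtain ⟨i, -, hi⟩ := hxS
      have hxi : x = y ^ (i : ℕ) * t * (y ^ (i : ℕ))⁻¹ := (congrArg Subtype.val hi).symm
      rw [hxi]
      calc y ^ (i : ℕ) * t * (y ^ (i : ℕ))⁻¹ * (y ^ (i : ℕ) * t * (y ^ (i : ℕ))⁻¹)
          = y ^ (i : ℕ) * (t * t) * (y ^ (i : ℕ))⁻¹ := by group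
        _ = 1 := by rw [ht2]; group

end O504
end Cfsg.Agent.Helper16
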