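import Mathlib
import Cfsg.Agent.Lib.Helper16.Simple360j
import Cfsg.Agent.Lib.Helper16.Simple504c
import Cfsg.Agent.S0215

set_option autoImplicit false
set_option linter.unusedSectionVars false
set_option linter.style.haveILetI false

namespace Cfsg.Agent.Helper16
namespace O360

variable {G : Type*} [Group G] [Finite G] [IsSimpleGroup G]

/-- The possible orders of a proper subgroup containing a Sylow `2`-subgroup. -/
theorem card_cases_of_sylow2_le (h : Nat.card G = 360) (hno : ∀ H : Subgroup G, H.index ≠ 6)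
    [Fact (Nat.Prime 2)] (P : Sylow 2 G) (S : Subgroup G) (hPS : (P : Subgroup G) ≤ S)
    (hS : S ≠ ⊤) : Nat.card S = 8 ∨ Nat.card S = 24 ∨ Nat.card S = 40 := by
  have hP8 := sylow2_card h P
  have h45 := card_le_of_ne_top h hno S hS
  have h8 : 8 ∣ Nat.card S := by
    have := Subgroup.card_dvd_of_le hPS
    rwa [hP8] at this
  have hdvd : Nat.card S ∣ 360 := by
    have := Subgroup.card_subgroup_dvd_card S
    rwa [h] at this
  obtain ⟨k, hk⟩ := h8
  have hk5 : k ≤ 5 := by omega
  have hk45 : k ∣ 45 := by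
    rw [hk] at hdvd
    have : (360 : ℕ) = 8 * 45 := by norm_num
    rw [this] at hdvd
    exact Nat.dvd_of_mul_dvd_mul_left (by norm_num) hdvd
  have hpos : 0 < Nat.card S := Nat.card_pos
  have hkcases : k = 1 ∨ k = 3 ∨ k = 5 := by
    interval_cases k <;> omega
  rcases hkcases with rfl | rfl | rfl <;> omega

/-- The Sylow `2`-subgroups are not commutative. -/
theorem sylow2_not_comm (h : Nat.card G = 360) (hno : ∀ H : Subgroup G, H.index ≠ 6)
    [Fact (Nat.Prime 2)] (P : Sylow 2 G) : ¬ IsMulCommutative (P : Subgroup G) := by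
  classical
  haveI : Fact (Nat.Prime 3) := ⟨Nat.prime_three⟩
  haveI : Fact (Nat.Prime 5) := ⟨by norm_num⟩
  intro hcomm
  have hP8 := sylow2_card h P
  have hPne : (P : Subgroup G) ≠ ⊤ := by
    intro ht
    rw [ht, Subgroup.card_top, h] at hP8
    norm_num at hP8
  have hPP : ∀ x ∈ (P : Subgroup G), ∀ y ∈ (P : Subgroup G), x * y = y * x := by
    intro x hx y hy
    have := hcomm.is_comm.comm (⟨x, hx⟩ : (P : Subgroup G)) ⟨y, hy⟩
    exact congrArg Subtype.val this
  set N : Subgroup G := Subgroup.normalizer ((P : Subgroup G) : Set G) with hN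
  have hNtop : N ≠ ⊤ :=
    sylow_normalizer_ne_top h P (by rw [hP8]; norm_num) (by rw [hP8]; norm_num)
  have hPN : (P : Subgroup G) ≤ N := Subgroup.le_normalizer
  -- it suffices to find a nonidentity element of `P` central in `N`
  have key : ∀ x₀ ∈ (P : Subgroup G), x₀ ≠ 1 → (∀ n ∈ N, n * x₀ = x₀ * n) → False := by
    intro x₀ hx₀ hx₀1 hcent
    exact hx₀1 (SimpleTools.eq_one_of_central_of_simple P hcomm hPne hx₀ hcent)
  -- a criterion for centrality
  have hcrit : ∀ x₀ ∈ (P : Subgroup G), ∀ c : G, c ∈ N → c * x₀ = x₀ * c → ∀ m : ℕ,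
      Nat.card N = 8 * m → m ∣ orderOf c → Nat.Coprime 8 m → ∀ n ∈ N, n * x₀ = x₀ * n := by
    intro x₀ hx₀ c hcN hcx m hNm hmc hcop
    set D : Subgroup G := Subgroup.centralizer ({x₀} : Set G) ⊓ N with hD
    have hPD : (P : Subgroup G) ≤ D := by
      intro p hp
      refine Subgroup.mem_inf.2 ⟨?_, hPN hp⟩
      rw [Subgroup.mem_centralizer_singleton_iff]
      exact hPP p hp x₀ hx₀
    have hcD : c ∈ D := by
      refine Subgroup.mem_inf.2 ⟨?_, hcN⟩
      rw [Subgroup.mem_centralizer_singleton_iff]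
      exact hcx
    have h8 : 8 ∣ Nat.card D := by
      have := Subgroup.card_dvd_of_le hPD
      rwa [hP8] at this
    have hm : m ∣ Nat.card D := hmc.trans (Subgroup.orderOf_dvd_natCard D hcD)
    have h8m : 8 * m ∣ Nat.card D := hcop.mul_dvd_of_dvd_of_dvd h8 hm
    have hDN : D = N := by
      apply Subgroup.eq_of_le_of_card_ge inf_le_right
      rw [hNm]
      exact Nat.le_of_dvd Nat.card_pos h8m
    intro n hn
    rw [← hDN] at hn
    exact Subgroup.mem_centralizer_singleton_iff.1 (Subgroup.mem_inf.1 hn).1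
  -- a nonidentity element of `P`
  haveI : Nontrivial (P : Subgroup G) := by
    rw [← Finite.one_lt_card_iff_nontrivial, hP8]; norm_num
  rcases card_cases_of_sylow2_le h hno P N hPN hNtop with hN8 | hN24 | hN40
  · -- `P` is self-normalizing
    obtain ⟨w, hw⟩ := exists_ne (1 : (P : Subgroup G))
    apply key (w : G) w.2 (fun h1 => hw (Subtype.ext h1))
    intro n hn
    have hNP : N = (P : Subgroup G) := by
      symm
      apply Subgroup.eq_of_le_of_card_ge hPN
      rw [hN8, hP8]
    rw [hNP] at hn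
    exact hPP n hn w w.2
  · -- an element of order three normalizing `P`
    obtain ⟨c, hc⟩ := exists_prime_orderOf_dvd_card' (G := N) 3 (by rw [hN24]; norm_num)
    have hoc : orderOf (c : G) = 3 := by rw [Subgroup.orderOf_coe]; exact hc
    have hc3 : (c : G) ^ 3 = 1 := by rw [← hoc]; exact pow_orderOf_eq_one _
    obtain ⟨x₀, hx₀P, hx₀1, hx₀c⟩ := SimpleTools.exists_fixed_of_card (P : Subgroup G) (n := 7)
      (p := 3) (by rw [hP8]) (by norm_num) c.2 hc3
    exact key x₀ hx₀P hx₀1
      (hcrit x₀ hx₀P c c.2 hx₀c 3 (by rw [hN24]) (by rw [hoc]) (by decide))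
  · -- an element of order five normalizing `P`
    obtain ⟨c, hc⟩ := exists_prime_orderOf_dvd_card' (G := N) 5 (by rw [hN40]; norm_num)
    have hoc : orderOf (c : G) = 5 := by rw [Subgroup.orderOf_coe]; exact hc
    have hc5 : (c : G) ^ 5 = 1 := by rw [← hoc]; exact pow_orderOf_eq_one _
    obtain ⟨x₀, hx₀P, hx₀1, hx₀c⟩ := SimpleTools.exists_fixed_of_card (P : Subgroup G) (n := 7)
      (p := 5) (by rw [hP8]) (by norm_num) c.2 hc5
    apply hx₀1
    have hpow : x₀ ^ 2 ^ 3 = 1 := by
      have h1 : orderOf x₀ ∣ 2 ^ 3 := by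
        have := Subgroup.orderOf_dvd_natCard (P : Subgroup G) hx₀P
        rwa [hP8] at this
      exact orderOf_dvd_iff_pow_eq_one.1 h1
    exact eq_one_of_commute_five h hno hoc hx₀c.symm hpow

end O360
end Cfsg.Agent.Helper16
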