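import Mathlib
import Cfsg.Agent.Lib.Helper16.Simple360k

set_option autoImplicit false
set_option linter.unusedSectionVars false
set_option linter.style.haveILetI false

namespace Cfsg.Agent.Helper16
namespace O360

variable {G : Type*} [Group G] [Finite G] [IsSimpleGroup G]

/-- In a simple group of order `360` without subgroups of index six, some involution has a
dihedral centralizer of order eight. -/
theorem exists_dihedral_centralizer (h : Nat.card G = 360)
    (hno : ∀ H : Subgroup G, H.index ≠ 6) :
    ∃ z : G, orderOf z = 2 ∧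
      Nonempty (Subgroup.centralizer ({z} : Set G) ≃* DihedralGroup 4) := by
  classical
  haveI : Fact (Nat.Prime 2) := ⟨Nat.prime_two⟩
  haveI : Fact (Nat.Prime 3) := ⟨Nat.prime_three⟩
  haveI : Fact (Nat.Prime 5) := ⟨by norm_num⟩
  obtain ⟨P⟩ : Nonempty (Sylow 2 G) := inferInstance
  have hP8 := sylow2_card h P
  have hnc := sylow2_not_comm h hno P
  -- a central involution of `P`
  haveI : Nontrivial (P : Subgroup G) := by
    rw [← Finite.one_lt_card_iff_nontrivial, hP8]; norm_num
  haveI hZnt : Nontrivial (Subgroup.center (P : Subgroup G)) := (P.isPGroup').center_nontrivial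
  have hZ2 : 2 ∣ Nat.card (Subgroup.center (P : Subgroup G)) := by
    obtain ⟨k, hk⟩ := IsPGroup.iff_card.1 ((P.isPGroup').to_subgroup (Subgroup.center _))
    have h1 : 1 < Nat.card (Subgroup.center (P : Subgroup G)) :=
      Finite.one_lt_card_iff_nontrivial.2 hZnt
    rw [hk] at h1 ⊢
    rcases k with _ | k
    · simp at h1
    · exact dvd_pow_self 2 (Nat.succ_ne_zero k)
  obtain ⟨z, hz⟩ := exists_prime_orderOf_dvd_card' (G := Subgroup.center (P : Subgroup G)) 2 hZ2
  set t : G := ((z : (P : Subgroup G)) : G) with ht_def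
  have htP : t ∈ (P : Subgroup G) := (z : (P : Subgroup G)).2
  have ht : orderOf t = 2 := by
    rw [ht_def, Subgroup.orderOf_coe, Subgroup.orderOf_coe]; exact hz
  have htc : ∀ p ∈ (P : Subgroup G), p * t = t * p := by
    intro p hp
    have := Subgroup.mem_center_iff.1 z.2 ⟨p, hp⟩
    exact congrArg Subtype.val this
  -- the centralizer of `t`
  set C : Subgroup G := Subgroup.centralizer ({t} : Set G) with hC
  have hPC : (P : Subgroup G) ≤ C := by
    intro p hp
    rw [hC, Subgroup.mem_centralizer_singleton_iff]
    exact htc p hp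
  have hCtop : C ≠ ⊤ := by
    intro htop
    have hZ2' : Nat.card (Subgroup.zpowers t) = 2 := by rw [Nat.card_zpowers, ht]
    apply normalizer_ne_top h (Subgroup.zpowers t) (by rw [hZ2']; norm_num)
      (by rw [hZ2']; norm_num)
    rw [eq_top_iff]
    refine le_trans ?_ (le_normalizer_zpowers ⊤ t ?_)
    · exact le_rfl
    · intro x _
      have hx : x ∈ C := by rw [htop]; trivial
      rw [hC, Subgroup.mem_centralizer_singleton_iff] at hx
      rw [hx, mul_inv_cancel_right]
      exact Subgroup.mem_zpowers t
  -- a second involution in `P`, by the `Z*`-theorem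
  have hiso : ¬ ∀ g : G, g * t * g⁻¹ ∈ P → g * t * g⁻¹ = t := by
    intro hiso
    obtain ⟨M, hMn, hModd, hM⟩ := Cfsg.Agent.S0215.result P t ht htP hiso
    rcases hMn.eq_bot_or_eq_top with hb | htp
    · apply hCtop
      rw [eq_top_iff]
      intro g _
      rw [hC, Subgroup.mem_centralizer_singleton_iff]
      have := hM g
      rw [hb, Subgroup.mem_bot] at this
      calc g * t = (t * g * t⁻¹ * g⁻¹)⁻¹ * (t * g) := by group
        _ = t * g := by rw [this, inv_one, one_mul]
    · rw [htp, Subgroup.card_top, h] at hModd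
      revert hModd; decide
  push Not at hiso
  obtain ⟨g, hgP, hgne⟩ := hiso
  have hot' : orderOf (g * t * g⁻¹) = 2 := by
    rw [← ht]
    have : g * t * g⁻¹ = MulAut.conj g t := by rw [MulAut.conj_apply]
    rw [this, MulEquiv.orderOf_eq]
  obtain ⟨e⟩ := O504.dihedral_of_card_eight (X := (P : Subgroup G)) hP8 hnc ⟨t, htP⟩
    ⟨g * t * g⁻¹, hgP⟩ (by rw [← Subgroup.orderOf_coe]; exact ht)
    (by rw [← Subgroup.orderOf_coe]; exact hot')
    (fun h1 => hgne (congrArg Subtype.val h1))
    (fun p => Subtype.ext (htc p p.2))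
  refine ⟨t, ht, ?_⟩
  rcases card_cases_of_sylow2_le h hno P C hPC hCtop with hC8 | hC24 | hC40
  · have hCP : C = (P : Subgroup G) := by
      symm
      apply Subgroup.eq_of_le_of_card_ge hPC
      rw [hC8, hP8]
    exact ⟨(MulEquiv.subgroupCongr hCP).trans e⟩
  · -- the centralizer has order `24`
    exfalso
    obtain ⟨a, s, ha, hs, hsa, hsn⟩ := exists_dihedral_generators e
    set φ : (P : Subgroup G) →* C := Subgroup.inclusion hPC with hφ
    have hφinj : Function.Injective φ := Subgroup.inclusion_injective hPC
    haveI : Finite C := inferInstance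
    obtain ⟨c, hc⟩ := exists_prime_orderOf_dvd_card' (G := C) 3 (by rw [hC24]; norm_num)
    have hnorm := normal_zpowers_of_card_twentyfour (C := C) hC24 ⟨t, hPC htP⟩
      (by rw [← Subgroup.orderOf_coe]; exact ht)
      (fun x => Subtype.ext (by
        have hx : (x : G) ∈ Subgroup.centralizer ({t} : Set G) := x.2
        exact Subgroup.mem_centralizer_singleton_iff.1 hx))
      (P.subtype hPC) (φ a) (φ s)
      (by
        show φ a ∈ (P : Subgroup G).subgroupOf C
        rw [Subgroup.mem_subgroupOf]; exact a.2)
      (by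
        show φ s ∈ (P : Subgroup G).subgroupOf C
        rw [Subgroup.mem_subgroupOf]; exact s.2)
      (by rw [orderOf_injective φ hφinj]; exact ha)
      (by rw [← map_mul, hs, map_one])
      (by rw [← map_mul, ← map_mul, hsa, map_inv])
      (by
        intro hmem
        apply hsn
        rw [← MonoidHom.map_zpowers] at hmem
        exact (Subgroup.mem_map_iff_mem hφinj).1 hmem)
      c hc
    -- back in `G`
    set c₀ : G := (c : G) with hc₀
    have hoc : orderOf c₀ = 3 := by rw [hc₀, Subgroup.orderOf_coe]; exact hc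
    set R : Subgroup G := Subgroup.zpowers c₀ with hR
    have hR3 : Nat.card R = 3 := by rw [hR, Nat.card_zpowers, hoc]
    have hCN : C ≤ Subgroup.normalizer (R : Set G) := by
      apply le_normalizer_zpowers
      intro x hx
      have h1 := hnorm ⟨x, hx⟩
      obtain ⟨k, hk⟩ := Subgroup.mem_zpowers_iff.1 h1
      have h2 := congrArg (Subtype.val : C → G) hk
      rw [Subgroup.mem_zpowers_iff]
      refine ⟨k, ?_⟩
      rw [hc₀]
      simpa using h2
    -- a Sylow 3-subgroup containing `c₀`
    have hpg : IsPGroup 3 R := IsPGroup.of_card (n := 1) (by rw [hR3]; norm_num)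
    obtain ⟨Q, hQ⟩ := hpg.exists_le_sylow
    have hc₀Q : c₀ ∈ (Q : Subgroup G) := hQ (Subgroup.mem_zpowers c₀)
    have hQN : (Q : Subgroup G) ≤ Subgroup.normalizer (R : Set G) := by
      apply le_normalizer_zpowers
      intro x hx
      have := sylow3_comm h Q hx hc₀Q
      rw [this, mul_inv_cancel_right]
      exact Subgroup.mem_zpowers c₀
    have hQ9 := sylow3_card h Q
    have h24 : 24 ∣ Nat.card (Subgroup.normalizer (R : Set G)) := by
      have := Subgroup.card_dvd_of_le hCN
      rwa [hC24] at this
    have h9 : 9 ∣ Nat.card (Subgroup.normalizer (R : Set G)) := by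
      have := Subgroup.card_dvd_of_le hQN
      rwa [hQ9] at this
    have h72 : 72 ∣ Nat.card (Subgroup.normalizer (R : Set G)) := by
      have h8 : 8 ∣ Nat.card (Subgroup.normalizer (R : Set G)) := dvd_trans (by norm_num) h24
      have : Nat.Coprime 8 9 := by decide
      exact this.mul_dvd_of_dvd_of_dvd h8 h9
    have hNtop := normalizer_ne_top h R (by rw [hR3]; norm_num) (by rw [hR3]; norm_num)
    have h45 := card_le_of_ne_top h hno _ hNtop
    have := Nat.le_of_dvd Nat.card_pos h72
    omega
  · -- an element of order five would commute with `t`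
    exfalso
    obtain ⟨u, hu⟩ := exists_prime_orderOf_dvd_card' (G := C) 5 (by rw [hC40]; norm_num)
    have hou : orderOf (u : G) = 5 := by rw [Subgroup.orderOf_coe]; exact hu
    have hut : (u : G) * t = t * u := by
      have hx : (u : G) ∈ Subgroup.centralizer ({t} : Set G) := u.2
      exact Subgroup.mem_centralizer_singleton_iff.1 hx
    have ht1 : t = 1 := eq_one_of_commute_five h hno hou hut.symm (n := 1)
      (by rw [pow_one, ← ht]; exact pow_orderOf_eq_one t)
    rw [ht1, orderOf_one] at ht
    norm_num at ht

end O360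
end Cfsg.Agent.Helper16
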