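import Mathlib
import Cfsg.Agent.Lib.Helper7.Frob7
import Cfsg.Agent.Lib.Helper13.BR996CC
import Cfsg.Agent.Lib.Helper24.GlaubPGroup
import Cfsg.Agent.Lib.Helper26.SSCGRPA
import Cfsg.Agent.Lib.Helper26.SSCGRPC
import Cfsg.Agent.Lib.Helper26.SSCGRPD
import Cfsg.Agent.Lib.Helper15.SSCGRPB
import Cfsg.Agent.Lib.Helper15.SSCGRPE
import Cfsg.Agent.Lib.Helper2.SSCCUBE
import Cfsg.Agent.Lib.Helper22.SSCNUM
import Cfsg.Agent.Lib.Helper22.SSCRES
import Cfsg.Agent.Lib.Helper4.SSCVAN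
import Cfsg.Agent.Lib.Helper4.SSCARITH4
import Cfsg.Agent.Lib.Helper19.SSCCOUNT2
import Cfsg.Agent.Lib.Helper19.SSCCOUNT4
import Cfsg.Agent.Lib.Helper19.SSCARITH2
import Cfsg.Agent.Lib.Helper19.SSCFIN

set_option autoImplicit false
set_option linter.unusedSectionVars false
set_option linter.unusedVariables false
set_option linter.style.haveILetI false

namespace Cfsg.Agent.Helper16.SSC

open Cfsg Cfsg.Agent.Helper24 Cfsg.Agent.Helper7.Frob Cfsg.Agent.Helper7.Homo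
open scoped ComplexConjugate

universe u

section Core

variable {G : Type u} [Group G] [Finite G] (P : Sylow 3 G)

namespace Asm

/-- PIECE LIN (own copy): no non-principal linear character -/
theorem two_le_degree' [IsSimpleGroup G] (hcard : Nat.card (P : Subgroup G) = 9)
    (χ : IrrCharacter G) (hχ : χ ≠ principalChar G) : 2 ≤ charDegree (χ : G → ℂ) := by
  by_contra hlt
  have hpos := charDegree_pos χ.2
  have h1 : charDegree (χ : G → ℂ) = 1 := by omega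
  have hcl := card_linear_characters' (G := G)
  have hnorm : (commutator G).Normal := inferInstance
  rcases hnorm.eq_bot_or_eq_top with hb | ht
  · -- abelian
    have hab : ∀ a b : G, a * b = b * a := by
      intro a b
      have : a * b * a⁻¹ * b⁻¹ ∈ commutator G :=
        Subgroup.commutator_mem_commutator (Subgroup.mem_top a) (Subgroup.mem_top b)
      rw [hb, Subgroup.mem_bot] at this
      have h2 : a * b = (a * b * a⁻¹ * b⁻¹) * (b * a) := by group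
      rw [h2, this, one_mul]
    letI : CommGroup G := { (inferInstance : Group G) with mul_comm := hab }
    have hp := IsSimpleGroup.prime_card (α := G)
    have hdvd : Nat.card (P : Subgroup G) ∣ Nat.card G := Subgroup.card_subgroup_dvd_card _
    rw [hcard] at hdvd
    have := (Nat.prime_dvd_prime_iff_eq Nat.prime_three hp).1 (dvd_trans (by norm_num) hdvd)
    rw [← this] at hdvd
    norm_num at hdvd
  · rw [ht, Subgroup.index_top] at hcl
    have hss : Subsingleton {χ : IrrCharacter G // charDegree (χ : G → ℂ) = 1} :=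
      (Nat.card_eq_one_iff_unique.1 hcl).1
    have hp1 : charDegree ((principalChar G : IrrCharacter G) : G → ℂ) = 1 := by
      apply charDegree_natCast 1
      show (1 : ℂ) = ((1 : ℕ) : ℂ)
      simp
    have := hss.elim ⟨χ, h1⟩ ⟨principalChar G, hp1⟩
    exact hχ (congrArg Subtype.val this)

theorem sum_pb_split (M : Ideal AlgInt) (Xs Y : Finset (IrrCharacter G))
    (hpb : ∀ χ, χ ∈ pbFinset M G ↔ χ ∈ Xs ∨ χ ∈ Y) (hdisj : ∀ χ ∈ Xs, χ ∉ Y)
    (F : IrrCharacter G → ℂ) :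
    ∑ χ ∈ pbFinset M G, F χ = ∑ χ ∈ Xs, F χ + ∑ χ ∈ Y, F χ := by
  classical
  have h : pbFinset M G = Xs ∪ Y := by
    ext χ
    rw [hpb, Finset.mem_union]
  rw [h, Finset.sum_union]
  exact Finset.disjoint_left.2 hdisj

theorem isPPart_coe (w : (P : Subgroup G)) : IsPPart 3 (w : G) (w : G) :=
  isPPart_self' Nat.prime_three (orderOf_sylow_coe' P w)

theorem coe_ne_one {w : (P : Subgroup G)} (hw : w ≠ 1) : (w : G) ≠ 1 :=
  fun h => hw (Subtype.ext h)

theorem exists_ne_one (hcard : Nat.card (P : Subgroup G) = 9) : ∃ w : (P : Subgroup G), w ≠ 1 := by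
  by_contra hcon
  push Not at hcon
  have : Subsingleton (P : Subgroup G) := ⟨fun a b => by rw [hcon a, hcon b]⟩
  have := Nat.card_of_subsingleton (1 : (P : Subgroup G))
  omega

/-- the degree relation from the weight clause -/
theorem deg_rel (M : Ideal AlgInt) (hM : IsPModular 3 M) (Xs Y : Finset (IrrCharacter G))
    (δ dd : ℤ) (a : IrrCharacter G → ℤ)
    (hw : ∀ w : IrrCharacter G → ℂ,
        (∀ y : (P : Subgroup G), y ≠ 1 → ∑ χ ∈ pbFinset M G, w χ * (χ : G → ℂ) y = 0) →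
        (∀ η ∈ Y, ∀ η' ∈ Y, w η = w η') ∧
        ∀ η ∈ Y, (((Y.card : ℂ)) * (dd : ℂ) - (δ : ℂ)) * w η +
          ∑ χ ∈ Xs, (a χ : ℂ) * w χ = 0) :
    (∀ η ∈ Y, ∀ η' ∈ Y, charDegree (η : G → ℂ) = charDegree (η' : G → ℂ)) ∧
      ∀ η ∈ Y, ((Y.card : ℤ) * dd - δ) * (charDegree (η : G → ℂ) : ℤ) +
        ∑ χ ∈ Xs, a χ * (charDegree (χ : G → ℂ) : ℤ) = 0 := by
  obtain ⟨h1, h2⟩ := hw (fun χ => (charDegree (χ : G → ℂ) : ℂ))
    (fun y hy => frob_deg_rel M hM P y hy)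
  refine ⟨fun η hη η' hη' => by exact_mod_cast h1 η hη η' hη', fun η hη => ?_⟩
  have := h2 η hη
  have h3 : ((((Y.card : ℤ) * dd - δ) * (charDegree (η : G → ℂ) : ℤ) +
        ∑ χ ∈ Xs, a χ * (charDegree (χ : G → ℂ) : ℤ) : ℤ) : ℂ) = 0 := by
    push_cast
    exact this
  exact_mod_cast h3

/-- `ν ^ 2` is inversion when `ν ^ 4 = 1` acts fixed point freely -/
theorem nu_sq (hcomm : ∀ x y : (P : Subgroup G), x * y = y * x)
    (ν : MulAut (P : Subgroup G)) (hν4 : ν ^ 4 = 1)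
    (hfpf : ∀ k : ℕ, 0 < k → k < 4 → ∀ a : (P : Subgroup G), (ν ^ k) a = a → a = 1)
    (a : (P : Subgroup G)) : (ν ^ 2) a = a⁻¹ := by
  have h1 : (ν ^ 2) (a * (ν ^ 2) a) = a * (ν ^ 2) a := by
    rw [map_mul]
    have : (ν ^ 2) ((ν ^ 2) a) = a := by
      have h4 : (ν ^ 2) ((ν ^ 2) a) = (ν ^ 4) a := by
        rw [show (4 : ℕ) = 2 + 2 from rfl, pow_add]
        rfl
      rw [h4, hν4]
      rfl
    rw [this]
    exact hcomm _ _
  have h2 := hfpf 2 (by norm_num) (by norm_num) _ h1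
  exact (eq_inv_of_mul_eq_one_right h2)


/-- character values are constant on conjugacy classes -/
theorem irr_conj (χ : IrrCharacter G) {g h : G} (hc : IsConj g h) :
    (χ : G → ℂ) h = (χ : G → ℂ) g := by
  obtain ⟨c, hc'⟩ := isConj_iff.1 hc
  rw [← hc']
  exact isClassFunction_of_isIrrCharacter χ.2 g c

/-- the values on `P` are real -/
theorem real_val (hcomm : ∀ x y : (P : Subgroup G), x * y = y * x)
    (ν : MulAut (P : Subgroup G)) (hν4 : ν ^ 4 = 1)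
    (hfpf : ∀ k : ℕ, 0 < k → k < 4 → ∀ a : (P : Subgroup G), (ν ^ k) a = a → a = 1)
    (hconj : ∀ (a : (P : Subgroup G)) (k : ℕ),
      IsConj (a : G) (((ν ^ k) a : (P : Subgroup G)) : G))
    (χ : IrrCharacter G) (w : (P : Subgroup G)) :
    conj ((χ : G → ℂ) (w : G)) = (χ : G → ℂ) (w : G) := by
  rw [← irr_inv (isCharacter_of_isIrrCharacter χ.2)]
  have h := hconj w 2
  rw [nu_sq P hcomm ν hν4 hfpf w, Subgroup.coe_inv] at h
  exact irr_conj χ h

/-- the generic point of the values of the two exceptional characters -/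
theorem eta_vals [DecidableEq (IrrCharacter G)] (M : Ideal AlgInt) (hM : IsPModular 3 M)
    (hcomm : ∀ x y : (P : Subgroup G), x * y = y * x)
    (hcard : Nat.card (P : Subgroup G) = 9)
    (Xs Y : Finset (IrrCharacter G)) (δ dd : ℤ) (a : IrrCharacter G → ℤ)
    (hpb : ∀ χ, χ ∈ pbFinset M G ↔ χ ∈ Xs ∨ χ ∈ Y) (hdisj : ∀ χ ∈ Xs, χ ∉ Y)
    (hδ : δ = 1 ∨ δ = -1) (hdd : dd = 0 ∨ dd = δ)
    (hXc : Xs.card = 4) (hapm : ∀ χ ∈ Xs, a χ = 1 ∨ a χ = -1)
    (hXv : ∀ χ ∈ Xs, ∀ w : (P : Subgroup G), w ≠ 1 → (χ : G → ℂ) (w : G) = (a χ : ℂ))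
    (η₁ η₂ : IrrCharacter G) (hne : η₁ ≠ η₂) (hY : Y = {η₁, η₂})
    (hf : charDegree (η₁ : G → ℂ) = charDegree (η₂ : G → ℂ))
    (hrel : ((Y.card : ℤ) * dd - δ) * (charDegree (η₁ : G → ℂ) : ℤ) +
        ∑ χ ∈ Xs, a χ * (charDegree (χ : G → ℂ) : ℤ) = 0)
    (hreal : ∀ (χ : IrrCharacter G) (w : (P : Subgroup G)),
      conj ((χ : G → ℂ) (w : G)) = (χ : G → ℂ) (w : G))
    (w : (P : Subgroup G)) (hw : w ≠ 1)
    (hnil : ∃ k : ℕ,
      (Cfsg.pPrimeCore 3 (Subgroup.centralizer ({(w : G)} : Set G))).index = 3 ^ k) :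
    ((η₁ : G → ℂ) (w : G) = (dd : ℂ) + δ ∧ (η₂ : G → ℂ) (w : G) = (dd : ℂ) - 2 * δ) ∨
      ((η₁ : G → ℂ) (w : G) = (dd : ℂ) - 2 * δ ∧ (η₂ : G → ℂ) (w : G) = (dd : ℂ) + δ) := by
  have hYc : Y.card = 2 := by rw [hY, Finset.card_pair hne]
  have hf0 : (charDegree (η₁ : G → ℂ) : ℂ) ≠ 0 := by
    exact_mod_cast (charDegree_pos η₁.2).ne'
  -- sum of squares over Xs
  have hsqX : ∑ χ ∈ Xs, (χ : G → ℂ) (w : G) * conj ((χ : G → ℂ) (w : G)) = 4 := by
    have : ∀ χ ∈ Xs, (χ : G → ℂ) (w : G) * conj ((χ : G → ℂ) (w : G)) = 1 := by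
      intro χ hχ
      rw [hXv χ hχ w hw]
      rcases hapm χ hχ with h | h <;> rw [h] <;> simp
    rw [Finset.sum_congr rfl this, Finset.sum_const, hXc]
    norm_num
  have hcol := frob_col_same M hM P hcomm w hw hnil
  rw [sum_pb_split M Xs Y hpb hdisj, hsqX, hY, Finset.sum_pair hne, hcard] at hcol
  have hsq : (η₁ : G → ℂ) (w : G) * conj ((η₁ : G → ℂ) (w : G)) +
      (η₂ : G → ℂ) (w : G) * conj ((η₂ : G → ℂ) (w : G)) = 5 := by
    have : ((9 : ℕ) : ℂ) = 9 := by norm_num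
    rw [this] at hcol
    linear_combination hcol
  -- the sum
  have hdr := frob_deg_rel M hM P w hw
  rw [sum_pb_split M Xs Y hpb hdisj, hY, Finset.sum_pair hne] at hdr
  have hXd : ∑ χ ∈ Xs, (charDegree (χ : G → ℂ) : ℂ) * (χ : G → ℂ) (w : G) =
      ∑ χ ∈ Xs, ((a χ * (charDegree (χ : G → ℂ) : ℤ) : ℤ) : ℂ) := by
    refine Finset.sum_congr rfl fun χ hχ => ?_
    rw [hXv χ hχ w hw]
    push_cast
    ring
  rw [hXd, ← Int.cast_sum] at hdr
  have hrelC : (((Y.card : ℤ) * dd - δ) * (charDegree (η₁ : G → ℂ) : ℤ) +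
        ∑ χ ∈ Xs, a χ * (charDegree (χ : G → ℂ) : ℤ) : ℤ) = (0 : ℂ) := by
    rw [hrel]
    simp
  rw [hYc] at hrelC
  push_cast at hrelC
  rw [← hf] at hdr
  push_cast at hdr
  have hsum : (η₁ : G → ℂ) (w : G) + (η₂ : G → ℂ) (w : G) = 2 * (dd : ℂ) - (δ : ℂ) := by
    have h : (charDegree (η₁ : G → ℂ) : ℂ) *
        ((η₁ : G → ℂ) (w : G) + (η₂ : G → ℂ) (w : G) - (2 * (dd : ℂ) - (δ : ℂ))) = 0 := by
      linear_combination hdr - hrelC
    rcases mul_eq_zero.1 h with h | h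
    · exact absurd h hf0
    · linear_combination h
  exact val_arith dd δ hδ hdd _ _ (hreal η₁ w) (hreal η₂ w) hsq hsum


/-- non-conjugate elements of `P^#` have swapped patterns -/
theorem eta_swap [DecidableEq (IrrCharacter G)] (M : Ideal AlgInt) (hM : IsPModular 3 M)
    (hcomm : ∀ x y : (P : Subgroup G), x * y = y * x)
    (hcard : Nat.card (P : Subgroup G) = 9)
    (Xs Y : Finset (IrrCharacter G)) (δ dd : ℤ) (a : IrrCharacter G → ℤ)
    (hpb : ∀ χ, χ ∈ pbFinset M G ↔ χ ∈ Xs ∨ χ ∈ Y) (hdisj : ∀ χ ∈ Xs, χ ∉ Y)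
    (hδ : δ = 1 ∨ δ = -1)
    (hXc : Xs.card = 4) (hapm : ∀ χ ∈ Xs, a χ = 1 ∨ a χ = -1)
    (hXv : ∀ χ ∈ Xs, ∀ w : (P : Subgroup G), w ≠ 1 → (χ : G → ℂ) (w : G) = (a χ : ℂ))
    (η₁ η₂ : IrrCharacter G) (hne : η₁ ≠ η₂) (hY : Y = {η₁, η₂})
    (hreal : ∀ (χ : IrrCharacter G) (w : (P : Subgroup G)),
      conj ((χ : G → ℂ) (w : G)) = (χ : G → ℂ) (w : G))
    (ν : MulAut (P : Subgroup G))
    (hfpf : ∀ k : ℕ, 0 < k → k < 4 → ∀ a : (P : Subgroup G), (ν ^ k) a = a → a = 1)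
    (hconj : ∀ (a : (P : Subgroup G)) (k : ℕ),
      IsConj (a : G) (((ν ^ k) a : (P : Subgroup G)) : G))
    (hfus : ∀ a b : (P : Subgroup G), IsConj (a : G) (b : G) → ∃ k < 4, b = (ν ^ k) a)
    (hnil : ∀ a : (P : Subgroup G), a ≠ 1 → ∃ k : ℕ,
        (Cfsg.pPrimeCore 3 (Subgroup.centralizer ({(a : G)} : Set G))).index = 3 ^ k)
    (w w' : (P : Subgroup G)) (hw : w ≠ 1) (hw' : w' ≠ 1) (hnc : ¬ IsConj (w : G) (w' : G))
    (hpat : ∀ v : (P : Subgroup G), v ≠ 1 →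
      ((η₁ : G → ℂ) (v : G) = (dd : ℂ) + δ ∧ (η₂ : G → ℂ) (v : G) = (dd : ℂ) - 2 * δ) ∨
      ((η₁ : G → ℂ) (v : G) = (dd : ℂ) - 2 * δ ∧ (η₂ : G → ℂ) (v : G) = (dd : ℂ) + δ))
    (hdd : dd = 0 ∨ dd = δ) :
    (η₁ : G → ℂ) (w : G) ≠ (η₁ : G → ℂ) (w' : G) := by
  classical
  have hcol := frob_col M hM P hcomm ν 4 hfpf hconj hfus hnil w w' hw hw'
  have hz : ∑ k ∈ Finset.range 4, (if w' = (ν ^ k) w then (1 : ℂ) else 0) = 0 := by
    apply Finset.sum_eq_zero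
    intro k _
    rw [if_neg]
    intro h
    apply hnc
    rw [h]
    exact hconj w k
  rw [hz, mul_zero, sum_pb_split M Xs Y hpb hdisj, hY, Finset.sum_pair hne] at hcol
  have hsqX : ∑ χ ∈ Xs, (χ : G → ℂ) (w : G) * conj ((χ : G → ℂ) (w' : G)) = 4 := by
    have : ∀ χ ∈ Xs, (χ : G → ℂ) (w : G) * conj ((χ : G → ℂ) (w' : G)) = 1 := by
      intro χ hχ
      rw [hXv χ hχ w hw, hXv χ hχ w' hw']
      rcases hapm χ hχ with h | h <;> rw [h] <;> simp
    rw [Finset.sum_congr rfl this, Finset.sum_const, hXc]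
    norm_num
  rw [hsqX, hreal η₁ w', hreal η₂ w'] at hcol
  intro heq
  have hδC : (δ : ℂ) = 1 ∨ (δ : ℂ) = -1 := by
    rcases hδ with h | h <;> [left; right] <;> rw [h] <;> simp
  have hddC : (dd : ℂ) = 0 ∨ (dd : ℂ) = δ := by
    rcases hdd with h | h <;> [left; right] <;> rw [h] <;> simp
  rcases hpat w hw with ⟨h1, h2⟩ | ⟨h1, h2⟩ <;> rcases hpat w' hw' with ⟨h1', h2'⟩ | ⟨h1', h2'⟩
  · rw [h1, h2, h1', h2'] at hcol
    rcases hδC with h | h <;> rcases hddC with h' | h' <;> rw [h'] at hcol <;> rw [h] at hcol <;>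
      norm_num at hcol
  · rw [h1, h1'] at heq
    have h3 : (3 : ℂ) * δ = 0 := by linear_combination heq
    rcases hδC with h | h <;> rw [h] at h3 <;> norm_num at h3
  · rw [h1, h1'] at heq
    have h3 : (3 : ℂ) * δ = 0 := by linear_combination -heq
    rcases hδC with h | h <;> rw [h] at h3 <;> norm_num at h3
  · rw [h1, h2, h1', h2'] at hcol
    rcases hδC with h | h <;> rcases hddC with h' | h' <;> rw [h'] at hcol <;> rw [h] at hcol <;>
      norm_num at hcol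


theorem charDegree_principal' : charDegree ((principalChar G : IrrCharacter G) : G → ℂ) = 1 := by
  apply charDegree_natCast 1
  show (1 : ℂ) = ((1 : ℕ) : ℂ)
  simp

/-- `x * ν x` is in none of the `ν`-orbit of `x` -/
theorem not_orbit (hcomm : ∀ x y : (P : Subgroup G), x * y = y * x)
    (hexp : ∀ a : (P : Subgroup G), a ^ 3 = 1)
    (ν : MulAut (P : Subgroup G)) (hν4 : ν ^ 4 = 1)
    (hfpf : ∀ k : ℕ, 0 < k → k < 4 → ∀ a : (P : Subgroup G), (ν ^ k) a = a → a = 1)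
    (x : (P : Subgroup G)) (hx : x ≠ 1) (k : ℕ) (hk : k < 4) : x * ν x ≠ (ν ^ k) x := by
  have hfix : ν x ≠ x := fun h => hx (hfpf 1 (by norm_num) (by norm_num) x (by rw [pow_one]; exact h))
  have hsq := nu_sq P hcomm ν hν4 hfpf
  intro h
  interval_cases k
  · rw [pow_zero, MulAut.one_apply] at h
    have : ν x = 1 := by
      have := mul_left_cancel (a := x) (b := ν x) (c := 1) (by rw [mul_one]; exact h)
      exact this
    exact hx ((map_eq_one_iff ν ν.injective).1 this)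
  · rw [pow_one] at h
    have : x = 1 := mul_right_cancel (a := x) (b := ν x) (c := 1) (by rw [one_mul]; exact h)
    exact hx this
  · rw [hsq] at h
    apply hfix
    have h3 := hexp x
    have : ν x = x⁻¹ * x⁻¹ := by
      have h' := congrArg (fun t => x⁻¹ * t) h
      simpa using h'
    rw [this]
    have : x⁻¹ * x⁻¹ * (x ^ 3) = x := by group
    rw [h3, mul_one] at this
    exact this
  · have h3 : (ν ^ 3) x = (ν x)⁻¹ := by
      rw [pow_succ, MulAut.mul_apply, hsq]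
    rw [h3] at h
    apply hfix
    have h3' := hexp (ν x)
    have : x = (ν x)⁻¹ * (ν x)⁻¹ := by
      have h' := congrArg (fun t => t * (ν x)⁻¹) h
      simpa using h'
    have h4 : (ν x)⁻¹ * (ν x)⁻¹ * ((ν x) ^ 3) = ν x := by group
    rw [h3', mul_one] at h4
    rw [← h4, ← this]


/-- the class-constant sum for the triple `(x, y, z)`, `m = 4` -/
theorem cc_sum_four (M : Ideal AlgInt) (hM : IsPModular 3 M)
    (hcomm : ∀ x y : (P : Subgroup G), x * y = y * x)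
    (hcard : Nat.card (P : Subgroup G) = 9)
    (hcent : ∀ s ∈ (P : Subgroup G), s ≠ 1 →
      Subgroup.centralizer ({s} : Set G) = (P : Subgroup G))
    [Fintype (IrrCharacter G)] [DecidableEq (IrrCharacter G)]
    (Xs Y : Finset (IrrCharacter G)) (δ dd : ℤ) (a : IrrCharacter G → ℤ)
    (hpb : ∀ χ, χ ∈ pbFinset M G ↔ χ ∈ Xs ∨ χ ∈ Y) (hdisj : ∀ χ ∈ Xs, χ ∉ Y)
    (hδ : δ = 1 ∨ δ = -1) (hapm : ∀ χ ∈ Xs, a χ = 1 ∨ a χ = -1)
    (hXv : ∀ χ ∈ Xs, ∀ w : (P : Subgroup G), w ≠ 1 → (χ : G → ℂ) (w : G) = (a χ : ℂ))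
    (η₁ η₂ : IrrCharacter G) (hne : η₁ ≠ η₂) (hY : Y = {η₁, η₂})
    (hf : charDegree (η₁ : G → ℂ) = charDegree (η₂ : G → ℂ))
    (hreal : ∀ (χ : IrrCharacter G) (w : (P : Subgroup G)),
      conj ((χ : G → ℂ) (w : G)) = (χ : G → ℂ) (w : G))
    (hnil : ∀ a : (P : Subgroup G), a ≠ 1 → ∃ k : ℕ,
        (Cfsg.pPrimeCore 3 (Subgroup.centralizer ({(a : G)} : Set G))).index = 3 ^ k)
    (hpat : ∀ v : (P : Subgroup G), v ≠ 1 →
      ((η₁ : G → ℂ) (v : G) = (dd : ℂ) + δ ∧ (η₂ : G → ℂ) (v : G) = (dd : ℂ) - 2 * δ) ∨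
      ((η₁ : G → ℂ) (v : G) = (dd : ℂ) - 2 * δ ∧ (η₂ : G → ℂ) (v : G) = (dd : ℂ) + δ))
    (x y z : (P : Subgroup G)) (hx : x ≠ 1) (hy : y ≠ 1) (hz : z ≠ 1)
    (hxy : (η₁ : G → ℂ) (x : G) ≠ (η₁ : G → ℂ) (y : G)) :
    ∑ χ : IrrCharacter G, (χ : G → ℂ) (x : G) * (χ : G → ℂ) (y : G) *
        conj ((χ : G → ℂ) (z : G)) / (χ : G → ℂ) 1 =
      ∑ χ ∈ Xs, (a χ : ℂ) / (charDegree (χ : G → ℂ) : ℂ) +
        ((dd : ℂ) + δ) * ((dd : ℂ) - 2 * δ) * (2 * (dd : ℂ) - δ) /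
          (charDegree (η₁ : G → ℂ) : ℂ) := by
  have hvan : ∀ χ ∈ (Finset.univ : Finset (IrrCharacter G)), χ ∉ pbFinset M G →
      (χ : G → ℂ) (x : G) * (χ : G → ℂ) (y : G) *
        conj ((χ : G → ℂ) (z : G)) / (χ : G → ℂ) 1 = 0 := by
    intro χ _ hχ
    rw [vanish_off_block P M hM hcomm hcard hcent z hz (hnil z hz) χ hχ]
    simp
  rw [← Finset.sum_subset (Finset.subset_univ _) hvan, sum_pb_split M Xs Y hpb hdisj,
    hY, Finset.sum_pair hne]
  congr 1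
  · refine Finset.sum_congr rfl fun χ hχ => ?_
    rw [hXv χ hχ x hx, hXv χ hχ y hy, hXv χ hχ z hz, irr_one_eq_charDegree χ.2]
    rcases hapm χ hχ with h | h <;> rw [h] <;> simp
  · rw [hreal η₁ z, hreal η₂ z, irr_one_eq_charDegree η₁.2, irr_one_eq_charDegree η₂.2, ← hf]
    have hδC : (δ : ℂ) = 1 ∨ (δ : ℂ) = -1 := by
      rcases hδ with h | h <;> [left; right] <;> rw [h] <;> simp
    rcases hpat x hx with ⟨h1, h2⟩ | ⟨h1, h2⟩ <;> rcases hpat y hy with ⟨h1', h2'⟩ | ⟨h1', h2'⟩ <;>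
      rcases hpat z hz with ⟨h1'', h2''⟩ | ⟨h1'', h2''⟩
    · exact absurd (h1.trans h1'.symm) hxy
    · exact absurd (h1.trans h1'.symm) hxy
    · rw [h1, h2, h1', h2', h1'', h2'']; ring
    · rw [h1, h2, h1', h2', h1'', h2'']; ring
    · rw [h1, h2, h1', h2', h1'', h2'']; ring
    · rw [h1, h2, h1', h2', h1'', h2'']; ring
    · exact absurd (h1.trans h1'.symm) hxy
    · exact absurd (h1.trans h1'.symm) hxy


/-- CORE4: the case `|N : P| = 4`. -/
theorem core_four (M : Ideal AlgInt) (hM : IsPModular 3 M)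
    (hcomm : ∀ x y : (P : Subgroup G), x * y = y * x)
    (hexp : ∀ a ∈ (P : Subgroup G), a ^ 3 = 1)
    (hcard : Nat.card (P : Subgroup G) = 9)
    (hcent : ∀ s ∈ (P : Subgroup G), s ≠ 1 →
      Subgroup.centralizer ({s} : Set G) = (P : Subgroup G))
    (Xs Y : Finset (IrrCharacter G)) (δ dd : ℤ) (a : IrrCharacter G → ℤ)
    (hpb : ∀ χ, χ ∈ pbFinset M G ↔ χ ∈ Xs ∨ χ ∈ Y) (hdisj : ∀ χ ∈ Xs, χ ∉ Y)
    (h1X : principalChar G ∈ Xs) (hδ : δ = 1 ∨ δ = -1)
    (hYcard : Y.card * 4 = Nat.card (P : Subgroup G) - 1) (hXcard : Xs.card ≤ 4)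
    (hXval : ∀ χ ∈ Xs, a χ ≠ 0 ∧ ∀ z y : G, IsPPart 3 z y → y ∈ (P : Subgroup G) →
        y ≠ 1 → (χ : G → ℂ) z = (a χ : ℂ))
    (hnorm : (dd - δ) ^ 2 + ((Y.card : ℤ) - 1) * dd ^ 2 + ∑ χ ∈ Xs, a χ ^ 2 =
        ((4 : ℕ) : ℤ) + 1)
    (hw : ∀ w : IrrCharacter G → ℂ,
        (∀ y : (P : Subgroup G), y ≠ 1 → ∑ χ ∈ pbFinset M G, w χ * (χ : G → ℂ) y = 0) →
        (∀ η ∈ Y, ∀ η' ∈ Y, w η = w η') ∧
        ∀ η ∈ Y, (((Y.card : ℂ)) * (dd : ℂ) - (δ : ℂ)) * w η +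
          ∑ χ ∈ Xs, (a χ : ℂ) * w χ = 0)
    (ν : MulAut (P : Subgroup G)) (hν4 : ν ^ 4 = 1)
    (hfpf : ∀ k : ℕ, 0 < k → k < 4 → ∀ a : (P : Subgroup G), (ν ^ k) a = a → a = 1)
    (hconj : ∀ (a : (P : Subgroup G)) (k : ℕ),
      IsConj (a : G) (((ν ^ k) a : (P : Subgroup G)) : G))
    (hfus : ∀ a b : (P : Subgroup G), IsConj (a : G) (b : G) → ∃ k < 4, b = (ν ^ k) a)
    (hnil : ∀ a : (P : Subgroup G), a ≠ 1 → ∃ k : ℕ,
        (Cfsg.pPrimeCore 3 (Subgroup.centralizer ({(a : G)} : Set G))).index = 3 ^ k) :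
    Nat.card G ≤ 720 := by
  classical
  letI : Fintype G := Fintype.ofFinite G
  letI : Fintype (IrrCharacter G) := irrFintype
  have hXv : ∀ χ ∈ Xs, ∀ w : (P : Subgroup G), w ≠ 1 → (χ : G → ℂ) (w : G) = (a χ : ℂ) :=
    fun χ hχ w hw1 => (hXval χ hχ).2 _ _ (isPPart_coe P w) w.2 (coe_ne_one P hw1)
  obtain ⟨x, hx⟩ := exists_ne_one P hcard
  have ha1 : a (principalChar G) = 1 := by
    have h := hXv _ h1X x hx
    have h1 : ((principalChar G : IrrCharacter G) : G → ℂ) (x : G) = 1 := rfl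
    rw [h1] at h
    exact_mod_cast h.symm
  obtain ⟨hdd, hXc, hYc, hapm⟩ := num_four Xs Y (principalChar G) a dd δ hδ h1X ha1
    (fun χ hχ => (hXval χ hχ).1) hXcard (by rw [hYcard, hcard]) (by rw [hnorm]; norm_num)
  obtain ⟨hfeq, hrel⟩ := deg_rel P M hM Xs Y δ dd a hw
  obtain ⟨η₁, η₂, hne, hY⟩ := Finset.card_eq_two.1 hYc
  have hη₁ : η₁ ∈ Y := by rw [hY]; simp
  have hη₂ : η₂ ∈ Y := by rw [hY]; simp
  have hreal := real_val P hcomm ν hν4 hfpf hconj
  have hf12 := hfeq η₁ hη₁ η₂ hη₂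
  have hpat := fun (v : (P : Subgroup G)) (hv : v ≠ 1) =>
    eta_vals P M hM hcomm hcard Xs Y δ dd a hpb hdisj hδ hdd hXc hapm hXv η₁ η₂ hne hY
      hf12 (hrel η₁ hη₁) hreal v hv (hnil v hv)
  have hexp' : ∀ a : (P : Subgroup G), a ^ 3 = 1 := fun a => Subtype.ext (by
    rw [Subgroup.coe_pow, Subgroup.coe_one]; exact hexp a a.2)
  have hsq := nu_sq P hcomm ν hν4 hfpf
  have hfix : ν x ≠ x :=
    fun h => hx (hfpf 1 (by norm_num) (by norm_num) x (by rw [pow_one]; exact h))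
  have hnorb := not_orbit P hcomm hexp' ν hν4 hfpf x hx
  -- the elements
  have hu1 : ν x ≠ 1 := fun h => hx ((map_eq_one_iff ν ν.injective).1 h)
  have hy1 : x * ν x ≠ 1 := by
    intro h
    have h1 : ν x = x⁻¹ := eq_inv_of_mul_eq_one_right h
    rw [← hsq x] at h1
    have h2 : (ν ^ 2) x = ν (ν x) := by rw [pow_two]; rfl
    rw [h2] at h1
    exact hfix (ν.injective h1).symm
  have hz1 : x * (x * ν x) ≠ 1 := by
    intro h
    apply hfix
    have h3 := hexp' x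
    have h4 : ν x = x⁻¹ * x⁻¹ := by
      have h' := congrArg (fun t => x⁻¹ * (x⁻¹ * t)) h
      simpa using h'
    rw [h4]
    have : x⁻¹ * x⁻¹ * (x ^ 3) = x := by group
    rw [h3, mul_one] at this
    exact this
  have hnc : ¬ IsConj (x : G) ((x * ν x : (P : Subgroup G)) : G) := by
    intro hc
    obtain ⟨k, hk, h⟩ := hfus x (x * ν x) hc
    exact hnorb k hk h
  -- patterns
  have hxy := eta_swap P M hM hcomm hcard Xs Y δ dd a hpb hdisj hδ hXc hapm hXv η₁ η₂ hne hY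
    hreal ν hfpf hconj hfus hnil x (x * ν x) hx hy1 hnc hpat hdd
  have hsum := cc_sum_four P M hM hcomm hcard hcent Xs Y δ dd a hpb hdisj hδ hapm hXv η₁ η₂ hne
    hY hf12 hreal hnil hpat x (x * ν x) (x * (x * ν x)) hx hy1 hz1 hxy
  -- the count
  have hcount := count_four P hcomm hexp hcard hcent (x := (x : G)) (u := (ν x : G)) x.2 (ν x).2
    (coe_ne_one P hx) (by
      intro h
      apply hy1
      apply Subtype.ext
      rw [Subgroup.coe_mul, Subgroup.coe_one]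
      exact h) (by
      have := hconj x 1
      rwa [pow_one] at this) (by
      have := hconj x 2
      rwa [hsq, Subgroup.coe_inv] at this) (by
      rwa [Subgroup.coe_mul] at hnc) (by
      intro x' hx' hc
      obtain ⟨k, hk, h⟩ := hfus x ⟨x', hx'⟩ hc
      have h' : x' = (((ν ^ k) x : (P : Subgroup G)) : G) := congrArg Subtype.val h
      interval_cases k
      · left
        rw [h']
        rfl
      · right; left
        rw [h', pow_one]
      · right; right; left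
        rw [h', hsq, Subgroup.coe_inv]
      · right; right; right
        rw [h', pow_succ, MulAut.mul_apply, hsq, Subgroup.coe_inv])
  have hcc := Cfsg.Agent.Helper10.BR996.class_const (x : G) ((x : G) * (ν x : G))
    ((x : G) * ((x : G) * (ν x : G)))
  have hcoe1 : ((x * ν x : (P : Subgroup G)) : G) = (x : G) * (ν x : G) := Subgroup.coe_mul _ _ _
  have hcoe2 : ((x * (x * ν x) : (P : Subgroup G)) : G) = (x : G) * ((x : G) * (ν x : G)) := by
    rw [Subgroup.coe_mul, Subgroup.coe_mul]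
  rw [hcoe1, hcoe2] at hsum
  rw [hsum] at hcc
  -- ε
  obtain ⟨ε, hε, hprod, hrelε⟩ : ∃ ε : ℤ, (ε = 1 ∨ ε = -1) ∧
      ((dd : ℂ) + δ) * ((dd : ℂ) - 2 * δ) * (2 * (dd : ℂ) - δ) = 2 * (ε : ℂ) ∧
      ∑ χ ∈ Xs, a χ * (charDegree (χ : G → ℂ) : ℤ) = ε * (charDegree (η₁ : G → ℂ) : ℤ) := by
    have hr := hrel η₁ hη₁
    rw [hYc] at hr
    rcases hdd with h0 | h0
    · refine ⟨δ, hδ, ?_, ?_⟩
      · rw [h0]
        rcases hδ with h | h <;> rw [h] <;> push_cast <;> ring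
      · rw [h0] at hr
        linear_combination hr
    · refine ⟨-δ, by rcases hδ with h | h <;> rw [h] <;> simp, ?_, ?_⟩
      · rw [h0]
        rcases hδ with h | h <;> rw [h] <;> push_cast <;> ring
      · rw [h0] at hr
        push_cast at hr
        linear_combination hr
  rw [hprod] at hcc
  -- to the reals
  have hccR : ((Nat.card {c : G × G // (c.1 * (x : G) * c.1⁻¹) *
      (c.2 * ((x : G) * (ν x : G)) * c.2⁻¹) = (x : G) * ((x : G) * (ν x : G))} : ℝ)) =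
      (Nat.card G : ℝ) * (∑ χ ∈ Xs, (a χ : ℝ) / ((charDegree (χ : G → ℂ) : ℕ) : ℝ) +
        2 * (ε : ℝ) / ((charDegree (η₁ : G → ℂ) : ℕ) : ℝ)) := by
    apply Complex.ofReal_injective
    push_cast
    exact hcc
  have hle : (Nat.card G : ℝ) * (∑ χ ∈ Xs, (a χ : ℝ) / ((charDegree (χ : G → ℂ) : ℕ) : ℝ) +
        2 * (ε : ℝ) / ((charDegree (η₁ : G → ℂ) : ℕ) : ℝ)) ≤ 162 := by
    rw [← hccR]
    exact_mod_cast hcount
  exact arith_four Xs (principalChar G) a (fun χ => charDegree (χ : G → ℂ))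
    (charDegree (η₁ : G → ℂ)) ε (Nat.card G) hε h1X ha1 charDegree_principal' hXc hapm
    (fun χ _ => charDegree_pos χ.2) (charDegree_pos η₁.2)
    (fun χ hχ => restrict_cong P hcard χ (a χ) (hXv χ hχ)) hrelε hle


/-- `ν` is inversion when `ν ^ 2 = 1` acts fixed point freely -/
theorem nu_inv (hcomm : ∀ x y : (P : Subgroup G), x * y = y * x)
    (ν : MulAut (P : Subgroup G)) (hν2 : ν ^ 2 = 1)
    (hfpf : ∀ k : ℕ, 0 < k → k < 2 → ∀ a : (P : Subgroup G), (ν ^ k) a = a → a = 1)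
    (a : (P : Subgroup G)) : ν a = a⁻¹ := by
  have h1 : (ν ^ 1) (a * ν a) = a * ν a := by
    rw [pow_one, map_mul]
    have : ν (ν a) = a := by
      have h4 : ν (ν a) = (ν ^ 2) a := by
        rw [pow_two]
        rfl
      rw [h4, hν2]
      rfl
    rw [this]
    exact hcomm _ _
  have h2 := hfpf 1 (by norm_num) (by norm_num) _ h1
  exact (eq_inv_of_mul_eq_one_right h2)

/-- values of the exceptional characters, `m = 2` -/
theorem eta_vals_two (hcomm : ∀ x y : (P : Subgroup G), x * y = y * x)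
    (hexp : ∀ a : (P : Subgroup G), a ^ 3 = 1)
    (Y : Finset (IrrCharacter G)) (δ dd : ℤ)
    (ζ : ((P : Subgroup G) →* ℂˣ) → IrrCharacter G) (hdd : dd = 0)
    (hζsurj : ∀ η ∈ Y, ∃ ψ : (P : Subgroup G) →* ℂˣ, ψ ≠ 1 ∧ ζ ψ = η)
    (hζval : ∀ ψ : (P : Subgroup G) →* ℂˣ, ψ ≠ 1 → ∀ (z : G) (y : (P : Subgroup G)),
        IsPPart 3 z (y : G) → (y : G) ≠ 1 → (ζ ψ : G → ℂ) z = (dd : ℂ) + (δ : ℂ) *
          ∑ᶠ ψ' ∈ {ψ' : (P : Subgroup G) →* ℂˣ | ∃ n : G,
            n ∈ Subgroup.normalizer ((P : Subgroup G) : Set G) ∧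
            ∀ w w' : (P : Subgroup G), (w' : G) = n * w * n⁻¹ → ψ' w' = ψ w},
              ((ψ' y : ℂˣ) : ℂ))
    (ν : MulAut (P : Subgroup G)) (hν2 : ν ^ 2 = 1)
    (hfpf : ∀ k : ℕ, 0 < k → k < 2 → ∀ a : (P : Subgroup G), (ν ^ k) a = a → a = 1)
    (hN1 : ∀ n : G, n ∈ Subgroup.normalizer ((P : Subgroup G) : Set G) → ∃ k < 2,
        ∀ a : (P : Subgroup G), n * a * n⁻¹ = (((ν ^ k) a : (P : Subgroup G)) : G))
    (hN2 : ∀ k : ℕ, ∃ n : G, n ∈ Subgroup.normalizer ((P : Subgroup G) : Set G) ∧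
        ∀ a : (P : Subgroup G), n * a * n⁻¹ = (((ν ^ k) a : (P : Subgroup G)) : G))
    (η : IrrCharacter G) (hη : η ∈ Y) (w : (P : Subgroup G)) (hw : w ≠ 1) :
    (η : G → ℂ) (w : G) = 2 * (δ : ℂ) ∨ (η : G → ℂ) (w : G) = -(δ : ℂ) := by
  classical
  letI : Fintype (P : Subgroup G) := Fintype.ofFinite _
  letI : Fintype (IrrCharacter (P : Subgroup G)) := irrFintype
  obtain ⟨ψ, hψ, rfl⟩ := hζsurj η hη
  have h1 := hζval ψ hψ (w : G) w (isPPart_coe P w) (coe_ne_one P hw)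
  rw [finsum_orbit P hcomm ν 2 hν2 hfpf hN1 hN2 ψ hψ w, hdd] at h1
  rw [Finset.sum_range_succ, Finset.sum_range_one, pow_zero, pow_one, MulAut.one_apply,
    irrHomEquiv_symm_apply, irrHomEquiv_symm_apply, nu_inv P hcomm ν hν2 hfpf w, map_inv] at h1
  have h3 : ((ψ w : ℂˣ) : ℂ) ^ 3 = 1 := by
    rw [← Units.val_pow_eq_pow_val, ← map_pow, hexp w, map_one, Units.val_one]
  rw [h1]
  rcases cube_root_sum _ h3 with h | h
  · left
    rw [Units.val_inv_eq_inv_val, h]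
    push_cast
    ring
  · right
    rw [Units.val_inv_eq_inv_val, h]
    push_cast
    ring


/-- an element of `P` outside `{1, x, x⁻¹}` -/
theorem exists_third (hcard : Nat.card (P : Subgroup G) = 9) (x : (P : Subgroup G)) :
    ∃ y : (P : Subgroup G), y ≠ 1 ∧ y ≠ x ∧ y ≠ x⁻¹ := by
  classical
  letI : Fintype (P : Subgroup G) := Fintype.ofFinite _
  by_contra hcon
  push Not at hcon
  have hsub : (Finset.univ : Finset (P : Subgroup G)) ⊆ {1, x, x⁻¹} := by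
    intro y _
    simp only [Finset.mem_insert, Finset.mem_singleton]
    by_cases h1 : y = 1
    · exact Or.inl h1
    · by_cases h2 : y = x
      · exact Or.inr (Or.inl h2)
      · exact Or.inr (Or.inr (hcon y h1 h2))
  have h1 := Finset.card_le_card hsub
  have h2 : ({1, x, x⁻¹} : Finset (P : Subgroup G)).card ≤ 3 := Finset.card_le_three
  rw [Finset.card_univ, ← Nat.card_eq_fintype_card, hcard] at h1
  omega

/-- CORE2: the case `|N : P| = 2` is impossible. -/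
theorem core_two [IsSimpleGroup G] (M : Ideal AlgInt) (hM : IsPModular 3 M)
    (hcomm : ∀ x y : (P : Subgroup G), x * y = y * x)
    (hexp : ∀ a ∈ (P : Subgroup G), a ^ 3 = 1)
    (hcard : Nat.card (P : Subgroup G) = 9)
    (hcent : ∀ s ∈ (P : Subgroup G), s ≠ 1 →
      Subgroup.centralizer ({s} : Set G) = (P : Subgroup G))
    (Xs Y : Finset (IrrCharacter G)) (δ dd : ℤ) (a : IrrCharacter G → ℤ)
    (ζ : ((P : Subgroup G) →* ℂˣ) → IrrCharacter G)
    (hpb : ∀ χ, χ ∈ pbFinset M G ↔ χ ∈ Xs ∨ χ ∈ Y) (hdisj : ∀ χ ∈ Xs, χ ∉ Y)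
    (h1X : principalChar G ∈ Xs) (hδ : δ = 1 ∨ δ = -1)
    (hYcard : Y.card * 2 = Nat.card (P : Subgroup G) - 1) (hXcard : Xs.card ≤ 2)
    (hXval : ∀ χ ∈ Xs, a χ ≠ 0 ∧ ∀ z y : G, IsPPart 3 z y → y ∈ (P : Subgroup G) →
        y ≠ 1 → (χ : G → ℂ) z = (a χ : ℂ))
    (hζsurj : ∀ η ∈ Y, ∃ ψ : (P : Subgroup G) →* ℂˣ, ψ ≠ 1 ∧ ζ ψ = η)
    (hζval : ∀ ψ : (P : Subgroup G) →* ℂˣ, ψ ≠ 1 → ∀ (z : G) (y : (P : Subgroup G)),
        IsPPart 3 z (y : G) → (y : G) ≠ 1 → (ζ ψ : G → ℂ) z = (dd : ℂ) + (δ : ℂ) *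
          ∑ᶠ ψ' ∈ {ψ' : (P : Subgroup G) →* ℂˣ | ∃ n : G,
            n ∈ Subgroup.normalizer ((P : Subgroup G) : Set G) ∧
            ∀ w w' : (P : Subgroup G), (w' : G) = n * w * n⁻¹ → ψ' w' = ψ w},
              ((ψ' y : ℂˣ) : ℂ))
    (hnorm : (dd - δ) ^ 2 + ((Y.card : ℤ) - 1) * dd ^ 2 + ∑ χ ∈ Xs, a χ ^ 2 =
        ((2 : ℕ) : ℤ) + 1)
    (hw : ∀ w : IrrCharacter G → ℂ,
        (∀ y : (P : Subgroup G), y ≠ 1 → ∑ χ ∈ pbFinset M G, w χ * (χ : G → ℂ) y = 0) →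
        (∀ η ∈ Y, ∀ η' ∈ Y, w η = w η') ∧
        ∀ η ∈ Y, (((Y.card : ℂ)) * (dd : ℂ) - (δ : ℂ)) * w η +
          ∑ χ ∈ Xs, (a χ : ℂ) * w χ = 0)
    (ν : MulAut (P : Subgroup G)) (hν2 : ν ^ 2 = 1)
    (hfpf : ∀ k : ℕ, 0 < k → k < 2 → ∀ a : (P : Subgroup G), (ν ^ k) a = a → a = 1)
    (hconj : ∀ (a : (P : Subgroup G)) (k : ℕ),
      IsConj (a : G) (((ν ^ k) a : (P : Subgroup G)) : G))
    (hfus : ∀ a b : (P : Subgroup G), IsConj (a : G) (b : G) → ∃ k < 2, b = (ν ^ k) a)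
    (hnil : ∀ a : (P : Subgroup G), a ≠ 1 → ∃ k : ℕ,
        (Cfsg.pPrimeCore 3 (Subgroup.centralizer ({(a : G)} : Set G))).index = 3 ^ k)
    (hN1 : ∀ n : G, n ∈ Subgroup.normalizer ((P : Subgroup G) : Set G) → ∃ k < 2,
        ∀ a : (P : Subgroup G), n * a * n⁻¹ = (((ν ^ k) a : (P : Subgroup G)) : G))
    (hN2 : ∀ k : ℕ, ∃ n : G, n ∈ Subgroup.normalizer ((P : Subgroup G) : Set G) ∧
        ∀ a : (P : Subgroup G), n * a * n⁻¹ = (((ν ^ k) a : (P : Subgroup G)) : G)) :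
    False := by
  classical
  letI : Fintype G := Fintype.ofFinite G
  letI : Fintype (IrrCharacter G) := irrFintype
  have hXv : ∀ χ ∈ Xs, ∀ w : (P : Subgroup G), w ≠ 1 → (χ : G → ℂ) (w : G) = (a χ : ℂ) :=
    fun χ hχ w hw1 => (hXval χ hχ).2 _ _ (isPPart_coe P w) w.2 (coe_ne_one P hw1)
  obtain ⟨x, hx⟩ := exists_ne_one P hcard
  obtain ⟨y, hy, hyx, hyxi⟩ := exists_third P hcard x
  have ha1 : a (principalChar G) = 1 := by
    have h := hXv _ h1X x hx
    have h1 : ((principalChar G : IrrCharacter G) : G → ℂ) (x : G) = 1 := rfl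
    rw [h1] at h
    exact_mod_cast h.symm
  obtain ⟨hdd, hXc, hYc, hapm⟩ := num_two Xs Y (principalChar G) a dd δ hδ h1X ha1
    (fun χ hχ => (hXval χ hχ).1) hXcard (by rw [hYcard, hcard]) (by rw [hnorm]; norm_num)
  obtain ⟨hfeq, hrel⟩ := deg_rel P M hM Xs Y δ dd a hw
  have hexp' : ∀ a : (P : Subgroup G), a ^ 3 = 1 := fun a => Subtype.ext (by
    rw [Subgroup.coe_pow, Subgroup.coe_one]; exact hexp a a.2)
  have hinv := nu_inv P hcomm ν hν2 hfpf
  have hvals := eta_vals_two P hcomm hexp' Y δ dd ζ hdd hζsurj hζval ν hν2 hfpf hN1 hN2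
  have hδC : (δ : ℂ) = 1 ∨ (δ : ℂ) = -1 := by
    rcases hδ with h | h <;> [left; right] <;> rw [h] <;> simp
  have hδsq : (δ : ℂ) * δ = 1 := by rcases hδC with h | h <;> rw [h] <;> norm_num
  -- a fixed member of Y and the common degree
  have hYne : Y.Nonempty := by
    rw [← Finset.card_pos, hYc]; norm_num
  obtain ⟨η₀, hη₀⟩ := hYne
  set f := charDegree (η₀ : G → ℂ) with hf
  have hfY : ∀ η ∈ Y, charDegree (η : G → ℂ) = f := fun η hη => hfeq η hη η₀ hη₀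
  have hf0 : (f : ℂ) ≠ 0 := by exact_mod_cast (charDegree_pos η₀.2).ne'
  have hr := hrel η₀ hη₀
  rw [hdd] at hr
  have hrelδ : ∑ χ ∈ Xs, a χ * (charDegree (χ : G → ℂ) : ℤ) = δ * (f : ℤ) := by
    linear_combination hr
  -- the sum of the exceptional values
  have hsumY : ∀ w : (P : Subgroup G), w ≠ 1 → ∑ η ∈ Y, (η : G → ℂ) (w : G) = -(δ : ℂ) := by
    intro w hw1
    have hdr := frob_deg_rel M hM P w hw1
    rw [sum_pb_split M Xs Y hpb hdisj] at hdr
    have hXd : ∑ χ ∈ Xs, (charDegree (χ : G → ℂ) : ℂ) * (χ : G → ℂ) (w : G) =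
        ((∑ χ ∈ Xs, a χ * (charDegree (χ : G → ℂ) : ℤ) : ℤ) : ℂ) := by
      rw [Int.cast_sum]
      refine Finset.sum_congr rfl fun χ hχ => ?_
      rw [hXv χ hχ w hw1]
      push_cast
      ring
    have hYd : ∑ η ∈ Y, (charDegree (η : G → ℂ) : ℂ) * (η : G → ℂ) (w : G) =
        (f : ℂ) * ∑ η ∈ Y, (η : G → ℂ) (w : G) := by
      rw [Finset.mul_sum]
      refine Finset.sum_congr rfl fun η hη => ?_
      rw [hfY η hη]
    rw [hXd, hYd, hrelδ] at hdr
    push_cast at hdr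
    have h : (f : ℂ) * (∑ η ∈ Y, (η : G → ℂ) (w : G) + δ) = 0 := by
      linear_combination hdr
    rcases mul_eq_zero.1 h with h | h
    · exact absurd h hf0
    · linear_combination h
  have hre : ∀ η ∈ Y, ∀ w : (P : Subgroup G), w ≠ 1 →
      conj ((η : G → ℂ) (w : G)) = (η : G → ℂ) (w : G) := by
    intro η hη w hw1
    rcases hvals η hη w hw1 with h | h <;> rw [h]
    · rw [map_mul, Complex.conj_ofNat, map_intCast]
    · rw [map_neg, map_intCast]
  -- x and y are not conjugate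
  have hnc : ¬ IsConj (x : G) (y : G) := by
    intro hc
    obtain ⟨k, hk, h⟩ := hfus x y hc
    interval_cases k
    · rw [pow_zero, MulAut.one_apply] at h
      exact hyx h
    · rw [pow_one, hinv] at h
      exact hyxi h
  -- the column relation
  have hcolY : ∑ η ∈ Y, (η : G → ℂ) (x : G) * (η : G → ℂ) (y : G) = -2 := by
    have hcol := frob_col M hM P hcomm ν 2 hfpf hconj hfus hnil x y hx hy
    have hz : ∑ k ∈ Finset.range 2, (if y = (ν ^ k) x then (1 : ℂ) else 0) = 0 := by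
      apply Finset.sum_eq_zero
      intro k _
      rw [if_neg]
      intro h
      apply hnc
      rw [h]
      exact hconj x k
    rw [hz, mul_zero, sum_pb_split M Xs Y hpb hdisj] at hcol
    have hsqX : ∑ χ ∈ Xs, (χ : G → ℂ) (x : G) * conj ((χ : G → ℂ) (y : G)) = 2 := by
      have : ∀ χ ∈ Xs, (χ : G → ℂ) (x : G) * conj ((χ : G → ℂ) (y : G)) = 1 := by
        intro χ hχ
        rw [hXv χ hχ x hx, hXv χ hχ y hy]
        rcases hapm χ hχ with h | h <;> rw [h] <;> simp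
      rw [Finset.sum_congr rfl this, Finset.sum_const, hXc]
      norm_num
    have hYr : ∑ η ∈ Y, (η : G → ℂ) (x : G) * conj ((η : G → ℂ) (y : G)) =
        ∑ η ∈ Y, (η : G → ℂ) (x : G) * (η : G → ℂ) (y : G) := by
      refine Finset.sum_congr rfl fun η hη => ?_
      rw [hre η hη y hy]
    rw [hsqX, hYr] at hcol
    linear_combination hcol
  -- the class constant sum over Y
  have hT : ∑ η ∈ Y, (η : G → ℂ) (x : G) * (η : G → ℂ) (y : G) *
      conj ((η : G → ℂ) (x : G)) / (η : G → ℂ) 1 = -4 * (δ : ℂ) / (f : ℂ) := by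
    have h1 : ∀ η ∈ Y, (η : G → ℂ) (x : G) * (η : G → ℂ) (y : G) *
        conj ((η : G → ℂ) (x : G)) / (η : G → ℂ) 1 =
        ((δ : ℂ) * ((η : G → ℂ) (x : G) * (η : G → ℂ) (y : G)) +
          2 * (η : G → ℂ) (y : G)) / (f : ℂ) := by
      intro η hη
      rw [irr_one_eq_charDegree η.2, hfY η hη, hre η hη x hx]
      congr 1
      rcases hvals η hη x hx with h | h <;> rw [h]
      · linear_combination (2 * (η : G → ℂ) (y : G)) * hδsq
      · linear_combination (2 * (η : G → ℂ) (y : G)) * hδsq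
    rw [Finset.sum_congr rfl h1, ← Finset.sum_div, Finset.sum_add_distrib, ← Finset.mul_sum,
      ← Finset.mul_sum, hcolY, hsumY y hy]
    congr 1
    ring
  -- the class constant
  have hcount := count_two P hcomm hexp hcard hcent (x := (x : G)) (y := (y : G)) x.2 y.2
    (coe_ne_one P hx) (coe_ne_one P hy) (by
      have := hconj x 1
      rwa [pow_one, hinv, Subgroup.coe_inv] at this) hnc (by
      intro x' hx' hc
      obtain ⟨k, hk, h⟩ := hfus x ⟨x', hx'⟩ hc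
      have h' : x' = (((ν ^ k) x : (P : Subgroup G)) : G) := congrArg Subtype.val h
      interval_cases k
      · left
        rw [h']
        rfl
      · right
        rw [h', pow_one, hinv, Subgroup.coe_inv])
  have hcc := Cfsg.Agent.Helper10.BR996.class_const (x : G) (y : G) (x : G)
  rw [hcount, Nat.cast_zero] at hcc
  have hvan : ∀ χ ∈ (Finset.univ : Finset (IrrCharacter G)), χ ∉ pbFinset M G →
      (χ : G → ℂ) (x : G) * (χ : G → ℂ) (y : G) *
        conj ((χ : G → ℂ) (x : G)) / (χ : G → ℂ) 1 = 0 := by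
    intro χ _ hχ
    rw [vanish_off_block P M hM hcomm hcard hcent x hx (hnil x hx) χ hχ]
    simp
  rw [← Finset.sum_subset (Finset.subset_univ _) hvan, sum_pb_split M Xs Y hpb hdisj, hT] at hcc
  have hXs : ∑ χ ∈ Xs, (χ : G → ℂ) (x : G) * (χ : G → ℂ) (y : G) *
      conj ((χ : G → ℂ) (x : G)) / (χ : G → ℂ) 1 =
      ∑ χ ∈ Xs, (a χ : ℂ) / (charDegree (χ : G → ℂ) : ℂ) := by
    refine Finset.sum_congr rfl fun χ hχ => ?_
    rw [hXv χ hχ x hx, hXv χ hχ y hy, irr_one_eq_charDegree χ.2]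
    rcases hapm χ hχ with h | h <;> rw [h] <;> simp
  rw [hXs] at hcc
  have hG0 : (Nat.card G : ℂ) ≠ 0 := by exact_mod_cast (Nat.card_pos (α := G)).ne'
  have hcc0 : ∑ χ ∈ Xs, (a χ : ℂ) / (charDegree (χ : G → ℂ) : ℂ) + -4 * (δ : ℂ) / (f : ℂ) = 0 := by
    rcases mul_eq_zero.1 hcc.symm with h | h
    · exact absurd h hG0
    · exact h
  have hccR : ∑ χ ∈ Xs, (a χ : ℝ) / ((charDegree (χ : G → ℂ) : ℕ) : ℝ) -
      4 * (δ : ℝ) / (f : ℝ) = 0 := by
    apply Complex.ofReal_injective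
    push_cast
    linear_combination hcc0
  exact arith_two Xs (principalChar G) a (fun χ => charDegree (χ : G → ℂ)) f δ hδ h1X ha1
    charDegree_principal' hXc hapm (fun χ _ hχ => two_le_degree' P hcard χ hχ)
    (charDegree_pos η₀.2) hrelδ hccR

end Asm

/-- S3341, in terms of the Sylow subgroup. -/
theorem main [IsSimpleGroup G]
    (hcomm : ∀ x y : (P : Subgroup G), x * y = y * x)
    (hexp : ∀ a ∈ (P : Subgroup G), a ^ 3 = 1)
    (hcard : Nat.card (P : Subgroup G) = 9)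
    (hclasses : ∃ a b : G, orderOf a = 3 ∧ orderOf b = 3 ∧ ∀ g : G, g * a * g⁻¹ ≠ b)
    (hcent : ∀ s ∈ (P : Subgroup G), s ≠ 1 →
      Subgroup.centralizer ({s} : Set G) = (P : Subgroup G)) :
    Nonempty (G ≃* alternatingGroup (Fin 6)) := by
  have hdvd := relIndex_dvd P hcomm hcard hcent
  have h1 := relIndex_ne_one P hcomm hcard
  have h8 := relIndex_ne_eight P hcomm hcard hcent hclasses
  have he : (P : Subgroup G).relIndex (Subgroup.normalizer ((P : Subgroup G) : Set G)) = 2 ∨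
      (P : Subgroup G).relIndex (Subgroup.normalizer ((P : Subgroup G) : Set G)) = 4 := by
    have hmem : (P : Subgroup G).relIndex (Subgroup.normalizer ((P : Subgroup G) : Set G)) ∈
        Nat.divisors 8 := Nat.mem_divisors.2 ⟨hdvd, by norm_num⟩
    have hd : Nat.divisors 8 = {1, 2, 4, 8} := by decide
    rw [hd] at hmem
    simp only [Finset.mem_insert, Finset.mem_singleton] at hmem
    rcases hmem with h | h | h | h
    · exact absurd h h1
    · exact Or.inl h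
    · exact Or.inr h
    · exact absurd h h8
  obtain ⟨M, hM⟩ := Cfsg.Agent.Helper24.Glaub.exists_isPModular Nat.prime_three
  have hC := centralizer_eq P hcomm hcard hcent
  have hcyc := exists_gen P hcomm hcard hcent he
  have hfrob : ∀ y : G, y ∈ (P : Subgroup G) → y ≠ 1 →
      Subgroup.centralizer ({y} : Set G) ⊓ Subgroup.normalizer ((P : Subgroup G) : Set G) =
        Subgroup.centralizer ((P : Subgroup G) : Set G) := by
    intro y hy hy1
    rw [hcent y hy hy1, hC]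
    exact inf_of_le_left Subgroup.le_normalizer
  have hP1 : Nat.card (P : Subgroup G) ≠ 1 := by rw [hcard]; norm_num
  rcases he with he | he
  · exfalso
    have hCN : (Subgroup.centralizer ((P : Subgroup G) : Set G)).relIndex
        (Subgroup.normalizer ((P : Subgroup G) : Set G)) = 2 := by rw [hC]; exact he
    obtain ⟨Xs, Y, δ, dd, a, ζ, hpb, hdisj, h1X, hδ, hYcard, hXcard, hXval, hζY, hζsurj, hζconst,
      hζval, hnorm, hw⟩ := frob_main 3 M hM P hcomm hP1 2 (by norm_num) (by rw [hcard]; norm_num)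
        hCN hcyc hfrob
    obtain ⟨ν, hνm, hfpf, hconj, hfus, hnil, hN1, hN2⟩ := frob_package P hcomm 2 hCN hcyc hfrob
    exact Asm.core_two P M hM hcomm hexp hcard hcent Xs Y δ dd a ζ hpb hdisj h1X hδ hYcard hXcard
      hXval hζsurj hζval hnorm hw ν hνm hfpf hconj hfus hnil hN1 hN2
  · have hCN : (Subgroup.centralizer ((P : Subgroup G) : Set G)).relIndex
        (Subgroup.normalizer ((P : Subgroup G) : Set G)) = 4 := by rw [hC]; exact he
    obtain ⟨Xs, Y, δ, dd, a, ζ, hpb, hdisj, h1X, hδ, hYcard, hXcard, hXval, hζY, hζsurj, hζconst,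
      hζval, hnorm, hw⟩ := frob_main 3 M hM P hcomm hP1 4 (by norm_num) (by rw [hcard]; norm_num)
        hCN hcyc hfrob
    obtain ⟨ν, hνm, hfpf, hconj, hfus, hnil, hN1, hN2⟩ := frob_package P hcomm 4 hCN hcyc hfrob
    exact fin_step P hcard he (Asm.core_four P M hM hcomm hexp hcard hcent Xs Y δ dd a hpb hdisj
      h1X hδ hYcard hXcard hXval hnorm hw ν hνm hfpf hconj hfus hnil)

end Core

end Cfsg.Agent.Helper16.SSC
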