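import Mathlib
import Cfsg.Agent.Lib.Helper22.SchPLDefs

/-!
# S4394 piece B2 (helper16): class two and central `p`-th powers for a Schmidt action.
-/

set_option autoImplicit false

namespace Cfsg.Agent.Helper22.SchPL

section abstract
variable {p q : ℕ} [Fact p.Prime] {P : Type*} [Group P] [Finite P] {α : MulAut P}

/-- a nontrivial finite `p`-group has a normal subgroup of index `p` -/
theorem b2_exists_normal_index (hP : IsPGroup p P) (hnt : Nontrivial P) :
    ∃ M : Subgroup P, M.Normal ∧ M.index = p := by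
  have hpp : p.Prime := Fact.out
  obtain ⟨k, hk⟩ := hP.exists_card_eq
  have hk0 : k ≠ 0 := by
    rintro rfl
    rw [pow_zero] at hk
    have := Finite.one_lt_card_iff_nontrivial.mpr hnt
    omega
  obtain ⟨j, rfl⟩ := Nat.exists_eq_succ_of_ne_zero hk0
  have hdvd : p ^ j ∣ Nat.card P := by rw [hk, pow_succ]; exact Dvd.intro _ rfl
  obtain ⟨M, hM⟩ := Sylow.exists_subgroup_card_pow_prime p hdvd
  have hidx : M.index = p := by
    have h1 := M.card_mul_index
    rw [hM, hk, pow_succ] at h1
    exact Nat.eq_of_mul_eq_mul_left (pow_pos hpp.pos j) h1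
  refine ⟨M, ?_, hidx⟩
  apply Subgroup.normal_of_index_eq_minFac_card
  rw [hidx, hk, Nat.Prime.pow_minFac hpp (Nat.succ_ne_zero j)]

/-- the generating set: commutators and `p`-th powers -/
def b2Set (p : ℕ) (P : Type*) [Group P] : Set P :=
  {x | (∃ a b : P, a * b * a⁻¹ * b⁻¹ = x) ∨ ∃ v : P, v ^ p = x}

omit [Fact p.Prime] [Finite P] in
/-- the subgroup generated by commutators and `p`-th powers is invariant under automorphisms -/
theorem b2_closure_invariant (e : MulAut P) :
    ∀ x ∈ Subgroup.closure (b2Set p P), e x ∈ Subgroup.closure (b2Set p P) := by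
  intro x hx
  induction hx using Subgroup.closure_induction with
  | mem x hx =>
    apply Subgroup.subset_closure
    rcases hx with ⟨a, b, rfl⟩ | ⟨v, rfl⟩
    · left
      exact ⟨e a, e b, by simp [map_mul]⟩
    · right
      exact ⟨e v, by simp [map_pow]⟩
  | one => rw [map_one]; exact Subgroup.one_mem _
  | mul x y _ _ hx hy => rw [map_mul]; exact Subgroup.mul_mem _ hx hy
  | inv x _ hx => rw [map_inv]; exact Subgroup.inv_mem _ hx

/-- Piece B2 (may use B1 as the hypothesis `hB1`). -/
theorem SchAct.comm_pow_mem (h : SchAct p q P α) (hP : IsPGroup p P)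
    (hB1 : ∀ (A : Subgroup P) [A.Normal], A ≠ ⊤ → (∀ a ∈ A, α a ∈ A) → A ≤ Subgroup.center P) :
    (∀ a b : P, a * b * a⁻¹ * b⁻¹ ∈ Subgroup.center P) ∧ (∀ v : P, v ^ p ∈ Subgroup.center P) := by
  have hpp : p.Prime := Fact.out
  have hnt : Nontrivial P := by
    by_contra hnt
    rw [not_nontrivial_iff_subsingleton] at hnt
    apply h.ne_one
    ext v
    exact Subsingleton.elim _ _
  obtain ⟨M, hMn, hMi⟩ := b2_exists_normal_index hP hnt
  have hcard : Nat.card (P ⧸ M) = p := by rw [← Subgroup.index_eq_card]; exact hMi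
  have hcyc : IsCyclic (P ⧸ M) := isCyclic_of_prime_card hcard
  have hMC : IsMulCommutative (P ⧸ M) := IsCyclic.isMulCommutative
  have hSM : b2Set p P ⊆ (M : Set P) := by
    rintro x (⟨a, b, rfl⟩ | ⟨v, rfl⟩)
    · show a * b * a⁻¹ * b⁻¹ ∈ M
      rw [← QuotientGroup.eq_one_iff]
      have hab := isMulCommutative_iff.mp hMC (a : P ⧸ M) (b : P ⧸ M)
      simp only [QuotientGroup.mk_mul, QuotientGroup.mk_inv]
      rw [hab]
      group
    · show v ^ p ∈ M
      rw [← QuotientGroup.eq_one_iff, QuotientGroup.mk_pow]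
      have h2 : ((v : P ⧸ M)) ^ Nat.card (P ⧸ M) = 1 := pow_card_eq_one'
      rwa [hcard] at h2
  have hAM : Subgroup.closure (b2Set p P) ≤ M := (Subgroup.closure_le M).2 hSM
  have hMne : M ≠ ⊤ := by
    intro htop
    rw [htop, Subgroup.index_top] at hMi
    exact hpp.one_lt.ne hMi
  have hAne : Subgroup.closure (b2Set p P) ≠ ⊤ := by
    intro htop
    apply hMne
    rw [eq_top_iff, ← htop]
    exact hAM
  have hAn : (Subgroup.closure (b2Set p P)).Normal := by
    constructor
    intro n hn g
    have := b2_closure_invariant (p := p) (MulAut.conj g) n hn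
    simpa [MulAut.conj_apply] using this
  have hAc : Subgroup.closure (b2Set p P) ≤ Subgroup.center P :=
    hB1 _ hAne (b2_closure_invariant (p := p) α)
  refine ⟨fun a b => hAc (Subgroup.subset_closure (Or.inl ⟨a, b, rfl⟩)),
    fun v => hAc (Subgroup.subset_closure (Or.inr ⟨v, rfl⟩))⟩

end abstract

end Cfsg.Agent.Helper22.SchPL
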