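import Mathlib
import Cfsg.Agent.Lib.Helper22.SchPLDefs

/-!
# S4394 piece B3B (helper16): the Camina property of a Schmidt action.
-/

set_option autoImplicit false

namespace Cfsg.Agent.Helper22.SchPL

section abstract
variable {p q : ℕ} [Fact p.Prime] {P : Type*} [Group P] [Finite P] {α : MulAut P}

omit [Finite P] in
/-- the commutator map `v ↦ [u, v]` is a homomorphism when commutators are central -/
theorem b3b_comm_mul (hcomm : ∀ a b : P, a * b * a⁻¹ * b⁻¹ ∈ Subgroup.center P) (u v w : P) :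
    u * (v * w) * u⁻¹ * (v * w)⁻¹ = (u * v * u⁻¹ * v⁻¹) * (u * w * u⁻¹ * w⁻¹) := by
  have hc : v⁻¹ * (u * w * u⁻¹ * w⁻¹) = (u * w * u⁻¹ * w⁻¹) * v⁻¹ :=
    Subgroup.mem_center_iff.1 (hcomm u w) v⁻¹
  calc u * (v * w) * u⁻¹ * (v * w)⁻¹
      = u * v * u⁻¹ * ((u * w * u⁻¹ * w⁻¹) * v⁻¹) := by group
    _ = u * v * u⁻¹ * (v⁻¹ * (u * w * u⁻¹ * w⁻¹)) := by rw [hc]
    _ = (u * v * u⁻¹ * v⁻¹) * (u * w * u⁻¹ * w⁻¹) := by group

omit [Finite P] in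
/-- the commutator map in the first variable -/
theorem b3b_comm_mul_left (hcomm : ∀ a b : P, a * b * a⁻¹ * b⁻¹ ∈ Subgroup.center P)
    (w w' v : P) :
    (w * w') * v * (w * w')⁻¹ * v⁻¹ = (w' * v * w'⁻¹ * v⁻¹) * (w * v * w⁻¹ * v⁻¹) := by
  have hc : w * (w' * v * w'⁻¹ * v⁻¹) = (w' * v * w'⁻¹ * v⁻¹) * w :=
    Subgroup.mem_center_iff.1 (hcomm w' v) w
  calc (w * w') * v * (w * w')⁻¹ * v⁻¹
      = (w * (w' * v * w'⁻¹ * v⁻¹)) * v * w⁻¹ * v⁻¹ := by group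
    _ = ((w' * v * w'⁻¹ * v⁻¹) * w) * v * w⁻¹ * v⁻¹ := by rw [hc]
    _ = (w' * v * w'⁻¹ * v⁻¹) * (w * v * w⁻¹ * v⁻¹) := by group

omit [Finite P] in
theorem b3b_comm_inv_left (hcomm : ∀ a b : P, a * b * a⁻¹ * b⁻¹ ∈ Subgroup.center P)
    (w v : P) :
    w⁻¹ * v * w⁻¹⁻¹ * v⁻¹ = (w * v * w⁻¹ * v⁻¹)⁻¹ := by
  have hc : w⁻¹ * (w * v * w⁻¹ * v⁻¹)⁻¹ = (w * v * w⁻¹ * v⁻¹)⁻¹ * w⁻¹ :=
    Subgroup.mem_center_iff.1 ((Subgroup.center P).inv_mem (hcomm w v)) w⁻¹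
  calc w⁻¹ * v * w⁻¹⁻¹ * v⁻¹ = (w⁻¹ * (w * v * w⁻¹ * v⁻¹)⁻¹) * w := by group
    _ = ((w * v * w⁻¹ * v⁻¹)⁻¹ * w⁻¹) * w := by rw [hc]
    _ = (w * v * w⁻¹ * v⁻¹)⁻¹ := by group

omit [Finite P] in
theorem b3b_comm_conj (hcomm : ∀ a b : P, a * b * a⁻¹ * b⁻¹ ∈ Subgroup.center P)
    (g n v : P) :
    (g * n * g⁻¹) * v * (g * n * g⁻¹)⁻¹ * v⁻¹ = n * v * n⁻¹ * v⁻¹ := by
  have hc : (n * v * n⁻¹) * (g * n * g⁻¹ * n⁻¹) = (g * n * g⁻¹ * n⁻¹) * (n * v * n⁻¹) :=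
    Subgroup.mem_center_iff.1 (hcomm g n) (n * v * n⁻¹)
  calc (g * n * g⁻¹) * v * (g * n * g⁻¹)⁻¹ * v⁻¹
      = ((g * n * g⁻¹ * n⁻¹) * (n * v * n⁻¹)) * (g * n * g⁻¹ * n⁻¹)⁻¹ * v⁻¹ := by group
    _ = ((n * v * n⁻¹) * (g * n * g⁻¹ * n⁻¹)) * (g * n * g⁻¹ * n⁻¹)⁻¹ * v⁻¹ := by rw [hc]
    _ = n * v * n⁻¹ * v⁻¹ := by group

/-- Piece B3b: Camina property (inputs are hypotheses). -/
theorem SchAct.camina (h : SchAct p q P α) (hP : IsPGroup p P)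
    (hB1 : ∀ (A : Subgroup P) [A.Normal], A ≠ ⊤ → (∀ a ∈ A, α a ∈ A) → A ≤ Subgroup.center P)
    (hcomm : ∀ a b : P, a * b * a⁻¹ * b⁻¹ ∈ Subgroup.center P)
    (hZ : Subgroup.center P ≤ commutator P)
    (u : P) (hu : u ∉ Subgroup.center P) (z : P) (hz : z ∈ Subgroup.center P) :
    ∃ v : P, u * v * u⁻¹ * v⁻¹ = z := by
  -- the commutator map with `u`
  let φ : P →* P := MonoidHom.mk' (fun v => u * v * u⁻¹ * v⁻¹) (b3b_comm_mul hcomm u)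
  have hφ : ∀ v, φ v = u * v * u⁻¹ * v⁻¹ := fun v => rfl
  -- `α` fixes the centre pointwise
  have hcne : Subgroup.center P ≠ ⊤ := by
    intro htop
    apply hu
    rw [htop]; trivial
  have hcinv : ∀ c ∈ Subgroup.center P, α c ∈ Subgroup.center P := by
    intro c hc
    rw [Subgroup.mem_center_iff] at hc ⊢
    intro g
    have := hc (α⁻¹ g)
    have h2 := congrArg α this
    simpa [map_mul, MulAut.apply_inv_self] using h2
  have hcfix : ∀ c ∈ Subgroup.center P, α c = c := h.fix _ hcne hcinv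
  have hTle : φ.range ≤ Subgroup.center P := by
    rintro _ ⟨v, rfl⟩
    exact hcomm u v
  -- the subgroup `A`
  let A : Subgroup P :=
    { carrier := {w | ∀ v, w * v * w⁻¹ * v⁻¹ ∈ φ.range}
      one_mem' := by
        intro v
        have : (1 : P) * v * 1⁻¹ * v⁻¹ = 1 := by group
        rw [this]; exact φ.range.one_mem
      mul_mem' := by
        intro w w' hw hw' v
        rw [b3b_comm_mul_left hcomm]
        exact φ.range.mul_mem (hw' v) (hw v)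
      inv_mem' := by
        intro w hw v
        rw [b3b_comm_inv_left hcomm]
        exact φ.range.inv_mem (hw v) }
  have hAmem : ∀ w, w ∈ A ↔ ∀ v, w * v * w⁻¹ * v⁻¹ ∈ φ.range := fun w => Iff.rfl
  have hAn : A.Normal := by
    constructor
    intro n hn g
    rw [hAmem] at hn ⊢
    intro v
    rw [b3b_comm_conj hcomm]
    exact hn v
  have hAinv : ∀ a ∈ A, α a ∈ A := by
    intro w hw
    rw [hAmem] at hw ⊢
    intro v
    have h1 := hw (α⁻¹ v)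
    have h2 : α (w * α⁻¹ v * w⁻¹ * (α⁻¹ v)⁻¹) = w * α⁻¹ v * w⁻¹ * (α⁻¹ v)⁻¹ :=
      hcfix _ (hTle h1)
    have h3 : α (w * α⁻¹ v * w⁻¹ * (α⁻¹ v)⁻¹) = α w * v * (α w)⁻¹ * v⁻¹ := by
      simp [map_mul]
    rw [← h3, h2]
    exact h1
  have huA : u ∈ A := by
    rw [hAmem]
    intro v
    exact ⟨v, rfl⟩
  have hAtop : A = ⊤ := by
    by_contra hne
    exact hu (hB1 A hne hAinv huA)
  have hcomm_le : commutator P ≤ φ.range := by
    rw [commutator_eq_closure, Subgroup.closure_le]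
    rintro _ ⟨g₁, g₂, rfl⟩
    have : g₁ ∈ A := by rw [hAtop]; trivial
    rw [commutatorElement_def]
    exact (hAmem g₁).1 this g₂
  obtain ⟨v, hv⟩ := hcomm_le (hZ hz)
  exact ⟨v, hv⟩

end abstract

end Cfsg.Agent.Helper22.SchPL
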