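import Mathlib
import Cfsg.Prelude.Def_Local
import Cfsg.Prelude.Def_SolvableStructure
import Cfsg.Agent.Lib.Helper22.SchPLDefs

/-!
# S4394 piece SMALL (helper16): the case `|Q : F| = p`, `|F : Z| ≤ p`, `p ∈ {2, 3}`.
-/

set_option autoImplicit false
open Pointwise

namespace Cfsg.Agent.Helper22.SchPL

open Cfsg

section group
variable {G : Type*} [Group G] [Finite G] {p : ℕ} [Fact p.Prime]

omit [Finite G] in
/-- `Q / Z` of prime order forces `Q` abelian. -/
theorem small_aux_prime (Q Z : Subgroup G) (h : SESub p Q Z) (hidx : Z.relIndex Q = p) :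
    False := by
  have hpp : p.Prime := Fact.out
  have hcen : Z.subgroupOf Q ≤ Subgroup.center Q := by
    intro z hz
    rw [Subgroup.mem_center_iff]
    intro a
    apply Subtype.ext
    have := h.central z.1 (Subgroup.mem_subgroupOf.1 hz) a.1 a.2
    simp only [Subgroup.coe_mul]
    exact this.symm
  have hn : (Z.subgroupOf Q).Normal := by
    constructor
    intro n hn g
    have : g * n * g⁻¹ = n := by
      have := (Subgroup.mem_center_iff.1 (hcen hn)) g
      rw [this, mul_inv_cancel_right]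
    rw [this]
    exact hn
  have hcard : Nat.card (Q ⧸ Z.subgroupOf Q) = p := by
    rw [← Subgroup.index_eq_card]
    exact hidx
  have hcyc : IsCyclic (Q ⧸ Z.subgroupOf Q) := isCyclic_of_prime_card hcard
  have hcomm : IsMulCommutative Q :=
    (QuotientGroup.mk' (Z.subgroupOf Q)).isMulCommutative_of_isCyclic_of_ker_le_center
      (by rw [QuotientGroup.ker_mk']; exact hcen)
  obtain ⟨a, ha, b, hb, hab⟩ := h.nonab
  apply hab
  have := isMulCommutative_iff.mp hcomm ⟨a, ha⟩ ⟨b, hb⟩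
  exact congrArg Subtype.val this

/-- the commutator map `v ↦ [u, v]` as a homomorphism `Q →* Z` -/
noncomputable def smallCommHom (Q Z : Subgroup G) (h : SESub p Q Z) (u : G) (hu : u ∈ Q) :
    Q →* Z :=
  MonoidHom.mk' (fun v => ⟨u * v.1 * u⁻¹ * v.1⁻¹, h.comm_mem u hu v.1 v.2⟩) (by
    intro v w
    apply Subtype.ext
    simp only [Subgroup.coe_mul]
    have hc : (u * w.1 * u⁻¹ * w.1⁻¹) * v.1⁻¹ = v.1⁻¹ * (u * w.1 * u⁻¹ * w.1⁻¹) :=
      h.central _ (h.comm_mem u hu w.1 w.2) _ (Q.inv_mem v.2)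
    calc u * (v.1 * w.1) * u⁻¹ * (v.1 * w.1)⁻¹
        = u * v.1 * u⁻¹ * ((u * w.1 * u⁻¹ * w.1⁻¹) * v.1⁻¹) := by group
      _ = u * v.1 * u⁻¹ * (v.1⁻¹ * (u * w.1 * u⁻¹ * w.1⁻¹)) := by rw [hc]
      _ = u * v.1 * u⁻¹ * v.1⁻¹ * (u * w.1 * u⁻¹ * w.1⁻¹) := by group)

/-- `|Q : Z| = p ^ 2` forces `|Z| = p`. -/
theorem small_aux_card (Q Z : Subgroup G) (h : SESub p Q Z) (hidx : Z.relIndex Q = p ^ 2) :
    Nat.card Z = p := by
  have hpp : p.Prime := Fact.out
  obtain ⟨a, ha, b, hb, hab⟩ := h.nonab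
  have haZ : a ∉ Z := fun haZ => hab (h.central a haZ b hb)
  set φ := smallCommHom Q Z h a ha with hφ
  have hφv : ∀ v : Q, ((φ v : Z) : G) = a * v.1 * a⁻¹ * v.1⁻¹ := fun v => rfl
  have hsurj : Function.Surjective φ := by
    rintro ⟨z, hz⟩
    obtain ⟨v, hv, hvz⟩ := h.camina a ha haZ z hz
    exact ⟨⟨v, hv⟩, Subtype.ext hvz⟩
  have hker : Z.subgroupOf Q ≤ φ.ker := by
    intro z hz
    rw [MonoidHom.mem_ker]
    apply Subtype.ext
    rw [hφv]
    have hc : z.1 * a = a * z.1 := h.central z.1 (Subgroup.mem_subgroupOf.1 hz) a ha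
    show a * z.1 * a⁻¹ * z.1⁻¹ = 1
    rw [← hc]; group
  have haker : (⟨a, ha⟩ : Q) ∈ φ.ker := by
    rw [MonoidHom.mem_ker]
    apply Subtype.ext
    rw [hφv]
    show a * a * a⁻¹ * a⁻¹ = 1
    group
  have hcardZ : φ.ker.index = Nat.card Z := by
    rw [Subgroup.index_ker, MonoidHom.range_eq_top.2 hsurj, Subgroup.card_top]
  have hmul := Subgroup.relIndex_mul_index hker
  have hidx' : (Z.subgroupOf Q).index = p ^ 2 := hidx
  rw [hidx', hcardZ] at hmul
  have hdvd : Nat.card Z ∣ p ^ 2 := Dvd.intro_left _ hmul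
  obtain ⟨m, hm2, hm⟩ := (Nat.dvd_prime_pow hpp).1 hdvd
  have hm0 : m ≠ 0 := by
    rintro rfl
    rw [pow_zero] at hm
    apply hab
    have hsub : Subsingleton Z := (Nat.card_eq_one_iff_unique.1 hm).1
    have h1 : (⟨a * b * a⁻¹ * b⁻¹, h.comm_mem a ha b hb⟩ : Z) = 1 := Subsingleton.elim _ _
    have h2 : a * b * a⁻¹ * b⁻¹ = 1 := congrArg Subtype.val h1
    calc a * b = (a * b * a⁻¹ * b⁻¹) * (b * a) := by group
      _ = b * a := by rw [h2, one_mul]
  have hm2' : m ≠ 2 := by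
    rintro rfl
    rw [hm] at hmul
    have hone : (Z.subgroupOf Q).relIndex φ.ker = 1 := by
      have hpos : 0 < p ^ 2 := pow_pos hpp.pos 2
      have : (Z.subgroupOf Q).relIndex φ.ker * p ^ 2 = 1 * p ^ 2 := by rw [hmul, one_mul]
      exact Nat.eq_of_mul_eq_mul_right hpos this
    have hle := Subgroup.relIndex_eq_one.1 hone
    exact haZ (Subgroup.mem_subgroupOf.1 (hle haker))
  have hm1 : m = 1 := by omega
  rw [hm, hm1, pow_one]

omit [Finite G] [Fact p.Prime] in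
/-- commutators centralize a cyclic normal subgroup -/
theorem small_comm_mem_centralizer (F : Subgroup G) [hF : F.Normal] [IsCyclic F] (g k : G) :
    g⁻¹ * k⁻¹ * g * k ∈ Subgroup.centralizer (F : Set G) := by
  obtain ⟨m, hm⟩ := MonoidHom.map_cyclic ((MulAut.conjNormal g : MulAut F).toMonoidHom)
  obtain ⟨n, hn⟩ := MonoidHom.map_cyclic ((MulAut.conjNormal k : MulAut F).toMonoidHom)
  have hg : ∀ y ∈ F, g * y * g⁻¹ = y ^ m := by
    intro y hy
    have := congrArg Subtype.val (hm ⟨y, hy⟩)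
    simpa [MulAut.conjNormal_apply] using this
  have hk : ∀ y ∈ F, k * y * k⁻¹ = y ^ n := by
    intro y hy
    have := congrArg Subtype.val (hn ⟨y, hy⟩)
    simpa [MulAut.conjNormal_apply] using this
  rw [Subgroup.mem_centralizer_iff]
  intro f hf
  have hf : f ∈ F := hf
  have E : k * g * f * g⁻¹ * k⁻¹ = g * k * f * k⁻¹ * g⁻¹ := by
    calc k * g * f * g⁻¹ * k⁻¹ = k * (g * f * g⁻¹) * k⁻¹ := by group
      _ = (f ^ m) ^ n := by rw [hg f hf, hk _ (F.zpow_mem hf m)]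
      _ = (f ^ n) ^ m := by rw [← zpow_mul, ← zpow_mul, mul_comm]
      _ = g * (k * f * k⁻¹) * g⁻¹ := by rw [hk f hf, hg _ (F.zpow_mem hf n)]
      _ = g * k * f * k⁻¹ * g⁻¹ := by group
  calc f * (g⁻¹ * k⁻¹ * g * k) = g⁻¹ * k⁻¹ * (k * g * f * g⁻¹ * k⁻¹) * g * k := by group
    _ = g⁻¹ * k⁻¹ * (g * k * f * k⁻¹ * g⁻¹) * g * k := by rw [E]
    _ = g⁻¹ * k⁻¹ * g * k * f := by group

/-- Piece SMALL. -/
theorem small_false (hp23 : p = 2 ∨ p = 3)
    (hcen : Subgroup.centralizer (pCore p G : Set G) ≤ pCore p G)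
    (Q : Sylow p G) (Z : Subgroup G) (h : SESub p (Q : Subgroup G) Z)
    (hZF : Z ≤ pCore p G) (hnn : ¬ (Q : Subgroup G).Normal)
    (hidx : (pCore p G).relIndex (Q : Subgroup G) = p)
    (hsmall : Z.relIndex (pCore p G) < p ^ 2) : False := by
  have hpp : p.Prime := Fact.out
  have hFp : IsPGroup p (pCore p G) := Sylow.sSup_of_normal _ (fun _ h => h.2) (fun _ h => h.1)
  have hFn : (pCore p G).Normal := Subgroup.sSup_normal _ (fun K hK => hK.1)
  have hFQ : pCore p G ≤ (Q : Subgroup G) := hFp.le_sylow_of_normal Q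
  -- the index of `Z` in `F` is `1` or `p`
  obtain ⟨n, hn⟩ := hFp.index (Z.subgroupOf (pCore p G))
  have hn' : Z.relIndex (pCore p G) = p ^ n := hn
  have hnle : n < 2 := by
    rw [hn'] at hsmall
    exact (Nat.pow_lt_pow_iff_right hpp.one_lt).1 hsmall
  have hmul := Subgroup.relIndex_mul_relIndex Z (pCore p G) (Q : Subgroup G) hZF hFQ
  rw [hidx, hn'] at hmul
  have hn1 : n = 1 := by
    rcases Nat.lt_or_ge n 1 with h0 | h1
    · exfalso
      have : n = 0 := by omega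
      subst this
      rw [pow_zero, one_mul] at hmul
      exact small_aux_prime (Q : Subgroup G) Z h hmul.symm
    · omega
  subst hn1
  rw [pow_one] at hmul
  have hZQ : Z.relIndex (Q : Subgroup G) = p ^ 2 := by rw [← hmul, pow_two]
  have hZc : Nat.card Z = p := small_aux_card (Q : Subgroup G) Z h hZQ
  have hQc : Nat.card (Q : Subgroup G) = p ^ 3 := by
    have := Subgroup.relIndex_mul_relIndex ⊥ Z (Q : Subgroup G) bot_le h.le
    rw [Subgroup.relIndex_bot_left, Subgroup.relIndex_bot_left, hZc, hZQ] at this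
    rw [← this]; ring
  have hp2 : p = 2 := by
    rcases hp23 with h2 | h3
    · exact h2
    · exact absurd h3 (h.small3 hQc)
  have hcyc : IsCyclic (pCore p G) := h.small2 hQc hp2 (pCore p G) hFQ (by rw [hidx, hp2])
  apply hnn
  constructor
  intro x hx g
  have hc := small_comm_mem_centralizer (pCore p G) g⁻¹ x⁻¹
  have hcQ : g⁻¹⁻¹ * x⁻¹⁻¹ * g⁻¹ * x⁻¹ ∈ (Q : Subgroup G) := hFQ (hcen hc)
  have : g * x * g⁻¹ = (g⁻¹⁻¹ * x⁻¹⁻¹ * g⁻¹ * x⁻¹) * x := by group
  rw [this]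
  exact (Q : Subgroup G).mul_mem hcQ hx

end group

end Cfsg.Agent.Helper22.SchPL
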