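import Mathlib
import Cfsg.Agent.Lib.Helper23.SlhDefs

/-!
S3050 farm-out, PIECE SLH-SL2CONJ (helper16): an element of order 3 of `SL₂(F)`, `F` finite of characteristic 2,
is conjugate to `uu 1 * ll 1 = [[0,1],[1,1]]`.
-/

set_option autoImplicit false
set_option linter.unusedSectionVars false
set_option linter.unusedVariables false

namespace Cfsg.Agent.Helper23.Slh

open Cfsg.Agent.Helper12.NatMod

local notation "SL2" => Matrix.SpecialLinearGroup (Fin 2)

section PartG

variable {F : Type*} [Field F]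

/-- the entries of an element of order dividing 3: trace 1 unless the element is trivial -/
theorem slh_sl2conj_trace [CharP F 2] (a b c d : F) (hdet : a * d - b * c = 1)
    (h3 : (!![a, b; c, d] : Matrix (Fin 2) (Fin 2) F) ^ 3 = 1)
    (h1 : ¬ (a = 1 ∧ b = 0 ∧ c = 0 ∧ d = 1)) : a + d = 1 := by
  have h2 : (2 : F) = 0 := CharTwo.two_eq_zero
  have e00 := congrFun (congrFun h3 0) 0
  have e01 := congrFun (congrFun h3 0) 1
  have e10 := congrFun (congrFun h3 1) 0
  have e11 := congrFun (congrFun h3 1) 1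
  simp [pow_succ, Matrix.mul_apply, Fin.sum_univ_two] at e00 e01 e10 e11
  by_contra ht
  have hu : a + d + 1 ≠ 0 := by
    intro h
    apply ht
    linear_combination h - h2
  apply h1
  have hb : (a + d + 1) ^ 2 * b = 0 := by
    linear_combination e01 + b * hdet + (b * (a + d + 1)) * h2
  have hc : (a + d + 1) ^ 2 * c = 0 := by
    linear_combination e10 + c * hdet + (c * (a + d + 1)) * h2
  have ha : (a + d + 1) ^ 2 * a = (a + d + 1) := by
    linear_combination e00 + (2 * a + d) * hdet + (a * (a + d + 1)) * h2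
  have hd : (a + d + 1) ^ 2 * d = (a + d + 1) := by
    linear_combination e11 + (2 * d + a) * hdet + (d * (a + d + 1)) * h2
  have hb0 : b = 0 := (mul_eq_zero.1 hb).resolve_left (pow_ne_zero 2 hu)
  have hc0 : c = 0 := (mul_eq_zero.1 hc).resolve_left (pow_ne_zero 2 hu)
  have ha1 : (a + d + 1) * a = 1 := by
    apply mul_left_cancel₀ hu
    linear_combination ha
  have hd1 : (a + d + 1) * d = 1 := by
    apply mul_left_cancel₀ hu
    linear_combination hd
  have had : a = d := by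
    apply mul_left_cancel₀ hu
    rw [ha1, hd1]
  subst had
  have ha2 : a = 1 := by
    linear_combination ha1 - (a * a) * h2
  exact ⟨ha2, hb0, hc0, ha2⟩

/-- the conjugating matrix -/
theorem slh_sl2conj_form [Finite F] [CharP F 2] (b c : F) :
    ∃ x y : F, b * (x * x) + x * y + c * (y * y) = 1 := by
  have hsq : ∀ z : F, ∃ w : F, w * w = z := by
    intro z
    obtain ⟨w, hw⟩ := FiniteField.isSquare_of_char_two (ringChar.eq F 2) z
    exact ⟨w, hw.symm⟩
  by_cases hb : b = 0
  · by_cases hc : c = 0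
    · exact ⟨1, 1, by rw [hb, hc]; ring⟩
    · obtain ⟨w, hw⟩ := hsq c⁻¹
      refine ⟨0, w, ?_⟩
      rw [hw, mul_inv_cancel₀ hc]
      ring
  · obtain ⟨w, hw⟩ := hsq b⁻¹
    refine ⟨w, 0, ?_⟩
    rw [hw, mul_inv_cancel₀ hb]
    ring

/-- PIECE SLH-SL2CONJ. -/
theorem conj_to_x0 [Finite F] [CharP F 2] (s : SL2 F) (h3 : s ^ 3 = 1) (h1 : s ≠ 1) :
    ∃ r : SL2 F, r * s * r⁻¹ = uu 1 * ll 1 := by
  have h2 : (2 : F) = 0 := CharTwo.two_eq_zero
  obtain ⟨a, b, c, d, hs⟩ : ∃ a b c d : F, s.1 = !![a, b; c, d] :=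
    ⟨_, _, _, _, Matrix.eta_fin_two s.1⟩
  have hdet : a * d - b * c = 1 := by
    have := s.2
    rw [hs, Matrix.det_fin_two_of] at this
    exact this
  have h3' : (!![a, b; c, d] : Matrix (Fin 2) (Fin 2) F) ^ 3 = 1 := by
    rw [← hs, ← Matrix.SpecialLinearGroup.coe_pow, h3]
    rfl
  have ht : a + d = 1 := by
    apply slh_sl2conj_trace a b c d hdet h3'
    rintro ⟨rfl, rfl, rfl, rfl⟩
    apply h1
    apply Subtype.ext
    rw [hs]
    exact Matrix.one_fin_two.symm
  obtain ⟨x, y, hxy⟩ := slh_sl2conj_form b c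
  have hr : (!![x, y; x * a + y * c, x * b + y * d] : Matrix (Fin 2) (Fin 2) F).det = 1 := by
    rw [Matrix.det_fin_two_of]
    linear_combination hxy + (x * y) * ht - (a * x * y + c * y * y) * h2
  obtain ⟨r, hr1⟩ : ∃ r : SL2 F, r.1 = !![x, y; x * a + y * c, x * b + y * d] := ⟨⟨_, hr⟩, rfl⟩
  refine ⟨r, ?_⟩
  rw [mul_inv_eq_iff_eq_mul]
  apply Subtype.ext
  show r.1 * s.1 = ((uu (1 : F) : SL2 F).1 * (ll (1 : F) : SL2 F).1) * r.1
  rw [hs, hr1]
  show _ = (!![1, 1; 0, 1] * !![1, 0; 1, 1] : Matrix (Fin 2) (Fin 2) F) * _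
  rw [Matrix.mul_fin_two, Matrix.mul_fin_two, Matrix.mul_fin_two]
  congr 1
  have E1 : x * a + y * c = (1 * 1 + 1 * 1) * x + (1 * 0 + 1 * 1) * (x * a + y * c) := by
    linear_combination (-x) * h2
  have E2 : x * b + y * d = (1 * 1 + 1 * 1) * y + (1 * 0 + 1 * 1) * (x * b + y * d) := by
    linear_combination (-y) * h2
  have E3 : (x * a + y * c) * a + (x * b + y * d) * c =
      (0 * 1 + 1 * 1) * x + (0 * 0 + 1 * 1) * (x * a + y * c) := by
    linear_combination (x * a + y * c) * ht - x * hdet - x * h2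
  have E4 : (x * a + y * c) * b + (x * b + y * d) * d =
      (0 * 1 + 1 * 1) * y + (0 * 0 + 1 * 1) * (x * b + y * d) := by
    linear_combination (x * b + y * d) * ht - y * hdet - y * h2
  exact congrArg₂ (fun u v => ![u, v]) (congrArg₂ (fun u v => ![u, v]) E1 E2)
    (congrArg₂ (fun u v => ![u, v]) E3 E4)

end PartG

end Cfsg.Agent.Helper23.Slh
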