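import Mathlib

set_option autoImplicit false
set_option linter.style.haveILetI false
set_option linter.unusedSectionVars false

namespace Cfsg.Agent.Helper16.SpFix

open Matrix

section three

variable {F : Type*} [Field F] [Fintype F]

theorem three_eq_zero (hF : Fintype.card F = 3) : (3 : F) = 0 := by
  have := Nat.cast_card_eq_zero F
  rw [hF] at this
  exact_mod_cast this

theorem two_ne_zero_of_card (hF : Fintype.card F = 3) : (2 : F) ≠ 0 := by
  intro h
  have h3 := three_eq_zero hF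
  have : (1 : F) = 0 := by linear_combination h3 - h
  exact one_ne_zero this

theorem mul_self_ne_neg_one (hF : Fintype.card F = 3) (t : F) : t * t ≠ -1 := by
  intro h
  have h3 : t ^ 3 = t := by
    have := FiniteField.pow_card t
    rwa [hF] at this
  have h2 : (2 : F) * t = 0 := by linear_combination t * h - h3
  rcases mul_eq_zero.mp h2 with h2 | h2
  · exact two_ne_zero_of_card hF h2
  · rw [h2] at h
    have : (1 : F) = 0 := by linear_combination h
    exact one_ne_zero this

variable {ι : Type*} [Fintype ι] [DecidableEq ι]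

theorem sub_one_cube (hF : Fintype.card F = 3) (M : Matrix ι ι F) (hM : M ^ 3 = 1) :
    (M - 1) ^ 3 = 0 := by
  have h3 := three_eq_zero hF
  have e : (M - 1) ^ 3 = M ^ 3 - 1 + (3 : F) • (M - M ^ 2) := by
    have : (3 : F) • (M - M ^ 2) = (M - M ^ 2) + (M - M ^ 2) + (M - M ^ 2) := by
      rw [show (3 : F) = 1 + 1 + 1 by norm_num, add_smul, add_smul, one_smul]
    rw [this]
    noncomm_ring
  rw [e, hM, h3, zero_smul, sub_self, add_zero]

/-- a nonzero vector in a subset stable under `M - 1`, with `(M - 1) ^ 3 = 0`, yields a nonzero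
fixed vector there -/
theorem exists_fixed_of_stable (M : Matrix ι ι F) (hM : (M - 1) ^ 3 = 0)
    (P : (ι → F) → Prop) (hP : ∀ u, P u → P ((M - 1) *ᵥ u))
    (u₀ : ι → F) (hu₀ : u₀ ≠ 0) (hPu : P u₀) :
    ∃ u : ι → F, u ≠ 0 ∧ P u ∧ M *ᵥ u = u := by
  have key : ∀ u : ι → F, (M - 1) *ᵥ u = 0 → M *ᵥ u = u := by
    intro u hu
    rw [Matrix.sub_mulVec, Matrix.one_mulVec, sub_eq_zero] at hu
    exact hu
  by_cases h1 : (M - 1) *ᵥ u₀ = 0
  · exact ⟨u₀, hu₀, hPu, key _ h1⟩
  by_cases h2 : (M - 1) *ᵥ ((M - 1) *ᵥ u₀) = 0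
  · exact ⟨_, h1, hP _ hPu, key _ h2⟩
  refine ⟨_, h2, hP _ (hP _ hPu), key _ ?_⟩
  rw [Matrix.mulVec_mulVec, Matrix.mulVec_mulVec, ← pow_two, ← pow_succ]
  rw [show 2 + 1 = 3 from rfl, hM, Matrix.zero_mulVec]

theorem mem_ker_iff (M : Matrix ι ι F) (v : ι → F) :
    v ∈ LinearMap.ker (Matrix.toLin' M - LinearMap.id) ↔ M *ᵥ v = v := by
  rw [LinearMap.mem_ker, LinearMap.sub_apply, Matrix.toLin'_apply, LinearMap.id_apply, sub_eq_zero]

theorem even_finrank_ker (hF : Fintype.card F = 3) (M Y : Matrix ι ι F) (h1 : M * Y * M = Y)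
    (h2 : Y * Y = -1) :
    Even (Module.finrank F ↥(LinearMap.ker (Matrix.toLin' M - LinearMap.id))) := by
  set W := LinearMap.ker (Matrix.toLin' M - LinearMap.id) with hW
  have hinv : ∀ v ∈ W, Matrix.toLin' Y v ∈ W := by
    intro v hv
    rw [hW, mem_ker_iff] at hv ⊢
    rw [Matrix.toLin'_apply]
    conv_lhs => rw [← hv]
    rw [Matrix.mulVec_mulVec, Matrix.mulVec_mulVec, h1]
  let T : W →ₗ[F] W := (Matrix.toLin' Y).restrict hinv
  have hTT : T * T = -1 := by
    ext ⟨v, hv⟩ i
    simp [T, LinearMap.restrict_apply, Matrix.toLin'_apply, Matrix.mulVec_mulVec, h2,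
      Matrix.neg_mulVec]
  have hdet : LinearMap.det T * LinearMap.det T = (-1) ^ Module.finrank F W := by
    rw [← map_mul, hTT]
    have : (-1 : W →ₗ[F] W) = (-1 : F) • LinearMap.id := by ext; simp
    rw [this, LinearMap.det_smul, LinearMap.det_id, mul_one]
  by_contra hodd
  rw [Nat.not_even_iff_odd] at hodd
  rw [hodd.neg_one_pow] at hdet
  exact mul_self_ne_neg_one hF _ hdet

theorem finrank_ker_pos (hF : Fintype.card F = 3) [Nonempty ι] (M : Matrix ι ι F)
    (hM : M ^ 3 = 1) :
    0 < Module.finrank F ↥(LinearMap.ker (Matrix.toLin' M - LinearMap.id)) := by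
  obtain ⟨i⟩ := ‹Nonempty ι›
  have hu₀ : (Pi.single i 1 : ι → F) ≠ 0 := by
    intro h
    have := congrFun h i
    simp at this
  obtain ⟨u, hu, -, hfix⟩ := exists_fixed_of_stable M (sub_one_cube hF M hM) (fun _ => True)
    (fun _ _ => trivial) _ hu₀ trivial
  rw [Module.finrank_pos_iff_exists_ne_zero]
  refine ⟨⟨u, (mem_ker_iff M u).mpr hfix⟩, ?_⟩
  intro h
  exact hu (congrArg Subtype.val h)

theorem finrank_ker_lt (M : Matrix ι ι F) (hM : M ≠ 1) :
    Module.finrank F ↥(LinearMap.ker (Matrix.toLin' M - LinearMap.id)) < Fintype.card ι := by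
  have hne : LinearMap.ker (Matrix.toLin' M - LinearMap.id) ≠ ⊤ := by
    intro h
    apply hM
    apply Matrix.toLin'.injective
    apply LinearMap.ext
    intro v
    have hv : v ∈ LinearMap.ker (Matrix.toLin' M - LinearMap.id) := by rw [h]; trivial
    rw [mem_ker_iff] at hv
    rw [Matrix.toLin'_apply, hv, Matrix.toLin'_one, LinearMap.id_apply]
  have := Submodule.finrank_lt hne
  rwa [Module.finrank_fintype_fun_eq_card (R := F)] at this

end three

end Cfsg.Agent.Helper16.SpFix
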