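import Mathlib

set_option autoImplicit false
set_option linter.style.haveILetI false
set_option linter.unusedSectionVars false

namespace Cfsg.Agent.Helper16.SpFix

open Matrix

section five

variable {F : Type*} [Field F] [Fintype F]

/-- a linear map of order dividing five on a space of dimension at most three over the field
with three elements is the identity -/
theorem eq_one_of_pow_five (hF : Fintype.card F = 3) {V : Type*} [AddCommGroup V] [Module F V]
    [Module.Finite F V] (T : V →ₗ[F] V) (hT : T ^ 5 = 1) (hd : Module.finrank F V < 4) :
    T = 1 := by
  classical
  haveI : Finite V := Module.finite_of_finite F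
  haveI : Fintype V := Fintype.ofFinite V
  haveI : Fact (Nat.Prime 5) := ⟨by norm_num⟩
  let f : Function.End V := fun v => T v
  have hf : f ^ 5 ^ 1 = 1 := by
    rw [pow_one]
    funext v
    show f^[5] v = v
    have : (T ^ 5) v = v := by rw [hT]; rfl
    rw [Module.End.pow_apply] at this
    exact this
  have hmod := Equiv.Perm.card_fixedPoints_modEq (p := 5) (n := 1) hf
  set W := LinearMap.ker (T - 1) with hW
  have hfix : Fintype.card (Function.fixedPoints f) = Nat.card W := by
    rw [← Nat.card_eq_fintype_card]
    apply Nat.card_congr
    exact Equiv.subtypeEquivRight (fun v => by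
      simp [Function.mem_fixedPoints, Function.IsFixedPt, hW, f, sub_eq_zero])
  rw [hfix, ← Nat.card_eq_fintype_card, Module.natCard_eq_pow_finrank (K := F),
    Module.natCard_eq_pow_finrank (K := F) (V := W), Nat.card_eq_fintype_card, hF] at hmod
  have hle : Module.finrank F W ≤ Module.finrank F V := Submodule.finrank_le W
  have heq : Module.finrank F W = Module.finrank F V := by
    generalize Module.finrank F W = e at *
    generalize Module.finrank F V = d at *
    interval_cases d <;> interval_cases e <;> first | rfl | (exfalso; revert hmod; decide)
  have htop : W = ⊤ := Submodule.eq_top_of_finrank_eq heq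
  ext v
  have hv : v ∈ W := by rw [htop]; trivial
  rw [hW, LinearMap.mem_ker, LinearMap.sub_apply, sub_eq_zero] at hv
  exact hv

end five

end Cfsg.Agent.Helper16.SpFix
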