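import Mathlib
import Cfsg.Agent.Lib.Helper16.SpFixA
import Cfsg.Agent.Lib.Helper16.SpFixB
import Cfsg.Agent.Lib.Helper16.SpFixC

set_option autoImplicit false
set_option linter.style.haveILetI false
set_option linter.unusedSectionVars false

namespace Cfsg.Agent.Helper16.SpFix

open Matrix

section central

variable {F : Type*} [Field F] [Fintype F] {ι : Type*} [Fintype ι] [DecidableEq ι]
variable {K : Type*} [Field K] [Fintype K]

/-- in a faithful representation of `SL₂(5)` of degree four over the field with three elements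
the central involution acts as `-1` -/
theorem central_eq_neg_one (hF : Fintype.card F = 3) (hι : Fintype.card ι = 4)
    (hK : Fintype.card K = 5)
    (ρ : Matrix.SpecialLinearGroup (Fin 2) K →* Matrix ι ι F) (hρ : Function.Injective ρ)
    (z : Matrix.SpecialLinearGroup (Fin 2) K) (hz : z.1 = -1) : ρ z = -1 := by
  by_contra hne
  have hzz : z * z = 1 := by
    apply Subtype.ext
    show z.1 * z.1 = 1
    rw [hz]; simp
  have hzc : ∀ h : Matrix.SpecialLinearGroup (Fin 2) K, z * h = h * z := by
    intro h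
    apply Subtype.ext
    show z.1 * h.1 = h.1 * z.1
    rw [hz]; simp
  have hZZ : ρ z * ρ z = 1 := by rw [← map_mul, hzz, map_one]
  have hZc : ∀ h, ρ z * ρ h = ρ h * ρ z := by
    intro h
    rw [← map_mul, ← map_mul, hzc]
  -- the minus eigenspace
  set Vm : Submodule F (ι → F) := LinearMap.ker (Matrix.toLin' (ρ z) + LinearMap.id) with hVm
  have hmem : ∀ v, v ∈ Vm ↔ ρ z *ᵥ v = -v := by
    intro v
    rw [hVm, LinearMap.mem_ker, LinearMap.add_apply, Matrix.toLin'_apply, LinearMap.id_apply,
      add_eq_zero_iff_eq_neg]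
  have hinv : ∀ h, ∀ v ∈ Vm, ρ h *ᵥ v ∈ Vm := by
    intro h v hv
    rw [hmem] at hv ⊢
    rw [Matrix.mulVec_mulVec, hZc, ← Matrix.mulVec_mulVec, hv, Matrix.mulVec_neg]
  have hVtop : Vm ≠ ⊤ := by
    intro htop
    apply hne
    apply Matrix.toLin'.injective
    apply LinearMap.ext
    intro v
    have hv : v ∈ Vm := by rw [htop]; trivial
    rw [hmem] at hv
    rw [Matrix.toLin'_apply, hv, Matrix.toLin'_apply, Matrix.neg_mulVec, Matrix.one_mulVec]
  have hdim : Module.finrank F Vm < 4 := by
    have := Submodule.finrank_lt hVtop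
    rwa [Module.finrank_fintype_fun_eq_card (R := F), hι] at this
  -- the transvection acts trivially on `Vm`
  have hinv' : ∀ v ∈ Vm, Matrix.toLin' (ρ (tv K)) v ∈ Vm := by
    intro v hv
    rw [Matrix.toLin'_apply]
    exact hinv _ v hv
  let T : Vm →ₗ[F] Vm := (Matrix.toLin' (ρ (tv K))).restrict hinv'
  have hT5 : T ^ 5 = 1 := by
    have hpow : ∀ n : ℕ, ∀ v : Vm, ((T ^ n) v : ι → F) = (ρ (tv K)) ^ n *ᵥ (v : ι → F) := by
      intro n
      induction n with
      | zero => intro v; simp
      | succ n ih =>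
        intro v
        rw [pow_succ, Module.End.mul_apply, ih, pow_succ, ← Matrix.mulVec_mulVec]
        simp [T, LinearMap.restrict_apply, Matrix.toLin'_apply]
    ext v : 2
    rw [hpow, ← map_pow, tv_pow_five hK, map_one, Matrix.one_mulVec]
    rfl
  have hT1 : T = 1 := eq_one_of_pow_five hF T hT5 hdim
  have htv : ∀ v ∈ Vm, ρ (tv K) *ᵥ v = v := by
    intro v hv
    have := congrArg (fun S : Vm →ₗ[F] Vm => ((S ⟨v, hv⟩ : Vm) : ι → F)) hT1
    simpa [T, LinearMap.restrict_apply, Matrix.toLin'_apply] using this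
  -- the pointwise stabiliser of `Vm` is a normal subgroup
  let N : Subgroup (Matrix.SpecialLinearGroup (Fin 2) K) :=
    { carrier := {h | ∀ v ∈ Vm, ρ h *ᵥ v = v}
      mul_mem' := by
        intro a b ha hb v hv
        rw [map_mul, ← Matrix.mulVec_mulVec, hb v hv, ha v hv]
      one_mem' := by
        intro v _
        rw [map_one, Matrix.one_mulVec]
      inv_mem' := by
        intro a ha v hv
        have h1 : ρ a⁻¹ *ᵥ (ρ a *ᵥ v) = v := by
          rw [Matrix.mulVec_mulVec, ← map_mul, inv_mul_cancel, map_one, Matrix.one_mulVec]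
        rw [ha v hv] at h1
        exact h1 }
  haveI hN : N.Normal := by
    constructor
    intro a ha b v hv
    have h1 : ρ b⁻¹ *ᵥ v ∈ Vm := hinv _ v hv
    rw [map_mul, map_mul, ← Matrix.mulVec_mulVec, ← Matrix.mulVec_mulVec, ha _ h1,
      Matrix.mulVec_mulVec, ← map_mul, mul_inv_cancel, map_one, Matrix.one_mulVec]
  have hzN : z ∈ N := neg_one_mem_of_normal N htv z hz
  have hVbot : ∀ v ∈ Vm, v = 0 := by
    intro v hv
    have h1 : ρ z *ᵥ v = v := hzN v hv
    have h2 := (hmem v).mp hv
    rw [h1] at h2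
    have h3 : (2 : F) • v = 0 := by
      rw [two_smul]
      nth_rewrite 1 [h2]
      exact neg_add_cancel v
    rcases smul_eq_zero.mp h3 with h | h
    · exact absurd h (two_ne_zero_of_card hF)
    · exact h
  have hZ1 : ρ z = 1 := by
    apply Matrix.toLin'.injective
    apply LinearMap.ext
    intro v
    have hv : ρ z *ᵥ v - v ∈ Vm := by
      rw [hmem, Matrix.mulVec_sub, Matrix.mulVec_mulVec, hZZ, Matrix.one_mulVec]
      abel
    have := hVbot _ hv
    rw [sub_eq_zero] at this
    rw [Matrix.toLin'_apply, this, Matrix.toLin'_one, LinearMap.id_apply]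
  have hz1 : z = 1 := hρ (by rw [hZ1, map_one])
  have h5 : (5 : K) = 0 := by
    have := Nat.cast_card_eq_zero K
    rw [hK] at this
    exact_mod_cast this
  have : (z.1 : Matrix (Fin 2) (Fin 2) K) 0 0 = 1 := by rw [hz1]; simp
  rw [hz] at this
  simp at this
  have h2 : (2 : K) = 0 := by linear_combination -this
  have : (1 : K) = 0 := by linear_combination h5 - 2 * h2
  exact one_ne_zero this

end central

end Cfsg.Agent.Helper16.SpFix
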