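import Mathlib
import Cfsg.Agent.Lib.Helper16.SpFixB

set_option autoImplicit false
set_option linter.style.haveILetI false
set_option linter.unusedSectionVars false

namespace Cfsg.Agent.Helper16.SpFix

open Matrix

section iso

variable {F : Type*} [Field F] [Fintype F] {l : Type*} [Fintype l] [DecidableEq l]

/-- the alternating form -/
def bf (u w : l ⊕ l → F) : F := u ⬝ᵥ (Matrix.J l F *ᵥ w)

theorem bf_add_left (u u' w : l ⊕ l → F) : bf (u + u') w = bf u w + bf u' w := by
  unfold bf; rw [add_dotProduct]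

theorem bf_smul_left (c : F) (u w : l ⊕ l → F) : bf (c • u) w = c * bf u w := by
  unfold bf; rw [smul_dotProduct, smul_eq_mul]

theorem bf_sub_left (u u' w : l ⊕ l → F) : bf (u - u') w = bf u w - bf u' w := by
  unfold bf; rw [sub_dotProduct]

theorem bf_swap (u w : l ⊕ l → F) : bf w u = -bf u w := by
  unfold bf
  rw [dotProduct_mulVec, ← Matrix.mulVec_transpose, Matrix.J_transpose, Matrix.neg_mulVec,
    neg_dotProduct, dotProduct_comm]

theorem bf_self (hF : Fintype.card F = 3) (u : l ⊕ l → F) : bf u u = 0 := by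
  have h := bf_swap u u
  have h2 : (2 : F) * bf u u = 0 := by linear_combination h
  rcases mul_eq_zero.mp h2 with h | h
  · exact absurd h (two_ne_zero_of_card hF)
  · exact h

theorem bf_symp (A : Matrix (l ⊕ l) (l ⊕ l) F) (hA : A ∈ Matrix.symplecticGroup l F)
    (u w : l ⊕ l → F) : bf (A *ᵥ u) (A *ᵥ w) = bf u w := by
  unfold bf
  have h := SymplecticGroup.mem_iff'.mp hA
  rw [← Matrix.vecMul_transpose, ← dotProduct_mulVec, Matrix.mulVec_mulVec, Matrix.mulVec_mulVec,
    h]

/-- a two dimensional fixed space of a symplectic matrix of order dividing three in degree four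
is totally isotropic -/
theorem isotropic_of_finrank_two (hF : Fintype.card F = 3) (hl : Fintype.card (l ⊕ l) = 4)
    (A : Matrix (l ⊕ l) (l ⊕ l) F) (hA : A ∈ Matrix.symplecticGroup l F) (hA3 : A ^ 3 = 1)
    (hdim : Module.finrank F ↥(LinearMap.ker (Matrix.toLin' A - LinearMap.id)) = 2)
    (v w : l ⊕ l → F) (hv : A *ᵥ v = v) (hw : A *ᵥ w = w) : bf v w = 0 := by
  by_contra hvw
  -- the orthogonal complement of `v, w`
  let L : (l ⊕ l → F) →ₗ[F] F × F :=
    { toFun := fun u => (bf u v, bf u w)
      map_add' := by intro a b; simp [bf_add_left]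
      map_smul' := by intro c a; simp [bf_smul_left] }
  have hker : LinearMap.ker L ≠ ⊥ := by
    apply LinearMap.ker_ne_bot_of_finrank_lt
    rw [Module.finrank_fintype_fun_eq_card (R := F), hl, Module.finrank_prod, Module.finrank_self]
    norm_num
  obtain ⟨u₀, hu₀mem, hu₀⟩ := Submodule.exists_mem_ne_zero_of_ne_bot hker
  have hu₀P : bf u₀ v = 0 ∧ bf u₀ w = 0 := by
    rw [LinearMap.mem_ker] at hu₀mem
    have h1 := congrArg Prod.fst hu₀mem
    have h2 := congrArg Prod.snd hu₀mem
    exact ⟨h1, h2⟩
  have hstab : ∀ u : l ⊕ l → F, (bf u v = 0 ∧ bf u w = 0) →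
      (bf ((A - 1) *ᵥ u) v = 0 ∧ bf ((A - 1) *ᵥ u) w = 0) := by
    intro u _
    rw [Matrix.sub_mulVec, Matrix.one_mulVec, bf_sub_left, bf_sub_left]
    constructor
    · nth_rewrite 1 [← hv]
      rw [bf_symp A hA, sub_self]
    · nth_rewrite 1 [← hw]
      rw [bf_symp A hA, sub_self]
  obtain ⟨u, hu, ⟨huv, huw⟩, hfix⟩ := exists_fixed_of_stable A (sub_one_cube hF A hA3)
    (fun u => bf u v = 0 ∧ bf u w = 0) hstab u₀ hu₀ hu₀P
  -- three vectors in a plane
  set W := LinearMap.ker (Matrix.toLin' A - LinearMap.id) with hW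
  let vv : Fin 3 → W := ![⟨v, (mem_ker_iff A v).mpr hv⟩, ⟨w, (mem_ker_iff A w).mpr hw⟩,
    ⟨u, (mem_ker_iff A u).mpr hfix⟩]
  have hnli : ¬ LinearIndependent F vv := by
    intro hli
    have := hli.fintype_card_le_finrank
    rw [hdim] at this
    simp at this
  rw [Fintype.not_linearIndependent_iff] at hnli
  obtain ⟨g, hg, i, hi⟩ := hnli
  have hsum : g 0 • v + g 1 • w + g 2 • u = 0 := by
    have := congrArg (Subtype.val) hg
    simpa [Fin.sum_univ_three, vv] using this
  have h0 : g 0 = 0 := by
    have := congrArg (fun t => bf t w) hsum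
    simp only [bf_add_left, bf_smul_left, huw, bf_self hF w, mul_zero, add_zero] at this
    have hz : bf (0 : l ⊕ l → F) w = 0 := by unfold bf; simp
    rw [hz] at this
    rcases mul_eq_zero.mp this with h | h
    · exact h
    · exact absurd h hvw
  have h1 : g 1 = 0 := by
    have := congrArg (fun t => bf t v) hsum
    simp only [bf_add_left, bf_smul_left, huv, bf_self hF v, mul_zero, add_zero, zero_add] at this
    have hz : bf (0 : l ⊕ l → F) v = 0 := by unfold bf; simp
    rw [hz, bf_swap v w] at this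
    rcases mul_eq_zero.mp this with h | h
    · exact h
    · exact absurd (neg_eq_zero.mp h) hvw
  have h2 : g 2 = 0 := by
    rw [h0, h1, zero_smul, zero_smul, zero_add, zero_add] at hsum
    rcases smul_eq_zero.mp hsum with h | h
    · exact h
    · exact absurd h hu
  fin_cases i
  · exact hi h0
  · exact hi h1
  · exact hi h2

end iso

end Cfsg.Agent.Helper16.SpFix
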