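import Mathlib
import Cfsg.Agent.Lib.Helper16.SpUDefs
import Cfsg.Agent.Lib.Helper6.UniRESTR
import Cfsg.Agent.Lib.Helper18.SYLOBSPLIT
import Cfsg.Agent.Lib.Helper11.SylOSYL
import Cfsg.Agent.Lib.Helper24.SpuGenNA
import Cfsg.Agent.Lib.Helper13.SpUPERM
import Cfsg.Agent.Lib.Helper4.SpUNORMN
import Cfsg.Agent.Lib.Helper19.SPURMEM
import Cfsg.Agent.Lib.Helper25.SpUTOP
import Cfsg.Agent.Lib.Helper5.SpUREV
import Cfsg.Agent.Lib.Helper7.SpUINV
import Cfsg.Agent.Lib.Helper16.SpUNORMB16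

/-!
# S2316: the split data of `Sp_{2m}(q)` for helper6's abstract Steinberg count (helper16, assembly)
-/

set_option autoImplicit false
set_option linter.unusedSectionVars false
set_option linter.unusedVariables false

namespace Cfsg.Agent.Helper16.SpU

open Matrix Cfsg.Agent.Helper6.SpN Cfsg.Agent.Helper13.SpBN Cfsg.Agent.Helper13.SylO
  Cfsg.Agent.Helper6.Uni Cfsg.Agent.Helper2.WordLen Cfsg.Agent.Helper2.BN Cfsg.Agent.Helper17.BNCox

/-! ## Assembly (helper16) -/

section asm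
variable {m : ℕ} {F : Type*} [Field F]

theorem blk_inv_of_blk (A : Set (Fin m)) (π : Equiv.Perm (Fin m ⊕ Fin m))
    (h : ∀ a, blk A a (π a)) (a : Fin m ⊕ Fin m) : blk A a (π⁻¹ a) := by
  have := h (π⁻¹ a)
  have e : π (π⁻¹ a) = a := by simp
  rw [e] at this
  exact blk_symm A this

theorem idxSet_mem {A : Set ↥(spBN m F).S} {i : Fin m} (hi : i ∈ idxSet A) :
    ∃ s ∈ A, (s : symplecticGroup (Fin m) F) = sr i := hi

/-- helper13's `exists_spData` with the subgroups `U`, `T` made explicit (same construction) -/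
theorem exists_spData' (m : ℕ) (hm : 1 ≤ m) (F : Type*) [Field F] [Fintype F] (p : ℕ) [Fact p.Prime]
    [CharP F p] : ∃ D : Data (spBN m F) p, D.U = unipSp m F ∧ D.T = tor m F := by
  have hp : p.Prime := Fact.out
  obtain ⟨k, hk, hq⟩ := FiniteField.card F p
  have hq2 : 2 ≤ Fintype.card F := Fintype.one_lt_card
  refine ⟨{
    U := unipSp m F
    T := tor m F
    n₀ := n0 m F
    hUB := unipSp_le_bor
    hTB := tor_le_bor
    hUn := fun b hb u hu => sp_conj_mem_unipSp hb hu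
    hUp := ?_
    hcard := ?_
    hTp := ?_
    hS := ⟨sr ⟨0, by omega⟩, ⟨⟨0, by omega⟩, rfl⟩⟩
    hs := ?_
    hT := fun x hx => mem_tor_iff_conj x hx
    hn₀ := n0_allDesc }, rfl, rfl⟩
  · apply IsPGroup.of_card (n := (k : ℕ) * m ^ 2)
    rw [card_unipSp, hq, pow_mul]
  · show Nat.card ↥(bor m F) = _
    rw [Cfsg.Agent.Helper7.SpBNCard.card_bor, Cfsg.Agent.Helper7.SpBNCard.card_tor, card_unipSp, mul_comm]
  · rw [Cfsg.Agent.Helper7.SpBNCard.card_tor]
    intro h
    have h1 := hp.dvd_of_dvd_pow h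
    have h2 : p ∣ Fintype.card F := by
      rw [hq]; exact dvd_pow_self p k.ne_zero
    have h3 : p ∣ Fintype.card F - (Fintype.card F - 1) := Nat.dvd_sub h2 h1
    have h4 : Fintype.card F - (Fintype.card F - 1) = 1 := by omega
    rw [h4] at h3
    exact hp.one_lt.ne' (Nat.dvd_one.1 h3)
  · rintro _ ⟨i, rfl⟩
    exact ⟨xr i 1, sp_xr_mem_unipSp i 1, sp_conj_xr_not_mem i⟩

/-- the data of helper6's abstract core for the symplectic group -/
theorem exists_splitData [Fintype F] (p : ℕ) [Fact p.Prime] [CharP F p] (hm : 1 ≤ m) :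
    ∃ S : SplitData (spBN m F) p, S.U = unipSp m F ∧ S.R Finset.univ = ⊥ := by
  classical
  have hfin : Finite (symplecticGroup (Fin m) F) := finite_sp
  obtain ⟨D, hDU, hDT⟩ := exists_spData' m hm F p
  -- the representatives
  have hex : ∀ A : Finset ↥(spBN m F).S, ∃ n ∈ NA (spBN m F) (↑A : Set ↥(spBN m F).S),
      ∀ s ∈ (↑A : Set ↥(spBN m F).S), ∃ b ∈ (spBN m F).B, ∃ b' ∈ (spBN m F).B,
        ∃ b'' ∈ (spBN m F).B, (s : symplecticGroup (Fin m) F) * b * n = b' * n * b'' :=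
    fun A => Cfsg.Agent.Helper24.Spu.exists_nA (spBN m F) _
  choose nn hnn_mem hnn_desc using hex
  -- their permutations
  have hperm : ∀ A : Finset ↥(spBN m F).S, ∃ π : Equiv.Perm (Fin m ⊕ Fin m),
      IsMon (nn A).1 π ∧ ∀ a, blk (idxSet (↑A : Set ↥(spBN m F).S)) a (π a) :=
    fun A => perm_of_mem_NA _ (hnn_mem A)
  choose pp hpp_mon hpp_blk using hperm
  have hinv : ∀ A : Finset ↥(spBN m F).S, ∀ a b, key b = key a + 1 →
      lnk (idxSet (↑A : Set ↥(spBN m F).S)) (key a) → key ((pp A)⁻¹ b) < key ((pp A)⁻¹ a) := by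
    intro A
    apply hinv_of_desc _ _ (fun a => (IsMon.inv' (hpp_mon A)).comm_ng a)
    intro i hi
    obtain ⟨s, hs, hsi⟩ := idxSet_mem hi
    have := hnn_desc A s hs
    rw [hsi] at this
    exact inv_of_desc i (hpp_mon A) this
  -- membership in R
  have hR : ∀ (A : Finset ↥(spBN m F).S) (x : symplecticGroup (Fin m) F), x ∈ unipSp m F →
      ((nn A)⁻¹ * x * nn A ∈ bor m F ↔ BlkId (idxSet (↑A : Set ↥(spBN m F).S)) x) :=
    fun A x hx => mem_R_iff _ (hpp_mon A) (blk_inv_of_blk _ _ (hpp_blk A)) (hinv A) hx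
  -- the subgroups R A
  let RR : Finset ↥(spBN m F).S → Subgroup (symplecticGroup (Fin m) F) := fun A =>
    unipSp m F ⊓ (bor m F).map (MulAut.conj (nn A)).toMonoidHom
  have hRR : ∀ A x, x ∈ RR A ↔ x ∈ unipSp m F ∧ (nn A)⁻¹ * x * nn A ∈ bor m F := by
    intro A x
    show x ∈ unipSp m F ⊓ (bor m F).map (MulAut.conj (nn A)).toMonoidHom ↔ _
    rw [Subgroup.mem_inf, Subgroup.mem_map]
    constructor
    · rintro ⟨h1, y, hy, rfl⟩
      refine ⟨h1, ?_⟩
      have : (nn A)⁻¹ * (MulAut.conj (nn A)).toMonoidHom y * nn A = y := by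
        show (nn A)⁻¹ * (nn A * y * (nn A)⁻¹) * nn A = y
        group
      rw [this]
      exact hy
    · rintro ⟨h1, h2⟩
      refine ⟨h1, (nn A)⁻¹ * x * nn A, h2, ?_⟩
      show nn A * ((nn A)⁻¹ * x * nn A) * (nn A)⁻¹ = x
      group
  have hRR' : ∀ A x, x ∈ RR A ↔ x ∈ bor m F ∧ BlkId (idxSet (↑A : Set ↥(spBN m F).S)) x := by
    intro A x
    rw [hRR]
    constructor
    · rintro ⟨h1, h2⟩
      exact ⟨unipSp_le_bor h1, (hR A x h1).1 h2⟩
    · rintro ⟨h1, h2⟩
      have h3 := mem_unipSp_of_blkId _ h1 h2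
      exact ⟨h3, (hR A x h3).2 h2⟩
  refine ⟨{
    U := unipSp m F
    T := tor m F
    n := nn
    R := RR
    U_le := unipSp_le_bor
    U_norm := fun b hb u hu => sp_conj_mem_unipSp hb hu
    U_pgroup := hDU ▸ D.hUp
    U_index := hDU ▸ not_dvd_index_of_data p D
    T_le := tor_le_bor
    T_conj := ?_
    B_eq := fun b hb => by
      obtain ⟨u, hu, t, ht, h⟩ := D.exists_mul b hb
      exact ⟨u, hDU ▸ hu, t, hDT ▸ ht, h⟩
    n_mem := hnn_mem
    n_desc := fun A s hs => hnn_desc A s hs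
    R_mem := hRR
    R_norm := ?_ }, rfl, ?_⟩
  · intro A t ht
    have hn : (nn A)⁻¹ ∈ mon m F := (mon m F).inv_mem ⟨pp A, hpp_mon A⟩
    have := conj_mem_bor_of_mon hn (t := t) (by rw [← tor_eq_inf]; exact ht)
    rwa [inv_inv] at this
  · intro A
    have hnorm : par (spBN m F) (↑A : Set ↥(spBN m F).S) ≤
        Subgroup.normalizer ((RR A : Subgroup (symplecticGroup (Fin m) F)) : Set (symplecticGroup (Fin m) F)) := by
      unfold par BNPair.parabolic
      apply sup_le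
      · intro b hb
        apply Subgroup.mem_normalizer_fintype
        intro x hx
        rw [SetLike.mem_coe, hRR'] at hx ⊢
        exact ⟨(bor m F).mul_mem ((bor m F).mul_mem hb hx.1) ((bor m F).inv_mem hb),
          blkId_conj_bor_h16 _ hb hx.1 hx.2⟩
      · rw [Subgroup.closure_le]
        rintro _ ⟨s, hs, rfl⟩
        apply Subgroup.mem_normalizer_fintype
        intro x hx
        rw [SetLike.mem_coe, hRR'] at hx ⊢
        obtain ⟨i, hi⟩ := s.2
        have hsA : i ∈ idxSet (↑A : Set ↥(spBN m F).S) := ⟨s, hs, hi.symm⟩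
        have hsn : (s : symplecticGroup (Fin m) F) ∈ NA (spBN m F) (↑A : Set ↥(spBN m F).S) :=
          Subgroup.mem_sup_left (Subgroup.subset_closure ⟨s, hs, rfl⟩)
        obtain ⟨π, hπ, hπb⟩ := perm_of_mem_NA _ hsn
        exact blkId_conj_mon _ hπ hπb hx.1 hx.2
    intro g hg x hx
    exact ((Subgroup.mem_normalizer_iff.1 (hnorm hg)) x).1 hx
  · -- R univ = ⊥
    rw [eq_bot_iff]
    intro x hx
    rw [hRR'] at hx
    rw [Subgroup.mem_bot]
    have huniv : idxSet (↑(Finset.univ : Finset ↥(spBN m F).S) : Set ↥(spBN m F).S) = Set.univ := by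
      ext i
      simp only [Set.mem_univ, iff_true]
      exact ⟨⟨sr i, ⟨i, rfl⟩⟩, by simp, rfl⟩
    rw [huniv] at hx
    apply Subtype.ext
    ext c d
    rw [hx.2 c d (blk_univ c d)]
    rfl

end asm

end Cfsg.Agent.Helper16.SpU
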