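import Mathlib
import Cfsg.Agent.Lib.Helper16.SpUAsm

/-!
# S2316: the count of the `p`-elements of `Sp_{2m}(q)` from helper6's abstract Steinberg count (helper16)

`count_sp_core` takes the statement of `Cfsg.Agent.Helper6.Uni.SplitData.npe_par` (UNI-ASM) for the split data of
`spBN m F` as a hypothesis.
-/

set_option autoImplicit false
set_option linter.unusedSectionVars false
set_option linter.unusedVariables false

namespace Cfsg.Agent.Helper16.SpU

open Matrix Cfsg.Agent.Helper13.SpBN Cfsg.Agent.Helper13.SylO Cfsg.Agent.Helper6.Uni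
  Cfsg.Agent.Helper17.BNCox

theorem count_sp_core {F : Type*} [Field F] [Fintype F] (p : ℕ) [Fact p.Prime] [CharP F p] (m : ℕ)
    (hnpe : ∀ (D : SplitData (spBN m F) p) (A : Finset ↥(spBN m F).S),
      npe p (par (spBN m F) (↑A : Set ↥(spBN m F).S)) * Nat.card (D.R A) = Nat.card D.U ^ 2) :
    Nat.card {g : ↥(Matrix.symplecticGroup (Fin m) F) // ∃ k : ℕ, orderOf g = p ^ k} =
      Fintype.card F ^ (2 * m ^ 2) := by
  rcases Nat.eq_zero_or_pos m with h0 | hm
  · subst h0
    have hsub : Subsingleton ↥(Matrix.symplecticGroup (Fin 0) F) :=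
      ⟨fun a b => Subtype.ext (Subsingleton.elim _ _)⟩
    have : Unique {g : ↥(Matrix.symplecticGroup (Fin 0) F) // ∃ k : ℕ, orderOf g = p ^ k} :=
      { default := ⟨1, 0, by simp⟩
        uniq := fun g => Subtype.ext (Subsingleton.elim _ _) }
    rw [Nat.card_unique]
    simp
  · have hfin : Finite (symplecticGroup (Fin m) F) := finite_sp
    obtain ⟨S, hSU, hSR⟩ := exists_splitData (m := m) (F := F) p hm
    have h := hnpe S (Finset.univ : Finset ↥(spBN m F).S)
    rw [hSR, hSU, card_unipSp] at h
    have h1 : Nat.card ↥(⊥ : Subgroup (symplecticGroup (Fin m) F)) = 1 := Subgroup.card_bot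
    rw [h1, mul_one] at h
    have h2 : par (spBN m F) (↑(Finset.univ : Finset ↥(spBN m F).S) : Set ↥(spBN m F).S) = ⊤ := by
      rw [Finset.coe_univ]
      exact par_univ_eq_top _
    rw [h2, npe_top] at h
    rw [h, ← pow_mul]
    congr 1
    ring

end Cfsg.Agent.Helper16.SpU
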