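import Mathlib
import Cfsg.Agent.Lib.Helper16.SpUDefs

/-!
S2316, PIECE SPU-NORMB (helper16's insurance copy): `B` normalises the set of upper triangular matrices with
identity diagonal blocks.
-/

set_option autoImplicit false
set_option linter.unusedSectionVars false
set_option linter.unusedVariables false

namespace Cfsg.Agent.Helper16.SpU

open Matrix Cfsg.Agent.Helper6.SpN Cfsg.Agent.Helper13.SpBN

section sp
variable {m : ℕ} {F : Type*} [Field F]

theorem spu_normb16_key_inj {a b : Fin m ⊕ Fin m} (h : key a = key b) : a = b := by
  exact key_injective h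

theorem blkId_conj_bor_h16 (A : Set (Fin m)) {b x : symplecticGroup (Fin m) F} (hb : b ∈ bor m F)
    (hx : x ∈ bor m F) (hx' : BlkId A x) : BlkId A (b * x * b⁻¹) := by
  intro c d hcd
  have hbi : b⁻¹ ∈ bor m F := (bor m F).inv_mem hb
  have e1 : (b * x * b⁻¹).1 = b.1 * x.1 * (b⁻¹ : symplecticGroup (Fin m) F).1 := rfl
  have e2 : b.1 * x.1 * (b⁻¹ : symplecticGroup (Fin m) F).1 =
      1 + b.1 * (x.1 - 1) * (b⁻¹ : symplecticGroup (Fin m) F).1 := by
    rw [mul_sub, sub_mul, mul_one, mul_inv_val]
    abel
  rw [e1, e2, Matrix.add_apply]
  have h0 : (b.1 * (x.1 - 1) * (b⁻¹ : symplecticGroup (Fin m) F).1) c d = 0 := by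
    rw [Matrix.mul_apply]
    apply Finset.sum_eq_zero
    intro f _
    by_cases hf : key d < key f
    · rw [hbi f d hf, mul_zero]
    · rw [Matrix.mul_apply]
      have : ∑ e, b.1 c e * (x.1 - 1) e f = 0 := by
        apply Finset.sum_eq_zero
        intro e _
        by_cases he : key e < key c
        · rw [hb c e he, zero_mul]
        · -- key c ≤ key e, key f ≤ key d
          rw [Matrix.sub_apply]
          by_cases hef : key e ≤ key f
          · have hb' : blk A e f := blk_of_between A hcd (by omega) hef (by omega)
            rw [hx' e f hb', sub_self, mul_zero]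
          · have hne : e ≠ f := by
              intro h
              rw [h] at hef
              exact hef le_rfl
            rw [hx e f (by omega), Matrix.one_apply_ne hne, sub_zero, mul_zero]
      rw [this, zero_mul]
  rw [h0, add_zero]

end sp

end Cfsg.Agent.Helper16.SpU
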