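import Mathlib
import Cfsg.Agent.Lib.Helper27.SyDefs

/-!
# S1774, piece SY-A (helper16): facts inside `Q`
-/

set_option autoImplicit false
set_option linter.unusedVariables false

namespace Cfsg.Agent.Helper27.Sy

variable {G : Type*} [Group G]

section A
variable {z a x0 : G} {Q : Subgroup G}

theorem sya_z_inv (h : Side z Q) : z⁻¹ = z := by
  have := h.zz
  exact inv_eq_of_mul_eq_one_left this

/-- `a ∈ Q` an involution `≠ z` is not central in `Q`, so some `x0 ∈ Q` moves it to `z * a`. -/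
theorem Side.exists_x0 (h : Side z Q) (haQ : a ∈ Q) (haa : a * a = 1) (ha1 : a ≠ 1)
    (haz : a ≠ z) : ∃ x0 ∈ Q, x0 * a * x0⁻¹ = z * a := by
  by_contra hcon
  push Not at hcon
  have hc : ∀ x ∈ Q, a * x = x * a := by
    intro x hx
    rcases h.comm x hx a haQ with h1 | h1
    · exact h1.symm
    · exfalso
      apply hcon x hx
      rw [h1]
      group
  rcases h.inv1 a haQ hc haa with h1 | h1
  · exact ha1 h1
  · exact haz h1

theorem sya_x0a (h : Side z Q) (hx0 : x0 ∈ Q) (hx0a : x0 * a * x0⁻¹ = z * a) :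
    x0 * a = z * a * x0 := by
  rw [← hx0a]; group

theorem sya_a_x0 (h : Side z Q) (hx0 : x0 ∈ Q) (hx0a : x0 * a * x0⁻¹ = z * a) :
    a * x0 = z * (x0 * a) := by
  rw [sya_x0a h hx0 hx0a]
  have := h.zz
  calc a * x0 = (z * z) * a * x0 := by rw [this, one_mul]
    _ = z * (z * a * x0) := by group

theorem sya_x0inv_a (h : Side z Q) (hx0 : x0 ∈ Q) (hx0a : x0 * a * x0⁻¹ = z * a) :
    x0⁻¹ * a = z * a * x0⁻¹ := by
  have h1 := sya_a_x0 h hx0 hx0a
  have h2 := h.cen x0 hx0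
  -- a * x0 = z * x0 * a  ⇒ x0⁻¹ * a = x0⁻¹ * (a * x0) * x0⁻¹ = x0⁻¹ * z * x0 * a * x0⁻¹
  calc x0⁻¹ * a = x0⁻¹ * (a * x0) * x0⁻¹ := by group
    _ = x0⁻¹ * (z * (x0 * a)) * x0⁻¹ := by rw [h1]
    _ = x0⁻¹ * (z * x0) * a * x0⁻¹ := by group
    _ = x0⁻¹ * (x0 * z) * a * x0⁻¹ := by rw [h2]
    _ = z * a * x0⁻¹ := by group

/-- `Q = D ∪ x0 D` where `D = C_Q(a)`. -/
theorem Side.coset (h : Side z Q) (haQ : a ∈ Q) (hx0 : x0 ∈ Q) (hx0a : x0 * a * x0⁻¹ = z * a) :
    ∀ x ∈ Q, x * a = a * x ∨ (x0⁻¹ * x) * a = a * (x0⁻¹ * x) := by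
  intro x hx
  rcases h.comm x hx a haQ with h1 | h1
  · exact Or.inl h1
  · right
    have h2 := sya_x0inv_a h hx0 hx0a
    have h3 := h.cen (x0⁻¹) (Q.inv_mem hx0)
    calc x0⁻¹ * x * a = x0⁻¹ * (x * a) := by group
      _ = x0⁻¹ * (z * (a * x)) := by rw [h1]
      _ = (x0⁻¹ * z) * a * x := by group
      _ = (z * x0⁻¹) * a * x := by rw [h3]
      _ = z * (x0⁻¹ * a) * x := by group
      _ = z * (z * a * x0⁻¹) * x := by rw [h2]
      _ = (z * z) * a * (x0⁻¹ * x) := by group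
      _ = a * (x0⁻¹ * x) := by rw [h.zz, one_mul]

/-- `C_Q(D) = Z(Q)⟨a⟩`. -/
theorem Side.cent_D (h : Side z Q) (haQ : a ∈ Q) (hx0 : x0 ∈ Q) (hx0a : x0 * a * x0⁻¹ = z * a)
    {x : G} (hx : x ∈ Q) (hxD : ∀ d ∈ Q, d * a = a * d → x * d = d * x) :
    (∀ y ∈ Q, x * y = y * x) ∨ (∀ y ∈ Q, (x * a) * y = y * (x * a)) := by
  rcases h.comm x hx x0 hx0 with h1 | h1
  · left
    intro y hy
    rcases Side.coset h haQ hx0 hx0a y hy with h2 | h2
    · exact hxD y hy h2
    · have h3 := hxD (x0⁻¹ * y) (Q.mul_mem (Q.inv_mem hx0) hy) h2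
      have h4 : x * x0⁻¹ = x0⁻¹ * x := by
        calc x * x0⁻¹ = x0⁻¹ * (x0 * x) * x0⁻¹ := by group
          _ = x0⁻¹ * (x * x0) * x0⁻¹ := by rw [h1]
          _ = x0⁻¹ * x := by group
      calc x * y = x0 * (x0⁻¹ * x) * y := by group
        _ = x0 * (x * x0⁻¹) * y := by rw [h4]
        _ = x0 * (x * (x0⁻¹ * y)) := by group
        _ = x0 * ((x0⁻¹ * y) * x) := by rw [h3]
        _ = y * x := by group
  · right
    have hxa : x * a = a * x := hxD a haQ rfl
    have hax0 := sya_a_x0 h hx0 hx0a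
    have hzx := h.cen x hx
    have hx0c : (x * a) * x0 = x0 * (x * a) := by
      calc x * a * x0 = x * (a * x0) := by group
        _ = x * (z * (x0 * a)) := by rw [hax0]
        _ = (x * z) * x0 * a := by group
        _ = (z * x) * x0 * a := by rw [hzx]
        _ = z * (x * x0) * a := by group
        _ = z * (z * (x0 * x)) * a := by rw [h1]
        _ = (z * z) * (x0 * (x * a)) := by group
        _ = x0 * (x * a) := by rw [h.zz, one_mul]
    have hD : ∀ d ∈ Q, d * a = a * d → (x * a) * d = d * (x * a) := by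
      intro d hd hda
      calc x * a * d = x * (a * d) := by group
        _ = x * (d * a) := by rw [hda]
        _ = (x * d) * a := by group
        _ = (d * x) * a := by rw [hxD d hd hda]
        _ = d * (x * a) := by group
    intro y hy
    rcases Side.coset h haQ hx0 hx0a y hy with h2 | h2
    · exact hD y hy h2
    · have h3 := hD (x0⁻¹ * y) (Q.mul_mem (Q.inv_mem hx0) hy) h2
      calc x * a * y = (x * a * x0) * (x0⁻¹ * y) := by group
        _ = (x0 * (x * a)) * (x0⁻¹ * y) := by rw [hx0c]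
        _ = x0 * ((x * a) * (x0⁻¹ * y)) := by group
        _ = x0 * ((x0⁻¹ * y) * (x * a)) := by rw [h3]
        _ = y * (x * a) := by group

/-- the involutions of `C_Q(D)` are `z, a, z * a`. -/
theorem Side.inv_cent_D (h : Side z Q) (haQ : a ∈ Q) (haa : a * a = 1) (hx0 : x0 ∈ Q)
    (hx0a : x0 * a * x0⁻¹ = z * a)
    {x : G} (hx : x ∈ Q) (hxD : ∀ d ∈ Q, d * a = a * d → x * d = d * x) (hxx : x * x = 1) :
    x = 1 ∨ x = z ∨ x = a ∨ x = z * a := by
  have hainv : a⁻¹ = a := inv_eq_of_mul_eq_one_left haa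
  rcases Side.cent_D h haQ hx0 hx0a hx hxD with h1 | h1
  · rcases h.inv1 x hx h1 hxx with h2 | h2
    · exact Or.inl h2
    · exact Or.inr (Or.inl h2)
  · have hxa : x * a = a * x := hxD a haQ rfl
    have hsq : (x * a) * (x * a) = 1 := by
      calc x * a * (x * a) = x * (a * x) * a := by group
        _ = x * (x * a) * a := by rw [hxa]
        _ = (x * x) * (a * a) := by group
        _ = 1 := by rw [hxx, haa, one_mul]
    rcases h.inv1 (x * a) (Q.mul_mem hx haQ) h1 hsq with h2 | h2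
    · right; right; left
      calc x = (x * a) * a⁻¹ := by group
        _ = a := by rw [h2, one_mul, hainv]
    · right; right; right
      calc x = (x * a) * a⁻¹ := by group
        _ = z * a := by rw [h2, hainv]

/-- packaging. -/
theorem Cfg.exists_cfg1 {Qa : Subgroup G} (h : Cfg z a Q Qa) : ∃ x0 : G, Cfg1 z a Q Qa x0 := by
  obtain ⟨x0, hx0, hx0a⟩ := Side.exists_x0 h.S h.aQ h.Sa.zz h.Sa.z1 h.ne
  exact ⟨x0, { toCfg := h
               x0Q := hx0
               x0a := hx0a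
               coset := Side.coset h.S h.aQ hx0 hx0a
               invD := fun x hx hxD hxx => Side.inv_cent_D h.S h.aQ h.Sa.zz hx0 hx0a hx hxD hxx }⟩
end A

end Cfsg.Agent.Helper27.Sy
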