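import Mathlib

set_option autoImplicit false

/-!
Piece P1 of S6000 (for helper17): a finite 2-group of exponent 4 whose centre has order 4 and all of
whose characteristic abelian subgroups are cyclic has class at most 2.
-/

namespace Cfsg.Agent.Helper16.Sym4P1

open scoped commutatorElement


variable {G : Type*} [Group G]

/-- If `C` is normal and `C ⊓ Z₂(G) ≤ Z(G)`, then `C ⊓ Zₙ(G) ≤ Z(G)` for every `n`. -/
theorem inf_upperCentralSeries_le (C : Subgroup G) [C.Normal]
    (h : C ⊓ Subgroup.upperCentralSeries G 2 ≤ Subgroup.center G) :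
    ∀ n : ℕ, C ⊓ Subgroup.upperCentralSeries G n ≤ Subgroup.center G := by
  intro n
  induction n with
  | zero =>
    rw [Subgroup.upperCentralSeries_zero]
    exact inf_le_right.trans bot_le
  | succ n ih =>
    intro x hx
    apply h
    refine ⟨hx.1, ?_⟩
    show x ∈ Subgroup.upperCentralSeries G (1 + 1)
    rw [Subgroup.mem_upperCentralSeries_succ_iff]
    intro y
    rw [Subgroup.upperCentralSeries_one]
    apply ih
    refine ⟨?_, (Subgroup.mem_upperCentralSeries_succ_iff.mp hx.2) y⟩
    -- ⁅x, y⁆ = x * (y * x⁻¹ * y⁻¹) ∈ C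
    have : ⁅x, y⁆ = x * (y * x⁻¹ * y⁻¹) := by
      rw [commutatorElement_def]; group
    rw [this]
    exact C.mul_mem hx.1 (Subgroup.Normal.conj_mem inferInstance _ (C.inv_mem hx.1) y)

theorem commutator_le_center_of_char_cyclic [Finite G] (hG : IsPGroup 2 G)
    (hchar : ∀ A : Subgroup G, A.Characteristic → IsMulCommutative A → IsCyclic A)
    (hexp : Monoid.exponent G = 4) (hZ : Nat.card (Subgroup.center G) = 4) :
    commutator G ≤ Subgroup.center G := by
  set Z2 : Subgroup G := Subgroup.upperCentralSeries G 2 with hZ2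
  set C : Subgroup G := Subgroup.centralizer (Z2 : Set G) with hC
  have hCchar : C.Characteristic := inferInstance
  have hCn : C.Normal := inferInstance
  set K : Subgroup G := C ⊓ Z2 with hK
  have hKchar : K.Characteristic := inferInstance
  have hKcomm : IsMulCommutative K := by
    refine ⟨⟨fun a b => Subtype.ext ?_⟩⟩
    have ha : (a : G) ∈ C := a.2.1
    have hb : (b : G) ∈ Z2 := b.2.2
    rw [hC, Subgroup.mem_centralizer_iff] at ha
    exact (ha _ hb).symm
  have hKcyc : IsCyclic K := hchar K hKchar hKcomm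
  -- |K| divides 4
  have hKexp : Monoid.exponent K ∣ 4 := by
    apply Monoid.exponent_dvd_of_forall_pow_eq_one
    intro k
    apply Subtype.ext
    have := Monoid.pow_exponent_eq_one (k : G)
    rw [hexp] at this
    simpa using this
  have hKcard : Nat.card K ∣ 4 := by
    rw [← IsCyclic.exponent_eq_card]
    exact hKexp
  -- Z ≤ K
  have hZ1 : Subgroup.center G ≤ Z2 := by
    rw [hZ2, ← Subgroup.upperCentralSeries_one]
    exact Subgroup.upperCentralSeries_mono G (by norm_num)
  have hZC : Subgroup.center G ≤ C := by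
    rw [hC]
    exact Subgroup.center_le_centralizer _
  have hZK : Subgroup.center G ≤ K := le_inf hZC hZ1
  have hKZ : K = Subgroup.center G := by
    symm
    apply Subgroup.eq_of_le_of_card_ge hZK
    rw [hZ]
    exact Nat.le_of_dvd (by norm_num) hKcard
  -- C ≤ Z
  have hnil : Group.IsNilpotent G := hG.isNilpotent
  have hCZ : C ≤ Subgroup.center G := by
    obtain ⟨n, hn⟩ := Group.IsNilpotent.nilpotent (G := G)
    have := inf_upperCentralSeries_le C (hKZ.le) n
    rwa [hn, inf_top_eq] at this
  -- three subgroups lemma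
  have hZ2G : ⁅Z2, (⊤ : Subgroup G)⁆ ≤ Subgroup.center G := by
    rw [Subgroup.commutator_le]
    intro x hx y _
    have := (Subgroup.mem_upperCentralSeries_succ_iff.mp hx) y
    rwa [Subgroup.upperCentralSeries_one] at this
  have h1 : ⁅⁅Z2, (⊤ : Subgroup G)⁆, (⊤ : Subgroup G)⁆ = ⊥ := by
    rw [Subgroup.commutator_eq_bot_iff_le_centralizer, Subgroup.coe_top, Subgroup.centralizer_univ]
    exact hZ2G
  have h2 : ⁅⁅(⊤ : Subgroup G), Z2⁆, (⊤ : Subgroup G)⁆ = ⊥ := by
    rw [Subgroup.commutator_comm ⊤ Z2]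
    exact h1
  have h3 : ⁅⁅(⊤ : Subgroup G), (⊤ : Subgroup G)⁆, Z2⁆ = ⊥ :=
    Subgroup.commutator_commutator_eq_bot_of_rotate h2 h1
  rw [Subgroup.commutator_eq_bot_iff_le_centralizer] at h3
  exact (h3 : commutator G ≤ C).trans hCZ

end Cfsg.Agent.Helper16.Sym4P1
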