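import Mathlib
import Cfsg.Agent.Lib.Helper17.Sym4Defs

/-!
# Piece Q1 of S6000 (helper16 for helper17): explicit elements of `SL₄(F)`
-/

set_option autoImplicit false

namespace Cfsg.Agent.Helper16.Sym4Q1

open Matrix

variable {F : Type*} [Field F]

/-! ### an element of order 3 -/

theorem exists_x3 (h3 : (3 : F) ≠ 0) (ω : F) (hω : ω ^ 2 + ω + 1 = 0) :
    ∃ x : GL (Fin 4) F, x ∈ Cfsg.Geo.specialLinear (Fin 4) F ∧ x ^ 3 = 1 ∧
      (∀ z : F, (x : Matrix (Fin 4) (Fin 4) F) ≠ z • (1 : Matrix (Fin 4) (Fin 4) F)) ∧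
      (x : Matrix (Fin 4) (Fin 4) F).trace *
        ((x⁻¹ : GL (Fin 4) F) : Matrix (Fin 4) (Fin 4) F).trace = 7 := by
  have hω3 : ω ^ 3 = 1 := by linear_combination (ω - 1) * hω
  have hω1 : ω ≠ 1 := by
    rintro rfl
    apply h3
    linear_combination hω
  set M : Matrix (Fin 4) (Fin 4) F := Matrix.diagonal ![ω, ω, ω, 1] with hM
  set Mi : Matrix (Fin 4) (Fin 4) F := Matrix.diagonal ![ω ^ 2, ω ^ 2, ω ^ 2, 1] with hMi
  have h1 : M * Mi = 1 := by
    rw [hM, hMi, Matrix.diagonal_mul_diagonal, ← Matrix.diagonal_one]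
    congr 1
    ext a
    fin_cases a <;> simp <;> linear_combination hω3
  have h2 : Mi * M = 1 := by
    rw [hM, hMi, Matrix.diagonal_mul_diagonal, ← Matrix.diagonal_one]
    congr 1
    ext a
    fin_cases a <;> simp <;> linear_combination hω3
  refine ⟨⟨M, Mi, h1, h2⟩, ?_, ?_, ?_, ?_⟩
  · rw [Cfsg.Geo.specialLinear, MonoidHom.mem_ker]
    apply Units.ext
    show M.det = 1
    rw [hM, Matrix.det_diagonal, Fin.prod_univ_four]
    simp
    linear_combination hω3
  · apply Units.ext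
    show M ^ 3 = 1
    rw [hM, Matrix.diagonal_pow, ← Matrix.diagonal_one]
    congr 1
    ext a
    fin_cases a <;> simp [hω3]
  · intro z hz
    have hz' : M = z • (1 : Matrix (Fin 4) (Fin 4) F) := hz
    have e0 := congrFun (congrFun hz' 0) 0
    have e3 := congrFun (congrFun hz' 3) 3
    simp [hM] at e0 e3
    exact hω1 (e0.trans e3.symm)
  · show M.trace * Mi.trace = 7
    rw [hM, hMi, Matrix.trace_diagonal, Matrix.trace_diagonal, Fin.sum_univ_four,
      Fin.sum_univ_four]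
    simp
    linear_combination (9 : F) * hω3 + 3 * hω

/-! ### an element of order 5 -/

theorem exists_x5 (τ : F) (hτ : τ ^ 2 + τ - 1 = 0) :
    ∃ x : GL (Fin 4) F, x ∈ Cfsg.Geo.specialLinear (Fin 4) F ∧ x ^ 5 = 1 ∧
      (∀ z : F, (x : Matrix (Fin 4) (Fin 4) F) ≠ z • (1 : Matrix (Fin 4) (Fin 4) F)) ∧
      (x : Matrix (Fin 4) (Fin 4) F).trace *
        ((x⁻¹ : GL (Fin 4) F) : Matrix (Fin 4) (Fin 4) F).trace = 4 * τ ^ 2 := by
  set M : Matrix (Fin 4) (Fin 4) F := !![0, -1, 0, 0; 1, τ, 0, 0; 0, 0, 0, -1; 0, 0, 1, τ] with hM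
  set Mi : Matrix (Fin 4) (Fin 4) F := !![τ, 1, 0, 0; -1, 0, 0, 0; 0, 0, τ, 1; 0, 0, -1, 0] with hMi
  have h1 : M * Mi = 1 := by
    ext a b
    fin_cases a <;> fin_cases b <;> simp [hM, hMi, Matrix.mul_apply, Fin.sum_univ_four]
  have h2 : Mi * M = 1 := by
    ext a b
    fin_cases a <;> fin_cases b <;> simp [hM, hMi, Matrix.mul_apply, Fin.sum_univ_four]
  have hsq : M * M = τ • M - 1 := by
    ext a b
    fin_cases a <;> fin_cases b <;> simp [hM, Matrix.mul_apply, Fin.sum_univ_four] <;> ring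
  have h3' : M * M * M = (τ ^ 2 - 1) • M - τ • (1 : Matrix (Fin 4) (Fin 4) F) := by
    rw [hsq, sub_mul, smul_mul_assoc, hsq, one_mul]
    module
  have h5' : M ^ 5 = (τ ^ 4 - 3 * τ ^ 2 + 1) • M + (2 * τ - τ ^ 3) • (1 : Matrix (Fin 4) (Fin 4) F) := by
    have : M ^ 5 = M * M * M * (M * M) := by noncomm_ring
    rw [this, h3', hsq]
    simp only [sub_mul, mul_sub, smul_mul_assoc, mul_smul_comm, hsq, one_mul, mul_one]
    module
  have c1 : τ ^ 4 - 3 * τ ^ 2 + 1 = 0 := by linear_combination (τ ^ 2 - τ - 1) * hτ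
  have c0 : 2 * τ - τ ^ 3 = 1 := by linear_combination (-(τ - 1)) * hτ
  refine ⟨⟨M, Mi, h1, h2⟩, ?_, ?_, ?_, ?_⟩
  · rw [Cfsg.Geo.specialLinear, MonoidHom.mem_ker]
    apply Units.ext
    show M.det = 1
    rw [hM, Matrix.det_succ_row_zero]
    simp [Fin.sum_univ_succ, Matrix.det_fin_three, Fin.succAbove, Matrix.submatrix]
  · apply Units.ext
    show M ^ 5 = 1
    rw [h5', c1, c0, zero_smul, one_smul, zero_add]
  · intro z hz
    have hz' : M = z • (1 : Matrix (Fin 4) (Fin 4) F) := hz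
    have e01 := congrFun (congrFun hz' 0) 1
    simp [hM] at e01
  · show M.trace * Mi.trace = 4 * τ ^ 2
    rw [hM, hMi, Matrix.trace, Matrix.trace, Fin.sum_univ_four, Fin.sum_univ_four]
    simp
    ring

/-! ### a transvection -/

theorem exists_transvection {p : ℕ} [Fact p.Prime] [CharP F p] :
    ∃ x : GL (Fin 4) F, x ∈ Cfsg.Geo.specialLinear (Fin 4) F ∧ x ^ p = 1 ∧
      (∀ z : F, (x : Matrix (Fin 4) (Fin 4) F) ≠ z • (1 : Matrix (Fin 4) (Fin 4) F)) ∧
      3 ≤ Module.finrank F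
        (Module.End.eigenspace (Matrix.toLin' (x : Matrix (Fin 4) (Fin 4) F)) 1) := by
  set N : Matrix (Fin 4) (Fin 4) F := !![0, 1, 0, 0; 0, 0, 0, 0; 0, 0, 0, 0; 0, 0, 0, 0] with hN
  have hNN : N * N = 0 := by
    ext a b
    fin_cases a <;> fin_cases b <;> simp [hN, Matrix.mul_apply, Fin.sum_univ_four]
  set M : Matrix (Fin 4) (Fin 4) F := 1 + N with hM
  set Mi : Matrix (Fin 4) (Fin 4) F := 1 - N with hMi
  have h1 : M * Mi = 1 := by
    rw [hM, hMi]
    simp only [add_mul, mul_sub, hNN, one_mul, mul_one]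
    abel
  have h2 : Mi * M = 1 := by
    rw [hM, hMi]
    simp only [sub_mul, mul_add, hNN, one_mul, mul_one]
    abel
  have hpow : ∀ k : ℕ, M ^ k = 1 + (k : F) • N := by
    intro k
    induction k with
    | zero => simp
    | succ k ih =>
      rw [pow_succ, ih, hM]
      simp only [add_mul, mul_add, smul_mul_assoc, hNN, one_mul, mul_one, smul_zero, add_zero]
      push_cast
      module
  refine ⟨⟨M, Mi, h1, h2⟩, ?_, ?_, ?_, ?_⟩
  · rw [Cfsg.Geo.specialLinear, MonoidHom.mem_ker]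
    apply Units.ext
    show M.det = 1
    have hut : M.BlockTriangular id := by
      intro a b hab
      have hab' : b < a := hab
      fin_cases a <;> fin_cases b <;> simp [hM, hN] at hab' ⊢
    rw [Matrix.det_of_isUpperTriangular hut, Fin.prod_univ_four]
    simp [hM, hN]
  · apply Units.ext
    show M ^ p = 1
    rw [hpow, CharP.cast_eq_zero F p, zero_smul, add_zero]
  · intro z hz
    have hz' : M = z • (1 : Matrix (Fin 4) (Fin 4) F) := hz
    have e01 := congrFun (congrFun hz' 0) 1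
    simp [hM, hN] at e01
  · show 3 ≤ Module.finrank F (Module.End.eigenspace (Matrix.toLin' M) 1)
    set φ : (Fin 4 → F) →ₗ[F] F := LinearMap.proj (1 : Fin 4) with hφ
    have hle : LinearMap.ker φ ≤ Module.End.eigenspace (Matrix.toLin' M) 1 := by
      intro v hv
      rw [LinearMap.mem_ker] at hv
      have hv1 : v 1 = 0 := hv
      rw [Module.End.mem_eigenspace_iff, one_smul, Matrix.toLin'_apply]
      ext a
      fin_cases a <;> simp [hM, hN, Matrix.mulVec, dotProduct, Fin.sum_univ_four, hv1,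
        Matrix.add_apply]
    have hrk := φ.finrank_range_add_finrank_ker
    rw [Module.finrank_fin_fun] at hrk
    have hr1 : Module.finrank F (LinearMap.range φ) ≤ 1 := by
      have := Submodule.finrank_le (LinearMap.range φ)
      rwa [Module.finrank_self] at this
    have hker : 3 ≤ Module.finrank F (LinearMap.ker φ) := by omega
    exact hker.trans (Submodule.finrank_mono hle)

end Cfsg.Agent.Helper16.Sym4Q1
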