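import Mathlib
import Cfsg.Agent.Lib.Helper17.Sym4Defs
import Cfsg.Agent.Lib.Helper12.Sym4E
import Cfsg.Agent.Lib.Helper13.SemisimpleCharpoly

/-!
# Piece Q3 (`two`) of S6000 (helper16 for helper17)
-/

set_option autoImplicit false

namespace Cfsg.Agent.Helper16.Sym4Q3two

open Matrix Polynomial Cfsg.Agent.Helper17.Sym4 Cfsg.Agent.Helper13.SS

variable {F : Type*} [Field F]

/-- scalars normalise everything -/
theorem sc_mem_normalizer (R : Subgroup (GL (Fin 4) F)) (c : Fˣ) :
    sc c ∈ Subgroup.normalizer (R : Set (GL (Fin 4) F)) := by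
  have hcomm : ∀ h : GL (Fin 4) F, sc c * h * (sc c)⁻¹ = h := by
    intro h
    have : sc c * h = h * sc c := by
      apply Units.ext
      simp only [Units.val_mul, sc_val, Matrix.mul_smul, Matrix.mul_one, Matrix.smul_mul,
        Matrix.one_mul]
    rw [this, mul_assoc, mul_inv_cancel, mul_one]
  rw [Subgroup.mem_normalizer_iff]
  intro h
  rw [hcomm h]

/-- the endomorphism attached to a matrix -/
noncomputable abbrev φ : Matrix (Fin 4) (Fin 4) F ≃ₐ[F] Module.End F (Fin 4 → F) :=
  Matrix.toLinAlgEquiv' (R := F) (n := Fin 4)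

theorem aeval_φ (M : Matrix (Fin 4) (Fin 4) F) (P : F[X]) :
    aeval (φ M) P = φ (aeval M P) :=
  Polynomial.aeval_algHom_apply (φ : Matrix (Fin 4) (Fin 4) F ≃ₐ[F] _).toAlgHom M P

theorem charpoly_φ (M : Matrix (Fin 4) (Fin 4) F) : (φ M).charpoly = M.charpoly :=
  Matrix.charpoly_toLin' M

theorem prod_diag (w a b c d : F) :
    ∏ j, (X - C (w * ![a, b, c, d] j) : F[X]) =
      (X - C (w * a)) * (X - C (w * b)) * (X - C (w * c)) * (X - C (w * d)) := by
  rw [Fin.prod_univ_four]
  rfl

/-- the diagonal element `w · D` -/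
theorem diag_elt [Finite F] (i : Fˣ) (w : Fˣ) (D : GL (Fin 4) F) (s : Fin 4 → F)
    (hD : D ∈ Subgroup.normalizer (R0 i : Set (GL (Fin 4) F)))
    (hDm : (D : Matrix (Fin 4) (Fin 4) F) = Matrix.diagonal s) (hs : ∀ j, s j * s j = 1) :
    ∃ y : GL (Fin 4) F, y ∈ Subgroup.normalizer (R0 i : Set (GL (Fin 4) F)) ∧
      (y : Matrix (Fin 4) (Fin 4) F).charpoly = ∏ j, (X - C ((w : F) * s j)) ∧
      (y * y : GL (Fin 4) F) = sc (w * w) := by
  refine ⟨sc w * D, mul_mem (sc_mem_normalizer _ w) hD, ?_, ?_⟩
  · have : ((sc w * D : GL (Fin 4) F) : Matrix (Fin 4) (Fin 4) F) =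
        Matrix.diagonal (fun j => (w : F) * s j) := by
      rw [Units.val_mul, sc_val, hDm, Matrix.smul_mul, Matrix.one_mul]
      ext a b
      by_cases hab : a = b
      · subst hab; simp
      · simp [hab]
    rw [this, Matrix.charpoly_diagonal]
  · apply Units.ext
    simp only [Units.val_mul, sc_val, hDm, Matrix.smul_mul, Matrix.one_mul, Matrix.mul_smul,
      Matrix.diagonal_mul_diagonal, smul_smul]
    have : (Matrix.diagonal fun j => s j * s j) = (1 : Matrix (Fin 4) (Fin 4) F) := by
      rw [← Matrix.diagonal_one]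
      congr 1
      ext j
      exact hs j
    rw [this]

theorem exists_normalizer_charpoly_two [Fintype F] {p : ℕ} [Fact p.Prime] [CharP F p]
    (hp2 : p ≠ 2) (i : Fˣ) (hi : (i : F) ^ 2 = -1) (x : GL (Fin 4) F)
    (hx : x ∈ Cfsg.Geo.specialLinear (Fin 4) F) (z : F)
    (hxz : (x : Matrix (Fin 4) (Fin 4) F) * (x : Matrix (Fin 4) (Fin 4) F) = z • 1)
    (hns : ∀ c : F, (x : Matrix (Fin 4) (Fin 4) F) ≠ c • (1 : Matrix (Fin 4) (Fin 4) F)) :
    ∃ y : GL (Fin 4) F, y ∈ Subgroup.normalizer (R0 i : Set (GL (Fin 4) F)) ∧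
      (y : Matrix (Fin 4) (Fin 4) F).charpoly = (x : Matrix (Fin 4) (Fin 4) F).charpoly ∧
      (orderOf y).Coprime p := by
  classical
  have hpp : p.Prime := Fact.out
  set M : Matrix (Fin 4) (Fin 4) F := (x : Matrix (Fin 4) (Fin 4) F) with hM
  have h2F : (2 : F) ≠ 0 := by
    intro h
    have h1 : ((2 : ℕ) : F) = 0 := by exact_mod_cast h
    have h3 := (CharP.cast_eq_zero_iff F p 2).1 h1
    exact hp2 ((Nat.prime_dvd_prime_iff_eq hpp Nat.prime_two).1 h3)
  have hdet : M.det = 1 := by
    rw [Cfsg.Geo.specialLinear, MonoidHom.mem_ker] at hx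
    have := congrArg Units.val hx
    simpa using this
  have hz4 : z ^ 4 = 1 := by
    have h1 : (M * M).det = 1 := by rw [Matrix.det_mul, hdet, mul_one]
    rw [hxz, Matrix.det_smul, Matrix.det_one, mul_one, Fintype.card_fin] at h1
    exact h1
  have hz0 : z ≠ 0 := by
    rintro rfl
    simp at hz4
  -- the order of `y` from `y * y = sc (w * w)` with `w * w = z`
  have hord : ∀ (y : GL (Fin 4) F) (w : Fˣ), (w : F) * w = z → y * y = sc (w * w) →
      (orderOf y).Coprime p := by
    intro y w hw hy
    have h8 : y ^ 8 = 1 := by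
      have : y ^ 8 = (y * y) ^ 4 := by rw [← pow_two, ← pow_mul]
      rw [this, hy]
      apply Units.ext
      simp only [Units.val_pow_eq_pow_val, sc_val, Units.val_mul, Units.val_one, hw]
      rw [_root_.smul_pow, one_pow, hz4, one_smul]
    have hdvd : orderOf y ∣ 2 ^ 3 := orderOf_dvd_of_pow_eq_one h8
    have hc : Nat.Coprime (2 ^ 3) p :=
      Nat.Coprime.pow_left 3 ((Nat.coprime_primes Nat.prime_two hpp).2 (Ne.symm hp2))
    exact Nat.Coprime.coprime_dvd_left hdvd hc
  set g : Module.End F (Fin 4 → F) := φ M with hg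
  by_cases hsq : ∃ w : F, w * w = z
  · obtain ⟨w, hw⟩ := hsq
    have hw0 : w ≠ 0 := by
      rintro rfl
      exact hz0 (by simpa using hw.symm)
    set wu : Fˣ := Units.mk0 w hw0 with hwu
    have hwne : (X - C w : F[X]) ≠ X + C w := by
      intro h
      have h1 := congrArg (Polynomial.eval 0) h
      simp at h1
      have : (2 : F) * w = 0 := by linear_combination -h1
      rcases mul_eq_zero.1 this with h | h
      · exact h2F h
      · exact hw0 h
    set S : Finset F[X] := {X - C w, X + C w} with hS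
    have hirr : ∀ f ∈ S, Irreducible f := by
      intro f hf
      rw [hS, Finset.mem_insert, Finset.mem_singleton] at hf
      rcases hf with rfl | rfl
      · exact Polynomial.irreducible_X_sub_C w
      · have : (X + C w : F[X]) = X - C (-w) := by simp
        rw [this]
        exact Polynomial.irreducible_X_sub_C (-w)
    have hmon : ∀ f ∈ S, f.Monic := by
      intro f hf
      rw [hS, Finset.mem_insert, Finset.mem_singleton] at hf
      rcases hf with rfl | rfl
      · exact Polynomial.monic_X_sub_C w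
      · exact Polynomial.monic_X_add_C w
    have hprod : ∏ f ∈ S, f = (X - C w) * (X + C w) := by
      rw [hS, Finset.prod_pair hwne]
    have hkill : aeval g (∏ f ∈ S, f) = 0 := by
      rw [hprod, hg, aeval_φ]
      have : aeval M ((X - C w) * (X + C w) : F[X]) = 0 := by
        simp only [map_mul, map_sub, map_add, aeval_X, aeval_C]
        rw [sub_mul, mul_add, mul_add, hxz, Algebra.algebraMap_eq_smul_one]
        simp only [Matrix.smul_mul, Matrix.mul_smul, Matrix.one_mul, Matrix.mul_one, smul_smul, hw]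
        abel
      rw [this, map_zero]
    have hcop := pairwise_coprime_of_monic_irreducible S hirr hmon
    have hsum := finrank_eq_sum_kdim g S hcop hkill
    rw [Module.finrank_fin_fun, hS, Finset.sum_pair hwne] at hsum
    set k1 := kdim g (X - C w) with hk1
    set k2 := kdim g (X + C w) with hk2
    have hchar := charpoly_eq_prod S hirr hmon g hkill
    rw [hS, Finset.prod_pair hwne, Polynomial.natDegree_X_sub_C, Polynomial.natDegree_X_add_C,
      Nat.div_one, Nat.div_one, ← hk1, ← hk2, hg, charpoly_φ] at hchar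
    -- scalar if a kernel is everything
    have hscal : ∀ c : F, kdim g (X - C c) = 4 → False := by
      intro c hc
      have htop : LinearMap.ker (aeval g (X - C c)) = ⊤ := by
        apply Submodule.eq_top_of_finrank_eq
        rw [Module.finrank_fin_fun]
        exact hc
      have h0 : aeval g (X - C c : F[X]) = 0 := LinearMap.ker_eq_top.1 htop
      rw [hg, aeval_φ] at h0
      have h1 : aeval M (X - C c : F[X]) = 0 := by
        apply (φ (F := F)).injective
        rw [h0, map_zero]
      simp only [map_sub, aeval_X, aeval_C, Algebra.algebraMap_eq_smul_one] at h1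
      exact hns c (sub_eq_zero.1 h1)
    have hk1' : k1 ≠ 4 := fun h => hscal w h
    have hk2' : k2 ≠ 4 := by
      intro h
      apply hscal (-w)
      have : (X - C (-w) : F[X]) = X + C w := by simp
      rw [this]
      exact h
    have hXadd : (X + C w : F[X]) = X - C (-w) := by simp
    obtain ⟨d0, hd0n, hd0m⟩ := Cfsg.Agent.Helper12.Sym4E.exists_d0 i hi h2F
    -- three cases
    have hk : (k1 = 3 ∧ k2 = 1) ∨ (k1 = 2 ∧ k2 = 2) ∨ (k1 = 1 ∧ k2 = 3) := by omega
    rcases hk with ⟨e1, e2⟩ | ⟨e1, e2⟩ | ⟨e1, e2⟩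
    · obtain ⟨y, hyn, hyc, hyy⟩ := diag_elt i wu d0 ![1, 1, 1, -1] hd0n
        (by rw [hd0m]; ext a b; fin_cases a <;> fin_cases b <;> simp)
        (by intro j; fin_cases j <;> simp)
      refine ⟨y, hyn, ?_, hord y wu hw hyy⟩
      rw [hyc, prod_diag, hchar, e1, e2, hXadd]
      simp only [wu, Units.val_mk0, mul_one, mul_neg]
      ring
    · obtain ⟨y, hyn, hyc, hyy⟩ := diag_elt i wu A1 ![1, 1, -1, -1]
        (Subgroup.le_normalizer (A1_mem_R0 i))
        (by rw [A1_val, A1m]; ext a b; fin_cases a <;> fin_cases b <;> simp)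
        (by intro j; fin_cases j <;> simp)
      refine ⟨y, hyn, ?_, hord y wu hw hyy⟩
      rw [hyc, prod_diag, hchar, e1, e2, hXadd]
      simp only [wu, Units.val_mk0, mul_one, mul_neg]
      ring
    · have hm1 : ((-1 : Fˣ) : F) = -1 := by simp
      obtain ⟨y, hyn, hyc, hyy⟩ := diag_elt i wu (sc (-1) * d0) ![-1, -1, -1, 1]
        (mul_mem (sc_mem_normalizer _ _) hd0n)
        (by
          rw [Units.val_mul, sc_val, hd0m, hm1]
          ext a b; fin_cases a <;> fin_cases b <;> simp)
        (by intro j; fin_cases j <;> simp)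
      refine ⟨y, hyn, ?_, hord y wu hw hyy⟩
      rw [hyc, prod_diag, hchar, e1, e2, hXadd]
      simp only [wu, Units.val_mk0, mul_one, mul_neg]
      ring
  · exfalso
    push Not at hsq
    have hirr2 : Irreducible (X ^ 2 - C z : F[X]) := by
      apply X_pow_sub_C_irreducible_of_prime Nat.prime_two
      intro b hb
      exact hsq b (by rw [← hb]; ring)
    have hmon2 : (X ^ 2 - C z : F[X]).Monic := Polynomial.monic_X_pow_sub_C z (by norm_num)
    set S : Finset F[X] := {X ^ 2 - C z} with hS
    have hkill : aeval g (∏ f ∈ S, f) = 0 := by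
      rw [hS, Finset.prod_singleton, hg, aeval_φ]
      have : aeval M (X ^ 2 - C z : F[X]) = 0 := by
        simp only [map_sub, map_pow, aeval_X, aeval_C, Algebra.algebraMap_eq_smul_one]
        rw [pow_two, hxz, sub_self]
      rw [this, map_zero]
    have hchar := charpoly_eq_prod S (by simpa [hS] using hirr2) (by simpa [hS] using hmon2) g hkill
    have hkd : kdim g (X ^ 2 - C z) = 4 := by
      unfold kdim
      rw [hS, Finset.prod_singleton] at hkill
      rw [hkill, LinearMap.ker_zero, finrank_top, Module.finrank_fin_fun]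
    have hnd : (X ^ 2 - C z : F[X]).natDegree = 2 := Polynomial.natDegree_X_pow_sub_C
    rw [hS, Finset.prod_singleton, hkd, hnd, hg, charpoly_φ] at hchar
    have hdet2 := Matrix.det_eq_sign_charpoly_coeff M
    rw [hchar, hdet, Fintype.card_fin, Polynomial.coeff_zero_eq_eval_zero] at hdet2
    simp at hdet2
    have hz2 : z ^ 2 = 1 := by
      rw [hdet2]
      norm_num
    have : (z - 1) * (z + 1) = 0 := by linear_combination hz2
    rcases mul_eq_zero.1 this with h | h
    · exact hsq 1 (by rw [sub_eq_zero.1 h, mul_one])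
    · exact hsq (i : F) (by rw [← pow_two, hi]; linear_combination -h)

end Cfsg.Agent.Helper16.Sym4Q3two
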