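import Mathlib

/-!
# S3174 (helper16): definitions shared by the T74 pieces

`T` is a finite 2-group, `W = C_T(Z₃(T))`.  Everything is phrased with subgroups of `T`.
-/

namespace Cfsg.Agent.Helper16.T74

/-- The Heisenberg group over `ZMod 2` (dihedral of order 8): triples `(a, b, c)` with
`(a,b,c) * (a',b',c') = (a+a', b+b', c+c'+a*b')`.  It is the group of automorphisms of
`Z₃ = ⟨e₁,e₂,e₃⟩` (elementary abelian of order 8) stabilising the flag `⟨e₁⟩ < ⟨e₁,e₂⟩ < Z₃`: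
`g e₂ g⁻¹ = e₂ e₁^a`, `g e₃ g⁻¹ = e₃ e₂^b e₁^c`. -/
structure H2 where
  a : ZMod 2
  b : ZMod 2
  c : ZMod 2
deriving DecidableEq, Fintype

namespace H2

instance : Mul H2 := ⟨fun x y => ⟨x.a + y.a, x.b + y.b, x.c + y.c + x.a * y.b⟩⟩
instance : One H2 := ⟨⟨0, 0, 0⟩⟩
instance : Inv H2 := ⟨fun x => ⟨x.a, x.b, x.c + x.a * x.b⟩⟩

@[simp] theorem mul_a (x y : H2) : (x * y).a = x.a + y.a := rfl
@[simp] theorem mul_b (x y : H2) : (x * y).b = x.b + y.b := rfl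
@[simp] theorem mul_c (x y : H2) : (x * y).c = x.c + y.c + x.a * y.b := rfl
@[simp] theorem one_a : (1 : H2).a = 0 := rfl
@[simp] theorem one_b : (1 : H2).b = 0 := rfl
@[simp] theorem one_c : (1 : H2).c = 0 := rfl
@[simp] theorem inv_a (x : H2) : (x⁻¹).a = x.a := rfl
@[simp] theorem inv_b (x : H2) : (x⁻¹).b = x.b := rfl
@[simp] theorem inv_c (x : H2) : (x⁻¹).c = x.c + x.a * x.b := rfl

@[ext] theorem ext' {x y : H2} (ha : x.a = y.a) (hb : x.b = y.b) (hc : x.c = y.c) : x = y := by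
  cases x; cases y; simp_all

instance : Group H2 where
  mul_assoc := by decide
  one_mul := by decide
  mul_one := by decide
  inv_mul_cancel := by decide

/-- The central involution `(0,0,1)`. -/
def z : H2 := ⟨0, 0, 1⟩

end H2

open scoped commutatorElement

variable {T : Type*} [Group T]

/-- `Φ(W)` as a subgroup of `T`. -/
def PhiT (W : Subgroup T) : Subgroup T := (frattini ↥W).map W.subtype

/-- `W'` as a subgroup of `T`. -/
def DerT (W : Subgroup T) : Subgroup T := (commutator ↥W).map W.subtype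

/-- `Z(W)` as a subgroup of `T`. -/
def CenT (W : Subgroup T) : Subgroup T := (Subgroup.center ↥W).map W.subtype

open Classical in
/-- The commutator form modulo `Z₂`: `bform Z2 u v = 0` iff `⁅u, v⁆ ∈ Z2`. -/
noncomputable def bform (Z2 : Subgroup T) (u v : T) : ZMod 2 := if ⁅u, v⁆ ∈ Z2 then 0 else 1

theorem bform_eq_zero_iff (Z2 : Subgroup T) (u v : T) : bform Z2 u v = 0 ↔ ⁅u, v⁆ ∈ Z2 := by
  unfold bform; split_ifs with h <;> simp [h]

/-- The situation reached after the numerical part of S3174. -/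
structure Setting (W Z1 Z2 Z3 : Subgroup T) : Prop where
  nW : W.Normal
  n1 : Z1.Normal
  n2 : Z2.Normal
  n3 : Z3.Normal
  h12 : Z1 ≤ Z2
  h23 : Z2 ≤ Z3
  h3W : Z3 ≤ W
  c1 : Nat.card Z1 = 2
  c2 : Nat.card Z2 = 4
  c3 : Nat.card Z3 = 8
  cW : Nat.card W = 2 ^ 11
  idx : W.index = 8
  hWc : W = Subgroup.centralizer (Z3 : Set T)
  cen1 : ∀ z ∈ Z1, ∀ g : T, g * z = z * g
  act2 : ∀ x ∈ Z2, ∀ g : T, ⁅g, x⁆ ∈ Z1
  act3 : ∀ x ∈ Z3, ∀ g : T, ⁅g, x⁆ ∈ Z2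
  sq : ∀ w ∈ W, w ^ 2 ∈ Z3
  comm : ∀ u ∈ W, ∀ v ∈ W, ⁅u, v⁆ ∈ Z3
  exp3 : ∀ z ∈ Z3, z ^ 2 = 1
  /-- hypothesis (d) of S3174, at the level of `T` -/
  hd : ∀ U : Subgroup T, U ≤ W → Nat.card W ≤ 16 * Nat.card U → Z3 ≤ U


/-- The properties of the embedding `θ : W/K → (T/W → ZMod 2)` (piece EMB). -/
structure IsTheta (W K : Subgroup T) (θ : T → (T ⧸ W → ZMod 2)) : Prop where
  add : ∀ u ∈ W, ∀ v ∈ W, θ (u * v) = θ u + θ v
  ker : ∀ w ∈ W, (θ w = 0 ↔ w ∈ K)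
  equi : ∀ w ∈ W, ∀ g h : T, θ (g * w * g⁻¹) (h : T ⧸ W) = θ w ((g⁻¹ * h : T) : T ⧸ W)

end Cfsg.Agent.Helper16.T74
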