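import Mathlib

/-!
# S3175 (helper16): the `G`-level setting

`TG` is a Sylow 2-subgroup of `G` satisfying the hypotheses of S3174/S3175, `WG`, `Z1 … Z4` are the images
in `G` of `W = C_T(Z₃(T))` and of the terms of the upper central series of `T`.
-/

namespace Cfsg.Agent.Helper16.T75

open scoped commutatorElement

variable {G : Type*} [Group G]

structure GSetting (TG WG Z1 Z2 Z3 Z4 : Subgroup G) : Prop where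
  pT : IsPGroup 2 ↥TG
  h12 : Z1 ≤ Z2
  h23 : Z2 ≤ Z3
  h34 : Z3 ≤ Z4
  h3W : Z3 ≤ WG
  hWT : WG ≤ TG
  c1 : Nat.card ↥Z1 = 2
  c2 : Nat.card ↥Z2 = 4
  c3 : Nat.card ↥Z3 = 8
  c4 : Nat.card ↥Z4 = 16
  cW : Nat.card ↥WG = 2 ^ 11
  cT : Nat.card ↥TG = 2 ^ 14
  hWc : WG = TG ⊓ Subgroup.centralizer (Z3 : Set G)
  /-- the `Z_i` are characteristic in `TG` -/
  char1 : ∀ g ∈ Subgroup.normalizer (TG : Set G), ∀ x ∈ Z1, g * x * g⁻¹ ∈ Z1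
  char2 : ∀ g ∈ Subgroup.normalizer (TG : Set G), ∀ x ∈ Z2, g * x * g⁻¹ ∈ Z2
  char3 : ∀ g ∈ Subgroup.normalizer (TG : Set G), ∀ x ∈ Z3, g * x * g⁻¹ ∈ Z3
  char4 : ∀ g ∈ Subgroup.normalizer (TG : Set G), ∀ x ∈ Z4, g * x * g⁻¹ ∈ Z4
  nW : ∀ g ∈ Subgroup.normalizer (TG : Set G), ∀ x ∈ WG, g * x * g⁻¹ ∈ WG
  /-- `Z4/Z3` is the set of fixed points of `TG` on `WG/Z3` -/
  fix4 : ∀ w ∈ WG, (∀ t ∈ TG, ⁅t, w⁆ ∈ Z3) → w ∈ Z4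
  sq : ∀ w ∈ WG, w ^ 2 ∈ Z3
  comm : ∀ u ∈ WG, ∀ v ∈ WG, ⁅u, v⁆ ∈ Z3
  exp3 : ∀ z ∈ Z3, z ^ 2 = 1
  /-- hypothesis (d) -/
  hd : ∀ U : Subgroup G, U ≤ WG → Nat.card ↥WG ≤ 16 * Nat.card ↥U → Z3 ≤ U

end Cfsg.Agent.Helper16.T75
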