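import Mathlib
import Cfsg.Agent.Lib.Helper16.T74Defs
import Cfsg.Agent.Lib.T74.T74UCS
import Cfsg.Agent.Lib.T74.T74NLE
import Cfsg.Agent.Lib.T74.T74CIDX
import Cfsg.Agent.Lib.T74.T74FRAT
import Cfsg.Agent.Lib.T74.T74EMBF
import Cfsg.Agent.Lib.T74.T74EMB
import Cfsg.Agent.Lib.T74.T74EMBCARD
import Cfsg.Agent.Lib.T74.T74EMBSURJ
import Cfsg.Agent.Lib.T74.T74CYC
import Cfsg.Agent.Lib.T74.T74ABIND
import Cfsg.Agent.Lib.T74.T74BRD
import Cfsg.Agent.Lib.T74.T74BRPHI
import Cfsg.Agent.Lib.T74.T74BRDER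
import Cfsg.Agent.Lib.T74.T74BRCEN
import Cfsg.Agent.Lib.T74.T74Z3EXP
import Cfsg.Agent.Lib.T74.T74HEISDIH
import Cfsg.Agent.Lib.T74.T74FLAG
import Cfsg.Agent.Lib.T74.T74QH2
import Cfsg.Agent.Lib.T74.T74BFORM
import Cfsg.Agent.Lib.T74.T74F1
import Cfsg.Agent.Lib.T74.T74F2
import Cfsg.Agent.Lib.T74.T74CORE
import Cfsg.Agent.Lib.T74.T74MU
import Cfsg.Agent.Lib.T74.T74GAMMA2
import Cfsg.Agent.Lib.T74.T74GAMMA3
import Cfsg.Agent.Lib.T74.T74YSIZE
import Cfsg.Agent.Lib.T74.T74YCARD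
import Cfsg.Agent.Lib.T74.T74YCEN
import Cfsg.Agent.Lib.T74.T74CEN8A
import Cfsg.Agent.Lib.T74.T74ABCEN
import Cfsg.Agent.Lib.T74.T74ABBR

set_option autoImplicit false

namespace Cfsg.Agent.Helper16.T74

open scoped commutatorElement
open Subgroup

/-- membership in the next term of the upper central series, in commutator form -/
theorem t74_asm_comm_mem {T : Type*} [Group T] (n : ℕ) (x : T)
    (hx : x ∈ Subgroup.upperCentralSeries T (n + 1)) (g : T) :
    ⁅g, x⁆ ∈ Subgroup.upperCentralSeries T n := by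
  rw [Subgroup.mem_upperCentralSeries_succ_iff] at hx
  have h : ⁅x, g⁆ ∈ Subgroup.upperCentralSeries T n := hx g
  rw [← commutatorElement_inv x g]
  exact inv_mem h

theorem t74_asm_mem_succ {T : Type*} [Group T] (n : ℕ) (x : T)
    (hx : ∀ g : T, ⁅g, x⁆ ∈ Subgroup.upperCentralSeries T n) :
    x ∈ Subgroup.upperCentralSeries T (n + 1) := by
  rw [Subgroup.mem_upperCentralSeries_succ_iff]
  intro g
  have h := hx g
  show ⁅x, g⁆ ∈ Subgroup.upperCentralSeries T n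
  rw [← commutatorElement_inv g x]
  exact inv_mem h

/-- the numerical part -/
theorem t74_asm_numerics (idx j cT cW : ℕ) (hidx : idx = 1 ∨ idx = 2 ∨ idx = 4 ∨ idx = 8)
    (hj : j ≤ 3) (hT : cT = idx * cW) (hW : cW ≤ 2 ^ idx * 2 ^ j) (ha : 2 ^ 14 ≤ cT) :
    idx = 8 ∧ j = 3 ∧ cW = 2 ^ 11 ∧ cT = 2 ^ 14 := by
  have hj' : 2 ^ j ≤ 2 ^ 3 := Nat.pow_le_pow_right (by norm_num) hj
  rcases hidx with h | h | h | h
  · subst h; norm_num at hW ha hT ⊢; omega
  · subst h; norm_num at hW ha hT ⊢; omega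
  · subst h; norm_num at hW ha hT ⊢; omega
  · subst h
    norm_num at hW ha hT ⊢
    have h3 : j = 3 := by
      by_contra hne
      have : j ≤ 2 := by omega
      have : 2 ^ j ≤ 2 ^ 2 := Nat.pow_le_pow_right (by norm_num) this
      omega
    subst h3
    omega


theorem t74_asm_card_ucs {T : Type*} [Group T] [Finite T]
    (h1 : Nat.card ↥(Subgroup.upperCentralSeries T 1) = 2)
    (h2 : Nat.card ↥(Subgroup.upperCentralSeries T 2) = 4)
    (h3 : Nat.card ↥(Subgroup.upperCentralSeries T 3) = 8)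
    (hb : Nat.card ↥(Subgroup.upperCentralSeries T 4) = 16) (j : ℕ) (hj : j ≤ 4) :
    Nat.card ↥(Subgroup.upperCentralSeries T j) = 2 ^ j := by
  interval_cases j
  · simp [Subgroup.upperCentralSeries_zero]
  · simpa using h1
  · simpa using h2
  · simpa using h3
  · simpa using hb

/-- Part 1: the numerical part. -/
theorem t74_asm_part1 {T : Type*} [Group T] [Finite T]
    (hT : IsPGroup 2 T) (ha : 2 ^ 14 ≤ Nat.card T)
    (hb : Nat.card ↥(Subgroup.upperCentralSeries T 4) = 16)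
    (W : Subgroup T)
    (hW : W = Subgroup.centralizer ((Subgroup.upperCentralSeries T 3 : Subgroup T) : Set T))
    (hc : Nat.card ↥(frattini ↥W) ≤ 8) :
    Nat.card T = 2 ^ 14 ∧ W.index = 8 ∧ Nat.card ↥W = 2 ^ 11 ∧
      PhiT W = Subgroup.upperCentralSeries T 3 ∧
      ∃ θ : T → (T ⧸ W → ZMod 2), IsTheta W (Subgroup.upperCentralSeries T 3) θ ∧
        ∀ φ : T ⧸ W → ZMod 2, ∃ w ∈ W, θ w = φ := by
  obtain ⟨h1, h2, h3⟩ := ucs_cards hT hb (by omega)
  have hWn : W.Normal := by subst hW; infer_instance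
  obtain ⟨hΦn, hΦW, hΦsq, hΦcomm, hΦcard⟩ := phiT_facts hT W
  have hidx8 : W.index ≤ 8 := by subst hW; exact index_centralizer_ucs3_le h1 h2 h3
  -- |Φ| = 2^j
  obtain ⟨j, hj⟩ := (hT.to_subgroup (PhiT W)).exists_card_eq
  have hj3 : j ≤ 3 := by
    have : 2 ^ j ≤ 2 ^ 3 := by rw [← hj, hΦcard]; simpa using hc
    exact (Nat.pow_le_pow_iff_right (by norm_num)).mp this
  have hcu := t74_asm_card_ucs h1 h2 h3 hb
  have hΦle : PhiT W ≤ Subgroup.upperCentralSeries T j :=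
    normal_le_ucs hT (PhiT W) j (le_of_eq hj)
  have hΦeq : PhiT W = Subgroup.upperCentralSeries T j := by
    apply Subgroup.eq_of_le_of_card_ge hΦle
    rw [hj, hcu j (by omega)]
  -- fixed points
  have hfix : ∀ F : Subgroup T, PhiT W ≤ F → F ≤ W → (∀ x ∈ F, ∀ g : T, ⁅g, x⁆ ∈ PhiT W) →
      Nat.card ↥F ≤ 2 * Nat.card ↥(PhiT W) := by
    intro F _ _ hF
    have hle : F ≤ Subgroup.upperCentralSeries T (j + 1) := by
      intro x hx
      apply t74_asm_mem_succ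
      intro g
      rw [← hΦeq]
      exact hF x hx g
    have := Subgroup.card_le_of_le hle
    rw [hcu (j + 1) (by omega)] at this
    rw [hj]
    calc Nat.card ↥F ≤ 2 ^ (j + 1) := this
      _ = 2 * 2 ^ j := by ring
  obtain ⟨θ, hθ⟩ := exists_theta hT W (PhiT W) hΦW hΦsq hΦcomm hfix
  have hcard := card_le_of_theta W (PhiT W) hΦW θ hθ
  rw [hj] at hcard
  -- index is a power of two
  have hidxpow : W.index = 1 ∨ W.index = 2 ∨ W.index = 4 ∨ W.index = 8 := by
    have hdvd : W.index ∣ Nat.card T := Subgroup.index_dvd_card W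
    obtain ⟨n, hn⟩ := hT.exists_card_eq
    rw [hn] at hdvd
    obtain ⟨k, _, hk⟩ := (Nat.dvd_prime_pow Nat.prime_two).mp hdvd
    rw [hk] at hidx8 ⊢
    have hk3 : k ≤ 3 := by
      have : 2 ^ k ≤ 2 ^ 3 := by simpa using hidx8
      exact (Nat.pow_le_pow_iff_right (by norm_num)).mp this
    interval_cases k <;> simp
  have hmul : Nat.card T = W.index * Nat.card ↥W := (Subgroup.index_mul_card W).symm
  obtain ⟨hi8, hj3', hcW, hcT⟩ := t74_asm_numerics W.index j (Nat.card T) (Nat.card ↥W) hidxpow hj3 hmul hcard ha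
  subst hj3'
  refine ⟨hcT, hi8, hcW, hΦeq, θ, hΦeq ▸ hθ, ?_⟩
  apply theta_surjective W (PhiT W) hΦW θ hθ
  rw [hcW, hi8, hj]
  norm_num


/-- `Z₃` is central in `W = C_T(Z₃)`. -/
theorem t74_asm_cen {T : Type*} [Group T] (W Z3 : Subgroup T)
    (hW : W = Subgroup.centralizer (Z3 : Set T)) : ∀ z ∈ Z3, ∀ w ∈ W, z * w = w * z := by
  intro z hz w hw
  rw [hW, Subgroup.mem_centralizer_iff] at hw
  exact hw z hz

/-- Part 2: `W' = Z₃`. -/
theorem t74_asm_part2 {T : Type*} [Group T] [Finite T]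
    (hT : IsPGroup 2 T)
    (h1 : Nat.card ↥(Subgroup.upperCentralSeries T 1) = 2)
    (h2 : Nat.card ↥(Subgroup.upperCentralSeries T 2) = 4)
    (h3 : Nat.card ↥(Subgroup.upperCentralSeries T 3) = 8)
    (hb : Nat.card ↥(Subgroup.upperCentralSeries T 4) = 16)
    (W : Subgroup T)
    (hW : W = Subgroup.centralizer ((Subgroup.upperCentralSeries T 3 : Subgroup T) : Set T))
    (hcW : Nat.card ↥W = 2 ^ 11) (hΦ : PhiT W = Subgroup.upperCentralSeries T 3)
    (hd : ∀ U : Subgroup T, U ≤ W → Nat.card ↥W ≤ 16 * Nat.card ↥U →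
      Subgroup.upperCentralSeries T 3 ≤ U) :
    DerT W = Subgroup.upperCentralSeries T 3 := by
  have hWn : W.Normal := by subst hW; infer_instance
  obtain ⟨hΦn, hΦW, hΦsq, hΦcomm, hΦcard⟩ := phiT_facts hT W
  obtain ⟨hDn, hDW, hDcomm, hDcl, hDcard⟩ := derT_facts W
  have hcu := t74_asm_card_ucs h1 h2 h3 hb
  have hDΦ : DerT W ≤ Subgroup.upperCentralSeries T 3 := by
    rw [hDcl, ← hΦ, Subgroup.closure_le]
    rintro y ⟨u, hu, v, hv, rfl⟩
    exact hΦcomm u hu v hv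
  obtain ⟨i, hi⟩ := (hT.to_subgroup (DerT W)).exists_card_eq
  have hi3 : i ≤ 3 := by
    have : 2 ^ i ≤ 2 ^ 3 := by
      rw [← hi]
      have := Subgroup.card_le_of_le hDΦ
      rwa [h3] at this
    exact (Nat.pow_le_pow_iff_right (by norm_num)).mp this
  have hDle : DerT W ≤ Subgroup.upperCentralSeries T i := normal_le_ucs hT (DerT W) i (le_of_eq hi)
  have hDeq : DerT W = Subgroup.upperCentralSeries T i := by
    apply Subgroup.eq_of_le_of_card_ge hDle
    rw [hi, hcu i (by omega)]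
  by_cases h : i = 3
  · rw [hDeq, h]
  · exfalso
    have hi2 : i ≤ 2 := by omega
    have hD2 : DerT W ≤ Subgroup.upperCentralSeries T 2 :=
      hDeq ▸ Subgroup.upperCentralSeries_mono T hi2
    have h3W : Subgroup.upperCentralSeries T 3 ≤ W := hΦ ▸ hΦW
    obtain ⟨U, hUW, hU3, hUc⟩ := exists_small_index_avoiding W (Subgroup.upperCentralSeries T 2)
      (Subgroup.upperCentralSeries T 3) W (Subgroup.upperCentralSeries_mono T (by norm_num)) h3W le_rfl
      (fun w _ k hk => (inferInstance : (Subgroup.upperCentralSeries T 2).Normal).conj_mem k hk w)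
      (by rw [h3, h2])
      (fun w hw => hΦ ▸ hΦsq w hw)
      (t74_asm_cen W _ hW)
      (fun y hy w hw => hD2 (hDcomm w hw y hy))
      (by rw [hcW, h2]; norm_num) (by rw [hcW, h2]; norm_num)
    exact hU3 (hd U hUW hUc)


/-- Part 3: the `Setting`. -/
theorem t74_asm_setting {T : Type*} [Group T] [Finite T]
    (hT : IsPGroup 2 T)
    (h1 : Nat.card ↥(Subgroup.upperCentralSeries T 1) = 2)
    (h2 : Nat.card ↥(Subgroup.upperCentralSeries T 2) = 4)
    (h3 : Nat.card ↥(Subgroup.upperCentralSeries T 3) = 8)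
    (W : Subgroup T)
    (hW : W = Subgroup.centralizer ((Subgroup.upperCentralSeries T 3 : Subgroup T) : Set T))
    (hcW : Nat.card ↥W = 2 ^ 11) (hidx : W.index = 8)
    (hΦ : PhiT W = Subgroup.upperCentralSeries T 3)
    (hD : DerT W = Subgroup.upperCentralSeries T 3)
    (hd : ∀ U : Subgroup T, U ≤ W → Nat.card ↥W ≤ 16 * Nat.card ↥U →
      Subgroup.upperCentralSeries T 3 ≤ U) :
    Setting W (Subgroup.upperCentralSeries T 1) (Subgroup.upperCentralSeries T 2)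
      (Subgroup.upperCentralSeries T 3) := by
  have hWn : W.Normal := by subst hW; infer_instance
  obtain ⟨hΦn, hΦW, hΦsq, hΦcomm, hΦcard⟩ := phiT_facts hT W
  obtain ⟨hDn, hDW, hDcomm, hDcl, hDcard⟩ := derT_facts W
  have h3W : Subgroup.upperCentralSeries T 3 ≤ W := hΦ ▸ hΦW
  have hsq : ∀ w ∈ W, w ^ 2 ∈ Subgroup.upperCentralSeries T 3 := fun w hw => hΦ ▸ hΦsq w hw
  have hcomm : ∀ u ∈ W, ∀ v ∈ W, ⁅u, v⁆ ∈ Subgroup.upperCentralSeries T 3 :=
    fun u hu v hv => hΦ ▸ hΦcomm u hu v hv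
  refine
    { nW := hWn
      n1 := inferInstance
      n2 := inferInstance
      n3 := inferInstance
      h12 := Subgroup.upperCentralSeries_mono T (by norm_num)
      h23 := Subgroup.upperCentralSeries_mono T (by norm_num)
      h3W := h3W
      c1 := h1
      c2 := h2
      c3 := h3
      cW := hcW
      idx := hidx
      hWc := hW
      cen1 := ?_
      act2 := fun x hx g => t74_asm_comm_mem 1 x hx g
      act3 := fun x hx g => t74_asm_comm_mem 2 x hx g
      sq := hsq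
      comm := hcomm
      exp3 := ?_
      hd := hd }
  · intro z hz g
    rw [Subgroup.upperCentralSeries_one, Subgroup.mem_center_iff] at hz
    exact hz g
  · apply exp_two_of_class_two W _ h3W (t74_asm_cen W _ hW) hsq hcomm
    rw [← hD, hDcl]


/-- Part 4: `Z(W) = Z₃`. -/
theorem t74_asm_center {T : Type*} [Group T] [Finite T] (hT : IsPGroup 2 T)
    {W Z1 Z2 Z3 : Subgroup T} (S : Setting W Z1 Z2 Z3)
    (θ : T → (T ⧸ W → ZMod 2)) (hθ : IsTheta W Z3 θ)
    (hsurj : ∀ φ : T ⧸ W → ZMod 2, ∃ w ∈ W, θ w = φ)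
    (a : T →* H2) (hker : a.ker = W) (hasurj : Function.Surjective a)
    (ha0 : ∀ g : T, ((a g).a = 0 ↔ g ∈ centralizer (Z2 : Set T))) :
    CenT W = Z3 := by
  by_contra hne
  obtain ⟨x, hxW, hx3, hxinv, hxc⟩ := exists_central_invariant hT S hne
  have hWn : W.Normal := S.nW
  obtain ⟨w0, hw0, hcyc⟩ := exists_cyclic_generator W Z3 S.h3W θ hθ hsurj
  let _ : Fintype (T ⧸ W) := Fintype.ofFinite _
  have hsum := sum_bform_conj S θ hθ x hxW hx3 hxinv hxc w0 hw0
  obtain ⟨zt, hzt⟩ := hasurj H2.z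
  have hgen := bform_gen_comm_z S a hker hasurj ha0 w0 hw0 hsum zt hzt
  have hγ := bform_comm_z S w0 hw0 hcyc zt hgen
  obtain ⟨hYW, hYc⟩ := Y_central_mod S zt hγ
  have hztW : zt ∉ W := by
    rw [← hker, MonoidHom.mem_ker, hzt]; decide
  have hzt2 : zt ^ 2 ∈ W := by
    rw [← hker, MonoidHom.mem_ker, map_pow, hzt]; decide
  have hC := fun C hCW hC => card_fix_le S θ hθ zt hztW hzt2 C hCW hC
  have hYcard := card_Y_ge S zt hC
  have hn2 : Z2.Normal := S.n2
  obtain ⟨U, hUW, hU3, hUc⟩ := exists_small_index_avoiding W Z2 Z3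
    (closure {y : T | ∃ v ∈ W, y = ⁅v, zt⁆} ⊔ Z3) S.h23 le_sup_right hYW
    (fun w _ k hk => hn2.conj_mem k hk w)
    (by rw [S.c3, S.c2])
    S.sq (t74_asm_cen W Z3 S.hWc) hYc
    (by rw [S.cW, S.c2]; norm_num) (by rw [S.c2]; exact hYcard)
  exact hU3 (S.hd U hUW hUc)


/-- S3174. -/
theorem t74_main {T : Type*} [Group T] [Finite T]
    (hT : IsPGroup 2 T) (ha : 2 ^ 14 ≤ Nat.card T)
    (hb : Nat.card ↥(Subgroup.upperCentralSeries T 4) = 16)
    (W : Subgroup T)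
    (hW : W = Subgroup.centralizer ((Subgroup.upperCentralSeries T 3 : Subgroup T) : Set T))
    (hc : Nat.card ↥(frattini ↥W) ≤ 8)
    (hd : ∀ U : Subgroup ↥W, U.index ≤ 16 → frattini ↥W ≤ U) :
    Nat.card T = 2 ^ 14 ∧
      (commutator ↥W).map W.subtype = Subgroup.upperCentralSeries T 3 ∧
      (frattini ↥W).map W.subtype = Subgroup.upperCentralSeries T 3 ∧
      Nat.card ↥(Subgroup.center ↥W) = 8 ∧
      Nat.card ↥(Subgroup.upperCentralSeries T 3) = 8 ∧
      (∀ z ∈ Subgroup.upperCentralSeries T 3, z ^ 2 = 1) ∧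
      (∃ (_ : W.Normal), Nonempty (T ⧸ W ≃* DihedralGroup 4)) ∧
      Nat.card (↥W ⧸ commutator ↥W) = 2 ^ 8 ∧ (∀ x : ↥W ⧸ commutator ↥W, x ^ 2 = 1) := by
  obtain ⟨h1, h2, h3⟩ := ucs_cards hT hb (by omega)
  obtain ⟨hcT, hidx, hcW, hΦ, θ, hθ, hsurj⟩ := t74_asm_part1 hT ha hb W hW hc
  have hWn : W.Normal := by subst hW; infer_instance
  have hd' : ∀ U : Subgroup T, U ≤ W → Nat.card ↥W ≤ 16 * Nat.card ↥U →
      Subgroup.upperCentralSeries T 3 ≤ U := by
    intro U hU hc'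
    rw [← hΦ]
    exact hd_transfer W hd U hU hc'
  have hD := t74_asm_part2 hT h1 h2 h3 hb W hW hcW hΦ hd'
  have S := t74_asm_setting hT h1 h2 h3 W hW hcW hidx hΦ hD hd'
  obtain ⟨a, hker, ha0⟩ := exists_flag_hom (Subgroup.upperCentralSeries T 1)
    (Subgroup.upperCentralSeries T 2) (Subgroup.upperCentralSeries T 3) S.h12 S.h23 h1 h2 h3
    S.exp3 S.cen1 S.act2 S.act3
  rw [← hW] at hker
  obtain ⟨hasurj, ⟨e⟩⟩ := quotient_equiv_h2 W a hker hidx
  obtain ⟨e'⟩ := h2_equiv_dihedral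
  have hC := t74_asm_center hT S θ hθ hsurj a hker hasurj ha0
  obtain ⟨_, _, hCcard⟩ := cenT_facts W
  obtain ⟨_, _, _, _, hDcard⟩ := derT_facts W
  have hDc : Nat.card ↥(commutator ↥W) = 8 := by rw [← hDcard, hD, h3]
  refine ⟨hcT, hD, hΦ, ?_, h3, S.exp3, ⟨hWn, ⟨e.trans e'⟩⟩, ?_, ?_⟩
  · rw [← hCcard, hC, h3]
  · have := Subgroup.card_eq_card_quotient_mul_card_subgroup (commutator ↥W)
    rw [hcW, hDc] at this
    omega
  · intro x
    obtain ⟨w, rfl⟩ := QuotientGroup.mk_surjective x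
    rw [← QuotientGroup.mk_pow, QuotientGroup.eq_one_iff]
    have hw : (w : T) ^ 2 ∈ DerT W := by
      rw [hD]; exact S.sq w w.2
    obtain ⟨y, hy, hyw⟩ := hw
    have : y = w ^ 2 := by
      apply Subtype.ext
      simpa using hyw
    rwa [← this]


/-- The `Setting` from the hypotheses of S3174 (used again by S3175). -/
theorem t74_asm_setting_of_hyps {T : Type*} [Group T] [Finite T]
    (hT : IsPGroup 2 T) (ha : 2 ^ 14 ≤ Nat.card T)
    (hb : Nat.card ↥(Subgroup.upperCentralSeries T 4) = 16)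
    (W : Subgroup T)
    (hW : W = Subgroup.centralizer ((Subgroup.upperCentralSeries T 3 : Subgroup T) : Set T))
    (hc : Nat.card ↥(frattini ↥W) ≤ 8)
    (hd : ∀ U : Subgroup ↥W, U.index ≤ 16 → frattini ↥W ≤ U) :
    Nat.card T = 2 ^ 14 ∧
      Setting W (Subgroup.upperCentralSeries T 1) (Subgroup.upperCentralSeries T 2)
        (Subgroup.upperCentralSeries T 3) := by
  obtain ⟨h1, h2, h3⟩ := ucs_cards hT hb (by omega)
  obtain ⟨hcT, hidx, hcW, hΦ, θ, hθ, hsurj⟩ := t74_asm_part1 hT ha hb W hW hc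
  have hd' : ∀ U : Subgroup T, U ≤ W → Nat.card ↥W ≤ 16 * Nat.card ↥U →
      Subgroup.upperCentralSeries T 3 ≤ U := by
    intro U hU hc'
    rw [← hΦ]
    exact hd_transfer W hd U hU hc'
  have hD := t74_asm_part2 hT h1 h2 h3 hb W hW hcW hΦ hd'
  exact ⟨hcT, t74_asm_setting hT h1 h2 h3 W hW hcW hidx hΦ hD hd'⟩

end Cfsg.Agent.Helper16.T74
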