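import Mathlib
import Cfsg.Prelude.Def_Transfer
import Cfsg.Agent.Lib.Helper16.T74Asm
import Cfsg.Agent.Lib.Helper16.T75Defs
import Cfsg.Agent.Lib.T75.T75TR1
import Cfsg.Agent.Lib.T75.T75TR2
import Cfsg.Agent.Lib.T75.T75GSET
import Cfsg.Agent.Lib.T75.T75STEP
import Cfsg.Agent.Lib.T75.T75CHAIN
import Cfsg.Agent.Lib.T75.T75TW
import Cfsg.Agent.Lib.T75.T75LIFT
import Cfsg.Agent.Lib.T75.T75CWB
import Cfsg.Agent.Lib.T75.T75AXB
import Cfsg.Agent.Lib.T75.T75NPC
import Cfsg.Agent.Lib.T75.T75CONJ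
import Cfsg.Agent.Lib.T75.T75INTER
import Cfsg.Agent.Lib.T75.T75EQ
import Cfsg.Agent.Lib.T75.T75KERF
import Cfsg.Agent.Lib.T75.T75HYP
import Cfsg.Agent.Lib.T75.T75NEQ

set_option autoImplicit false

namespace Cfsg.Agent.Helper16.T75

open scoped commutatorElement
open Subgroup

/-- S3175. -/
theorem t75_main {G : Type*} [Group G] [Finite G]
    (T : Sylow 2 G) (ha : 2 ^ 14 ≤ Nat.card ↥(T : Subgroup G))
    (hb : Nat.card ↥(Subgroup.upperCentralSeries ↥(T : Subgroup G) 4) = 16)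
    (W : Subgroup ↥(T : Subgroup G))
    (hW : W = Subgroup.centralizer ((Subgroup.upperCentralSeries ↥(T : Subgroup G) 3 :
      Subgroup ↥(T : Subgroup G)) : Set ↥(T : Subgroup G)))
    (hc : Nat.card ↥(frattini ↥W) ≤ 8)
    (hd : ∀ U : Subgroup ↥W, U.index ≤ 16 → frattini ↥W ≤ U) :
    Cfsg.HasNormalPComplement 2 ↥(Subgroup.normalizer ((T : Subgroup G) : Set G)) ∧
      Cfsg.IsWeaklyClosed (W.map (T : Subgroup G).subtype) (T : Subgroup G) := by
  have hT : IsPGroup 2 ↥(T : Subgroup G) := T.isPGroup'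
  obtain ⟨hcT, S'⟩ := T74.t74_asm_setting_of_hyps hT ha hb W hW hc hd
  have S := gsetting_of_setting (T : Subgroup G) hT W S' hb hcT
  constructor
  · apply hasNormalPComplement_normalizer T
    intro x hx hodd
    have hZ4 := centralizes_Z4 S x hx hodd
    have hTW := comm_mem_W S x hx (fun y hy => hZ4 y (S.h34 hy))
    have hlift := exists_fixed_rep S x hx hodd hTW
    have hCWB := centralizer_fixed_le_Z4 S _ inf_le_left hlift
    exact odd_centralizes S x hx hodd hZ4 hlift hCWB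
  · refine ⟨S.hWT, fun g hg => ?_⟩
    obtain ⟨c1, cZ, sq1, comm1, cen1⟩ := conj_facts S g
    have hA := card_inter_ge S _ hg c1
    have hZ3A := S.hd ((W.map (T : Subgroup G).subtype) ⊓
      (W.map (T : Subgroup G).subtype).map (MulAut.conj g).toMonoidHom) inf_le_left
      (by rw [S.cW]; omega)
    by_cases hZ : ((Subgroup.upperCentralSeries ↥(T : Subgroup G) 3).map
        (T : Subgroup G).subtype).map (MulAut.conj g).toMonoidHom =
        (Subgroup.upperCentralSeries ↥(T : Subgroup G) 3).map (T : Subgroup G).subtype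
    · exact eq_of_centralizes S _ hg c1 (fun z hz w hw => cen1 z (by rw [hZ]; exact hz) w hw)
    · exact (false_of_Z_ne S _ _ cZ sq1 comm1 hA hZ3A hZ).elim

end Cfsg.Agent.Helper16.T75
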