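import Mathlib
import Cfsg.Agent.Lib.Helper13.BR996CC
import Cfsg.Agent.Lib.Helper24.CharComplete
import Cfsg.Agent.Lib.Helper24.CharOrtho
import Cfsg.Agent.Lib.Helper24.CharLinear
import Cfsg.Agent.Lib.Helper16.TC648Defs
import Cfsg.Agent.Lib.Helper16.TC648ArithDefs
import Cfsg.Agent.Lib.Helper16.TC648Core
import Cfsg.Agent.Lib.Helper17.TC648SUMJ
import Cfsg.Agent.Lib.Helper19.TC648SUMF
import Cfsg.Agent.Lib.Helper19.TC648SUMV
import Cfsg.Agent.Lib.Helper12.TC648SUME
import Cfsg.Agent.Lib.Helper5.TC648INTJ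
import Cfsg.Agent.Lib.Helper25.TC648INTF
import Cfsg.Agent.Lib.Helper18.TC648INTE
import Cfsg.Agent.Lib.Helper18.TC648INTV
import Cfsg.Agent.Lib.Helper12.TC648GRAMNUM

/-!
# S3702 (helper16): the character-theoretic part, assembled.
`exists_arith : ∃ A : Arith (IrrCharacter G), A.m = C.m` from `Cfg`/`Facts` (pieces INTJ/F/E/V, SUMJ/F/E/V, GRAMNUM).
-/

set_option autoImplicit false
set_option linter.unusedSectionVars false
set_option linter.unusedVariables false
set_option linter.unusedSimpArgs false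

namespace Cfsg.Agent.Helper16.TC648

open Cfsg Cfsg.Agent.Helper24
open scoped ComplexConjugate

universe u

namespace Asm

theorem row_cases (i : Fin 9) :
    (∃ n, i = rowF n) ∨ (∃ n, i = rowE n) ∨ (∃ n, i = rowV n) := by
  fin_cases i
  · exact Or.inl ⟨0, rfl⟩
  · exact Or.inl ⟨1, rfl⟩
  · exact Or.inl ⟨2, rfl⟩
  · exact Or.inl ⟨3, rfl⟩
  · exact Or.inr (Or.inl ⟨0, rfl⟩)
  · exact Or.inr (Or.inl ⟨1, rfl⟩)
  · exact Or.inr (Or.inr ⟨0, rfl⟩)
  · exact Or.inr (Or.inr ⟨1, rfl⟩)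
  · exact Or.inr (Or.inr ⟨2, rfl⟩)

section Chr

variable {G : Type u} [Group G] [Fintype G] [Fintype (IrrCharacter G)]

/-- the coordinates: integers `v X i` with `v X i = ∑_a tab i a X(z a)/|C(z a)|` -/
theorem exists_coord (C : Cfg G) (hF : Facts C) {ω : ℂ} (hω : ω ^ 2 + ω + 1 = 0) :
    ∃ v : IrrCharacter G → Fin 9 → ℤ, ∀ (X : IrrCharacter G) (i : Fin 9),
      (v X i : ℂ) = ∑ a : Fin 9, tab (sq3 ω) i a * (X : G → ℂ) (C.z a) / (cz a : ℂ) := by
  have key : ∀ (X : IrrCharacter G) (i : Fin 9), ∃ n : ℤ,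
      (n : ℂ) = ∑ a : Fin 9, tab (sq3 ω) i a * (X : G → ℂ) (C.z a) / (cz a : ℂ) := by
    intro X i
    have hX := isCharacter_of_isIrrCharacter X.2
    have hcl := isClassFunction_of_isIrrCharacter X.2
    rcases row_cases i with ⟨n, rfl⟩ | ⟨n, rfl⟩ | ⟨n, rfl⟩
    · obtain ⟨a, ha⟩ := int_F C hω hX n
      rw [sum_F C hF hω hcl n] at ha
      refine ⟨a, ?_⟩
      have h108 : (108 : ℂ) ≠ 0 := by norm_num
      apply mul_right_cancel₀ h108
      rw [ha]; ring
    · obtain ⟨a, ha⟩ := int_E C hω hX n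
      rw [sum_E C hF hω hcl n] at ha
      refine ⟨a, ?_⟩
      have h54 : (54 : ℂ) ≠ 0 := by norm_num
      apply mul_right_cancel₀ h54
      rw [ha]; ring
    · obtain ⟨a, ha⟩ := int_V C hω hX n
      rw [sum_V C hF hω hcl n] at ha
      refine ⟨a, ?_⟩
      have h81 : (81 : ℂ) ≠ 0 := by norm_num
      apply mul_right_cancel₀ h81
      rw [ha]; ring
  choose v hv using key
  exact ⟨v, hv⟩

theorem conj_tab {ω : ℂ} (hω : ω ^ 2 + ω + 1 = 0) (i a : Fin 9) :
    conj (tab (sq3 ω) i a) = tab (sq3 ω) i a := by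
  have h := conj_sq3 hω
  fin_cases i <;> fin_cases a <;> simp [tab, h, map_ofNat]

theorem cz_ne (a : Fin 9) : (cz a : ℂ) ≠ 0 := by
  fin_cases a <;> simp [cz]

theorem z_ne_one (C : Cfg G) (hF : Facts C) (a : Fin 9) : C.z a ≠ 1 := by
  intro h
  have h1 := hF.cent a
  rw [h] at h1
  have h2 : Subgroup.centralizer ({(1 : G)} : Set G) = ⊤ := by
    ext x
    simp [Subgroup.mem_centralizer_iff]
  rw [h2, Subgroup.card_top, C.card] at h1
  have hm := C.hm
  have : C.m ≠ 0 := by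
    intro h0
    rw [h0] at hm
    norm_num at hm
  have h3 : 648 ≤ 648 * C.m := Nat.le_mul_of_pos_right 648 (Nat.pos_of_ne_zero this)
  have h4 : cz a ≤ 108 := by fin_cases a <;> simp [cz]
  omega

/-- second orthogonality on the nine classes -/
theorem ortho (C : Cfg G) (hF : Facts C) (a b : Fin 9) :
    ∑ X : IrrCharacter G, (X : G → ℂ) (C.z a) * conj ((X : G → ℂ) (C.z b)) =
      if a = b then (cz a : ℂ) else 0 := by
  classical
  have h1 := second_orthogonality' (G := G) (C.z a) (C.z b)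
  rw [h1]
  by_cases hab : a = b
  · subst hab
    rw [if_pos (IsConj.refl _), if_pos rfl, hF.cent a]
  · rw [if_neg hab, if_neg]
    intro hc
    exact hab (hF.nconj b a hc).symm

theorem ortho_one (C : Cfg G) (hF : Facts C) (a : Fin 9) :
    ∑ X : IrrCharacter G, (X : G → ℂ) (C.z a) * conj ((X : G → ℂ) 1) = 0 := by
  classical
  have h1 := second_orthogonality' (G := G) (C.z a) (1 : G)
  rw [h1, if_neg]
  intro hc
  rw [isConj_one_right] at hc
  exact z_ne_one C hF a hc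

end Chr

section Gram

variable {G : Type u} [Group G] [Fintype G] [Fintype (IrrCharacter G)]

theorem gram (C : Cfg G) (hF : Facts C) {ω : ℂ} (hω : ω ^ 2 + ω + 1 = 0)
    (v : IrrCharacter G → Fin 9 → ℤ)
    (hv : ∀ (X : IrrCharacter G) (i : Fin 9),
      (v X i : ℂ) = ∑ a : Fin 9, tab (sq3 ω) i a * (X : G → ℂ) (C.z a) / (cz a : ℂ)) (i j : Fin 9) :
    ∑ X : IrrCharacter G, v X i * v X j = M0 i j := by
  have hs3 := sq3_sq hω
  have h1 : ∀ X : IrrCharacter G, (v X i : ℂ) * (v X j : ℂ) =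
      ∑ a : Fin 9, ∑ b : Fin 9, (tab (sq3 ω) i a / (cz a : ℂ)) * (tab (sq3 ω) j b / (cz b : ℂ)) *
        ((X : G → ℂ) (C.z a) * conj ((X : G → ℂ) (C.z b))) := by
    intro X
    have hj : (v X j : ℂ) = conj (v X j : ℂ) := by rw [map_intCast]
    rw [hj, hv X i, hv X j, map_sum, Finset.sum_mul_sum]
    refine Finset.sum_congr rfl fun a _ => Finset.sum_congr rfl fun b _ => ?_
    rw [map_div₀, map_mul, conj_tab hω, Complex.conj_natCast]
    ring
  have h2 : ((∑ X : IrrCharacter G, v X i * v X j : ℤ) : ℂ) = ((M0 i j : ℤ) : ℂ) := by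
    push_cast
    simp only [h1]
    rw [Finset.sum_comm]
    have h3 : ∀ a : Fin 9, ∑ X : IrrCharacter G, ∑ b : Fin 9,
        (tab (sq3 ω) i a / (cz a : ℂ)) * (tab (sq3 ω) j b / (cz b : ℂ)) *
          ((X : G → ℂ) (C.z a) * conj ((X : G → ℂ) (C.z b))) =
        tab (sq3 ω) i a * tab (sq3 ω) j a / (cz a : ℂ) := by
      intro a
      rw [Finset.sum_comm]
      have h4 : ∀ b : Fin 9, ∑ X : IrrCharacter G,
          (tab (sq3 ω) i a / (cz a : ℂ)) * (tab (sq3 ω) j b / (cz b : ℂ)) *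
            ((X : G → ℂ) (C.z a) * conj ((X : G → ℂ) (C.z b))) =
          if a = b then tab (sq3 ω) i a * tab (sq3 ω) j a / (cz a : ℂ) else 0 := by
        intro b
        rw [← Finset.mul_sum, ortho C hF a b]
        by_cases hab : a = b
        · subst hab
          rw [if_pos rfl, if_pos rfl]
          have := cz_ne a
          field_simp
        · rw [if_neg hab, if_neg hab, mul_zero]
      simp only [h4]
      rw [Finset.sum_ite_eq]
      simp
    simp only [h3]
    exact gram_num hs3 i j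
  exact_mod_cast h2

theorem deg (C : Cfg G) (hF : Facts C) {ω : ℂ} (hω : ω ^ 2 + ω + 1 = 0)
    (v : IrrCharacter G → Fin 9 → ℤ)
    (hv : ∀ (X : IrrCharacter G) (i : Fin 9),
      (v X i : ℂ) = ∑ a : Fin 9, tab (sq3 ω) i a * (X : G → ℂ) (C.z a) / (cz a : ℂ)) (i : Fin 9) :
    ∑ X : IrrCharacter G, v X i * (charDegree (X : G → ℂ) : ℤ) = 0 := by
  have h1 : ∀ X : IrrCharacter G, (v X i : ℂ) * (charDegree (X : G → ℂ) : ℂ) =
      ∑ a : Fin 9, (tab (sq3 ω) i a / (cz a : ℂ)) *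
        ((X : G → ℂ) (C.z a) * conj ((X : G → ℂ) 1)) := by
    intro X
    rw [hv X i, irr_one_eq_charDegree X.2, Complex.conj_natCast, Finset.sum_mul]
    refine Finset.sum_congr rfl fun a _ => ?_
    ring
  have h2 : ((∑ X : IrrCharacter G, v X i * (charDegree (X : G → ℂ) : ℤ) : ℤ) : ℂ) = 0 := by
    push_cast
    simp only [h1]
    rw [Finset.sum_comm]
    refine Finset.sum_eq_zero fun a _ => ?_
    rw [← Finset.mul_sum, ortho_one C hF a, mul_zero]
  exact_mod_cast h2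

end Gram



section Vals

variable {G : Type u} [Group G] [Fintype G] [Fintype (IrrCharacter G)]

theorem coord_one (C : Cfg G) {ω : ℂ} (hω : ω ^ 2 + ω + 1 = 0)
    (v : IrrCharacter G → Fin 9 → ℤ)
    (hv : ∀ (X : IrrCharacter G) (i : Fin 9),
      (v X i : ℂ) = ∑ a : Fin 9, tab (sq3 ω) i a * (X : G → ℂ) (C.z a) / (cz a : ℂ)) :
    v (principalChar G) = v1 := by
  funext i
  have h1 := hv (principalChar G) i
  have h2 : ∀ a : Fin 9, ((principalChar G : IrrCharacter G) : G → ℂ) (C.z a) = 1 := fun a => rfl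
  simp only [h2, mul_one] at h1
  have h3 : ((v (principalChar G) i : ℤ) : ℂ) = ((v1 i : ℤ) : ℂ) := by
    rw [h1]
    fin_cases i <;> simp [Fin.sum_univ_succ, tab, cz, v1] <;> ring
  exact_mod_cast h3

theorem val_f (C : Cfg G) {ω : ℂ} (hω : ω ^ 2 + ω + 1 = 0)
    (v : IrrCharacter G → Fin 9 → ℤ)
    (hv : ∀ (X : IrrCharacter G) (i : Fin 9),
      (v X i : ℂ) = ∑ a : Fin 9, tab (sq3 ω) i a * (X : G → ℂ) (C.z a) / (cz a : ℂ))
    (X : IrrCharacter G) : (X : G → ℂ) (C.z 0) = ((xf v X : ℤ) : ℂ) := by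
  unfold xf pp qq rr
  push_cast
  simp only [hv]
  simp [Fin.sum_univ_succ, tab, cz]
  ring

theorem val_e (C : Cfg G) {ω : ℂ} (hω : ω ^ 2 + ω + 1 = 0)
    (v : IrrCharacter G → Fin 9 → ℤ)
    (hv : ∀ (X : IrrCharacter G) (i : Fin 9),
      (v X i : ℂ) = ∑ a : Fin 9, tab (sq3 ω) i a * (X : G → ℂ) (C.z a) / (cz a : ℂ))
    (X : IrrCharacter G) : (X : G → ℂ) (C.z 1) = ((xe v X : ℤ) : ℂ) := by
  unfold xe pp rr
  push_cast
  simp only [hv]
  simp [Fin.sum_univ_succ, tab, cz]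
  ring

theorem val_v (C : Cfg G) {ω : ℂ} (hω : ω ^ 2 + ω + 1 = 0)
    (v : IrrCharacter G → Fin 9 → ℤ)
    (hv : ∀ (X : IrrCharacter G) (i : Fin 9),
      (v X i : ℂ) = ∑ a : Fin 9, tab (sq3 ω) i a * (X : G → ℂ) (C.z a) / (cz a : ℂ))
    (X : IrrCharacter G) : (X : G → ℂ) (C.z 2) = ((xv v X : ℤ) : ℂ) := by
  unfold xv pp qq
  push_cast
  simp only [hv]
  simp [Fin.sum_univ_succ, tab, cz]
  ring

end Vals


section Final

variable {G : Type u} [Group G] [Fintype G] [Fintype (IrrCharacter G)]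

theorem cong (C : Cfg G) (hF : Facts C) {ω : ℂ} (hω : ω ^ 2 + ω + 1 = 0)
    (v : IrrCharacter G → Fin 9 → ℤ)
    (hv : ∀ (X : IrrCharacter G) (i : Fin 9),
      (v X i : ℂ) = ∑ a : Fin 9, tab (sq3 ω) i a * (X : G → ℂ) (C.z a) / (cz a : ℂ))
    (X : IrrCharacter G) :
    ((charDegree (X : G → ℂ) : ℤ) - (pp v X - 6 * qq v X + 18 * rr v X)) % 27 = 0 := by
  obtain ⟨n, hn⟩ := int_J C (isCharacter_of_isIrrCharacter X.2)
  rw [sum_J C hF (isClassFunction_of_isIrrCharacter X.2), val_f C hω v hv X, val_e C hω v hv X,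
    val_v C hω v hv X, irr_one_eq_charDegree X.2] at hn
  have h1 : (n : ℤ) * 27 = (charDegree (X : G → ℂ) : ℤ) + 6 * xf v X + 12 * xe v X + 8 * xv v X := by
    exact_mod_cast hn
  unfold xf xe xv at h1
  omega

/-- the class constants as sums over the irreducible characters -/
theorem teq (x y w : G) (px py pw : IrrCharacter G → ℤ)
    (hx : ∀ X : IrrCharacter G, (X : G → ℂ) x = (px X : ℂ))
    (hy : ∀ X : IrrCharacter G, (X : G → ℂ) y = (py X : ℂ))
    (hw : ∀ X : IrrCharacter G, (X : G → ℂ) w = (pw X : ℂ)) (n : ℕ)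
    (hn : Nat.card {p : G × G // (p.1 * x * p.1⁻¹) * (p.2 * y * p.2⁻¹) = w} = n) :
    ∑ X : IrrCharacter G, ((px X : ℚ) * (py X : ℚ) * (pw X : ℚ)) / (charDegree (X : G → ℂ) : ℚ) =
      (n : ℚ) / (Nat.card G : ℚ) := by
  have h1 := Cfsg.Agent.Helper10.BR996.class_const (G := G) x y w
  rw [hn] at h1
  have hG0 : (Nat.card G : ℂ) ≠ 0 := by
    have : 0 < Nat.card G := Nat.card_pos
    exact_mod_cast this.ne'
  have h2 : ∑ χ : IrrCharacter G, (χ : G → ℂ) x * (χ : G → ℂ) y *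
      conj ((χ : G → ℂ) w) / (χ : G → ℂ) 1 =
      ((∑ X : IrrCharacter G, ((px X : ℚ) * (py X : ℚ) * (pw X : ℚ)) /
        (charDegree (X : G → ℂ) : ℚ) : ℚ) : ℂ) := by
    push_cast
    refine Finset.sum_congr rfl fun X _ => ?_
    rw [hx X, hy X, hw X, map_intCast, irr_one_eq_charDegree X.2]
  rw [h2] at h1
  have h3 : ((∑ X : IrrCharacter G, ((px X : ℚ) * (py X : ℚ) * (pw X : ℚ)) /
        (charDegree (X : G → ℂ) : ℚ) : ℚ) : ℂ) = (((n : ℚ) / (Nat.card G : ℚ) : ℚ) : ℂ) := by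
    rw [Rat.cast_div, Rat.cast_natCast, Rat.cast_natCast, eq_div_iff hG0, mul_comm]
    exact h1.symm
  exact_mod_cast h3

/-- the arithmetic data of `G` -/
theorem exists_arith (C : Cfg G) (hF : Facts C) :
    ∃ A : Arith (IrrCharacter G), A.m = C.m := by
  obtain ⟨ωu, hω3, hω⟩ : ∃ w : ℂˣ, w ^ 3 = 1 ∧ (w : ℂ) ^ 2 + (w : ℂ) + 1 = 0 := by
    have hp : IsPrimitiveRoot (Complex.exp (2 * Real.pi * Complex.I / ((3 : ℕ) : ℂ))) 3 :=
      Complex.isPrimitiveRoot_exp 3 (by norm_num)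
    set z := Complex.exp (2 * Real.pi * Complex.I / ((3 : ℕ) : ℂ)) with hz
    have h3 : z ^ 3 = 1 := hp.pow_eq_one
    have hne1 : z ≠ 1 := hp.ne_one (by norm_num)
    have hz0 : z ≠ 0 := by
      intro h0
      rw [h0] at h3
      norm_num at h3
    have hq : z ^ 2 + z + 1 = 0 := by
      have hm : (z - 1) * (z ^ 2 + z + 1) = 0 := by
        linear_combination h3
      rcases mul_eq_zero.mp hm with h | h
      · exact absurd (sub_eq_zero.mp h) hne1
      · exact h
    refine ⟨Units.mk0 z hz0, ?_, ?_⟩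
    · apply Units.ext
      rw [Units.val_pow_eq_pow_val, Units.val_mk0, h3, Units.val_one]
    · rw [Units.val_mk0]
      exact hq
  set ω : ℂ := (ωu : ℂ) with hωdef
  obtain ⟨v, hv⟩ := exists_coord C hF hω
  have hf := val_f C hω v hv
  have he := val_e C hω v hv
  have hvv := val_v C hω v hv
  have hdo : charDegree ((principalChar G : IrrCharacter G) : G → ℂ) = 1 := by
    apply charDegree_natCast 1
    show (1 : ℂ) = ((1 : ℕ) : ℂ)
    simp
  have T1 := teq (C.z 0) (C.z 1) (C.z 0) (xf v) (xe v) (xf v) hf he hf 23328 hF.cnt_ffe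
  have T2 := teq (C.z 0) (C.z 1) (C.z 1) (xf v) (xe v) (xe v) hf he he 11664 hF.cnt_fee
  have T3 := teq (C.z 0) (C.z 1) (C.z 2) (xf v) (xe v) (xv v) hf he hvv 17496 hF.cnt_fev
  have T4 := teq (C.z 0) (C.z 2) (C.z 0) (xf v) (xv v) (xf v) hf hvv hf 0 hF.cnt_fvf
  have T5 := teq (C.z 0) (C.z 2) (C.z 2) (xf v) (xv v) (xv v) hf hvv hvv 26244 hF.cnt_fvv
  have T6 := teq (C.z 1) (C.z 2) (C.z 1) (xe v) (xv v) (xe v) he hvv he 17496 hF.cnt_eve
  have T7 := teq (C.z 1) (C.z 2) (C.z 2) (xe v) (xv v) (xv v) he hvv hvv 13122 hF.cnt_evv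
  refine ⟨{ d := fun X => charDegree (X : G → ℂ)
            v := v
            o := principalChar G
            g := Nat.card G
            m := C.m
            dpos := fun X => charDegree_pos X.2
            hg := C.card
            hm := C.hm
            ho := coord_one C hω v hv
            hdo := hdo
            gram := gram C hF hω v hv
            deg := deg C hF hω v hv
            sq := sum_charDegree_sq
            cong := cong C hF hω v hv
            Tffe := ?_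
            Tffv := ?_
            Tfee := ?_
            Tfvv := ?_
            Teev := ?_
            Tevv := ?_
            Tfev := ?_ }, rfl⟩
  · rw [← Nat.cast_ofNat (n := 23328), ← T1]
    refine Finset.sum_congr rfl fun X _ => ?_
    ring
  · rw [← zero_div ((Nat.card G : ℚ)), ← Nat.cast_zero, ← T4]
    refine Finset.sum_congr rfl fun X _ => ?_
    ring
  · rw [← Nat.cast_ofNat (n := 11664), ← T2]
    refine Finset.sum_congr rfl fun X _ => ?_
    ring
  · rw [← Nat.cast_ofNat (n := 26244), ← T5]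
    refine Finset.sum_congr rfl fun X _ => ?_
    ring
  · rw [← Nat.cast_ofNat (n := 17496), ← T6]
    refine Finset.sum_congr rfl fun X _ => ?_
    ring
  · rw [← Nat.cast_ofNat (n := 13122), ← T7]
    refine Finset.sum_congr rfl fun X _ => ?_
    ring
  · rw [← Nat.cast_ofNat (n := 17496), ← T3]

end Final

end Asm

end Cfsg.Agent.Helper16.TC648
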