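import Mathlib
import Cfsg.Agent.Lib.Helper16.TC648ArithDefs

/-!
# S3702 (helper16): the two surviving realizations of the Gram matrix `M0` (output of STRUCT)

Columns are indexed as in `M0`: coordinates `0..3 = ξ0..ξ3`, `4,5 = ζ+, ζ-`, `6,7,8 = υ0, υ1, υ2`.
NATURAL: 14 characters `X_χ` (`χ ∈ Irr(H)`) with `v X_χ = ± (column of χ)`:
the nine unit vectors (`φ0..φ3, ψ+, ψ-, η0, η1, η2`) and the five columns of `1, sgn, χ2, χ3, χ3'`.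
EXOTIC: 13 characters: `{sgn, φ2, ψ-, η0}` replaced by three characters with columns `η0 + ψ-`, `φ2 + ψ-`, `φ2 + η0`.
-/

set_option autoImplicit false

namespace Cfsg.Agent.Helper16.TC648

/-- the natural columns: `0..8` the unit vectors, `9..13` = `1, sgn, χ2, χ3, χ3'` -/
def ncol : Fin 14 → Fin 9 → ℤ :=
  ![![1, 0, 0, 0, 0, 0, 0, 0, 0],
    ![0, 1, 0, 0, 0, 0, 0, 0, 0],
    ![0, 0, 1, 0, 0, 0, 0, 0, 0],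
    ![0, 0, 0, 1, 0, 0, 0, 0, 0],
    ![0, 0, 0, 0, 1, 0, 0, 0, 0],
    ![0, 0, 0, 0, 0, 1, 0, 0, 0],
    ![0, 0, 0, 0, 0, 0, 1, 0, 0],
    ![0, 0, 0, 0, 0, 0, 0, 1, 0],
    ![0, 0, 0, 0, 0, 0, 0, 0, 1],
    ![-1, 0, 0, 0, -1, 0, -1, 0, 0],
    ![0, 0, -1, 0, 0, -1, -1, 0, 0],
    ![-1, 0, -1, 0, -1, -1, 0, -1, -1],
    ![0, -1, -1, -1, -2, -1, -1, -1, -1],
    ![-1, -1, 0, -1, -1, -2, -1, -1, -1]]

/-- the exotic columns: `φ0, φ1, φ3, ψ+, η1, η2` (unit vectors `0,1,3,4,7,8`), `1, χ2, χ3, χ3'`,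
then `η0 + ψ-`, `φ2 + ψ-`, `φ2 + η0` -/
def ecol : Fin 13 → Fin 9 → ℤ :=
  ![![1, 0, 0, 0, 0, 0, 0, 0, 0],
    ![0, 1, 0, 0, 0, 0, 0, 0, 0],
    ![0, 0, 0, 1, 0, 0, 0, 0, 0],
    ![0, 0, 0, 0, 1, 0, 0, 0, 0],
    ![0, 0, 0, 0, 0, 0, 0, 1, 0],
    ![0, 0, 0, 0, 0, 0, 0, 0, 1],
    ![-1, 0, 0, 0, -1, 0, -1, 0, 0],
    ![-1, 0, -1, 0, -1, -1, 0, -1, -1],
    ![0, -1, -1, -1, -2, -1, -1, -1, -1],
    ![-1, -1, 0, -1, -1, -2, -1, -1, -1],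
    ![0, 0, 0, 0, 0, 1, 1, 0, 0],
    ![0, 0, 1, 0, 0, 1, 0, 0, 0],
    ![0, 0, 1, 0, 0, 0, 1, 0, 0]]

variable {ι : Type*}

/-- `v` is, up to signs, the realization with columns `col` -/
def Realizes {n : ℕ} (col : Fin n → Fin 9 → ℤ) (v : ι → Fin 9 → ℤ) : Prop :=
  ∃ (f : Fin n → ι) (ε : Fin n → ℤ), Function.Injective f ∧ (∀ a, ε a = 1 ∨ ε a = -1) ∧
    (∀ a i, v (f a) i = ε a * col a i) ∧ ∀ Y, (∀ a, Y ≠ f a) → v Y = 0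

end Cfsg.Agent.Helper16.TC648
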