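import Mathlib
import Cfsg.Agent.Lib.Helper16.TC648ArithDefs
import Cfsg.Agent.Lib.Helper16.TC648StructDefs
import Cfsg.Agent.Lib.Helper26.S3702Lin
import Cfsg.Agent.Lib.Helper26.S3702BEnd

/-!
# S3702 (helper16): the two endgames of the arithmetic part (KILL of the exotic realization, NAT)
-/

set_option autoImplicit false
set_option linter.unusedSectionVars false
set_option linter.unusedVariables false
set_option linter.unusedSimpArgs false

namespace Cfsg.Agent.Helper16.TC648

namespace EndCore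

variable {ι : Type*} [Fintype ι]

/-- a sum over `ι` of a function vanishing outside the range of an injective `f : Fin n → ι` -/
theorem sum_of_inj {n : ℕ} (f : Fin n → ι) (hf : Function.Injective f) (g : ι → ℚ)
    (h0 : ∀ Y, (∀ a, Y ≠ f a) → g Y = 0) : ∑ X, g X = ∑ a, g (f a) := by
  classical
  rw [← Finset.sum_image (s := Finset.univ) (g := f) (f := g) (fun a _ b _ h => hf h)]
  symm
  apply Finset.sum_subset (Finset.subset_univ _)
  intro Y _ hY
  apply h0
  intro a ha
  apply hY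
  rw [ha]
  exact Finset.mem_image_of_mem f (Finset.mem_univ a)

section Lin

variable {n : ℕ} {col : Fin n → Fin 9 → ℤ} {v : ι → Fin 9 → ℤ} {f : Fin n → ι} {ε : Fin n → ℤ}

theorem xf_real (hv : ∀ a i, v (f a) i = ε a * col a i) (a : Fin n) :
    xf v (f a) = ε a * xf col a := by
  unfold xf pp qq rr
  simp only [hv]
  ring

theorem xe_real (hv : ∀ a i, v (f a) i = ε a * col a i) (a : Fin n) :
    xe v (f a) = ε a * xe col a := by
  unfold xe pp rr
  simp only [hv]
  ring

theorem xv_real (hv : ∀ a i, v (f a) i = ε a * col a i) (a : Fin n) :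
    xv v (f a) = ε a * xv col a := by
  unfold xv pp qq
  simp only [hv]
  ring

theorem x_zero {Y : ι} (h : v Y = 0) : xf v Y = 0 ∧ xe v Y = 0 ∧ xv v Y = 0 := by
  unfold xf xe xv pp qq rr
  simp [h]

/-- one cubic sum in terms of the signed degrees -/
theorem cubic (hf : Function.Injective f) (hε : ∀ a, ε a = 1 ∨ ε a = -1)
    (hv : ∀ a i, v (f a) i = ε a * col a i) (h0 : ∀ Y, (∀ a, Y ≠ f a) → v Y = 0)
    (d : ι → ℕ) (hd : ∀ X, 0 < d X)
    (x y z : (ι → Fin 9 → ℤ) → ι → ℤ) (x' y' z' : (Fin n → Fin 9 → ℤ) → Fin n → ℤ)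
    (hx : ∀ a, x v (f a) = ε a * x' col a) (hy : ∀ a, y v (f a) = ε a * y' col a)
    (hz : ∀ a, z v (f a) = ε a * z' col a)
    (hx0 : ∀ Y, v Y = 0 → x v Y = 0) :
    ∑ X, ((x v X : ℚ) * (y v X : ℚ) * (z v X : ℚ)) / (d X : ℚ) =
      ∑ a, ((x' col a : ℚ) * (y' col a : ℚ) * (z' col a : ℚ)) * ((ε a : ℚ) / (d (f a) : ℚ)) := by
  rw [sum_of_inj f hf _ (fun Y hY => by rw [hx0 Y (h0 Y hY)]; simp)]
  refine Finset.sum_congr rfl fun a _ => ?_
  rw [hx a, hy a, hz a]
  have hdne : (d (f a) : ℚ) ≠ 0 := by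
    have := hd (f a)
    exact_mod_cast this.ne'
  rcases hε a with h | h <;> rw [h] <;> push_cast <;> field_simp

end Lin

end EndCore

end Cfsg.Agent.Helper16.TC648
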