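import Mathlib
import Cfsg.Agent.Lib.Helper5.TLDefs
import Cfsg.Agent.Lib.Helper5.TL2Defs

set_option autoImplicit false

namespace Cfsg.Agent.Helper5.TL

open scoped Padic

variable (p : ℕ) [Fact p.Prime]

variable {L : Type*} [AddCommGroup L] [Module ℤ_[p] L]

/-- the cyclic shift of the first index -/
def trfShift (hp : 0 < p) (r : ℕ) (k : Fin p × Fin r) : Fin p × Fin r :=
  if h : (k.1 : ℕ) + 1 < p then (⟨(k.1 : ℕ) + 1, h⟩, k.2) else (⟨0, hp⟩, k.2)

omit [Fact p.Prime] in
theorem trfShift_ne (hp : 2 ≤ p) (r : ℕ) (k : Fin p × Fin r) :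
    trfShift p (by omega) r k ≠ k := by
  unfold trfShift
  intro h
  split_ifs at h with h1
  · have := congrArg (fun x => (x.1 : ℕ)) h
    simp at this
  · have := congrArg (fun x => (x.1 : ℕ)) h
    simp only at this
    have hk := k.1.2
    omega

theorem trf_X_apply (X : Module.End ℤ_[p] L) (hX : X ^ p = 1) (hp : 0 < p) (r : ℕ) (v : Fin r → L)
    (k : Fin p × Fin r) :
    X ((X ^ (k.1 : ℕ)) (v k.2)) =
      (X ^ ((trfShift p hp r k).1 : ℕ)) (v (trfShift p hp r k).2) := by
  rw [← Module.End.mul_apply, ← pow_succ']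
  unfold trfShift
  split_ifs with h1
  · rfl
  · have hk := k.1.2
    have : (k.1 : ℕ) + 1 = p := by omega
    simp only [this, hX, pow_zero]

/-- PIECE TRF: the free part contributes `0` to the trace. -/
theorem trace_free_part [Module.Free ℤ_[p] L] [Module.Finite ℤ_[p] L] (X : Module.End ℤ_[p] L)
    (hX : X ^ p = 1) (F : Submodule ℤ_[p] L) (r : ℕ) (v : Fin r → L)
    (hli : LinearIndependent ℤ_[p] (fun ij : Fin p × Fin r => (X ^ (ij.1 : ℕ)) (v ij.2)))
    (hspan : Submodule.span ℤ_[p]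
      (Set.range (fun ij : Fin p × Fin r => (X ^ (ij.1 : ℕ)) (v ij.2))) = F)
    (qF : Module.End ℤ_[p] L) (hq1 : ∀ u, qF u ∈ F) (hq2 : ∀ u ∈ F, qF u = u) :
    LinearMap.trace ℤ_[p] L (X * qF) = 0 := by
  classical
  have hp : p.Prime := Fact.out
  have hp0 : 0 < p := hp.pos
  subst hspan
  set B : Fin p × Fin r → L := fun ij => (X ^ (ij.1 : ℕ)) (v ij.2) with hB
  have hBmem : ∀ k, B k ∈ Submodule.span ℤ_[p] (Set.range B) :=
    fun k => Submodule.subset_span ⟨k, rfl⟩
  have hXB : ∀ k, X (B k) = B (trfShift p hp0 r k) := fun k => trf_X_apply p X hX hp0 r v k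
  have hstab : ∀ u ∈ Submodule.span ℤ_[p] (Set.range B), X u ∈ Submodule.span ℤ_[p] (Set.range B) := by
    intro u hu
    have : Submodule.map X (Submodule.span ℤ_[p] (Set.range B)) ≤
        Submodule.span ℤ_[p] (Set.range B) := by
      rw [Submodule.map_span_le]
      rintro _ ⟨k, rfl⟩
      rw [hXB]; exact hBmem _
    exact this (Submodule.mem_map_of_mem hu)
  have hT : ∀ x, (X * qF) x ∈ Submodule.span ℤ_[p] (Set.range B) := by
    intro x
    rw [Module.End.mul_apply]
    exact hstab _ (hq1 x)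
  rw [← LinearMap.trace_restrict_eq_of_forall_mem (Submodule.span ℤ_[p] (Set.range B)) (X * qF) hT]
  set b := Module.Basis.span hli with hb
  rw [LinearMap.trace_eq_matrix_trace ℤ_[p] b, Matrix.trace]
  apply Finset.sum_eq_zero
  intro k _
  rw [Matrix.diag_apply, LinearMap.toMatrix_apply]
  have hbk : ∀ k, ((b k : Submodule.span ℤ_[p] (Set.range B)) : L) = B k := fun k =>
    congrArg Subtype.val (Module.Basis.span_apply hli k)
  have h1 : ((X * qF).restrict (fun x _ => hT x)) (b k) = b (trfShift p hp0 r k) := by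
    apply Subtype.ext
    rw [LinearMap.coe_restrict_apply, Module.End.mul_apply, hbk, hq2 _ (hBmem k), hXB, hbk]
  rw [h1, Module.Basis.repr_self, Finsupp.single_apply, if_neg (trfShift_ne p hp.two_le r k)]

end Cfsg.Agent.Helper5.TL
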