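import Mathlib

/-! # S3366 piece SYL (helper16 for helper17) -/

set_option autoImplicit false

namespace Cfsg.Agent.Helper17.TSL

theorem syl_fact648 : (648 : ℕ).factorization 3 = 4 := by
  have h : (648 : ℕ) = 3 ^ 4 * 8 := by norm_num
  rw [h, Nat.factorization_mul (by norm_num) (by norm_num), Finsupp.add_apply,
    Nat.Prime.factorization_pow Nat.prime_three, Finsupp.single_eq_same,
    Nat.factorization_eq_zero_of_not_dvd (by norm_num)]

theorem syl_fact25920 : (25920 : ℕ).factorization 3 = 4 := by
  have h : (25920 : ℕ) = 3 ^ 4 * 320 := by norm_num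
  rw [h, Nat.factorization_mul (by norm_num) (by norm_num), Finsupp.add_apply,
    Nat.Prime.factorization_pow Nat.prime_three, Finsupp.single_eq_same,
    Nat.factorization_eq_zero_of_not_dvd (by norm_num)]

theorem exists_sylow_of_card {G : Type*} [Group G] [Finite G] (c : G) (hc : orderOf c = 3)
    (h1 : Nat.card (Subgroup.centralizer ({c} : Set G)) = 648) (h2 : Nat.card G = 25920) :
    ∃ P : Sylow 3 G, c ∈ (P : Subgroup G) ∧
      c ∈ Subgroup.centralizer ((P : Subgroup G) : Set G) := by
  have : Fact (Nat.Prime 3) := ⟨Nat.prime_three⟩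
  set C := Subgroup.centralizer ({c} : Set G) with hC
  have hcC : c ∈ C := by
    rw [hC, Subgroup.mem_centralizer_iff]
    intro h hh
    rw [Set.mem_singleton_iff] at hh
    subst hh
    rfl
  -- the 3-subgroup generated by c inside C
  let c' : C := ⟨c, hcC⟩
  have hc'3 : c' ^ 3 = 1 := by
    apply Subtype.ext
    simp only [c', SubmonoidClass.mk_pow, OneMemClass.coe_one]
    rw [← hc]
    exact pow_orderOf_eq_one c
  have hpg : IsPGroup 3 (Subgroup.zpowers c') := by
    rw [IsPGroup.iff_card]
    have hne : c' ≠ 1 := by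
      intro h
      have : c = 1 := congrArg Subtype.val h
      rw [this, orderOf_one] at hc
      omega
    have : orderOf c' = 3 := orderOf_eq_prime hc'3 hne
    exact ⟨1, by rw [Nat.card_zpowers, this, pow_one]⟩
  obtain ⟨P0, hP0⟩ := hpg.exists_le_sylow
  have hcard0 : Nat.card (P0 : Subgroup C) = 81 := by
    rw [Sylow.card_eq_multiplicity, h1, syl_fact648]
    norm_num
  -- its image in G
  have hcardP : Nat.card ((P0 : Subgroup C).map C.subtype) = 3 ^ (Nat.card G).factorization 3 := by
    rw [Nat.card_congr ((P0 : Subgroup C).equivMapOfInjective C.subtype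
      (Subgroup.subtype_injective C)).symm.toEquiv, hcard0, h2, syl_fact25920]
    norm_num
  refine ⟨Sylow.ofCard ((P0 : Subgroup C).map C.subtype) hcardP, ?_, ?_⟩
  · rw [Sylow.coe_ofCard, Subgroup.mem_map]
    exact ⟨c', hP0 (Subgroup.mem_zpowers c'), rfl⟩
  · rw [Subgroup.mem_centralizer_iff]
    intro x hx
    rw [SetLike.mem_coe, Sylow.coe_ofCard, Subgroup.mem_map] at hx
    obtain ⟨y, _, rfl⟩ := hx
    have hy : (y : G) ∈ Subgroup.centralizer ({c} : Set G) := y.2
    rw [Subgroup.mem_centralizer_iff] at hy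
    exact (hy c rfl).symm

end Cfsg.Agent.Helper17.TSL
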