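import Mathlib

/-! # S3366 piece TRANSPORT (helper16 for helper17) -/

set_option autoImplicit false

namespace Cfsg.Agent.Helper17.TSL

/-- aux: transport of a centralizer along a group isomorphism -/
noncomputable def transport_centEquiv {G G' : Type*} [Group G] [Group G'] (j : G ≃* G') (c : G) :
    Subgroup.centralizer ({c} : Set G) ≃* Subgroup.centralizer ({j c} : Set G') where
  toFun x := ⟨j x, by
    have hx := x.2
    rw [Subgroup.mem_centralizer_iff] at hx ⊢
    intro h hh
    rw [Set.mem_singleton_iff] at hh
    subst hh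
    have := hx c rfl
    rw [← map_mul, ← map_mul, this]⟩
  invFun y := ⟨j.symm y, by
    have hy := y.2
    rw [Subgroup.mem_centralizer_iff] at hy ⊢
    intro h hh
    rw [Set.mem_singleton_iff] at hh
    subst hh
    have := hy (j h) rfl
    apply j.injective
    rw [map_mul, map_mul, MulEquiv.apply_symm_apply]
    exact this⟩
  left_inv x := by ext; simp
  right_inv y := by ext; simp
  map_mul' x y := by ext; simp

theorem transport {G G' X : Type*} [Group G] [Group G'] [Group X] (j : G ≃* G')
    (h : ∃ (c : G) (P : Sylow 3 G), orderOf c = 3 ∧ c ∈ (P : Subgroup G) ∧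
      c ∈ Subgroup.centralizer ((P : Subgroup G) : Set G) ∧
      Nonempty (X ≃* Subgroup.centralizer ({c} : Set G))) :
    ∃ (c : G') (P : Sylow 3 G'), orderOf c = 3 ∧ c ∈ (P : Subgroup G') ∧
      c ∈ Subgroup.centralizer ((P : Subgroup G') : Set G') ∧
      Nonempty (X ≃* Subgroup.centralizer ({c} : Set G')) := by
  obtain ⟨c, P, hc, hcP, hcC, ⟨e⟩⟩ := h
  have hinj : Function.Injective (j.symm : G' →* G) := j.symm.injective
  have hrange : (P : Subgroup G) ≤ (j.symm : G' →* G).range := by
    intro x _
    exact ⟨j x, by simp⟩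
  refine ⟨j c, P.comapOfInjective (j.symm : G' →* G) hinj hrange, ?_, ?_, ?_, ?_⟩
  · rw [← hc]
    exact j.orderOf_eq c
  · rw [Sylow.coe_comapOfInjective, Subgroup.mem_comap]
    simpa using hcP
  · rw [Subgroup.mem_centralizer_iff]
    intro x hx
    rw [SetLike.mem_coe, Sylow.coe_comapOfInjective, Subgroup.mem_comap] at hx
    rw [Subgroup.mem_centralizer_iff] at hcC
    have := hcC _ hx
    have h2 := congrArg j this
    simpa using h2
  · exact ⟨e.trans (transport_centEquiv j c)⟩

end Cfsg.Agent.Helper17.TSL
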