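import Mathlib
import Cfsg.Prelude.Def_SporadicB
import Cfsg.Prelude.Def_Solvable

set_option autoImplicit false

namespace Cfsg.Agent.Helper16.TT

variable {G : Type*} [Group G]

/-- members of `D` different from `d` commuting with `d` -/
def Dd (D : Set G) (d : G) : Set G := {y : G | y ∈ D ∧ y ≠ d ∧ Commute d y}

theorem mem_Dd {D : Set G} {d y : G} : y ∈ Dd D d ↔ y ∈ D ∧ y ≠ d ∧ Commute d y := Iff.rfl

section words

theorem sq_eq_one_of_inverts {e a u : G} (h3 : (e * a) ^ 3 = 1)
    (hau : a * u * a⁻¹ = u⁻¹) (heu : e * u = u * e) : u * u = 1 := by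
  set x := e * a with hx
  have heu' : e * u⁻¹ = u⁻¹ * e := by
    have : u⁻¹ * (e * u) * u⁻¹ = u⁻¹ * (u * e) * u⁻¹ := by rw [heu]
    simpa [mul_assoc] using this.symm
  have h1 : x * u = u⁻¹ * x := by
    have : a * u = u⁻¹ * a := by
      have := congrArg (· * a) hau
      simpa [mul_assoc] using this
    calc x * u = e * (a * u) := by rw [hx, mul_assoc]
      _ = e * (u⁻¹ * a) := by rw [this]
      _ = (e * u⁻¹) * a := by rw [mul_assoc]
      _ = u⁻¹ * e * a := by rw [heu']
      _ = u⁻¹ * x := by rw [hx, mul_assoc]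
  have h2 : x * u⁻¹ = u * x := by
    have : u * (x * u) * u⁻¹ = u * (u⁻¹ * x) * u⁻¹ := by rw [h1]
    simpa [mul_assoc] using this.symm
  have h4 : x ^ 3 * u = u⁻¹ * x ^ 3 := by
    calc x ^ 3 * u = x * (x * (x * u)) := by rw [pow_succ, pow_two]; simp only [mul_assoc]
      _ = x * (x * (u⁻¹ * x)) := by rw [h1]
      _ = x * ((x * u⁻¹) * x) := by simp only [mul_assoc]
      _ = x * ((u * x) * x) := by rw [h2]
      _ = (x * u) * (x * x) := by simp only [mul_assoc]
      _ = (u⁻¹ * x) * (x * x) := by rw [h1]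
      _ = u⁻¹ * x ^ 3 := by rw [pow_succ, pow_two]; simp only [mul_assoc]
  rw [h3, one_mul, mul_one] at h4
  calc u * u = u * u⁻¹ := by rw [← h4]
    _ = 1 := mul_inv_cancel u

/-- Coxeter `A₃` computation: the conjugate of the middle node by the product of the end nodes
commutes with the middle node. -/
theorem conj_comm_word {a d e : G} (had : a * d = d * a)
    (b1 : e * a * e = a * e * a) (b2 : e * d * e = d * e * d) :
    e * (a * d * e * d * a) = (a * d * e * d * a) * e := by
  have b2' : ∀ z, d * (e * (d * z)) = e * (d * (e * z)) := fun z => by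
    have := congrArg (· * z) b2.symm
    simpa [mul_assoc] using this
  have b1' : ∀ z, e * (a * (e * z)) = a * (e * (a * z)) := fun z => by
    have := congrArg (· * z) b1
    simpa [mul_assoc] using this
  have had' : ∀ z, a * (d * z) = d * (a * z) := fun z => by
    have := congrArg (· * z) had
    simpa [mul_assoc] using this
  have b1r : a * (e * a) = e * (a * e) := by
    have := b1.symm
    simpa [mul_assoc] using this
  simp only [mul_assoc]
  rw [b2' a, b1' (d * (e * a)), had' (e * a), b1r, ← b2' (a * e)]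

end words

section basic
variable {D : Set G} (hD : Cfsg.IsThreeTranspositionSet D)
include hD

theorem mul_self_of_mem {d : G} (hd : d ∈ D) : d * d = 1 := by
  have h := hD.1 d hd
  have := pow_orderOf_eq_one d
  rw [h, pow_two] at this
  exact this

theorem inv_of_mem {d : G} (hd : d ∈ D) : d⁻¹ = d :=
  inv_eq_of_mul_eq_one_left (mul_self_of_mem hD hd)

theorem ne_one_of_mem {d : G} (hd : d ∈ D) : d ≠ 1 := by
  intro h
  have := hD.1 d hd
  rw [h, orderOf_one] at this
  omega

theorem cube_of_not_commute {d e : G} (hd : d ∈ D) (he : e ∈ D) (h : ¬ Commute d e) :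
    (d * e) ^ 3 = 1 := by
  rcases hD.2 d hd e he with h2 | h3
  · exfalso
    apply h
    have h1 : d * e * (d * e) = 1 := by rw [← pow_two]; exact h2
    have h4 : d * e = (d * e)⁻¹ := eq_inv_of_mul_eq_one_left h1
    rw [mul_inv_rev, inv_of_mem hD hd, inv_of_mem hD he] at h4
    exact h4
  · exact h3

theorem braid_of_not_commute {d e : G} (hd : d ∈ D) (he : e ∈ D) (h : ¬ Commute d e) :
    d * e * d = e * d * e := by
  have h3 := cube_of_not_commute hD hd he h
  have h1 : (d * e * d) * (e * d * e) = 1 := by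
    have : (d * e) ^ 3 = (d * e * d) * (e * d * e) := by
      rw [pow_succ, pow_two]; simp only [mul_assoc]
    rw [← this]; exact h3
  have h2 : d * e * d = (e * d * e)⁻¹ := eq_inv_of_mul_eq_one_left h1
  rw [h2, mul_inv_rev, mul_inv_rev, inv_of_mem hD hd, inv_of_mem hD he, mul_assoc]

theorem mul_ne_one_of_ne {d e : G} (_hd : d ∈ D) (he : e ∈ D) (h : d ≠ e) : d * e ≠ 1 := by
  intro h1
  apply h
  have := eq_inv_of_mul_eq_one_left h1
  rw [inv_of_mem hD he] at this
  exact this

end basic

end Cfsg.Agent.Helper16.TT
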