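import Mathlib
import Cfsg.Agent.Lib.Helper16.TTA

set_option autoImplicit false

namespace Cfsg.Agent.Helper16.TT

open Equiv

variable {G : Type*} [Group G]

theorem perm3_not_comm : ∀ σ τ : Perm (Fin 3), σ * σ = 1 → τ * τ = 1 → σ ≠ 1 → τ ≠ 1 → σ ≠ τ →
    σ * τ ≠ τ * σ := by decide

theorem perm3_cover_aux : ∀ σ τ ρ : Perm (Fin 3), (σ * σ = 1 ∧ τ * τ = 1 ∧ ρ * ρ = 1 ∧ σ ≠ 1 ∧
    τ ≠ 1 ∧ ρ ≠ 1 ∧ σ ≠ τ) → ρ = σ ∨ ρ = τ ∨ ρ = τ * σ * τ⁻¹ := by decide

theorem perm3_cover (σ τ ρ : Perm (Fin 3)) (h1 : σ * σ = 1) (h2 : τ * τ = 1) (h3 : ρ * ρ = 1)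
    (h4 : σ ≠ 1) (h5 : τ ≠ 1) (h6 : ρ ≠ 1) (h7 : σ ≠ τ) : ρ = σ ∨ ρ = τ ∨ ρ = τ * σ * τ⁻¹ :=
  perm3_cover_aux σ τ ρ ⟨h1, h2, h3, h4, h5, h6, h7⟩

theorem perm3_center : ∀ σ : Perm (Fin 3), (∀ τ : Perm (Fin 3), σ * τ = τ * σ) → σ = 1 := by decide

/-- the standing hypotheses -/
structure Hyp (D : Set G) : Prop where
  tt : Cfsg.IsThreeTranspositionSet D
  conj : ∀ g : G, ∀ d ∈ D, g * d * g⁻¹ ∈ D
  loc : ∀ d ∈ D, Nonempty (↥(Subgroup.closure (Dd D d)) ≃* Equiv.Perm (Fin 3))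
  core : ∀ d ∈ D, ∀ N : Subgroup ↥(Subgroup.centralizer ({d} : Set G)), N.Normal → IsPGroup 3 N →
    Nat.card N ≤ 3

variable {D : Set G}

theorem Dd_sub {d y : G} (h : y ∈ Dd D d) : y ∈ D := h.1

theorem Dd_symm {d y : G} (hd : d ∈ D) (h : y ∈ Dd D d) : d ∈ Dd D y :=
  ⟨hd, fun e => h.2.1 e.symm, h.2.2.symm⟩

theorem Hyp.not_commute (H : Hyp D) {d y z : G} (hd : d ∈ D) (hy : y ∈ Dd D d) (hz : z ∈ Dd D d)
    (hyz : y ≠ z) : ¬ Commute y z := by
  obtain ⟨φ⟩ := H.loc d hd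
  set y' : ↥(Subgroup.closure (Dd D d)) := ⟨y, Subgroup.subset_closure hy⟩ with hy'
  set z' : ↥(Subgroup.closure (Dd D d)) := ⟨z, Subgroup.subset_closure hz⟩ with hz'
  intro hc
  have h1 : y' * y' = 1 := Subtype.ext (mul_self_of_mem H.tt hy.1)
  have h2 : z' * z' = 1 := Subtype.ext (mul_self_of_mem H.tt hz.1)
  have h3 : y' ≠ 1 := fun h => ne_one_of_mem H.tt hy.1 (congrArg Subtype.val h)
  have h4 : z' ≠ 1 := fun h => ne_one_of_mem H.tt hz.1 (congrArg Subtype.val h)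
  have h5 : y' ≠ z' := fun h => hyz (congrArg Subtype.val h)
  have h6 : y' * z' = z' * y' := Subtype.ext hc.eq
  refine perm3_not_comm (φ y') (φ z') ?_ ?_ ?_ ?_ ?_ ?_
  · rw [← map_mul, h1, map_one]
  · rw [← map_mul, h2, map_one]
  · intro h; exact h3 (φ.injective (h.trans (map_one φ).symm))
  · intro h; exact h4 (φ.injective (h.trans (map_one φ).symm))
  · intro h; exact h5 (φ.injective h)
  · rw [← map_mul, ← map_mul, h6]

theorem Hyp.conj_mem_Dd (H : Hyp D) {d y z : G} (hy : y ∈ Dd D d) (hz : z ∈ Dd D d) :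
    z * y * z⁻¹ ∈ Dd D d := by
  have hzd : z * d * z⁻¹ = d := by
    rw [← hz.2.2.eq, mul_assoc, mul_inv_cancel, mul_one]
  refine ⟨H.conj z y hy.1, ?_, ?_⟩
  · intro h
    apply hy.2.1
    have : z * y * z⁻¹ = z * d * z⁻¹ := by rw [h, hzd]
    have h2 := mul_right_cancel this
    exact mul_left_cancel h2
  · have : Commute (z * d * z⁻¹) (z * y * z⁻¹) := by
      have := hy.2.2
      exact (this.conj z)
    rw [hzd] at this
    exact this

theorem Hyp.cover (H : Hyp D) {d y z w : G} (hd : d ∈ D) (hy : y ∈ Dd D d) (hz : z ∈ Dd D d)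
    (hw : w ∈ Dd D d) (hyz : y ≠ z) : w = y ∨ w = z ∨ w = z * y * z⁻¹ := by
  obtain ⟨φ⟩ := H.loc d hd
  set y' : ↥(Subgroup.closure (Dd D d)) := ⟨y, Subgroup.subset_closure hy⟩ with hy'
  set z' : ↥(Subgroup.closure (Dd D d)) := ⟨z, Subgroup.subset_closure hz⟩ with hz'
  set w' : ↥(Subgroup.closure (Dd D d)) := ⟨w, Subgroup.subset_closure hw⟩ with hw'
  have h1 : y' * y' = 1 := Subtype.ext (mul_self_of_mem H.tt hy.1)
  have h2 : z' * z' = 1 := Subtype.ext (mul_self_of_mem H.tt hz.1)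
  have h2' : w' * w' = 1 := Subtype.ext (mul_self_of_mem H.tt hw.1)
  have h3 : y' ≠ 1 := fun h => ne_one_of_mem H.tt hy.1 (congrArg Subtype.val h)
  have h4 : z' ≠ 1 := fun h => ne_one_of_mem H.tt hz.1 (congrArg Subtype.val h)
  have h4' : w' ≠ 1 := fun h => ne_one_of_mem H.tt hw.1 (congrArg Subtype.val h)
  have h5 : y' ≠ z' := fun h => hyz (congrArg Subtype.val h)
  have key := perm3_cover (φ y') (φ z') (φ w')
    (by rw [← map_mul, h1, map_one]) (by rw [← map_mul, h2, map_one])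
    (by rw [← map_mul, h2', map_one])
    (fun h => h3 (φ.injective (h.trans (map_one φ).symm)))
    (fun h => h4 (φ.injective (h.trans (map_one φ).symm)))
    (fun h => h4' (φ.injective (h.trans (map_one φ).symm)))
    (fun h => h5 (φ.injective h))
  rcases key with h | h | h
  · left; exact congrArg Subtype.val (φ.injective h)
  · right; left; exact congrArg Subtype.val (φ.injective h)
  · right; right
    rw [← map_inv, ← map_mul, ← map_mul] at h
    exact congrArg Subtype.val (φ.injective h)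

theorem Hyp.exists_two (H : Hyp D) {d : G} (hd : d ∈ D) :
    ∃ y ∈ Dd D d, ∃ z ∈ Dd D d, y ≠ z := by
  by_contra hcon
  push Not at hcon
  obtain ⟨φ⟩ := H.loc d hd
  have hcomm : ∀ x ∈ Dd D d, ∀ y ∈ Dd D d, x * y = y * x := by
    intro x hx y hy
    rw [hcon x hx y hy]
  have hc : ∀ p q : ↥(Subgroup.closure (Dd D d)), p * q = q * p := by
    intro p q
    have := Subgroup.isMulCommutative_closure hcomm
    exact mul_comm' p q
  have h1 := hc (φ.symm (swap 0 1)) (φ.symm (swap 1 2))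
  have h2 := congrArg φ h1
  rw [map_mul, map_mul, MulEquiv.apply_symm_apply, MulEquiv.apply_symm_apply] at h2
  revert h2
  decide

/-- three pairwise distinct members cover -/
theorem Hyp.cover3 (H : Hyp D) {d p1 p2 p3 w : G} (hd : d ∈ D) (h1 : p1 ∈ Dd D d)
    (h2 : p2 ∈ Dd D d) (h3 : p3 ∈ Dd D d) (hw : w ∈ Dd D d) (h12 : p1 ≠ p2) (h13 : p1 ≠ p3)
    (h23 : p2 ≠ p3) : w = p1 ∨ w = p2 ∨ w = p3 := by
  rcases H.cover hd h1 h2 h3 h12 with h | h | h
  · exact absurd h.symm h13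
  · exact absurd h.symm h23
  · rcases H.cover hd h1 h2 hw h12 with h' | h' | h'
    · exact Or.inl h'
    · exact Or.inr (Or.inl h')
    · exact Or.inr (Or.inr (h'.trans h.symm))

/-- the third member -/
theorem Hyp.third_ne (H : Hyp D) {d y z : G} (hd : d ∈ D) (hy : y ∈ Dd D d) (hz : z ∈ Dd D d)
    (hyz : y ≠ z) : z * y * z⁻¹ ≠ y ∧ z * y * z⁻¹ ≠ z := by
  constructor
  · intro h
    apply H.not_commute hd hy hz hyz
    have : z * y = y * z := by
      have := congrArg (· * z) h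
      simpa [mul_assoc] using this
    exact this.symm
  · intro h
    apply hyz
    have : z * y = z * z := by
      have := congrArg (· * z) h
      simpa [mul_assoc] using this
    exact mul_left_cancel this

theorem Dd_conj (H : Hyp D) (k d : G) (y : G) (hy : y ∈ Dd D d) :
    k * y * k⁻¹ ∈ Dd D (k * d * k⁻¹) := by
  refine ⟨H.conj k y hy.1, ?_, hy.2.2.conj k⟩
  intro h
  apply hy.2.1
  exact mul_left_cancel (mul_right_cancel h)

end Cfsg.Agent.Helper16.TT
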