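import Mathlib
import Cfsg.Agent.Lib.Helper16.TTB

set_option autoImplicit false

namespace Cfsg.Agent.Helper16.TT

open Equiv

variable {G : Type*} [Group G] {D : Set G}

/-- `Dd D d` consists of exactly three members -/
theorem Hyp.three (H : Hyp D) {d : G} (hd : d ∈ D) :
    ∃ p1 ∈ Dd D d, ∃ p2 ∈ Dd D d, ∃ p3 ∈ Dd D d, p1 ≠ p2 ∧ p1 ≠ p3 ∧ p2 ≠ p3 ∧
      ∀ w ∈ Dd D d, w = p1 ∨ w = p2 ∨ w = p3 := by
  obtain ⟨y, hy, z, hz, hyz⟩ := H.exists_two hd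
  obtain ⟨h1, h2⟩ := H.third_ne hd hy hz hyz
  refine ⟨y, hy, z, hz, z * y * z⁻¹, H.conj_mem_Dd hy hz, hyz, h1.symm, h2.symm, ?_⟩
  intro w hw
  exact H.cover hd hy hz hw hyz

/-- starting from a given member -/
theorem Hyp.three_of (H : Hyp D) {d y : G} (hd : d ∈ D) (hy : y ∈ Dd D d) :
    ∃ p2 ∈ Dd D d, ∃ p3 ∈ Dd D d, y ≠ p2 ∧ y ≠ p3 ∧ p2 ≠ p3 ∧
      ∀ w ∈ Dd D d, w = y ∨ w = p2 ∨ w = p3 := by
  obtain ⟨p1, h1, p2, h2, p3, h3, h12, h13, h23, hc⟩ := H.three hd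
  rcases hc y hy with h | h | h
  · subst h
    exact ⟨p2, h2, p3, h3, h12, h13, h23, hc⟩
  · subst h
    refine ⟨p1, h1, p3, h3, h12.symm, h23, h13, ?_⟩
    intro w hw
    rcases hc w hw with h | h | h
    · exact Or.inr (Or.inl h)
    · exact Or.inl h
    · exact Or.inr (Or.inr h)
  · subst h
    refine ⟨p1, h1, p2, h2, h13.symm, h23.symm, h12, ?_⟩
    intro w hw
    rcases hc w hw with h | h | h
    · exact Or.inr (Or.inl h)
    · exact Or.inr (Or.inr h)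
    · exact Or.inl h

/-- the conjugate of `e` by a product of two commuting members not commuting with `e` -/
theorem Hyp.conj_pair_mem (H : Hyp D) {e a d : G} (he : e ∈ D) (ha : a ∈ D) (hd : d ∈ D)
    (had : Commute a d) (hne : a ≠ d) (hea : ¬ Commute e a) (hed : ¬ Commute e d) :
    (a * d) * e * (a * d)⁻¹ ∈ Dd D e := by
  have ia := inv_of_mem H.tt ha
  have id := inv_of_mem H.tt hd
  have b1 : e * a * e = a * e * a := braid_of_not_commute H.tt he ha hea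
  have b2 : e * d * e = d * e * d := braid_of_not_commute H.tt he hd hed
  have hw : (a * d) * e * (a * d)⁻¹ = a * d * e * d * a := by
    rw [mul_inv_rev, ia, id]; simp only [mul_assoc]
  refine ⟨H.conj _ e he, ?_, ?_⟩
  · rw [hw]
    intro h
    apply hne
    -- d e d = a e a
    have h1 : d * e * d = a * e * a := by
      have h2 : a * (a * d * e * d * a) * a = a * e * a := by rw [h]
      have h3 : a * (a * d * e * d * a) * a = (a * a) * d * e * d * (a * a) := by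
        simp only [mul_assoc]
      rw [h3, mul_self_of_mem H.tt ha, one_mul, mul_one] at h2
      exact h2
    rw [← b1, ← b2] at h1
    exact (mul_left_cancel (mul_right_cancel h1)).symm
  · rw [hw]
    exact conj_comm_word had.eq b1 b2

/-- injectivity of the grid -/
theorem Hyp.conj_pair_inj (H : Hyp D) {e t0 t1 t2 : G} (he : e ∈ D) (h1 : t1 ∈ D) (h2 : t2 ∈ D)
    (hne : ¬ Commute e t1)
    (heq : (t0 * t1) * e * (t0 * t1)⁻¹ = (t0 * t2) * e * (t0 * t2)⁻¹) : Commute t1 t2 := by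
  have i1 := inv_of_mem H.tt h1
  have i2 := inv_of_mem H.tt h2
  have hu : e * (t1 * t2) = (t1 * t2) * e := by
    have h3 : (t0 * t1)⁻¹ * ((t0 * t1) * e * (t0 * t1)⁻¹) * (t0 * t2) =
        (t0 * t1)⁻¹ * ((t0 * t2) * e * (t0 * t2)⁻¹) * (t0 * t2) := by rw [heq]
    have h4 : (t0 * t1)⁻¹ * ((t0 * t1) * e * (t0 * t1)⁻¹) * (t0 * t2) = e * (t1 * t2) := by
      have : (t0 * t1)⁻¹ * ((t0 * t1) * e * (t0 * t1)⁻¹) * (t0 * t2) = e * (t1⁻¹ * t2) := by group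
      rw [this, i1]
    have h5 : (t0 * t1)⁻¹ * ((t0 * t2) * e * (t0 * t2)⁻¹) * (t0 * t2) = (t1 * t2) * e := by
      have : (t0 * t1)⁻¹ * ((t0 * t2) * e * (t0 * t2)⁻¹) * (t0 * t2) = (t1⁻¹ * t2) * e := by group
      rw [this, i1]
    rw [h4, h5] at h3
    exact h3
  have hinv : t1 * (t1 * t2) * t1⁻¹ = (t1 * t2)⁻¹ := by
    rw [mul_inv_rev, i1, i2, ← mul_assoc, mul_self_of_mem H.tt h1, one_mul]
  have h3 := cube_of_not_commute H.tt he h1 hne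
  have hsq := sq_eq_one_of_inverts h3 hinv hu
  have : t1 * t2 = (t1 * t2)⁻¹ := eq_inv_of_mul_eq_one_left hsq
  rw [mul_inv_rev, i1, i2] at this
  exact this

/-- the pair of triples -/
structure K33 (D X Y : Set G) : Prop where
  hX : ∀ x ∈ X, x ∈ D ∧ Dd D x = Y
  hY : ∀ y ∈ Y, y ∈ D ∧ Dd D y = X

namespace K33

variable {X Y : Set G}

theorem symm (K : K33 D X Y) : K33 D Y X := ⟨K.hY, K.hX⟩

theorem memY (K : K33 D X Y) {x y : G} (hx : x ∈ X) (hy : y ∈ Y) : y ∈ Dd D x := by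
  rw [(K.hX x hx).2]; exact hy

theorem memX (K : K33 D X Y) {x y : G} (hx : x ∈ X) (hy : y ∈ Y) : x ∈ Dd D y := by
  rw [(K.hY y hy).2]; exact hx

theorem comm (K : K33 D X Y) {x y : G} (hx : x ∈ X) (hy : y ∈ Y) : Commute x y :=
  (K.memY hx hy).2.2

theorem ne (K : K33 D X Y) {x y : G} (hx : x ∈ X) (hy : y ∈ Y) : x ≠ y :=
  fun h => (K.memY hx hy).2.1 h.symm

theorem exY (K : K33 D X Y) (H : Hyp D) {x : G} (hx : x ∈ X) : ∃ y, y ∈ Y := by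
  obtain ⟨y, hy, _⟩ := H.exists_two (K.hX x hx).1
  rw [(K.hX x hx).2] at hy
  exact ⟨y, hy⟩

theorem not_comm (K : K33 D X Y) (H : Hyp D) {x1 x2 : G} (h1 : x1 ∈ X) (h2 : x2 ∈ X)
    (hne : x1 ≠ x2) : ¬ Commute x1 x2 := by
  obtain ⟨y, hy⟩ := K.exY H h1
  exact H.not_commute (K.hY y hy).1 (K.memX h1 hy) (K.memX h2 hy) hne

theorem outside (K : K33 D X Y) {g x : G} (hg : g ∈ D) (hgX : g ∉ X) (hgY : g ∉ Y)
    (hx : x ∈ X) : ¬ Commute g x := by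
  intro hc
  apply hgY
  rw [← (K.hX x hx).2]
  refine ⟨hg, ?_, hc.symm⟩
  intro h
  apply hgX
  rw [h]; exact hx

/-- the grid -/
def F (g x y : G) : G := (x * y) * g * (x * y)⁻¹

theorem F_comm (K : K33 D X Y) {g x y : G} (hx : x ∈ X) (hy : y ∈ Y) : F g x y = F g y x := by
  unfold F; rw [(K.comm hx hy).eq]

theorem grid_mem (K : K33 D X Y) (H : Hyp D) {g x y : G} (hg : g ∈ D) (hgX : g ∉ X)
    (hgY : g ∉ Y) (hx : x ∈ X) (hy : y ∈ Y) : F g x y ∈ Dd D g :=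
  H.conj_pair_mem hg (K.hX x hx).1 (K.hY y hy).1 (K.comm hx hy) (K.ne hx hy)
    (K.outside hg hgX hgY hx) (K.symm.outside hg hgY hgX hy)

theorem grid_inj_Y (K : K33 D X Y) (H : Hyp D) {g x y1 y2 : G} (hg : g ∈ D) (hgX : g ∉ X)
    (hgY : g ∉ Y) (_hx : x ∈ X) (h1 : y1 ∈ Y) (h2 : y2 ∈ Y) (h : F g x y1 = F g x y2) :
    y1 = y2 := by
  by_contra hne
  exact K.symm.not_comm H h1 h2 hne
    (H.conj_pair_inj hg (K.hY y1 h1).1 (K.hY y2 h2).1 (K.symm.outside hg hgY hgX h1) h)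

theorem grid_inj_X (K : K33 D X Y) (H : Hyp D) {g x1 x2 y : G} (hg : g ∈ D) (hgX : g ∉ X)
    (hgY : g ∉ Y) (hy : y ∈ Y) (h1 : x1 ∈ X) (h2 : x2 ∈ X) (h : F g x1 y = F g x2 y) :
    x1 = x2 := by
  rw [K.F_comm h1 hy, K.F_comm h2 hy] at h
  exact K.symm.grid_inj_Y H hg hgY hgX hy h1 h2 h

theorem grid_surj_Y (K : K33 D X Y) (H : Hyp D) {g x w : G} (hg : g ∈ D) (hgX : g ∉ X)
    (hgY : g ∉ Y) (hx : x ∈ X) (hw : w ∈ Dd D g) : ∃ y ∈ Y, F g x y = w := by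
  obtain ⟨p1, h1, p2, h2, p3, h3, h12, h13, h23, -⟩ := H.three (K.hX x hx).1
  rw [(K.hX x hx).2] at h1 h2 h3
  have e12 : F g x p1 ≠ F g x p2 := fun h => h12 (K.grid_inj_Y H hg hgX hgY hx h1 h2 h)
  have e13 : F g x p1 ≠ F g x p3 := fun h => h13 (K.grid_inj_Y H hg hgX hgY hx h1 h3 h)
  have e23 : F g x p2 ≠ F g x p3 := fun h => h23 (K.grid_inj_Y H hg hgX hgY hx h2 h3 h)
  rcases H.cover3 hg (K.grid_mem H hg hgX hgY hx h1) (K.grid_mem H hg hgX hgY hx h2)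
    (K.grid_mem H hg hgX hgY hx h3) hw e12 e13 e23 with h | h | h
  · exact ⟨p1, h1, h.symm⟩
  · exact ⟨p2, h2, h.symm⟩
  · exact ⟨p3, h3, h.symm⟩

theorem grid_surj_X (K : K33 D X Y) (H : Hyp D) {g y w : G} (hg : g ∈ D) (hgX : g ∉ X)
    (hgY : g ∉ Y) (hy : y ∈ Y) (hw : w ∈ Dd D g) : ∃ x ∈ X, F g x y = w := by
  obtain ⟨x, hx, h⟩ := K.symm.grid_surj_Y H hg hgY hgX hy hw
  exact ⟨x, hx, by rw [K.F_comm hx hy]; exact h⟩

end K33

end Cfsg.Agent.Helper16.TT
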