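import Mathlib
import Cfsg.Agent.Lib.Helper16.TTC
import Cfsg.Agent.S0199

set_option autoImplicit false

namespace Cfsg.Agent.Helper16.TT

open Equiv

variable {G : Type*} [Group G] {D : Set G}

theorem perm3_prod_aux : ∀ σ1 σ2 σ3 σ4 : Perm (Fin 3), (σ1 * σ1 = 1 ∧ σ2 * σ2 = 1 ∧ σ3 * σ3 = 1 ∧
    σ4 * σ4 = 1 ∧ σ1 ≠ 1 ∧ σ2 ≠ 1 ∧ σ3 ≠ 1 ∧ σ4 ≠ 1 ∧ σ1 ≠ σ2 ∧ σ3 ≠ σ4) →
    σ3 * σ4 = σ1 * σ2 ∨ σ3 * σ4 = (σ1 * σ2)⁻¹ := by decide

/-- an embedding of the local subgroup in `S₃` -/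
theorem Hyp.emb (H : Hyp D) {d : G} (hd : d ∈ D) :
    ∃ φ : ↥(Subgroup.closure (Dd D d)) →* Perm (Fin 3), Function.Injective φ ∧
      ∀ y (hy : y ∈ Dd D d), φ ⟨y, Subgroup.subset_closure hy⟩ * φ ⟨y, Subgroup.subset_closure hy⟩ = 1
        ∧ φ ⟨y, Subgroup.subset_closure hy⟩ ≠ 1 := by
  obtain ⟨φ⟩ := H.loc d hd
  refine ⟨φ.toMonoidHom, φ.injective, ?_⟩
  intro y hy
  constructor
  · change φ _ * φ _ = 1
    rw [← map_mul]
    have : (⟨y, Subgroup.subset_closure hy⟩ : ↥(Subgroup.closure (Dd D d))) *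
        ⟨y, Subgroup.subset_closure hy⟩ = 1 := Subtype.ext (mul_self_of_mem H.tt hy.1)
    rw [this, map_one]
  · change φ _ ≠ 1
    intro h
    have h2 := φ.injective (h.trans (map_one φ).symm)
    exact ne_one_of_mem H.tt hy.1 (congrArg Subtype.val h2)

theorem Hyp.prod_eq (H : Hyp D) {d x1 x2 x3 x4 : G} (hd : d ∈ D) (h1 : x1 ∈ Dd D d)
    (h2 : x2 ∈ Dd D d) (h3 : x3 ∈ Dd D d) (h4 : x4 ∈ Dd D d) (h12 : x1 ≠ x2) (h34 : x3 ≠ x4) :
    x3 * x4 = x1 * x2 ∨ x3 * x4 = (x1 * x2)⁻¹ := by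
  obtain ⟨φ, hinj, hφ⟩ := H.emb hd
  have key := perm3_prod_aux _ _ _ _ ⟨(hφ x1 h1).1, (hφ x2 h2).1, (hφ x3 h3).1, (hφ x4 h4).1,
    (hφ x1 h1).2, (hφ x2 h2).2, (hφ x3 h3).2, (hφ x4 h4).2,
    fun h => h12 (congrArg Subtype.val (hinj h)), fun h => h34 (congrArg Subtype.val (hinj h))⟩
  rcases key with h | h
  · left
    rw [← map_mul, ← map_mul] at h
    exact congrArg Subtype.val (hinj h)
  · right
    rw [← map_mul, ← map_mul, ← map_inv] at h
    exact congrArg Subtype.val (hinj h)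

theorem Hyp.triple (H : Hyp D) {d x1 x2 x3 : G} (hd : d ∈ D) (h1 : x1 ∈ Dd D d)
    (h2 : x2 ∈ Dd D d) (h3 : x3 ∈ Dd D d) : x1 * x2 * x3 ∈ Dd D d := by
  by_cases h12 : x1 = x2
  · rw [h12, mul_self_of_mem H.tt h2.1, one_mul]; exact h3
  by_cases h23 : x2 = x3
  · rw [h23, mul_assoc, mul_self_of_mem H.tt h3.1, mul_one]; exact h1
  have i2 := inv_of_mem H.tt h2.1
  have hb : x1 * x2 * x1 = x2 * x1 * x2 :=
    braid_of_not_commute H.tt h1.1 h2.1 (H.not_commute hd h1 h2 h12)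
  rcases H.cover hd h1 h2 h3 h12 with h | h | h
  · rw [h, hb]
    have := H.conj_mem_Dd h1 h2
    rw [i2] at this
    exact this
  · exact absurd h.symm h23
  · rw [h, i2]
    have : x1 * x2 * (x2 * x1 * x2) = x1 * (x2 * x2) * x1 * x2 := by simp only [mul_assoc]
    rw [this, mul_self_of_mem H.tt h2.1, mul_one, mul_self_of_mem H.tt h1.1, one_mul]
    exact h2

namespace K33

variable {X Y : Set G}

theorem conj (K : K33 D X Y) (H : Hyp D) (k : G) :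
    K33 D {z | k⁻¹ * z * k ∈ X} {z | k⁻¹ * z * k ∈ Y} := by
  have aux : ∀ {X Y : Set G}, K33 D X Y → ∀ z ∈ {z | k⁻¹ * z * k ∈ X},
      z ∈ D ∧ Dd D z = {z | k⁻¹ * z * k ∈ Y} := by
    intro X Y K z hz
    have hz' : k⁻¹ * z * k ∈ X := hz
    have e0 : k * (k⁻¹ * z * k) * k⁻¹ = z := by group
    constructor
    · have := H.conj k _ (K.hX _ hz').1
      rw [e0] at this
      exact this
    · ext w
      constructor
      · intro hw
        have h1 := Dd_conj H k⁻¹ z w hw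
        rw [inv_inv, (K.hX _ hz').2] at h1
        exact h1
      · intro hw
        have hw' : k⁻¹ * w * k ∈ Y := hw
        rw [← (K.hX _ hz').2] at hw'
        have h1 := Dd_conj H k _ _ hw'
        have e1 : k * (k⁻¹ * w * k) * k⁻¹ = w := by group
        rw [e0, e1] at h1
        exact h1
  exact ⟨aux K, aux K.symm⟩

theorem eq_of_mem (K : K33 D X Y) (H : Hyp D) {X' Y' : Set G} (K' : K33 D X' Y') {h : G}
    (h1 : h ∈ X') (h2 : h ∈ X) : X' = X ∧ Y' = Y := by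
  have hY : Y' = Y := by rw [← (K'.hX h h1).2, (K.hX h h2).2]
  obtain ⟨y, hy⟩ := K.exY H h2
  have hy' : y ∈ Y' := by rw [hY]; exact hy
  exact ⟨by rw [← (K'.hY y hy').2, (K.hY y hy).2], hY⟩

end K33

theorem isPGroup_zpowers {z : G} (hz : z ^ 3 = 1) : IsPGroup 3 (Subgroup.zpowers z) := by
  rintro ⟨w, hw⟩
  obtain ⟨k, rfl⟩ := Subgroup.mem_zpowers_iff.mp hw
  refine ⟨1, ?_⟩
  apply Subtype.ext
  simp only [pow_one, Subgroup.coe_pow, Subgroup.coe_one]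
  rw [← zpow_natCast, ← zpow_mul, mul_comm, zpow_mul, zpow_natCast, hz, one_zpow]

theorem K33.baer [Finite G] {X Y : Set G} (K : K33 D X Y) (H : Hyp D) {x1 x2 : G} (h1 : x1 ∈ X)
    (h2 : x2 ∈ X) (hne : x1 ≠ x2) :
    ∃ N : Subgroup G, N.Normal ∧ IsPGroup 3 N ∧ x1 * x2 ∈ N := by
  have d1 := (K.hX x1 h1).1
  have d2 := (K.hX x2 h2).1
  have ht3 : (x1 * x2) ^ 3 = 1 := cube_of_not_commute H.tt d1 d2 (K.not_comm H h1 h2 hne)
  have : Fact (Nat.Prime 3) := ⟨by norm_num⟩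
  obtain ⟨y0, hy0⟩ := K.exY H h1
  suffices hBS : ∀ k : G, IsPGroup 3 ↥(Subgroup.zpowers (x1 * x2) ⊔
      (Subgroup.zpowers (x1 * x2)).map (MulAut.conj k).toMonoidHom) by
    obtain ⟨N, hN, hpN, hle⟩ := Cfsg.Agent.S0199.result (Subgroup.zpowers (x1 * x2))
      (isPGroup_zpowers ht3) hBS
    exact ⟨N, hN, hpN, hle (Subgroup.mem_zpowers _)⟩
  intro k
  rw [MonoidHom.map_zpowers]
  have e1 : (MulAut.conj k).toMonoidHom (x1 * x2) = (k * x1 * k⁻¹) * (k * x2 * k⁻¹) := by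
    rw [MulEquiv.coe_toMonoidHom, MulAut.conj_apply]; group
  rw [e1]
  set x1' := k * x1 * k⁻¹ with hx1'
  set x2' := k * x2 * k⁻¹ with hx2'
  set t := x1 * x2 with ht
  have K' := K.conj H k
  set X' : Set G := {z | k⁻¹ * z * k ∈ X} with hX'
  set Y' : Set G := {z | k⁻¹ * z * k ∈ Y} with hY'
  have m1 : x1' ∈ X' := by
    change k⁻¹ * (k * x1 * k⁻¹) * k ∈ X
    have : k⁻¹ * (k * x1 * k⁻¹) * k = x1 := by group
    rw [this]; exact h1
  have m2 : x2' ∈ X' := by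
    change k⁻¹ * (k * x2 * k⁻¹) * k ∈ X
    have : k⁻¹ * (k * x2 * k⁻¹) * k = x2 := by group
    rw [this]; exact h2
  have hne' : x1' ≠ x2' := fun h => hne (mul_left_cancel (mul_right_cancel h))
  have ht3' : (x1' * x2') ^ 3 = 1 :=
    cube_of_not_commute H.tt (K'.hX _ m1).1 (K'.hX _ m2).1 (K'.not_comm H m1 m2 hne')
  -- the key claim
  have claim : t * (x1' * x2') * t⁻¹ = x1' * x2' ∨ t * (x1' * x2') * t⁻¹ = (x1' * x2')⁻¹ := by
    by_cases hA : ∃ h ∈ X', h ∈ X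
    · obtain ⟨h, hh', hh⟩ := hA
      obtain ⟨hXX, -⟩ := K.eq_of_mem H K' hh' hh
      rw [hXX] at m1 m2
      left
      have hc : Commute t (x1' * x2') := by
        rcases H.prod_eq (K.hY y0 hy0).1 (K.memX h1 hy0) (K.memX h2 hy0) (K.memX m1 hy0)
          (K.memX m2 hy0) hne hne' with h | h
        · rw [h]
        · rw [h]; exact (Commute.refl t).inv_right
      rw [hc.eq, mul_assoc, mul_inv_cancel, mul_one]
    by_cases hB : ∃ h ∈ X', h ∈ Y
    · obtain ⟨h, hh', hh⟩ := hB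
      obtain ⟨hXY, -⟩ := K.symm.eq_of_mem H K' hh' hh
      rw [hXY] at m1 m2
      left
      have hc : Commute t (x1' * x2') :=
        Commute.mul_left (Commute.mul_right (K.comm h1 m1) (K.comm h1 m2))
          (Commute.mul_right (K.comm h2 m1) (K.comm h2 m2))
      rw [hc.eq, mul_assoc, mul_inv_cancel, mul_one]
    push Not at hA hB
    -- `t` stabilises `Y'`
    have stabY : ∀ w ∈ Y', t * w * t⁻¹ ∈ Y' := by
      intro w hw
      have hh := m1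
      have hwD : w ∈ Dd D x1' := by rw [(K'.hX _ m1).2]; exact hw
      obtain ⟨x, hx, hF⟩ := K.grid_surj_X H (K'.hX _ m1).1 (hA _ m1) (hB _ m1) hy0 hwD
      have hx3 : x1 * x2 * x ∈ X := by
        have := H.triple (K.hY y0 hy0).1 (K.memX h1 hy0) (K.memX h2 hy0) (K.memX hx hy0)
        rw [(K.hY y0 hy0).2] at this
        exact this
      have hmem := K.grid_mem H (K'.hX _ m1).1 (hA _ m1) (hB _ m1) hx3 hy0
      rw [(K'.hX _ m1).2] at hmem
      have : t * w * t⁻¹ = K33.F x1' (x1 * x2 * x) y0 := by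
        rw [← hF]; unfold K33.F; rw [ht]; group
      rw [this]; exact hmem
    obtain ⟨y', hy'⟩ := K'.exY H m1
    have stabX : ∀ x' ∈ X', t * x' * t⁻¹ ∈ X' := by
      intro x' hx'
      have := Dd_conj H t y' x' (K'.memX hx' hy')
      rw [(K'.hY _ (stabY y' hy')).2] at this
      exact this
    have hne'' : t * x1' * t⁻¹ ≠ t * x2' * t⁻¹ :=
      fun h => hne' (mul_left_cancel (mul_right_cancel h))
    have e2 : t * (x1' * x2') * t⁻¹ = (t * x1' * t⁻¹) * (t * x2' * t⁻¹) := by group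
    rw [e2]
    exact H.prod_eq (K'.hY y' hy').1 (K'.memX m1 hy') (K'.memX m2 hy')
      (K'.memX (stabX _ m1) hy') (K'.memX (stabX _ m2) hy') hne' hne''
  apply IsPGroup.to_sup_of_normal_right' (isPGroup_zpowers ht3) (isPGroup_zpowers ht3')
  rw [Subgroup.zpowers_le, Subgroup.mem_normalizer_iff_map_conj_eq]
  change (Subgroup.zpowers (x1' * x2')).map (MulAut.conj t).toMonoidHom = _
  rw [MonoidHom.map_zpowers, MulEquiv.coe_toMonoidHom, MulAut.conj_apply]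
  rcases claim with h | h
  · rw [h]
  · rw [h, Subgroup.zpowers_inv]

end Cfsg.Agent.Helper16.TT
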