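import Mathlib
import Cfsg.Agent.Lib.Helper16.TTD

set_option autoImplicit false

namespace Cfsg.Agent.Helper16.TT

open Equiv

variable {G : Type*} [Group G] {D : Set G}

section words2

/-- conjugation of `w₀` by the involution `d a` -/
theorem w0_inverted {d x a b : G} (hd : d * d = 1) (hx : x * x = 1) (ha : a * a = 1)
    (hb : b * b = 1) (c1 : Commute d a) (c2 : Commute d b) (c3 : Commute x a)
    (c4 : Commute x b) :
    (d * a) * ((x * d) * (b * a)) * (d * a)⁻¹ = ((x * d) * (b * a))⁻¹ := by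
  have id : d⁻¹ = d := inv_eq_of_mul_eq_one_left hd
  have ix : x⁻¹ = x := inv_eq_of_mul_eq_one_left hx
  have ia : a⁻¹ = a := inv_eq_of_mul_eq_one_left ha
  have ib : b⁻¹ = b := inv_eq_of_mul_eq_one_left hb
  have r1 : a * d = d * a := c1.eq.symm
  have r2 : b * d = d * b := c2.eq.symm
  have r3 : a * x = x * a := c3.eq.symm
  have r4 : b * x = x * b := c4.eq.symm
  have r1' : ∀ z, a * (d * z) = d * (a * z) := fun z => by rw [← mul_assoc, r1, mul_assoc]
  have r2' : ∀ z, b * (d * z) = d * (b * z) := fun z => by rw [← mul_assoc, r2, mul_assoc]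
  have r3' : ∀ z, a * (x * z) = x * (a * z) := fun z => by rw [← mul_assoc, r3, mul_assoc]
  have r4' : ∀ z, b * (x * z) = x * (b * z) := fun z => by rw [← mul_assoc, r4, mul_assoc]
  have hd' : ∀ z, d * (d * z) = z := fun z => by rw [← mul_assoc, hd, one_mul]
  have ha' : ∀ z, a * (a * z) = z := fun z => by rw [← mul_assoc, ha, one_mul]
  simp only [mul_inv_rev, id, ix, ia, ib, mul_assoc, r1, r2, r4, r1', r3', ha,
    hd', mul_one]

theorem w0_eq {d x a b : G} (hx : x * x = 1)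
    (hb : b * b = 1) (c2 : Commute d b)
    (c4 : Commute x b) :
    (x * b)⁻¹ * (d * a) = (x * d) * (b * a) := by
  have ix : x⁻¹ = x := inv_eq_of_mul_eq_one_left hx
  have ib : b⁻¹ = b := inv_eq_of_mul_eq_one_left hb
  have r2 : b * d = d * b := c2.eq.symm
  have r4 : b * x = x * b := c4.eq.symm
  have r2' : ∀ z, b * (d * z) = d * (b * z) := fun z => by rw [← mul_assoc, r2, mul_assoc]
  have r4' : ∀ z, b * (x * z) = x * (b * z) := fun z => by rw [← mul_assoc, r4, mul_assoc]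
  simp only [mul_inv_rev, ix, ib, mul_assoc, r4, r2']

theorem s_eq {d x a g : G} (hd : d * d = 1) (hx : x * x = 1) (ha : a * a = 1) (hg : g * g = 1)
    (c1 : Commute d a) (c3 : Commute x a) :
    ((d * a) * g * (d * a)⁻¹) * ((x * a) * g * (x * a)⁻¹) =
      ((d * a) * g) * (d * x) * ((d * a) * g)⁻¹ * (d * x) := by
  have id : d⁻¹ = d := inv_eq_of_mul_eq_one_left hd
  have ix : x⁻¹ = x := inv_eq_of_mul_eq_one_left hx
  have ia : a⁻¹ = a := inv_eq_of_mul_eq_one_left ha
  have ig : g⁻¹ = g := inv_eq_of_mul_eq_one_left hg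
  have r1 : a * d = d * a := c1.eq.symm
  have r3 : a * x = x * a := c3.eq.symm
  have r1' : ∀ z, a * (d * z) = d * (a * z) := fun z => by rw [← mul_assoc, r1, mul_assoc]
  have r3' : ∀ z, a * (x * z) = x * (a * z) := fun z => by rw [← mul_assoc, r3, mul_assoc]
  have hd' : ∀ z, d * (d * z) = z := fun z => by rw [← mul_assoc, hd, one_mul]
  have ha' : ∀ z, a * (a * z) = z := fun z => by rw [← mul_assoc, ha, one_mul]
  have E1 : (d * a)⁻¹ * (x * a) = d * x := by
    simp only [mul_inv_rev, id, ia, mul_assoc, r1, r3', ha, mul_one]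
  have E2 : (x * a)⁻¹ = (d * a)⁻¹ * (d * x) := by
    simp only [mul_inv_rev, id, ix, ia, mul_assoc, r1, r3, r1', hd']
  calc ((d * a) * g * (d * a)⁻¹) * ((x * a) * g * (x * a)⁻¹)
      = (d * a) * g * ((d * a)⁻¹ * (x * a)) * g * (x * a)⁻¹ := by simp only [mul_assoc]
    _ = (d * a) * g * (d * x) * g * ((d * a)⁻¹ * (d * x)) := by rw [E1, E2]
    _ = (d * a) * g * (d * x) * g⁻¹ * ((d * a)⁻¹ * (d * x)) := by rw [ig]
    _ = ((d * a) * g) * (d * x) * ((d * a) * g)⁻¹ * (d * x) := by group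

end words2

theorem eq_one_of_sq_of_pgroup {w : G} (h2 : w * w = 1) {n : ℕ} (h3 : w ^ (3 ^ n) = 1) : w = 1 := by
  have d2 : orderOf w ∣ 2 := orderOf_dvd_of_pow_eq_one (by rw [pow_two]; exact h2)
  have d3 : orderOf w ∣ 3 ^ n := orderOf_dvd_of_pow_eq_one h3
  have hc : Nat.Coprime 2 (3 ^ n) := Nat.Coprime.pow_right n (by norm_num)
  have : orderOf w ∣ 1 := by
    have := Nat.dvd_gcd d2 d3
    rwa [hc.gcd_eq_one] at this
  exact orderOf_eq_one_iff.mp (Nat.dvd_one.mp this)

theorem K33.contra [Finite G] {X Y : Set G} (K : K33 D X Y) (H : Hyp D) {d g : G} (hd : d ∈ X)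
    (hg : g ∈ D) (hgX : g ∉ X) (hgY : g ∉ Y) : False := by
  have dD := (K.hX d hd).1
  obtain ⟨a, ha, b, hb, hab⟩ := H.exists_two dD
  rw [(K.hX d hd).2] at ha hb
  have aD := (K.hY a ha).1
  have bD := (K.hY b hb).1
  have hh := K.grid_mem H hg hgX hgY hd ha
  obtain ⟨x, hx, hF⟩ := K.grid_surj_X H hg hgX hgY hb hh
  have xD := (K.hX x hx).1
  have hxd : x ≠ d := by
    intro h
    rw [h] at hF
    exact hab (K.grid_inj_Y H hg hgX hgY hd ha hb hF.symm)
  have sd := mul_self_of_mem H.tt dD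
  have sx := mul_self_of_mem H.tt xD
  have sa := mul_self_of_mem H.tt aD
  have sb := mul_self_of_mem H.tt bD
  have sg := mul_self_of_mem H.tt hg
  have c1 := K.comm hd ha
  have c2 := K.comm hd hb
  have c3 := K.comm hx ha
  have c4 := K.comm hx hb
  set w0 := (x * d) * (b * a) with hw0
  -- (i)
  have hgw : Commute g w0 := by
    rw [hw0, ← w0_eq sx sb c2 c4]
    unfold K33.F at hF
    have h1 : (x * b)⁻¹ * ((x * b) * g * (x * b)⁻¹) * (d * a) =
        (x * b)⁻¹ * ((d * a) * g * (d * a)⁻¹) * (d * a) := by rw [hF]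
    have h2 : (x * b)⁻¹ * ((x * b) * g * (x * b)⁻¹) * (d * a) = g * ((x * b)⁻¹ * (d * a)) := by
      group
    have h3 : (x * b)⁻¹ * ((d * a) * g * (d * a)⁻¹) * (d * a) = ((x * b)⁻¹ * (d * a)) * g := by
      group
    rw [h2, h3] at h1
    exact h1
  -- (ii), (iii)
  set h := K33.F g d a with hh_def
  have hhw : Commute h w0 := by
    have h1 := hgw.conj (d * a)
    rw [w0_inverted sd sx sa sb c1 c2 c3 c4] at h1
    have h2 := h1.inv_right
    rw [inv_inv] at h2
    exact h2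
  -- (iv)
  have hh' := K.grid_mem H hg hgX hgY hx ha
  set h' := K33.F g x a with hh'_def
  have hne : h ≠ h' := fun e => hxd (K.grid_inj_X H hg hgX hgY ha hd hx e).symm
  have hs : h * h' = ((d * a) * g) * (d * x) * ((d * a) * g)⁻¹ * (d * x) := by
    rw [hh_def, hh'_def]; unfold K33.F
    exact s_eq sd sx sa sg c1 c3
  -- (v)
  obtain ⟨Nt, hNt, hpt, htN⟩ := K.baer H hd hx hxd.symm
  obtain ⟨Nu, hNu, hpu, huN⟩ := K.symm.baer H hb ha hab.symm
  have hpO : IsPGroup 3 ↥(Nt ⊔ Nu) := IsPGroup.to_sup_of_normal_right hpt hpu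
  have hNO : (Nt ⊔ Nu).Normal := inferInstance
  have hsO : h * h' ∈ Nt ⊔ Nu := by
    rw [hs]
    exact Subgroup.mem_sup_left (Nt.mul_mem (hNt.conj_mem _ htN _) htN)
  have hwO : w0 ∈ Nt ⊔ Nu := by
    refine Subgroup.mul_mem _ (Subgroup.mem_sup_left ?_) (Subgroup.mem_sup_right huN)
    have := Nt.inv_mem htN
    rw [mul_inv_rev, inv_of_mem H.tt dD, inv_of_mem H.tt xD] at this
    exact this
  -- (vi)
  have hsC : h * h' ∈ Subgroup.centralizer ({g} : Set G) := by
    rw [Subgroup.mem_centralizer_iff]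
    intro z hz
    rw [Set.mem_singleton_iff] at hz
    rw [hz]
    exact (hh.2.2.mul_right hh'.2.2).eq
  have hwC : w0 ∈ Subgroup.centralizer ({g} : Set G) := by
    rw [Subgroup.mem_centralizer_iff]
    intro z hz
    rw [Set.mem_singleton_iff] at hz
    rw [hz]
    exact hgw.eq
  set C := Subgroup.centralizer ({g} : Set G) with hC
  set N := (Nt ⊔ Nu).subgroupOf C with hN
  have hNn : N.Normal := inferInstance
  have hNp : IsPGroup 3 N := hpO.comap_subtype
  have hcard := H.core g hg N hNn hNp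
  -- (vii)
  have hD3 : (h * h') ^ 3 = 1 :=
    cube_of_not_commute H.tt hh.1 hh'.1 (H.not_commute hg hh hh' hne)
  have hs1 : h * h' ≠ 1 := mul_ne_one_of_ne H.tt hh.1 hh'.1 hne
  have : Fact (Nat.Prime 3) := ⟨by norm_num⟩
  have hord : orderOf (h * h') = 3 := orderOf_eq_prime hD3 hs1
  set s' : ↥C := ⟨h * h', hsC⟩ with hs'
  set w' : ↥C := ⟨w0, hwC⟩ with hw'
  have hs'N : s' ∈ N := by rw [hN, Subgroup.mem_subgroupOf]; exact hsO
  have hw'N : w' ∈ N := by rw [hN, Subgroup.mem_subgroupOf]; exact hwO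
  have hord' : orderOf s' = 3 := by
    rw [← Subgroup.orderOf_coe]; exact hord
  have hzle : Subgroup.zpowers s' ≤ N := Subgroup.zpowers_le.mpr hs'N
  have hzeq : Subgroup.zpowers s' = N := by
    apply Subgroup.eq_of_le_of_card_ge hzle
    rw [Nat.card_zpowers, hord']
    exact hcard
  have hw'z : w' ∈ Subgroup.zpowers s' := by rw [hzeq]; exact hw'N
  obtain ⟨k, hk⟩ := Subgroup.mem_zpowers_iff.mp hw'z
  have hk' : (h * h') ^ k = w0 := by
    have := congrArg Subtype.val hk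
    rw [Subgroup.coe_zpow] at this
    exact this
  -- (viii)
  have ih := inv_of_mem H.tt hh.1
  have ih' := inv_of_mem H.tt hh'.1
  have hinv : h * (h * h') * h⁻¹ = (h * h')⁻¹ := by
    rw [mul_inv_rev, ih, ih', ← mul_assoc, mul_self_of_mem H.tt hh.1, one_mul]
  have hinvw : h * w0 * h⁻¹ = w0⁻¹ := by
    rw [← hk', ← conj_zpow, hinv, inv_zpow]
  have hcw : h * w0 * h⁻¹ = w0 := by
    rw [hhw.eq, mul_assoc, mul_inv_cancel, mul_one]
  have hw2 : w0 * w0 = 1 := by
    have : w0 = w0⁻¹ := hcw.symm.trans hinvw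
    calc w0 * w0 = w0 * w0⁻¹ := by rw [← this]
      _ = 1 := mul_inv_cancel w0
  -- (ix)
  obtain ⟨n, hn⟩ := hpO ⟨w0, hwO⟩
  have hn' : w0 ^ (3 ^ n) = 1 := by
    have := congrArg Subtype.val hn
    rw [Subgroup.coe_pow] at this
    exact this
  have hw1 : w0 = 1 := eq_one_of_sq_of_pgroup hw2 hn'
  -- (x)
  have e1 : x * d = a * b := by
    have : x * d = (b * a)⁻¹ := eq_inv_of_mul_eq_one_left (hw0 ▸ hw1)
    rw [this, mul_inv_rev, inv_of_mem H.tt aD, inv_of_mem H.tt bD]
  have e2 : Commute d (x * d) := by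
    rw [e1]; exact c1.mul_right c2
  apply K.not_comm H hd hx hxd.symm
  have e3 : d * (x * d) = (x * d) * d := e2.eq
  rw [mul_assoc, sd, mul_one] at e3
  -- d * (x * d) = x
  have e4 : d * x = x * d := by
    calc d * x = d * x * (d * d) := by rw [sd, mul_one]
      _ = (d * (x * d)) * d := by simp only [mul_assoc]
      _ = x * d := by rw [e3]
  exact e4

end Cfsg.Agent.Helper16.TT
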