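import Mathlib
import Cfsg.Agent.Lib.Helper16.TTE

set_option autoImplicit false

namespace Cfsg.Agent.Helper16.TT

open Equiv

variable {G : Type*} [Group G] {D : Set G}

theorem K33.iso {X Y : Set G} (K : K33 D X Y) (H : Hyp D) {x0 : G} (hx0 : x0 ∈ X)
    (hsub : D ⊆ X ∪ Y) :
    Nonempty (↥(Subgroup.closure D) ≃* Perm (Fin 3) × Perm (Fin 3)) := by
  obtain ⟨y0, hy0⟩ := K.exY H hx0
  obtain ⟨φX⟩ := H.loc y0 (K.hY y0 hy0).1
  obtain ⟨φY⟩ := H.loc x0 (K.hX x0 hx0).1
  rw [(K.hY y0 hy0).2] at φX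
  rw [(K.hX x0 hx0).2] at φY
  have hcomm : ∀ a ∈ Subgroup.closure X, ∀ b ∈ Subgroup.closure Y, Commute a b := by
    have h1 : Subgroup.closure Y ≤ Subgroup.centralizer X := by
      rw [Subgroup.closure_le]
      intro y hy
      rw [SetLike.mem_coe, Subgroup.mem_centralizer_iff]
      intro x hx
      exact (K.comm hx hy).eq
    have h2 : Subgroup.closure X ≤ Subgroup.centralizer (Subgroup.closure Y : Set G) := by
      rw [Subgroup.closure_le]
      intro x hx
      rw [SetLike.mem_coe, Subgroup.mem_centralizer_iff]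
      intro b hb
      have := h1 hb
      rw [Subgroup.mem_centralizer_iff] at this
      exact (this x hx).symm
    intro a ha b hb
    have := h2 ha
    rw [Subgroup.mem_centralizer_iff] at this
    exact (this b hb).symm
  have hc' : ∀ (m : ↥(Subgroup.closure X)) (n : ↥(Subgroup.closure Y)),
      Commute ((Subgroup.closure X).subtype m) ((Subgroup.closure Y).subtype n) :=
    fun m n => hcomm m.1 m.2 n.1 n.2
  set f : ↥(Subgroup.closure X) × ↥(Subgroup.closure Y) →* G :=
    MonoidHom.noncommCoprod (Subgroup.closure X).subtype (Subgroup.closure Y).subtype hc' with hf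
  have hinj : Function.Injective f := by
    rw [hf, MonoidHom.noncommCoprod_injective]
    refine ⟨Subtype.val_injective, Subtype.val_injective, ?_⟩
    rw [Subgroup.range_subtype, Subgroup.range_subtype, disjoint_iff_inf_le]
    intro z hz
    obtain ⟨hzX, hzY⟩ := Subgroup.mem_inf.mp hz
    rw [Subgroup.mem_bot]
    -- `z` is central in `closure X`
    have hc : ∀ τ : Perm (Fin 3), φX ⟨z, hzX⟩ * τ = τ * φX ⟨z, hzX⟩ := by
      intro τ
      obtain ⟨q, rfl⟩ := φX.surjective τ
      rw [← map_mul, ← map_mul]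
      congr 1
      apply Subtype.ext
      exact ((hcomm q.1 q.2 z hzY).eq).symm
    have h1 := perm3_center _ hc
    have h2 := φX.injective (h1.trans (map_one φX).symm)
    exact congrArg Subtype.val h2
  have hrange : f.range = Subgroup.closure D := by
    rw [hf, MonoidHom.noncommCoprod_range, Subgroup.range_subtype, Subgroup.range_subtype,
      ← Subgroup.closure_union]
    apply le_antisymm
    · apply Subgroup.closure_mono
      intro z hz
      rcases hz with hz | hz
      · exact (K.hX z hz).1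
      · exact (K.hY z hz).1
    · exact Subgroup.closure_mono hsub
  refine ⟨(MulEquiv.subgroupCongr hrange.symm).trans
    ((MonoidHom.ofInjective hinj).symm.trans (MulEquiv.prodCongr φX φY))⟩

/-- a `θ`-pair gives a `K33` -/
theorem Hyp.K33_of_theta (H : Hyp D) {d e : G} (hd : d ∈ D) (he : e ∈ D) (hne : d ≠ e)
    (hth : ∀ y ∈ Dd D d, Commute e y) : ∃ X : Set G, K33 D X (Dd D d) ∧ d ∈ X := by
  obtain ⟨a, ha, p2, h2, p3, h3, h12, h13, h23, hc⟩ := H.three hd
  -- `e` does not commute with `d`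
  have hde : ¬ Commute d e := by
    intro hcomm
    have heD : e ∈ Dd D d := ⟨he, hne.symm, hcomm⟩
    obtain ⟨q2, hq2, q3, hq3, hq12, -, -, -⟩ := H.three_of hd heD
    exact H.not_commute hd heD hq2 hq12 (hth q2 hq2)
  have hey : ∀ y ∈ Dd D d, e ∈ Dd D y := by
    intro y hy
    refine ⟨he, ?_, (hth y hy).symm⟩
    intro h
    apply hde
    rw [h]; exact hy.2.2
  have hdy : ∀ y ∈ Dd D d, d ∈ Dd D y := fun y hy => Dd_symm hd hy
  have hsame : ∀ y ∈ Dd D d, ∀ z ∈ Dd D d, Dd D y ⊆ Dd D z := by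
    intro y hy z hz w hw
    rcases H.cover hy.1 (hdy y hy) (hey y hy) hw hne with h | h | h
    · rw [h]; exact hdy z hz
    · rw [h]; exact hey z hz
    · rw [h]; exact H.conj_mem_Dd (hdy z hz) (hey z hz)
  have hsame' : ∀ y ∈ Dd D d, Dd D y = Dd D a := fun y hy =>
    Set.Subset.antisymm (hsame y hy a ha) (hsame a ha y hy)
  refine ⟨Dd D a, ⟨?_, ?_⟩, hdy a ha⟩
  · intro x hx
    refine ⟨hx.1, ?_⟩
    have hsup : ∀ y ∈ Dd D d, y ∈ Dd D x := by
      intro y hy
      have : x ∈ Dd D y := by rw [hsame' y hy]; exact hx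
      exact Dd_symm hy.1 this
    apply Set.Subset.antisymm
    · intro w hw
      rcases H.cover3 hx.1 (hsup a ha) (hsup p2 h2) (hsup p3 h3) hw h12 h13 h23 with h | h | h
      · rw [h]; exact ha
      · rw [h]; exact h2
      · rw [h]; exact h3
    · exact hsup
  · intro y hy
    exact ⟨hy.1, hsame' y hy⟩

/-- Case A -/
theorem Hyp.caseA [Finite G] (H : Hyp D) {d e : G} (hd : d ∈ D) (he : e ∈ D) (hne : d ≠ e)
    (hth : ∀ y ∈ Dd D d, Commute e y) :
    Nonempty (↥(Subgroup.closure D) ≃* Perm (Fin 3) × Perm (Fin 3)) := by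
  obtain ⟨X, K, hdX⟩ := H.K33_of_theta hd he hne hth
  apply K.iso H hdX
  intro g hg
  by_contra hcon
  rw [Set.mem_union, not_or] at hcon
  exact K.contra H hdX hg hcon.1 hcon.2

end Cfsg.Agent.Helper16.TT
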