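import Mathlib
import Cfsg.Agent.S2530

set_option autoImplicit false

namespace Cfsg.Agent.Helper16.TT

open Equiv

set_option maxRecDepth 100000 in
set_option synthInstance.maxSize 100000 in
set_option synthInstance.maxHeartbeats 2000000 in
theorem petersen_aux : ∀ c0 : Fin 3, ∀ c1 : Fin 3, c0 ≠ c1 → ∀ c2 : Fin 3, c0 ≠ c2 → c1 ≠ c2 → ∀ c11 : Fin 3, c0 ≠ c11 → ∀ c14 : Fin 3, c0 ≠ c14 → c11 ≠ c14 → ∀ c8 : Fin 3, c1 ≠ c8 → ∀ c13 : Fin 3, c1 ≠ c13 → c8 ≠ c13 → ∀ c5 : Fin 3, c2 ≠ c5 → ∀ c12 : Fin 3, c2 ≠ c12 → c5 ≠ c12 → ∀ c9 : Fin 3, c11 ≠ c9 → c12 ≠ c9 → ∀ c10 : Fin 3, c11 ≠ c10 → c13 ≠ c10 → c9 ≠ c10 → ∀ c4 : Fin 3, c14 ≠ c4 → c5 ≠ c4 → ∀ c7 : Fin 3, c14 ≠ c7 → c8 ≠ c7 → c4 ≠ c7 → ∀ c6 : Fin 3, c8 ≠ c6 → c12 ≠ c6 → c9 ≠ c6 → c7 ≠ c6 → ∀ c3 : Fin 3, c13 ≠ c3 → c5 ≠ c3 → c10 ≠ c3 → c4 ≠ c3 → False := by decide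

/-- no proper colouring of the double transpositions -/
theorem petersen (c : Perm (Fin 5) → Fin 3)
    (h : ∀ i j k l m : Fin 5, [i, j, k, l, m].Nodup →
      c (swap i j * swap k l) ≠ c (swap i j * swap k m)) : False := by
  have h_0_1 : c (swap 0 1 * swap 2 3 : Perm (Fin 5)) ≠ c (swap 0 1 * swap 2 4 : Perm (Fin 5)) := fun e =>
    h 0 1 2 3 4 (by decide) ((congrArg c (by decide : (swap 0 1 * swap 2 3 : Perm (Fin 5)) = swap 0 1 * swap 2 3)).trans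
      (e.trans (congrArg c (by decide : swap 0 1 * swap 2 4 = (swap 0 1 * swap 2 4 : Perm (Fin 5))))))
  have h_0_2 : c (swap 0 1 * swap 2 3 : Perm (Fin 5)) ≠ c (swap 0 1 * swap 3 4 : Perm (Fin 5)) := fun e =>
    h 0 1 3 2 4 (by decide) ((congrArg c (by decide : (swap 0 1 * swap 3 2 : Perm (Fin 5)) = swap 0 1 * swap 2 3)).trans
      (e.trans (congrArg c (by decide : swap 0 1 * swap 3 4 = (swap 0 1 * swap 3 4 : Perm (Fin 5))))))
  have h_1_2 : c (swap 0 1 * swap 2 4 : Perm (Fin 5)) ≠ c (swap 0 1 * swap 3 4 : Perm (Fin 5)) := fun e =>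
    h 0 1 4 2 3 (by decide) ((congrArg c (by decide : (swap 0 1 * swap 4 2 : Perm (Fin 5)) = swap 0 1 * swap 2 4)).trans
      (e.trans (congrArg c (by decide : swap 0 1 * swap 3 4 = (swap 0 1 * swap 4 3 : Perm (Fin 5))))))
  have h_0_11 : c (swap 0 1 * swap 2 3 : Perm (Fin 5)) ≠ c (swap 0 4 * swap 2 3 : Perm (Fin 5)) := fun e =>
    h 2 3 0 1 4 (by decide) ((congrArg c (by decide : (swap 2 3 * swap 0 1 : Perm (Fin 5)) = swap 0 1 * swap 2 3)).trans
      (e.trans (congrArg c (by decide : swap 0 4 * swap 2 3 = (swap 2 3 * swap 0 4 : Perm (Fin 5))))))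
  have h_0_14 : c (swap 0 1 * swap 2 3 : Perm (Fin 5)) ≠ c (swap 1 4 * swap 2 3 : Perm (Fin 5)) := fun e =>
    h 2 3 1 0 4 (by decide) ((congrArg c (by decide : (swap 2 3 * swap 1 0 : Perm (Fin 5)) = swap 0 1 * swap 2 3)).trans
      (e.trans (congrArg c (by decide : swap 1 4 * swap 2 3 = (swap 2 3 * swap 1 4 : Perm (Fin 5))))))
  have h_11_14 : c (swap 0 4 * swap 2 3 : Perm (Fin 5)) ≠ c (swap 1 4 * swap 2 3 : Perm (Fin 5)) := fun e =>
    h 2 3 4 0 1 (by decide) ((congrArg c (by decide : (swap 2 3 * swap 4 0 : Perm (Fin 5)) = swap 0 4 * swap 2 3)).trans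
      (e.trans (congrArg c (by decide : swap 1 4 * swap 2 3 = (swap 2 3 * swap 4 1 : Perm (Fin 5))))))
  have h_1_8 : c (swap 0 1 * swap 2 4 : Perm (Fin 5)) ≠ c (swap 0 3 * swap 2 4 : Perm (Fin 5)) := fun e =>
    h 2 4 0 1 3 (by decide) ((congrArg c (by decide : (swap 2 4 * swap 0 1 : Perm (Fin 5)) = swap 0 1 * swap 2 4)).trans
      (e.trans (congrArg c (by decide : swap 0 3 * swap 2 4 = (swap 2 4 * swap 0 3 : Perm (Fin 5))))))
  have h_1_13 : c (swap 0 1 * swap 2 4 : Perm (Fin 5)) ≠ c (swap 1 3 * swap 2 4 : Perm (Fin 5)) := fun e =>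
    h 2 4 1 0 3 (by decide) ((congrArg c (by decide : (swap 2 4 * swap 1 0 : Perm (Fin 5)) = swap 0 1 * swap 2 4)).trans
      (e.trans (congrArg c (by decide : swap 1 3 * swap 2 4 = (swap 2 4 * swap 1 3 : Perm (Fin 5))))))
  have h_8_13 : c (swap 0 3 * swap 2 4 : Perm (Fin 5)) ≠ c (swap 1 3 * swap 2 4 : Perm (Fin 5)) := fun e =>
    h 2 4 3 0 1 (by decide) ((congrArg c (by decide : (swap 2 4 * swap 3 0 : Perm (Fin 5)) = swap 0 3 * swap 2 4)).trans
      (e.trans (congrArg c (by decide : swap 1 3 * swap 2 4 = (swap 2 4 * swap 3 1 : Perm (Fin 5))))))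
  have h_2_5 : c (swap 0 1 * swap 3 4 : Perm (Fin 5)) ≠ c (swap 0 2 * swap 3 4 : Perm (Fin 5)) := fun e =>
    h 3 4 0 1 2 (by decide) ((congrArg c (by decide : (swap 3 4 * swap 0 1 : Perm (Fin 5)) = swap 0 1 * swap 3 4)).trans
      (e.trans (congrArg c (by decide : swap 0 2 * swap 3 4 = (swap 3 4 * swap 0 2 : Perm (Fin 5))))))
  have h_2_12 : c (swap 0 1 * swap 3 4 : Perm (Fin 5)) ≠ c (swap 1 2 * swap 3 4 : Perm (Fin 5)) := fun e =>
    h 3 4 1 0 2 (by decide) ((congrArg c (by decide : (swap 3 4 * swap 1 0 : Perm (Fin 5)) = swap 0 1 * swap 3 4)).trans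
      (e.trans (congrArg c (by decide : swap 1 2 * swap 3 4 = (swap 3 4 * swap 1 2 : Perm (Fin 5))))))
  have h_5_12 : c (swap 0 2 * swap 3 4 : Perm (Fin 5)) ≠ c (swap 1 2 * swap 3 4 : Perm (Fin 5)) := fun e =>
    h 3 4 2 0 1 (by decide) ((congrArg c (by decide : (swap 3 4 * swap 2 0 : Perm (Fin 5)) = swap 0 2 * swap 3 4)).trans
      (e.trans (congrArg c (by decide : swap 1 2 * swap 3 4 = (swap 3 4 * swap 2 1 : Perm (Fin 5))))))
  have h_11_9 : c (swap 0 4 * swap 2 3 : Perm (Fin 5)) ≠ c (swap 0 4 * swap 1 2 : Perm (Fin 5)) := fun e =>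
    h 0 4 2 3 1 (by decide) ((congrArg c (by decide : (swap 0 4 * swap 2 3 : Perm (Fin 5)) = swap 0 4 * swap 2 3)).trans
      (e.trans (congrArg c (by decide : swap 0 4 * swap 1 2 = (swap 0 4 * swap 2 1 : Perm (Fin 5))))))
  have h_12_9 : c (swap 1 2 * swap 3 4 : Perm (Fin 5)) ≠ c (swap 0 4 * swap 1 2 : Perm (Fin 5)) := fun e =>
    h 1 2 4 3 0 (by decide) ((congrArg c (by decide : (swap 1 2 * swap 4 3 : Perm (Fin 5)) = swap 1 2 * swap 3 4)).trans
      (e.trans (congrArg c (by decide : swap 0 4 * swap 1 2 = (swap 1 2 * swap 4 0 : Perm (Fin 5))))))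
  have h_11_10 : c (swap 0 4 * swap 2 3 : Perm (Fin 5)) ≠ c (swap 0 4 * swap 1 3 : Perm (Fin 5)) := fun e =>
    h 0 4 3 2 1 (by decide) ((congrArg c (by decide : (swap 0 4 * swap 3 2 : Perm (Fin 5)) = swap 0 4 * swap 2 3)).trans
      (e.trans (congrArg c (by decide : swap 0 4 * swap 1 3 = (swap 0 4 * swap 3 1 : Perm (Fin 5))))))
  have h_13_10 : c (swap 1 3 * swap 2 4 : Perm (Fin 5)) ≠ c (swap 0 4 * swap 1 3 : Perm (Fin 5)) := fun e =>
    h 1 3 4 2 0 (by decide) ((congrArg c (by decide : (swap 1 3 * swap 4 2 : Perm (Fin 5)) = swap 1 3 * swap 2 4)).trans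
      (e.trans (congrArg c (by decide : swap 0 4 * swap 1 3 = (swap 1 3 * swap 4 0 : Perm (Fin 5))))))
  have h_9_10 : c (swap 0 4 * swap 1 2 : Perm (Fin 5)) ≠ c (swap 0 4 * swap 1 3 : Perm (Fin 5)) := fun e =>
    h 0 4 1 2 3 (by decide) ((congrArg c (by decide : (swap 0 4 * swap 1 2 : Perm (Fin 5)) = swap 0 4 * swap 1 2)).trans
      (e.trans (congrArg c (by decide : swap 0 4 * swap 1 3 = (swap 0 4 * swap 1 3 : Perm (Fin 5))))))
  have h_14_4 : c (swap 1 4 * swap 2 3 : Perm (Fin 5)) ≠ c (swap 0 2 * swap 1 4 : Perm (Fin 5)) := fun e =>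
    h 1 4 2 3 0 (by decide) ((congrArg c (by decide : (swap 1 4 * swap 2 3 : Perm (Fin 5)) = swap 1 4 * swap 2 3)).trans
      (e.trans (congrArg c (by decide : swap 0 2 * swap 1 4 = (swap 1 4 * swap 2 0 : Perm (Fin 5))))))
  have h_5_4 : c (swap 0 2 * swap 3 4 : Perm (Fin 5)) ≠ c (swap 0 2 * swap 1 4 : Perm (Fin 5)) := fun e =>
    h 0 2 4 3 1 (by decide) ((congrArg c (by decide : (swap 0 2 * swap 4 3 : Perm (Fin 5)) = swap 0 2 * swap 3 4)).trans
      (e.trans (congrArg c (by decide : swap 0 2 * swap 1 4 = (swap 0 2 * swap 4 1 : Perm (Fin 5))))))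
  have h_14_7 : c (swap 1 4 * swap 2 3 : Perm (Fin 5)) ≠ c (swap 0 3 * swap 1 4 : Perm (Fin 5)) := fun e =>
    h 1 4 3 2 0 (by decide) ((congrArg c (by decide : (swap 1 4 * swap 3 2 : Perm (Fin 5)) = swap 1 4 * swap 2 3)).trans
      (e.trans (congrArg c (by decide : swap 0 3 * swap 1 4 = (swap 1 4 * swap 3 0 : Perm (Fin 5))))))
  have h_8_7 : c (swap 0 3 * swap 2 4 : Perm (Fin 5)) ≠ c (swap 0 3 * swap 1 4 : Perm (Fin 5)) := fun e =>
    h 0 3 4 2 1 (by decide) ((congrArg c (by decide : (swap 0 3 * swap 4 2 : Perm (Fin 5)) = swap 0 3 * swap 2 4)).trans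
      (e.trans (congrArg c (by decide : swap 0 3 * swap 1 4 = (swap 0 3 * swap 4 1 : Perm (Fin 5))))))
  have h_4_7 : c (swap 0 2 * swap 1 4 : Perm (Fin 5)) ≠ c (swap 0 3 * swap 1 4 : Perm (Fin 5)) := fun e =>
    h 1 4 0 2 3 (by decide) ((congrArg c (by decide : (swap 1 4 * swap 0 2 : Perm (Fin 5)) = swap 0 2 * swap 1 4)).trans
      (e.trans (congrArg c (by decide : swap 0 3 * swap 1 4 = (swap 1 4 * swap 0 3 : Perm (Fin 5))))))
  have h_8_6 : c (swap 0 3 * swap 2 4 : Perm (Fin 5)) ≠ c (swap 0 3 * swap 1 2 : Perm (Fin 5)) := fun e =>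
    h 0 3 2 4 1 (by decide) ((congrArg c (by decide : (swap 0 3 * swap 2 4 : Perm (Fin 5)) = swap 0 3 * swap 2 4)).trans
      (e.trans (congrArg c (by decide : swap 0 3 * swap 1 2 = (swap 0 3 * swap 2 1 : Perm (Fin 5))))))
  have h_12_6 : c (swap 1 2 * swap 3 4 : Perm (Fin 5)) ≠ c (swap 0 3 * swap 1 2 : Perm (Fin 5)) := fun e =>
    h 1 2 3 4 0 (by decide) ((congrArg c (by decide : (swap 1 2 * swap 3 4 : Perm (Fin 5)) = swap 1 2 * swap 3 4)).trans
      (e.trans (congrArg c (by decide : swap 0 3 * swap 1 2 = (swap 1 2 * swap 3 0 : Perm (Fin 5))))))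
  have h_9_6 : c (swap 0 4 * swap 1 2 : Perm (Fin 5)) ≠ c (swap 0 3 * swap 1 2 : Perm (Fin 5)) := fun e =>
    h 1 2 0 4 3 (by decide) ((congrArg c (by decide : (swap 1 2 * swap 0 4 : Perm (Fin 5)) = swap 0 4 * swap 1 2)).trans
      (e.trans (congrArg c (by decide : swap 0 3 * swap 1 2 = (swap 1 2 * swap 0 3 : Perm (Fin 5))))))
  have h_7_6 : c (swap 0 3 * swap 1 4 : Perm (Fin 5)) ≠ c (swap 0 3 * swap 1 2 : Perm (Fin 5)) := fun e =>
    h 0 3 1 4 2 (by decide) ((congrArg c (by decide : (swap 0 3 * swap 1 4 : Perm (Fin 5)) = swap 0 3 * swap 1 4)).trans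
      (e.trans (congrArg c (by decide : swap 0 3 * swap 1 2 = (swap 0 3 * swap 1 2 : Perm (Fin 5))))))
  have h_13_3 : c (swap 1 3 * swap 2 4 : Perm (Fin 5)) ≠ c (swap 0 2 * swap 1 3 : Perm (Fin 5)) := fun e =>
    h 1 3 2 4 0 (by decide) ((congrArg c (by decide : (swap 1 3 * swap 2 4 : Perm (Fin 5)) = swap 1 3 * swap 2 4)).trans
      (e.trans (congrArg c (by decide : swap 0 2 * swap 1 3 = (swap 1 3 * swap 2 0 : Perm (Fin 5))))))
  have h_5_3 : c (swap 0 2 * swap 3 4 : Perm (Fin 5)) ≠ c (swap 0 2 * swap 1 3 : Perm (Fin 5)) := fun e =>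
    h 0 2 3 4 1 (by decide) ((congrArg c (by decide : (swap 0 2 * swap 3 4 : Perm (Fin 5)) = swap 0 2 * swap 3 4)).trans
      (e.trans (congrArg c (by decide : swap 0 2 * swap 1 3 = (swap 0 2 * swap 3 1 : Perm (Fin 5))))))
  have h_10_3 : c (swap 0 4 * swap 1 3 : Perm (Fin 5)) ≠ c (swap 0 2 * swap 1 3 : Perm (Fin 5)) := fun e =>
    h 1 3 0 4 2 (by decide) ((congrArg c (by decide : (swap 1 3 * swap 0 4 : Perm (Fin 5)) = swap 0 4 * swap 1 3)).trans
      (e.trans (congrArg c (by decide : swap 0 2 * swap 1 3 = (swap 1 3 * swap 0 2 : Perm (Fin 5))))))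
  have h_4_3 : c (swap 0 2 * swap 1 4 : Perm (Fin 5)) ≠ c (swap 0 2 * swap 1 3 : Perm (Fin 5)) := fun e =>
    h 0 2 1 4 3 (by decide) ((congrArg c (by decide : (swap 0 2 * swap 1 4 : Perm (Fin 5)) = swap 0 2 * swap 1 4)).trans
      (e.trans (congrArg c (by decide : swap 0 2 * swap 1 3 = (swap 0 2 * swap 1 3 : Perm (Fin 5))))))
  exact petersen_aux (c (swap 0 1 * swap 2 3 : Perm (Fin 5))) (c (swap 0 1 * swap 2 4 : Perm (Fin 5))) h_0_1 (c (swap 0 1 * swap 3 4 : Perm (Fin 5))) h_0_2 h_1_2 (c (swap 0 4 * swap 2 3 : Perm (Fin 5))) h_0_11 (c (swap 1 4 * swap 2 3 : Perm (Fin 5))) h_0_14 h_11_14 (c (swap 0 3 * swap 2 4 : Perm (Fin 5))) h_1_8 (c (swap 1 3 * swap 2 4 : Perm (Fin 5))) h_1_13 h_8_13 (c (swap 0 2 * swap 3 4 : Perm (Fin 5))) h_2_5 (c (swap 1 2 * swap 3 4 : Perm (Fin 5))) h_2_12 h_5_12 (c (swap 0 4 * swap 1 2 : Perm (Fin 5))) h_11_9 h_12_9 (c (swap 0 4 * swap 1 3 : Perm (Fin 5))) h_11_10 h_13_10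 h_9_10 (c (swap 0 2 * swap 1 4 : Perm (Fin 5))) h_14_4 h_5_4 (c (swap 0 3 * swap 1 4 : Perm (Fin 5))) h_14_7 h_8_7 h_4_7 (c (swap 0 3 * swap 1 2 : Perm (Fin 5))) h_8_6 h_12_6 h_9_6 h_7_6 (c (swap 0 2 * swap 1 3 : Perm (Fin 5))) h_13_3 h_5_3 h_10_3 h_4_3

section perm5

theorem perm5_exists_third : ∀ i j : Fin 5, ∃ k : Fin 5, k ≠ i ∧ k ≠ j := by decide

theorem perm5_central {σ : Perm (Fin 5)} (h : ∀ ρ : Perm (Fin 5), ρ * σ = σ * ρ) : σ = 1 := by
  ext i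
  rw [Perm.coe_one, id_eq]
  by_contra hne
  obtain ⟨k, hki, hkj⟩ := perm5_exists_third i (σ i)
  have h1 := congrArg (fun τ : Perm (Fin 5) => τ i) (h (swap i k))
  simp only [Perm.coe_mul, Function.comp_apply, swap_apply_left] at h1
  rw [swap_apply_of_ne_of_ne (fun e => hne (congrArg Fin.val e)) (fun e => hkj e.symm)] at h1
  exact hki (σ.injective h1).symm

theorem perm5_injective {G : Type*} [Group G] (φ : Perm (Fin 5) →* G)
    (h : φ (swap 0 1 * swap 1 2) ≠ 1) : Function.Injective φ := by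
  rw [← MonoidHom.ker_eq_bot_iff]
  have hn : (φ.ker.subgroupOf (alternatingGroup (Fin 5))).Normal := inferInstance
  rcases hn.eq_bot_or_eq_top with hb | ht
  · rw [Subgroup.eq_bot_iff_forall]
    intro σ hσ
    apply perm5_central
    intro ρ
    have hmem : ρ * σ * ρ⁻¹ * σ⁻¹ ∈ φ.ker :=
      φ.ker.mul_mem (φ.normal_ker.conj_mem σ hσ ρ) (φ.ker.inv_mem hσ)
    have halt : ρ * σ * ρ⁻¹ * σ⁻¹ ∈ alternatingGroup (Fin 5) := by
      rw [Perm.mem_alternatingGroup]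
      simp only [map_mul, map_inv]
      rw [mul_comm (Perm.sign ρ), mul_assoc, mul_assoc, ← mul_assoc (Perm.sign ρ),
        mul_inv_cancel, one_mul, mul_inv_cancel]
    have : (⟨ρ * σ * ρ⁻¹ * σ⁻¹, halt⟩ : alternatingGroup (Fin 5)) ∈
        φ.ker.subgroupOf (alternatingGroup (Fin 5)) := by
      rw [Subgroup.mem_subgroupOf]; exact hmem
    rw [hb, Subgroup.mem_bot] at this
    have h2 : ρ * σ * ρ⁻¹ * σ⁻¹ = 1 := congrArg Subtype.val this
    have h3 : ρ * σ * ρ⁻¹ = σ := by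
      have := mul_inv_eq_one.mp h2
      exact this
    have h4 := mul_inv_eq_iff_eq_mul.mp h3
    exact h4
  · exfalso
    apply h
    have halt : (swap 0 1 * swap 1 2 : Perm (Fin 5)) ∈ alternatingGroup (Fin 5) := by
      rw [Perm.mem_alternatingGroup]; decide
    have : (⟨_, halt⟩ : alternatingGroup (Fin 5)) ∈
        φ.ker.subgroupOf (alternatingGroup (Fin 5)) := by rw [ht]; exact Subgroup.mem_top _
    rw [Subgroup.mem_subgroupOf] at this
    exact this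

theorem swap5_comm : ∀ i j k l : Fin 5, (i ≠ k ∧ i ≠ l ∧ j ≠ k ∧ j ≠ l) →
    swap i j * swap k l = swap k l * swap i j := by decide

theorem swap5_not_comm : ∀ k l m : Fin 5, (k ≠ l ∧ k ≠ m ∧ l ≠ m) →
    swap k l * swap k m ≠ swap k m * swap k l := by decide

theorem swap5_ne : ∀ i j k l : Fin 5, (i ≠ j ∧ i ≠ k ∧ i ≠ l) → swap i j ≠ swap k l := by decide

end perm5

section lift
variable {G : Type*} [Group G]

theorem cube_symm' {p q : G} (hp : p * p = 1) (hq : q * q = 1) (h : (p * q) ^ 3 = 1) :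
    (q * p) ^ 3 = 1 := by
  have ip : p⁻¹ = p := inv_eq_of_mul_eq_one_left hp
  have iq : q⁻¹ = q := inv_eq_of_mul_eq_one_left hq
  have : q * p = (p * q)⁻¹ := by rw [mul_inv_rev, ip, iq]
  rw [this, inv_pow, h, inv_one]

theorem sq_of_comm' {p q : G} (hp : p * p = 1) (hq : q * q = 1) (h : Commute p q) :
    (p * q) ^ 2 = 1 := by
  rw [pow_two]
  calc p * q * (p * q) = p * (q * p) * q := by simp only [mul_assoc]
    _ = p * (p * q) * q := by rw [h.eq]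
    _ = (p * p) * (q * q) := by simp only [mul_assoc]
    _ = 1 := by rw [hp, hq, one_mul]

theorem liftable_A4 {d x a b : G} (sd : d * d = 1) (sx : x * x = 1) (sa : a * a = 1)
    (sb : b * b = 1) (b1 : (d * x) ^ 3 = 1) (b2 : (x * a) ^ 3 = 1) (b3 : (a * b) ^ 3 = 1)
    (c1 : Commute d a) (c2 : Commute d b) (c3 : Commute x b) :
    (CoxeterMatrix.A 4).IsLiftable ![d, x, a, b] := by
  intro i i'
  fin_cases i <;> fin_cases i'
  · show (d * d) ^ 1 = 1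
    rw [pow_one, sd]
  · show (d * x) ^ 3 = 1
    exact b1
  · show (d * a) ^ 2 = 1
    exact sq_of_comm' sd sa c1
  · show (d * b) ^ 2 = 1
    exact sq_of_comm' sd sb c2
  · show (x * d) ^ 3 = 1
    exact cube_symm' sd sx b1
  · show (x * x) ^ 1 = 1
    rw [pow_one, sx]
  · show (x * a) ^ 3 = 1
    exact b2
  · show (x * b) ^ 2 = 1
    exact sq_of_comm' sx sb c3
  · show (a * d) ^ 2 = 1
    exact sq_of_comm' sa sd c1.symm
  · show (a * x) ^ 3 = 1
    exact cube_symm' sx sa b2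
  · show (a * a) ^ 1 = 1
    rw [pow_one, sa]
  · show (a * b) ^ 3 = 1
    exact b3
  · show (b * d) ^ 2 = 1
    exact sq_of_comm' sb sd c2.symm
  · show (b * x) ^ 2 = 1
    exact sq_of_comm' sb sx c3.symm
  · show (b * a) ^ 3 = 1
    exact cube_symm' sa sb b3
  · show (b * b) ^ 1 = 1
    rw [pow_one, sb]

/-- the homomorphism from the symmetric group of degree five -/
theorem exists_hom_S5 {d x a b : G} (sd : d * d = 1) (sx : x * x = 1) (sa : a * a = 1)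
    (sb : b * b = 1) (b1 : (d * x) ^ 3 = 1) (b2 : (x * a) ^ 3 = 1) (b3 : (a * b) ^ 3 = 1)
    (c1 : Commute d a) (c2 : Commute d b) (c3 : Commute x b) :
    ∃ φ : Perm (Fin 5) →* G, φ (swap 0 1) = d ∧ φ (swap 1 2) = x ∧ φ (swap 2 3) = a ∧
      φ (swap 3 4) = b := by
  obtain ⟨cs, hcs⟩ := Cfsg.Agent.S2530.result 4
  have hl := liftable_A4 sd sx sa sb b1 b2 b3 c1 c2 c3
  refine ⟨cs.lift ⟨_, hl⟩, ?_, ?_, ?_, ?_⟩
  · have := cs.lift_apply_simple hl 0
    rw [hcs 0] at this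
    exact this
  · have := cs.lift_apply_simple hl 1
    rw [hcs 1] at this
    exact this
  · have := cs.lift_apply_simple hl 2
    rw [hcs 2] at this
    exact this
  · have := cs.lift_apply_simple hl 3
    rw [hcs 3] at this
    exact this

end lift

end Cfsg.Agent.Helper16.TT
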