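import Mathlib
import Cfsg.Agent.Lib.Helper16.TTF
import Cfsg.Agent.Lib.Helper16.TTG

set_option autoImplicit false

namespace Cfsg.Agent.Helper16.TT

open Equiv

variable {G : Type*} [Group G] {D : Set G}

/-- Case B -/
theorem Hyp.caseB [Finite G] (H : Hyp D) (hne : D.Nonempty)
    (hno : ∀ d ∈ D, ∀ e ∈ D, d ≠ e → ∃ y ∈ Dd D d, ¬ Commute e y) :
    Nonempty (↥(Subgroup.closure D) ≃* Perm (Fin 5)) := by
  obtain ⟨d, hd⟩ := hne
  obtain ⟨a, ha, b, hb, hab⟩ := H.exists_two hd
  have hdb : d ∈ Dd D b := Dd_symm hd hb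
  obtain ⟨x, hx, -, -, hdx, -, -, -⟩ := H.three_of hb.1 hdb
  have ncdx : ¬ Commute d x := H.not_commute hb.1 hdb hx hdx
  have cxb : Commute x b := hx.2.2.symm
  have ncxa : ¬ Commute x a := by
    intro hc
    obtain ⟨y, hy, hny⟩ := hno d hd x hx.1 hdx
    apply hny
    rcases H.cover hd ha hb hy hab with h | h | h
    · rw [h]; exact hc
    · rw [h]; exact cxb
    · rw [h]; exact (cxb.mul_right hc).mul_right cxb.inv_right
  have ncab : ¬ Commute a b := H.not_commute hd ha hb hab
  have sd := mul_self_of_mem H.tt hd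
  have sx := mul_self_of_mem H.tt hx.1
  have sa := mul_self_of_mem H.tt ha.1
  have sb := mul_self_of_mem H.tt hb.1
  obtain ⟨φ, hφ0, hφ1, -, -⟩ := exists_hom_S5 sd sx sa sb
    (cube_of_not_commute H.tt hd hx.1 ncdx) (cube_of_not_commute H.tt hx.1 ha.1 ncxa)
    (cube_of_not_commute H.tt ha.1 hb.1 ncab) ha.2.2 hb.2.2 cxb
  have hinj : Function.Injective φ := by
    apply perm5_injective
    rw [map_mul, hφ0, hφ1]
    exact mul_ne_one_of_ne H.tt hd hx.1 hdx
  -- transpositions lie in `D`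
  have hTD : ∀ i j : Fin 5, i ≠ j → φ (swap i j) ∈ D := by
    intro i j hij
    obtain ⟨c, hc⟩ := isConj_iff.mp (Perm.isConj_swap (by decide : (0 : Fin 5) ≠ 1) hij)
    rw [← hc, map_mul, map_mul, map_inv, hφ0]
    exact H.conj _ d hd
  have hcomm : ∀ i j k l : Fin 5, i ≠ k → i ≠ l → j ≠ k → j ≠ l →
      Commute (φ (swap i j)) (φ (swap k l)) := by
    intro i j k l h1 h2 h3 h4
    have := swap5_comm i j k l ⟨h1, h2, h3, h4⟩
    change φ _ * φ _ = φ _ * φ _
    rw [← map_mul, ← map_mul, this]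
  -- the neighbours of `d`
  have hDd0 : ∀ w ∈ Dd D d, ∃ k l : Fin 5, k ≠ l ∧ w = φ (swap k l) := by
    intro w hw
    have m : ∀ k l : Fin 5, k ≠ l → (0 : Fin 5) ≠ k → (0 : Fin 5) ≠ l → (1 : Fin 5) ≠ k →
        (1 : Fin 5) ≠ l → φ (swap k l) ∈ Dd D d := by
      intro k l hkl h1 h2 h3 h4
      refine ⟨hTD k l hkl, ?_, ?_⟩
      · rw [← hφ0]
        intro h
        exact swap5_ne 0 1 k l ⟨by decide, h1, h2⟩ (hinj h).symm
      · rw [← hφ0]
        exact hcomm 0 1 k l h1 h2 h3 h4
    have n : ∀ σ τ : Perm (Fin 5), σ ≠ τ → φ σ ≠ φ τ := fun σ τ h e => h (hinj e)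
    rcases H.cover3 hd (m 2 3 (by decide) (by decide) (by decide) (by decide) (by decide))
      (m 2 4 (by decide) (by decide) (by decide) (by decide) (by decide))
      (m 3 4 (by decide) (by decide) (by decide) (by decide) (by decide)) hw
      (n _ _ (by decide)) (n _ _ (by decide)) (n _ _ (by decide)) with h | h | h
    · exact ⟨2, 3, by decide, h⟩
    · exact ⟨2, 4, by decide, h⟩
    · exact ⟨3, 4, by decide, h⟩
  have hDdT : ∀ i j : Fin 5, i ≠ j → ∀ w ∈ Dd D (φ (swap i j)),
      ∃ k l : Fin 5, k ≠ l ∧ w = φ (swap k l) := by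
    intro i j hij w hw
    obtain ⟨c, hc⟩ := isConj_iff.mp (Perm.isConj_swap (by decide : (0 : Fin 5) ≠ 1) hij)
    have h1 := Dd_conj H (φ c)⁻¹ _ w hw
    rw [inv_inv, ← hc, map_mul, map_mul, map_inv, hφ0] at h1
    have e1 : (φ c)⁻¹ * (φ c * d * (φ c)⁻¹) * φ c = d := by group
    rw [e1] at h1
    obtain ⟨k, l, hkl, hw'⟩ := hDd0 _ h1
    refine ⟨c k, c l, fun e => hkl (c.injective e), ?_⟩
    rw [swap_apply_apply, map_mul, map_mul, map_inv, ← hw']
    group
  by_cases hDT : ∀ g ∈ D, ∃ k l : Fin 5, k ≠ l ∧ g = φ (swap k l)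
  · have hrange : Subgroup.closure D = φ.range := by
      apply le_antisymm
      · rw [Subgroup.closure_le]
        intro g hg
        obtain ⟨k, l, -, h⟩ := hDT g hg
        exact ⟨swap k l, h.symm⟩
      · rw [MonoidHom.range_eq_map, ← Perm.closure_isSwap, MonoidHom.map_closure,
          Subgroup.closure_le]
        rintro _ ⟨σ, hσ, rfl⟩
        obtain ⟨k, l, hkl, rfl⟩ := hσ
        exact Subgroup.subset_closure (hTD k l hkl)
    exact ⟨(MulEquiv.subgroupCongr hrange).trans (MonoidHom.ofInjective hinj).symm⟩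
  · exfalso
    push Not at hDT
    obtain ⟨e, he, heT⟩ := hDT
    have hnc : ∀ k l : Fin 5, k ≠ l → ¬ Commute e (φ (swap k l)) := by
      intro k l hkl hc
      obtain ⟨k', l', hkl', h⟩ := hDdT k l hkl e ⟨he, heT k l hkl, hc.symm⟩
      exact heT k' l' hkl' h
    obtain ⟨p1, hp1, p2, hp2, p3, hp3, h12, h13, h23, hcov⟩ := H.three he
    classical
    set col : G → Fin 3 := fun w => if w = p1 then 0 else if w = p2 then 1 else 2 with hcol
    have col1 : col p1 = 0 := by simp only [hcol, if_true]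
    have col2 : col p2 = 1 := by simp only [hcol, if_neg h12.symm, if_true]
    have col3 : col p3 = 2 := by simp only [hcol, if_neg h13.symm, if_neg h23.symm]
    have col_inj : ∀ w ∈ Dd D e, ∀ w' ∈ Dd D e, col w = col w' → w = w' := by
      intro w hw w' hw' h
      rcases hcov w hw with rfl | rfl | rfl <;> rcases hcov w' hw' with rfl | rfl | rfl
      · rfl
      · rw [col1, col2] at h; exact absurd h (by decide)
      · rw [col1, col3] at h; exact absurd h (by decide)
      · rw [col2, col1] at h; exact absurd h (by decide)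
      · rfl
      · rw [col2, col3] at h; exact absurd h (by decide)
      · rw [col3, col1] at h; exact absurd h (by decide)
      · rw [col3, col2] at h; exact absurd h (by decide)
      · rfl
    apply petersen (fun σ => col (φ σ * e * (φ σ)⁻¹))
    intro i j k l m hnd
    simp only [List.nodup_cons, List.mem_cons, List.not_mem_nil, or_false, not_or,
      List.nodup_nil, and_true, not_false_eq_true] at hnd
    obtain ⟨⟨hij, hik, hil, him⟩, ⟨hjk, hjl, hjm⟩, ⟨hkl, hkm⟩, hlm⟩ := hnd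
    have m1 : (φ (swap i j) * φ (swap k l)) * e * (φ (swap i j) * φ (swap k l))⁻¹ ∈ Dd D e :=
      H.conj_pair_mem he (hTD i j hij) (hTD k l hkl) (hcomm i j k l hik hil hjk hjl)
        (fun h => swap5_ne i j k l ⟨hij, hik, hil⟩ (hinj h)) (hnc i j hij) (hnc k l hkl)
    have m2 : (φ (swap i j) * φ (swap k m)) * e * (φ (swap i j) * φ (swap k m))⁻¹ ∈ Dd D e :=
      H.conj_pair_mem he (hTD i j hij) (hTD k m hkm) (hcomm i j k m hik him hjk hjm)
        (fun h => swap5_ne i j k m ⟨hij, hik, him⟩ (hinj h)) (hnc i j hij) (hnc k m hkm)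
    intro hc
    simp only [map_mul] at hc
    have h1 := col_inj _ m1 _ m2 hc
    have h2 := H.conj_pair_inj he (hTD k l hkl) (hTD k m hkm) (hnc k l hkl) h1
    have h3 : φ (swap k l * swap k m) = φ (swap k m * swap k l) := by
      rw [map_mul, map_mul]; exact h2.eq
    exact swap5_not_comm k l m ⟨hkl, hkm, hlm⟩ (hinj h3)

end Cfsg.Agent.Helper16.TT
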