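import Mathlib

/-!
Generic part for S3489: a semidirect product `SD N Q` for a module `N` over a group `Q`,
power formula, and the element orders of `(V3 × W) ⋊ Q` under hypotheses `Hyp`.
-/

set_option autoImplicit false

namespace Cfsg.Agent.Helper16.TU

universe u v

/-- bare semidirect product of an additive module by a group -/
@[ext] structure SD (N : Type u) (Q : Type v) where
  n : N
  g : Q

namespace SD

variable {N : Type u} {Q : Type v} [AddCommGroup N] [Group Q] [DistribMulAction Q N]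

instance : Mul (SD N Q) := ⟨fun x y => ⟨x.n + x.g • y.n, x.g * y.g⟩⟩
instance : One (SD N Q) := ⟨⟨0, 1⟩⟩
instance : Inv (SD N Q) := ⟨fun x => ⟨-(x.g⁻¹ • x.n), x.g⁻¹⟩⟩

@[simp] lemma mul_n (x y : SD N Q) : (x * y).n = x.n + x.g • y.n := rfl
@[simp] lemma mul_g (x y : SD N Q) : (x * y).g = x.g * y.g := rfl
@[simp] lemma one_n : (1 : SD N Q).n = 0 := rfl
@[simp] lemma one_g : (1 : SD N Q).g = 1 := rfl
@[simp] lemma inv_n (x : SD N Q) : (x⁻¹).n = -(x.g⁻¹ • x.n) := rfl
@[simp] lemma inv_g (x : SD N Q) : (x⁻¹).g = x.g⁻¹ := rfl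

instance : Group (SD N Q) := Group.ofLeftAxioms
  (by intro x y z; ext <;> simp [mul_assoc, smul_add, mul_smul, add_assoc])
  (by intro x; ext <;> simp)
  (by intro x; ext <;> simp)

lemma pow_g (x : SD N Q) (m : ℕ) : (x ^ m).g = x.g ^ m := by
  induction m with
  | zero => simp
  | succ m ih => rw [pow_succ, mul_g, ih, pow_succ]

lemma pow_n (x : SD N Q) (m : ℕ) :
    (x ^ m).n = ∑ i ∈ Finset.range m, x.g ^ i • x.n := by
  induction m with
  | zero => simp
  | succ m ih => rw [pow_succ, mul_n, ih, pow_g, Finset.sum_range_succ]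

noncomputable instance [Finite N] [Finite Q] : Fintype (SD N Q) :=
  haveI : Fintype N := Fintype.ofFinite N
  haveI : Fintype Q := Fintype.ofFinite Q
  Fintype.ofEquiv (N × Q)
    ⟨fun p => ⟨p.1, p.2⟩, fun x => (x.n, x.g), fun _ => rfl, fun _ => rfl⟩

/-- the complement embedding -/
def inr : Q →* SD N Q where
  toFun g := ⟨0, g⟩
  map_one' := rfl
  map_mul' a b := by ext <;> simp

lemma inr_injective : Function.Injective (inr : Q →* SD N Q) := by
  intro a b h
  have := congrArg SD.g h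
  exact this

/-- the norm-like sum -/
def Nm (g : Q) (m : ℕ) (n : N) : N := ∑ i ∈ Finset.range m, g ^ i • n

lemma pow_n' (x : SD N Q) (m : ℕ) : (x ^ m).n = Nm x.g m x.n := pow_n x m

lemma Nm_add (g : Q) (a b : ℕ) (n : N) :
    Nm g (a + b) n = Nm g a n + g ^ a • Nm g b n := by
  unfold Nm
  rw [Finset.sum_range_add, Finset.smul_sum]
  congr 1
  apply Finset.sum_congr rfl
  intro i _
  rw [smul_smul, pow_add]

lemma Nm_fix (g : Q) (m : ℕ) (n : N) (hm : g ^ m = 1) :
    g • Nm g m n = Nm g m n := by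
  unfold Nm
  have h1 := Finset.sum_range_succ (fun i => g ^ i • n) m
  have h2 := Finset.sum_range_succ' (fun i => g ^ i • n) m
  simp only [pow_zero, one_smul, hm] at h1 h2
  rw [Finset.smul_sum]
  have h3 : ∀ i ∈ Finset.range m, g • g ^ i • n = g ^ (i + 1) • n := by
    intro i _
    rw [smul_smul, pow_succ']
  rw [Finset.sum_congr rfl h3]
  rw [h1] at h2
  exact (add_right_cancel h2).symm

lemma Nm_one (m : ℕ) (n : N) : Nm (1 : Q) m n = m • n := by
  unfold Nm
  simp

/-- if `x.g = 1` then `x ^ k = ⟨k • x.n, 1⟩` -/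
lemma pow_of_g_one (x : SD N Q) (h : x.g = 1) (k : ℕ) : x ^ k = ⟨k • x.n, 1⟩ := by
  ext
  · rw [pow_n', h, Nm_one]
  · rw [pow_g, h, one_pow]

lemma pow_two_mul_eq_one (x : SD N Q) (z : Q) (hz : ∀ n : N, z • n = -n) (hzz : z * z = 1)
    (e : ℕ) (he : x.g ^ e = z) : x ^ (2 * e) = 1 := by
  ext
  · rw [pow_n', two_mul, Nm_add, he, hz, one_n, add_neg_cancel]
  · rw [pow_g, two_mul, pow_add, he, hzz, one_g]

end SD

end Cfsg.Agent.Helper16.TU
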