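import Mathlib
import Cfsg.Agent.Lib.Helper16.TUA

/-!
Generic part II for S3489: the module `V3 z`, hypotheses `Hyp`, and the spectrum of
`SD (V3 z × W) Q`.
-/

set_option autoImplicit false

namespace Cfsg.Agent.Helper16.TU

open Classical

/-- the target spectrum -/
def spec : Set ℕ := {1, 2, 3, 4, 5, 6, 7, 8, 9, 10, 12, 15, 21}

section V3

variable {Q : Type} [Group Q]

/-- functions on `Q` that change sign under left translation by `z` -/
def V3 (z : Q) : AddSubgroup (Q → ZMod 3) where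
  carrier := {f | ∀ q, f (z * q) = - f q}
  zero_mem' := by intro q; simp
  add_mem' := by
    intro f g hf hg q
    simp only [Pi.add_apply, hf q, hg q, neg_add]
  neg_mem' := by
    intro f hf q
    simp only [Pi.neg_apply, hf q]

lemma mem_V3 {z : Q} {f : Q → ZMod 3} : f ∈ V3 z ↔ ∀ q, f (z * q) = - f q := Iff.rfl

instance (z : Q) : SMul Q (V3 z) :=
  ⟨fun t f => ⟨fun q => f.1 (q * t), by
    intro q
    have := mem_V3.1 f.2 (q * t)
    rwa [← mul_assoc] at this⟩⟩

lemma smul_V3_apply (z : Q) (t : Q) (f : V3 z) (q : Q) : (t • f).1 q = f.1 (q * t) := rfl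

instance (z : Q) : DistribMulAction Q (V3 z) where
  one_smul f := by
    apply Subtype.ext; funext q; rw [smul_V3_apply, mul_one]
  mul_smul s t f := by
    apply Subtype.ext; funext q
    rw [smul_V3_apply, smul_V3_apply, smul_V3_apply, mul_assoc]
  smul_zero t := by
    apply Subtype.ext; funext q; rw [smul_V3_apply]; rfl
  smul_add t f g := by
    apply Subtype.ext; funext q
    rw [smul_V3_apply]
    simp only [AddSubgroup.coe_add, Pi.add_apply, smul_V3_apply]

lemma three_nsmul_V3 (z : Q) (f : V3 z) : 3 • f = 0 := by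
  apply Subtype.ext; funext q
  simp only [AddSubgroup.coe_nsmul, Pi.smul_apply, AddSubgroup.coe_zero, Pi.zero_apply]
  have : ∀ a : ZMod 3, 3 • a = 0 := by decide
  exact this _

lemma z_smul_V3 (z : Q) (hc : ∀ g : Q, z * g = g * z) (f : V3 z) : z • f = -f := by
  apply Subtype.ext; funext q
  rw [smul_V3_apply, ← hc q, mem_V3.1 f.2 q]
  rfl

/-- the basic vector `δ_1 - δ_z` -/
noncomputable def e3 (z : Q) (hzz : z * z = 1) (hz1 : z ≠ 1) : V3 z :=
  ⟨fun q => if q = 1 then 1 else if q = z then -1 else 0, by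
    intro q
    have h1 : z * q = 1 ↔ q = z := by
      constructor
      · intro h
        have : z * (z * q) = z * 1 := by rw [h]
        rwa [← mul_assoc, hzz, one_mul, mul_one] at this
      · intro h; rw [h, hzz]
    have h2 : z * q = z ↔ q = 1 := by
      constructor
      · intro h; exact mul_eq_left.mp h
      · intro h; rw [h, mul_one]
    by_cases hq1 : q = 1
    · subst hq1
      simp [hz1]
    · by_cases hqz : q = z
      · subst hqz
        simp [hzz, hz1]
      · have h1' : ¬ z * q = 1 := fun h => hqz (h1.1 h)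
        have h2' : ¬ z * q = z := fun h => hq1 (h2.1 h)
        simp [hq1, hqz, h1', h2']⟩

lemma e3_apply (z : Q) (hzz : z * z = 1) (hz1 : z ≠ 1) (q : Q) :
    (e3 z hzz hz1).1 q = if q = 1 then 1 else if q = z then -1 else 0 := rfl

end V3

section main

variable {Q : Type} [Group Q] {W : Type} [AddCommGroup W] [DistribMulAction Q W]

/-- the hypotheses on `Q`, `z` and the `7`-module `W` -/
structure Hyp (Q : Type) [Group Q] (W : Type) [AddCommGroup W] [DistribMulAction Q W]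
    (z : Q) : Prop where
  z_central : ∀ g : Q, z * g = g * z
  z_sq : z * z = 1
  z_ne : z ≠ 1
  exp7 : ∀ w : W, 7 • w = 0
  z_neg : ∀ w : W, z • w = -w
  cls : ∀ g : Q, g = 1 ∨ (∃ e : ℕ, 1 ≤ e ∧ e ≤ 6 ∧ g ^ e = z) ∨
      (g ^ 3 = 1 ∧ ∀ w : W, g • w = w → w = 0) ∨ (g ^ 5 = 1 ∧ ∀ w : W, g • w = w → w = 0)
  ex8 : ∃ g : Q, orderOf g = 8
  ex10 : ∃ g : Q, orderOf g = 10
  ex12 : ∃ g : Q, orderOf g = 12
  exW : ∃ w : W, w ≠ 0

variable {z : Q}

/-- the group -/
abbrev HH (z : Q) (W : Type) [AddCommGroup W] [DistribMulAction Q W] : Type :=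
  SD (V3 z × W) Q

lemma z_smul_NN (hyp : Hyp Q W z) (n : V3 z × W) : z • n = -n := by
  apply Prod.ext
  · rw [Prod.smul_fst, z_smul_V3 z hyp.z_central]; rfl
  · rw [Prod.smul_snd, hyp.z_neg]; rfl

lemma nsmul21 (hyp : Hyp Q W z) (n : V3 z × W) : 21 • n = 0 := by
  apply Prod.ext
  · rw [Prod.smul_fst, show 21 = 7 * 3 from rfl, mul_nsmul, three_nsmul_V3]; rfl
  · rw [Prod.smul_snd, show 21 = 3 * 7 from rfl, mul_nsmul, hyp.exp7]; rfl

lemma nsmul3 (n : V3 z × W) (h : n.2 = 0) : 3 • n = 0 := by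
  apply Prod.ext
  · rw [Prod.smul_fst, three_nsmul_V3]; rfl
  · rw [Prod.smul_snd, h, smul_zero]; rfl

lemma Nm_snd (g : Q) (m : ℕ) (n : V3 z × W) : (SD.Nm g m n).2 = SD.Nm g m n.2 := by
  unfold SD.Nm
  rw [Prod.snd_sum]
  rfl

lemma Nm_fst (g : Q) (m : ℕ) (n : V3 z × W) : (SD.Nm g m n).1 = SD.Nm g m n.1 := by
  unfold SD.Nm
  rw [Prod.fst_sum]
  rfl

/-- cube of an element with trivial `Q`-part and trivial `W`-part -/
lemma cube_eq_one (y : HH z W) (hg : y.g = 1) (hw : y.n.2 = 0) : y ^ 3 = 1 := by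
  rw [SD.pow_of_g_one y hg, nsmul3 y.n hw]
  rfl

/-- odd case: `x ^ (m * 3) = 1` when `x.g ^ m = 1` and `x.g` is fixed-point-free on `W` -/
lemma pow_mul_three (x : HH z W) (m : ℕ) (hm : x.g ^ m = 1)
    (hf : ∀ w : W, x.g • w = w → w = 0) : x ^ (m * 3) = 1 := by
  rw [pow_mul]
  apply cube_eq_one
  · rw [SD.pow_g, hm]
  · rw [SD.pow_n', Nm_snd]
    exact hf _ (SD.Nm_fix x.g m x.n.2 hm)

lemma pow_mul_three' (x : HH z W) (m : ℕ) (hm : x.g ^ m = 1) (hw : x.n.2 = 0) :
    x ^ (m * 3) = 1 := by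
  rw [pow_mul]
  apply cube_eq_one
  · rw [SD.pow_g, hm]
  · rw [SD.pow_n', Nm_snd, hw]
    unfold SD.Nm
    simp

lemma mem_spec_of_dvd {k d : ℕ} (hk : k ∈ ({2, 4, 6, 8, 10, 12, 9, 15, 21} : Set ℕ))
    (hd : d ∣ k) : d ∈ spec := by
  simp only [Set.mem_insert_iff, Set.mem_singleton_iff] at hk
  unfold spec
  rcases hk with rfl | rfl | rfl | rfl | rfl | rfl | rfl | rfl | rfl <;>
  · have hle := Nat.le_of_dvd (by norm_num) hd
    interval_cases d <;> first | (exfalso; revert hd; decide) | simp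

theorem thmA (hyp : Hyp Q W z) (x : HH z W) : orderOf x ∈ spec := by
  rcases hyp.cls x.g with h1 | ⟨e, he1, he6, hez⟩ | ⟨h3, hf⟩ | ⟨h5, hf⟩
  · have h : x ^ 21 = 1 := by
      rw [SD.pow_of_g_one x h1, nsmul21 hyp]; rfl
    exact mem_spec_of_dvd (k := 21) (by simp) (orderOf_dvd_of_pow_eq_one h)
  · have h : x ^ (2 * e) = 1 :=
      SD.pow_two_mul_eq_one x z (z_smul_NN hyp) hyp.z_sq e hez
    refine mem_spec_of_dvd (k := 2 * e) ?_ (orderOf_dvd_of_pow_eq_one h)
    interval_cases e <;> simp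
  · have h := pow_mul_three x 3 h3 hf
    exact mem_spec_of_dvd (k := 9) (by simp) (orderOf_dvd_of_pow_eq_one h)
  · have h := pow_mul_three x 5 h5 hf
    exact mem_spec_of_dvd (k := 15) (by simp) (orderOf_dvd_of_pow_eq_one h)

/-- powers of an element of odd order `m` avoid `1` and `z` -/
lemma pow_ne_of_odd (hyp : Hyp Q W z) (g : Q) (m : ℕ) (hm : orderOf g = m) (hodd : Nat.Coprime m 2)
    (i : ℕ) (hi0 : i ≠ 0) (him : i < m) : g ^ i ≠ 1 ∧ g ^ i ≠ z := by
  have hmpos : 0 < m := by omega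
  constructor
  · intro h
    have := orderOf_dvd_of_pow_eq_one h
    rw [hm] at this
    have := Nat.le_of_dvd (Nat.pos_of_ne_zero hi0) this
    omega
  · intro h
    have h2 : g ^ (i * 2) = 1 := by rw [pow_mul, h, pow_two, hyp.z_sq]
    have := orderOf_dvd_of_pow_eq_one h2
    rw [hm] at this
    have := hodd.dvd_of_dvd_mul_right this
    have := Nat.le_of_dvd (Nat.pos_of_ne_zero hi0) this
    omega

/-- value at `1` of the norm of `e3` -/
lemma Nm_e3_one (hyp : Hyp Q W z) (g : Q) (m : ℕ) (hm : orderOf g = m) (hodd : Nat.Coprime m 2)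
    (hm0 : 0 < m) :
    (SD.Nm g m (e3 z hyp.z_sq hyp.z_ne)).1 1 = 1 := by
  unfold SD.Nm
  rw [AddSubgroup.val_finsetSum, Finset.sum_apply]
  rw [Finset.sum_eq_single 0]
  · rw [pow_zero, one_smul, e3_apply, if_pos rfl]
  · intro i hi hi0
    rw [smul_V3_apply, one_mul, e3_apply]
    obtain ⟨h1, h2⟩ := pow_ne_of_odd hyp g m hm hodd i hi0 (Finset.mem_range.1 hi)
    rw [if_neg h1, if_neg h2]
  · intro h
    exact absurd (Finset.mem_range.2 hm0) h

/-- the element `((e3, 0), g)` -/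
noncomputable def xe (hyp : Hyp Q W z) (g : Q) : HH z W := ⟨(e3 z hyp.z_sq hyp.z_ne, 0), g⟩

lemma xe_pow_ne_one (hyp : Hyp Q W z) (g : Q) (m : ℕ) (hm : orderOf g = m)
    (hodd : Nat.Coprime m 2) (hm0 : 0 < m) : (xe hyp g) ^ m ≠ 1 := by
  intro h
  have h1 : ((xe hyp g) ^ m).n.1.1 1 = 0 := by rw [h]; rfl
  rw [SD.pow_n', Nm_fst] at h1
  have h2 := Nm_e3_one hyp g m hm hodd hm0
  have h3 : (xe hyp g).n.1 = e3 z hyp.z_sq hyp.z_ne := rfl
  have h4 : (xe hyp g).g = g := rfl
  rw [h3, h4, h2] at h1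
  exact one_ne_zero h1

lemma exists_orderOf_dvd {G : Type*} [Group G] {x : G} {n d : ℕ} (hx : orderOf x = n)
    (hn : n ≠ 0) (hd : d ∣ n) : ∃ y : G, orderOf y = d := by
  subst hx
  exact ⟨_, orderOf_pow_orderOf_div hn hd⟩

theorem ex9 (hyp : Hyp Q W z) : ∃ x : HH z W, orderOf x = 9 := by
  obtain ⟨g12, h12⟩ := hyp.ex12
  obtain ⟨u, hu⟩ := exists_orderOf_dvd h12 (by norm_num) (show 3 ∣ 12 by norm_num)
  refine ⟨xe hyp u, ?_⟩
  have h3 : u ^ 3 = 1 := by rw [← hu]; exact pow_orderOf_eq_one u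
  have := orderOf_eq_prime_pow (x := xe hyp u) (p := 3) (n := 1)
    (by rw [pow_one]; exact xe_pow_ne_one hyp u 3 hu (by decide) (by norm_num))
    (by
      have := pow_mul_three' (xe hyp u) 3 h3 rfl
      exact this)
  simpa using this

theorem ex15 (hyp : Hyp Q W z) : ∃ x : HH z W, orderOf x = 15 := by
  obtain ⟨g10, h10⟩ := hyp.ex10
  obtain ⟨u, hu⟩ := exists_orderOf_dvd h10 (by norm_num) (show 5 ∣ 10 by norm_num)
  refine ⟨xe hyp u, ?_⟩
  have h5 : u ^ 5 = 1 := by rw [← hu]; exact pow_orderOf_eq_one u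
  have hx15 : (xe hyp u) ^ 15 = 1 := pow_mul_three' (xe hyp u) 5 h5 rfl
  have hx5 : (xe hyp u) ^ 5 ≠ 1 := xe_pow_ne_one hyp u 5 hu (by decide) (by norm_num)
  have hx3 : (xe hyp u) ^ 3 ≠ 1 := by
    intro h
    have h1 : ((xe hyp u) ^ 3).g = 1 := by rw [h]; rfl
    rw [SD.pow_g] at h1
    have : (xe hyp u).g = u := rfl
    rw [this] at h1
    have := orderOf_dvd_of_pow_eq_one h1
    rw [hu] at this
    revert this; decide
  apply orderOf_eq_of_pow_and_pow_div_prime (by norm_num) hx15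
  intro p hp hd
  have hle := Nat.le_of_dvd (by norm_num) hd
  interval_cases p <;> first | (exfalso; revert hd; decide) | (exfalso; revert hp; decide) | assumption

theorem ex21 (hyp : Hyp Q W z) : ∃ x : HH z W, orderOf x = 21 := by
  obtain ⟨w0, hw0⟩ := hyp.exW
  let a : HH z W := ⟨(e3 z hyp.z_sq hyp.z_ne, 0), 1⟩
  let b : HH z W := ⟨(0, w0), 1⟩
  have ha : orderOf a = 3 := by
    have : Fact (Nat.Prime 3) := ⟨by norm_num⟩
    apply orderOf_eq_prime
    · exact cube_eq_one a rfl rfl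
    · intro h
      have h1 : a.n.1.1 1 = 0 := by rw [h]; rfl
      have h2 : a.n.1.1 1 = 1 := by
        show (e3 z hyp.z_sq hyp.z_ne).1 1 = 1
        rw [e3_apply, if_pos rfl]
      rw [h2] at h1
      exact one_ne_zero h1
  have hb : orderOf b = 7 := by
    have : Fact (Nat.Prime 7) := ⟨by norm_num⟩
    apply orderOf_eq_prime
    · rw [SD.pow_of_g_one b rfl]
      have h7 : 7 • b.n = 0 := by
        apply Prod.ext
        · show (7 • ((0 : V3 z), w0)).1 = 0
          rw [Prod.smul_fst, smul_zero]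
        · show (7 • ((0 : V3 z), w0)).2 = 0
          rw [Prod.smul_snd, hyp.exp7]
      rw [h7]; rfl
    · intro h
      have h1 : b.n.2 = 0 := by rw [h]; rfl
      exact hw0 h1
  have hab : Commute a b := by
    show a * b = b * a
    ext
    · simp [a, b]
    · simp [a, b]
    · simp [a, b]
  refine ⟨a * b, ?_⟩
  rw [hab.orderOf_mul_eq_mul_orderOf_of_coprime (by rw [ha, hb]; decide), ha, hb]

theorem thmB (hyp : Hyp Q W z) (s : ℕ) (hs : s ∈ spec) : ∃ x : HH z W, orderOf x = s := by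
  have lift : ∀ m : ℕ, (∃ g : Q, orderOf g = m) → ∃ x : HH z W, orderOf x = m := by
    rintro m ⟨g, hg⟩
    exact ⟨SD.inr g, by rw [orderOf_injective _ SD.inr_injective, hg]⟩
  obtain ⟨x8, h8⟩ := lift 8 hyp.ex8
  obtain ⟨x10, h10⟩ := lift 10 hyp.ex10
  obtain ⟨x12, h12⟩ := lift 12 hyp.ex12
  obtain ⟨x9, h9⟩ := ex9 hyp
  obtain ⟨x15, h15⟩ := ex15 hyp
  obtain ⟨x21, h21⟩ := ex21 hyp
  unfold spec at hs
  simp only [Set.mem_insert_iff, Set.mem_singleton_iff] at hs
  rcases hs with rfl | rfl | rfl | rfl | rfl | rfl | rfl | rfl | rfl | rfl | rfl | rfl | rfl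
  · exact exists_orderOf_dvd h8 (by norm_num) (by norm_num)
  · exact exists_orderOf_dvd h8 (by norm_num) (by norm_num)
  · exact exists_orderOf_dvd h9 (by norm_num) (by norm_num)
  · exact exists_orderOf_dvd h8 (by norm_num) (by norm_num)
  · exact exists_orderOf_dvd h10 (by norm_num) (by norm_num)
  · exact exists_orderOf_dvd h12 (by norm_num) (by norm_num)
  · exact exists_orderOf_dvd h21 (by norm_num) (by norm_num)
  · exact ⟨x8, h8⟩
  · exact ⟨x9, h9⟩
  · exact ⟨x10, h10⟩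
  · exact ⟨x12, h12⟩
  · exact ⟨x15, h15⟩
  · exact ⟨x21, h21⟩

theorem range_orderOf (hyp : Hyp Q W z) : Set.range (orderOf : HH z W → ℕ) = spec := by
  ext s
  constructor
  · rintro ⟨x, rfl⟩
    exact thmA hyp x
  · intro hs
    exact thmB hyp s hs

theorem card_lt [Finite Q] [Finite W] (N : ℕ) (hN : N < Nat.card W) :
    N < Fintype.card (HH z W) := by
  have hinj : Function.Injective (fun w : W => (⟨(0, w), 1⟩ : HH z W)) := by
    intro a b h
    have := congrArg (fun x : HH z W => x.n.2) h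
    exact this
  have := Nat.card_le_card_of_injective _ hinj
  rw [Nat.card_eq_fintype_card (α := HH z W)] at this
  omega

end main

end Cfsg.Agent.Helper16.TU
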