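import Mathlib
import Cfsg.Agent.Lib.Helper16.TUB

/-!
The set of element orders of the alternating group of degree 10.
-/

set_option autoImplicit false

namespace Cfsg.Agent.Helper16.TU

/-- the spectrum as a list -/
def specL : List ℕ := [1, 2, 3, 4, 5, 6, 7, 8, 9, 10, 12, 15, 21]

lemma mem_specL_iff (n : ℕ) : n ∈ specL ↔ n ∈ spec := by
  unfold specL spec
  simp only [List.mem_cons, List.not_mem_nil, or_false, Set.mem_insert_iff,
    Set.mem_singleton_iff]

/-- checker over all multisets of parts `≥ 2` with bounded sum -/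
def chk : ℕ → ℕ → ℕ → ℕ → Bool
  | 0, _, _, _ => false
  | fuel + 1, b, l, k =>
    (k % 2 != 0 || specL.contains l) &&
      (List.range' 2 (b - 1)).all (fun x => chk fuel (b - x) (Nat.lcm l x) (k + x + 1))

lemma chk_sound : ∀ (fuel b l k : ℕ), chk fuel b l k = true → ∀ m : Multiset ℕ,
    (∀ x ∈ m, 2 ≤ x) → m.sum ≤ b → Even (k + m.sum + Multiset.card m) →
    Nat.lcm l m.lcm ∈ specL := by
  intro fuel
  induction fuel with
  | zero => intro b l k h; simp [chk] at h
  | succ fuel ih =>
    intro b l k h m hm hsum hev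
    rw [chk, Bool.and_eq_true] at h
    obtain ⟨h1, h2⟩ := h
    rcases Multiset.empty_or_exists_mem m with rfl | ⟨a, ha⟩
    · simp only [Multiset.lcm_zero, Multiset.sum_zero, Multiset.card_zero, add_zero] at hev ⊢
      rw [Nat.lcm_one_right]
      rw [Bool.or_eq_true] at h1
      rcases h1 with h1 | h1
      · rw [Nat.even_iff] at hev
        simp [hev] at h1
      · simpa using h1
    · obtain ⟨m', rfl⟩ := Multiset.exists_cons_of_mem ha
      rw [Multiset.sum_cons] at hsum
      rw [Multiset.sum_cons, Multiset.card_cons] at hev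
      have ha2 : 2 ≤ a := hm a (Multiset.mem_cons_self a m')
      rw [List.all_eq_true] at h2
      have h3 := h2 a (by rw [List.mem_range'_1]; omega)
      have := ih (b - a) (Nat.lcm l a) (k + a + 1) h3 m'
        (fun x hx => hm x (Multiset.mem_cons_of_mem hx)) (by omega)
        (by
          rw [Nat.even_iff] at hev ⊢
          omega)
      rw [Multiset.lcm_cons]
      rw [show GCDMonoid.lcm a m'.lcm = Nat.lcm a m'.lcm from rfl, ← Nat.lcm_assoc]
      exact this

theorem a10_sub (σ : alternatingGroup (Fin 10)) : orderOf σ ∈ spec := by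
  rw [← mem_specL_iff, ← Subgroup.orderOf_coe]
  have hs : Equiv.Perm.sign σ.1 = 1 := Equiv.Perm.mem_alternatingGroup.1 σ.2
  rw [Equiv.Perm.sign_of_cycleType] at hs
  have hev : Even (σ.1.cycleType.sum + Multiset.card σ.1.cycleType) := by
    by_contra hne
    rw [Nat.not_even_iff_odd] at hne
    rw [hne.neg_one_pow] at hs
    revert hs; decide
  have hsum : σ.1.cycleType.sum ≤ 10 := by
    rw [Equiv.Perm.sum_cycleType]
    exact (Finset.card_le_univ _).trans (by simp)
  have := chk_sound 12 10 1 0 (by decide) σ.1.cycleType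
    (fun x hx => Equiv.Perm.two_le_of_mem_cycleType hx) hsum (by simpa using hev)
  rw [Nat.lcm_one_left, Equiv.Perm.lcm_cycleType] at this
  exact this

/-- witnesses -/
def p8 : Equiv.Perm (Fin 10) := List.formPerm [0, 1, 2, 3, 4, 5, 6, 7] * List.formPerm [8, 9]
def p9 : Equiv.Perm (Fin 10) := List.formPerm [0, 1, 2, 3, 4, 5, 6, 7, 8]
def p10 : Equiv.Perm (Fin 10) :=
  List.formPerm [0, 1, 2, 3, 4] * List.formPerm [5, 6] * List.formPerm [7, 8]
def p12 : Equiv.Perm (Fin 10) :=
  List.formPerm [0, 1, 2, 3] * List.formPerm [4, 5, 6] * List.formPerm [7, 8]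
def p15 : Equiv.Perm (Fin 10) := List.formPerm [0, 1, 2, 3, 4] * List.formPerm [5, 6, 7]
def p21 : Equiv.Perm (Fin 10) := List.formPerm [0, 1, 2, 3, 4, 5, 6] * List.formPerm [7, 8, 9]

lemma wit (p : Equiv.Perm (Fin 10)) (n : ℕ) (hn : 0 < n) (hmem : Equiv.Perm.sign p = 1)
    (hord : p ^ n = 1 ∧ ∀ m, m < n → 0 < m → p ^ m ≠ 1) :
    ∃ x : alternatingGroup (Fin 10), orderOf x = n := by
  refine ⟨⟨p, Equiv.Perm.mem_alternatingGroup.2 hmem⟩, ?_⟩
  rw [Subgroup.orderOf_mk]
  exact (orderOf_eq_iff hn).2 hord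

theorem a10_sup (s : ℕ) (hs : s ∈ spec) : ∃ x : alternatingGroup (Fin 10), orderOf x = s := by
  obtain ⟨x8, h8⟩ := wit p8 8 (by norm_num) (by decide +kernel) (by decide +kernel)
  obtain ⟨x9, h9⟩ := wit p9 9 (by norm_num) (by decide +kernel) (by decide +kernel)
  obtain ⟨x10, h10⟩ := wit p10 10 (by norm_num) (by decide +kernel) (by decide +kernel)
  obtain ⟨x12, h12⟩ := wit p12 12 (by norm_num) (by decide +kernel) (by decide +kernel)
  obtain ⟨x15, h15⟩ := wit p15 15 (by norm_num) (by decide +kernel) (by decide +kernel)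
  obtain ⟨x21, h21⟩ := wit p21 21 (by norm_num) (by decide +kernel) (by decide +kernel)
  unfold spec at hs
  simp only [Set.mem_insert_iff, Set.mem_singleton_iff] at hs
  rcases hs with rfl | rfl | rfl | rfl | rfl | rfl | rfl | rfl | rfl | rfl | rfl | rfl | rfl
  · exact exists_orderOf_dvd h8 (by norm_num) (by norm_num)
  · exact exists_orderOf_dvd h8 (by norm_num) (by norm_num)
  · exact exists_orderOf_dvd h9 (by norm_num) (by norm_num)
  · exact exists_orderOf_dvd h8 (by norm_num) (by norm_num)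
  · exact exists_orderOf_dvd h10 (by norm_num) (by norm_num)
  · exact exists_orderOf_dvd h12 (by norm_num) (by norm_num)
  · exact exists_orderOf_dvd h21 (by norm_num) (by norm_num)
  · exact ⟨x8, h8⟩
  · exact ⟨x9, h9⟩
  · exact ⟨x10, h10⟩
  · exact ⟨x12, h12⟩
  · exact ⟨x15, h15⟩
  · exact ⟨x21, h21⟩

theorem a10_range : Set.range (orderOf : alternatingGroup (Fin 10) → ℕ) = spec := by
  ext s
  constructor
  · rintro ⟨x, rfl⟩
    exact a10_sub x
  · intro hs
    exact a10_sup s hs

end Cfsg.Agent.Helper16.TU
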