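import Mathlib
import Cfsg.Agent.Lib.Helper16.TUB

/-!
Concrete data for S3489: codes of the 240 matrices of a group `2.S5` inside `GL(4,7)`,
with certificates.
-/

set_option autoImplicit false
set_option maxRecDepth 100000

namespace Cfsg.Agent.Helper16.TU

/-- codes of `4 × 4` matrices modulo `7` -/
structure M4 where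
  (c00 c01 c02 c03 c10 c11 c12 c13 c20 c21 c22 c23 c30 c31 c32 c33 : ℕ)
deriving DecidableEq

namespace M4

def one : M4 := ⟨1, 0, 0, 0, 0, 1, 0, 0, 0, 0, 1, 0, 0, 0, 0, 1⟩
def negone : M4 := ⟨6, 0, 0, 0, 0, 6, 0, 0, 0, 0, 6, 0, 0, 0, 0, 6⟩

def mul (x y : M4) : M4 :=
  ⟨(x.c00 * y.c00 + x.c01 * y.c10 + x.c02 * y.c20 + x.c03 * y.c30) % 7,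
   (x.c00 * y.c01 + x.c01 * y.c11 + x.c02 * y.c21 + x.c03 * y.c31) % 7,
   (x.c00 * y.c02 + x.c01 * y.c12 + x.c02 * y.c22 + x.c03 * y.c32) % 7,
   (x.c00 * y.c03 + x.c01 * y.c13 + x.c02 * y.c23 + x.c03 * y.c33) % 7,
   (x.c10 * y.c00 + x.c11 * y.c10 + x.c12 * y.c20 + x.c13 * y.c30) % 7,
   (x.c10 * y.c01 + x.c11 * y.c11 + x.c12 * y.c21 + x.c13 * y.c31) % 7,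
   (x.c10 * y.c02 + x.c11 * y.c12 + x.c12 * y.c22 + x.c13 * y.c32) % 7,
   (x.c10 * y.c03 + x.c11 * y.c13 + x.c12 * y.c23 + x.c13 * y.c33) % 7,
   (x.c20 * y.c00 + x.c21 * y.c10 + x.c22 * y.c20 + x.c23 * y.c30) % 7,
   (x.c20 * y.c01 + x.c21 * y.c11 + x.c22 * y.c21 + x.c23 * y.c31) % 7,
   (x.c20 * y.c02 + x.c21 * y.c12 + x.c22 * y.c22 + x.c23 * y.c32) % 7,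
   (x.c20 * y.c03 + x.c21 * y.c13 + x.c22 * y.c23 + x.c23 * y.c33) % 7,
   (x.c30 * y.c00 + x.c31 * y.c10 + x.c32 * y.c20 + x.c33 * y.c30) % 7,
   (x.c30 * y.c01 + x.c31 * y.c11 + x.c32 * y.c21 + x.c33 * y.c31) % 7,
   (x.c30 * y.c02 + x.c31 * y.c12 + x.c32 * y.c22 + x.c33 * y.c32) % 7,
   (x.c30 * y.c03 + x.c31 * y.c13 + x.c32 * y.c23 + x.c33 * y.c33) % 7⟩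

def add (x y : M4) : M4 :=
  ⟨(x.c00 + y.c00) % 7,
   (x.c01 + y.c01) % 7,
   (x.c02 + y.c02) % 7,
   (x.c03 + y.c03) % 7,
   (x.c10 + y.c10) % 7,
   (x.c11 + y.c11) % 7,
   (x.c12 + y.c12) % 7,
   (x.c13 + y.c13) % 7,
   (x.c20 + y.c20) % 7,
   (x.c21 + y.c21) % 7,
   (x.c22 + y.c22) % 7,
   (x.c23 + y.c23) % 7,
   (x.c30 + y.c30) % 7,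
   (x.c31 + y.c31) % 7,
   (x.c32 + y.c32) % 7,
   (x.c33 + y.c33) % 7⟩

def pow (x : M4) : ℕ → M4
  | 0 => one
  | n + 1 => mul (pow x n) x

abbrev Mat := Matrix (Fin 4) (Fin 4) (ZMod 7)

def dec (x : M4) : Mat :=
  !![(x.c00 : ZMod 7), (x.c01 : ZMod 7), (x.c02 : ZMod 7), (x.c03 : ZMod 7); (x.c10 : ZMod 7), (x.c11 : ZMod 7), (x.c12 : ZMod 7), (x.c13 : ZMod 7); (x.c20 : ZMod 7), (x.c21 : ZMod 7), (x.c22 : ZMod 7), (x.c23 : ZMod 7); (x.c30 : ZMod 7), (x.c31 : ZMod 7), (x.c32 : ZMod 7), (x.c33 : ZMod 7)]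

def gA : M4 := ⟨0, 0, 2, 3, 0, 0, 3, 5, 5, 4, 2, 1, 4, 2, 1, 5⟩
def gA' : M4 := ⟨2, 1, 2, 3, 1, 5, 3, 5, 5, 4, 0, 0, 4, 2, 0, 0⟩
def gB : M4 := ⟨1, 1, 2, 3, 6, 1, 4, 2, 5, 1, 2, 1, 6, 5, 6, 2⟩
def gB' : M4 := ⟨2, 1, 5, 4, 6, 2, 3, 5, 2, 6, 1, 1, 1, 2, 6, 1⟩
def x12 : M4 := ⟨1, 2, 6, 2, 2, 6, 2, 1, 0, 1, 3, 5, 1, 0, 5, 4⟩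
def x12_2 : M4 := ⟨0, 6, 3, 0, 1, 0, 0, 3, 0, 2, 1, 1, 5, 0, 6, 1⟩
def x12_4 : M4 := ⟨6, 6, 3, 0, 1, 6, 0, 3, 0, 2, 0, 1, 5, 0, 6, 0⟩
def gB2 : M4 := ⟨0, 5, 0, 6, 2, 0, 1, 0, 6, 6, 3, 0, 1, 6, 0, 3⟩
def gB4 : M4 := ⟨2, 1, 5, 4, 6, 2, 3, 5, 2, 6, 1, 1, 1, 2, 6, 1⟩
def gA2 : M4 := ⟨1, 0, 0, 3, 0, 1, 4, 0, 0, 3, 6, 0, 4, 0, 0, 6⟩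
/-- the table: code, tag, certificate -/
def LT : List (M4 × ℕ × M4) := [
  (⟨1, 0, 0, 0, 0, 1, 0, 0, 0, 0, 1, 0, 0, 0, 0, 1⟩, 0, one),
  (⟨0, 0, 2, 3, 0, 0, 3, 5, 5, 4, 2, 1, 4, 2, 1, 5⟩, 4, one),
  (⟨1, 1, 2, 3, 6, 1, 4, 2, 5, 1, 2, 1, 6, 5, 6, 2⟩, 15, ⟨5, 3, 3, 4, 4, 5, 3, 3, 0, 1, 1, 4, 6, 0, 3, 1⟩),
  (⟨1, 0, 0, 3, 0, 1, 4, 0, 0, 3, 6, 0, 4, 0, 0, 6⟩, 2, one),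
  (⟨0, 3, 1, 1, 3, 0, 1, 6, 3, 2, 1, 6, 2, 4, 6, 6⟩, 4, one),
  (⟨1, 0, 5, 4, 0, 6, 4, 2, 0, 3, 4, 6, 3, 0, 6, 3⟩, 4, one),
  (⟨0, 5, 0, 6, 2, 0, 1, 0, 6, 6, 3, 0, 1, 6, 0, 3⟩, 15, ⟨1, 2, 6, 4, 5, 1, 3, 6, 3, 5, 5, 5, 2, 3, 2, 5⟩),
  (⟨5, 6, 5, 4, 6, 2, 4, 2, 2, 3, 0, 0, 3, 5, 0, 0⟩, 4, one),
  (⟨5, 2, 6, 2, 5, 5, 5, 6, 6, 2, 3, 5, 5, 6, 2, 3⟩, 3, one),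
  (⟨2, 6, 5, 0, 1, 2, 0, 5, 1, 2, 6, 1, 5, 1, 6, 6⟩, 3, one),
  (⟨1, 2, 6, 2, 2, 6, 2, 1, 0, 1, 3, 5, 1, 0, 5, 4⟩, 6, one),
  (⟨6, 0, 2, 0, 0, 6, 0, 2, 2, 0, 2, 0, 0, 2, 0, 2⟩, 3, one),
  (⟨1, 5, 1, 2, 5, 6, 2, 6, 4, 2, 0, 1, 2, 3, 1, 0⟩, 6, one),
  (⟨3, 5, 0, 6, 5, 4, 6, 0, 1, 5, 1, 2, 5, 6, 2, 6⟩, 6, one),
  (⟨3, 0, 0, 1, 0, 3, 6, 0, 1, 1, 0, 5, 6, 1, 2, 0⟩, 15, ⟨5, 5, 1, 3, 2, 5, 4, 1, 4, 2, 1, 2, 5, 4, 5, 1⟩),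
  (⟨6, 0, 0, 0, 0, 6, 0, 0, 0, 0, 6, 0, 0, 0, 0, 6⟩, 1, one),
  (⟨6, 1, 5, 5, 1, 1, 5, 2, 6, 5, 2, 5, 5, 1, 5, 5⟩, 6, one),
  (⟨3, 0, 2, 6, 0, 4, 6, 5, 0, 1, 1, 0, 1, 0, 0, 6⟩, 6, one),
  (⟨3, 2, 0, 1, 5, 3, 6, 0, 0, 1, 0, 0, 6, 0, 0, 0⟩, 15, ⟨3, 1, 6, 3, 6, 3, 4, 6, 6, 3, 3, 6, 4, 6, 1, 3⟩),
  (⟨4, 6, 4, 6, 6, 3, 6, 3, 6, 5, 0, 3, 5, 1, 3, 0⟩, 6, one),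
  (⟨0, 6, 3, 2, 1, 0, 5, 3, 0, 0, 0, 1, 0, 0, 6, 0⟩, 2, one),
  (⟨3, 0, 1, 1, 0, 3, 6, 1, 0, 1, 0, 5, 6, 0, 2, 0⟩, 15, ⟨5, 5, 4, 2, 2, 5, 5, 4, 1, 3, 1, 2, 4, 1, 5, 1⟩),
  (⟨6, 5, 6, 3, 5, 1, 3, 1, 2, 1, 5, 1, 1, 5, 1, 2⟩, 2, one),
  (⟨3, 1, 2, 6, 1, 4, 6, 5, 3, 1, 1, 1, 1, 4, 1, 6⟩, 6, one),
  (⟨2, 1, 2, 6, 6, 2, 1, 2, 5, 4, 1, 1, 3, 5, 6, 1⟩, 15, ⟨1, 4, 0, 6, 3, 1, 1, 0, 4, 3, 5, 3, 4, 4, 4, 5⟩),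
  (⟨6, 1, 0, 4, 6, 6, 3, 0, 4, 2, 1, 6, 5, 4, 1, 1⟩, 2, one),
  (⟨6, 3, 1, 4, 3, 1, 4, 6, 1, 4, 1, 4, 4, 6, 4, 6⟩, 2, one),
  (⟨3, 5, 6, 1, 2, 3, 6, 6, 6, 1, 0, 4, 6, 6, 3, 0⟩, 15, ⟨0, 3, 3, 2, 4, 0, 5, 3, 3, 2, 6, 4, 5, 3, 3, 6⟩),
  (⟨6, 3, 6, 3, 3, 1, 3, 1, 6, 3, 1, 4, 3, 1, 4, 6⟩, 2, one),
  (⟨4, 2, 0, 0, 2, 3, 0, 0, 6, 3, 3, 5, 3, 1, 5, 4⟩, 2, one),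
  (⟨2, 1, 5, 4, 6, 2, 3, 5, 2, 6, 1, 1, 1, 2, 6, 1⟩, 15, ⟨1, 4, 4, 3, 3, 1, 4, 4, 0, 6, 5, 3, 1, 0, 4, 5⟩),
  (⟨0, 0, 5, 4, 0, 0, 4, 2, 2, 3, 5, 6, 3, 5, 6, 2⟩, 4, one),
  (⟨6, 6, 5, 4, 1, 6, 3, 5, 2, 6, 5, 6, 1, 2, 1, 5⟩, 5, one),
  (⟨3, 2, 2, 4, 5, 3, 3, 2, 2, 4, 1, 0, 3, 2, 0, 1⟩, 5, one),
  (⟨6, 6, 2, 6, 1, 6, 1, 2, 5, 4, 5, 6, 3, 5, 1, 5⟩, 5, one),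
  (⟨0, 0, 4, 2, 0, 0, 2, 3, 4, 2, 6, 3, 2, 3, 3, 1⟩, 6, one),
  (⟨4, 2, 6, 3, 2, 3, 3, 1, 0, 0, 3, 5, 0, 0, 5, 4⟩, 2, one),
  (⟨0, 3, 6, 1, 4, 0, 6, 6, 6, 1, 4, 2, 6, 6, 5, 4⟩, 5, one),
  (⟨2, 0, 5, 6, 0, 2, 1, 5, 5, 6, 2, 2, 1, 5, 5, 2⟩, 5, one),
  (⟨5, 2, 6, 5, 2, 2, 5, 1, 5, 5, 1, 6, 5, 2, 6, 6⟩, 6, one),
  (⟨2, 2, 5, 1, 2, 5, 1, 2, 4, 2, 1, 5, 2, 3, 5, 6⟩, 6, one),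
  (⟨0, 5, 0, 5, 2, 0, 2, 0, 6, 5, 6, 2, 2, 6, 5, 6⟩, 13, ⟨4, 3, 0, 3, 4, 4, 4, 0, 5, 3, 2, 4, 4, 5, 3, 2⟩),
  (⟨2, 6, 2, 1, 6, 5, 1, 5, 6, 3, 1, 2, 3, 1, 2, 6⟩, 2, one),
  (⟨0, 2, 0, 5, 5, 0, 2, 0, 1, 5, 6, 5, 2, 1, 2, 6⟩, 13, ⟨4, 4, 0, 3, 3, 4, 4, 0, 2, 3, 2, 3, 4, 2, 4, 2⟩),
  (⟨0, 2, 0, 1, 5, 0, 6, 0, 1, 1, 4, 0, 6, 1, 0, 4⟩, 5, one),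
  (⟨0, 4, 6, 5, 4, 0, 5, 1, 4, 6, 3, 1, 6, 3, 1, 4⟩, 6, one),
  (⟨6, 1, 1, 4, 1, 1, 4, 6, 6, 3, 4, 0, 3, 1, 0, 3⟩, 2, one),
  (⟨6, 6, 3, 1, 6, 1, 1, 4, 2, 6, 4, 6, 6, 5, 6, 3⟩, 6, one),
  (⟨5, 0, 6, 1, 0, 5, 6, 6, 5, 1, 6, 5, 6, 5, 2, 6⟩, 5, one),
  (⟨2, 1, 5, 1, 1, 5, 1, 2, 1, 2, 1, 4, 2, 6, 4, 6⟩, 6, one),
  (⟨1, 6, 5, 0, 1, 1, 0, 5, 1, 2, 5, 1, 5, 1, 6, 5⟩, 13, ⟨6, 5, 3, 0, 2, 6, 0, 3, 2, 4, 0, 2, 3, 2, 5, 0⟩),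
  (⟨0, 5, 6, 5, 2, 0, 2, 6, 0, 5, 6, 2, 2, 0, 5, 6⟩, 13, ⟨4, 3, 5, 3, 4, 4, 4, 5, 0, 3, 2, 4, 4, 0, 3, 2⟩),
  (⟨4, 2, 1, 5, 2, 3, 5, 6, 5, 5, 2, 6, 5, 2, 6, 5⟩, 6, one),
  (⟨6, 5, 2, 6, 2, 6, 1, 2, 1, 6, 5, 0, 1, 1, 0, 5⟩, 5, one),
  (⟨0, 2, 1, 5, 5, 0, 2, 1, 0, 5, 6, 5, 2, 0, 2, 6⟩, 13, ⟨4, 4, 2, 3, 3, 4, 4, 2, 0, 3, 2, 3, 4, 0, 4, 2⟩),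
  (⟨0, 0, 0, 1, 0, 0, 6, 0, 0, 1, 4, 5, 6, 0, 2, 4⟩, 5, one),
  (⟨2, 6, 2, 2, 6, 5, 2, 5, 6, 2, 4, 2, 2, 1, 2, 3⟩, 6, one),
  (⟨6, 0, 0, 1, 0, 1, 1, 0, 2, 6, 4, 0, 6, 5, 0, 3⟩, 6, one),
  (⟨6, 0, 0, 4, 0, 6, 3, 0, 0, 4, 1, 0, 3, 0, 0, 1⟩, 2, one),
  (⟨0, 4, 6, 6, 4, 0, 6, 1, 4, 5, 6, 1, 5, 3, 1, 1⟩, 4, one),
  (⟨6, 0, 2, 3, 0, 1, 3, 5, 0, 4, 3, 1, 4, 0, 1, 4⟩, 4, one),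
  (⟨5, 2, 6, 6, 2, 2, 6, 1, 5, 4, 4, 6, 4, 2, 6, 3⟩, 4, one),
  (⟨0, 6, 0, 2, 1, 0, 5, 0, 3, 0, 1, 1, 0, 3, 6, 1⟩, 3, one),
  (⟨6, 6, 5, 3, 6, 1, 3, 2, 0, 4, 3, 0, 4, 0, 0, 4⟩, 4, one),
  (⟨4, 2, 6, 2, 5, 4, 5, 6, 6, 2, 2, 5, 5, 6, 2, 2⟩, 13, ⟨5, 4, 5, 4, 3, 5, 3, 5, 5, 4, 1, 3, 3, 5, 4, 1⟩),
  (⟨0, 6, 3, 0, 1, 0, 0, 3, 0, 2, 1, 1, 5, 0, 6, 1⟩, 3, one),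
  (⟨4, 0, 6, 1, 0, 3, 1, 1, 1, 6, 4, 0, 6, 6, 0, 3⟩, 4, one),
  (⟨0, 2, 1, 1, 5, 0, 6, 1, 0, 1, 4, 0, 6, 0, 0, 4⟩, 5, one),
  (⟨1, 6, 4, 0, 6, 6, 0, 3, 3, 0, 1, 6, 0, 4, 6, 6⟩, 4, one),
  (⟨6, 5, 1, 5, 5, 1, 5, 6, 0, 6, 4, 2, 6, 0, 2, 3⟩, 6, one),
  (⟨5, 0, 2, 0, 0, 5, 0, 2, 2, 0, 1, 0, 0, 2, 0, 1⟩, 13, ⟨0, 0, 4, 0, 0, 0, 0, 4, 4, 0, 6, 0, 0, 4, 0, 6⟩),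
  (⟨0, 2, 1, 2, 5, 0, 5, 1, 0, 2, 1, 5, 5, 0, 2, 1⟩, 3, one),
  (⟨0, 3, 4, 0, 3, 0, 0, 3, 6, 6, 5, 3, 6, 1, 3, 2⟩, 4, one),
  (⟨1, 1, 0, 5, 6, 1, 2, 0, 4, 0, 0, 6, 0, 4, 1, 0⟩, 3, one),
  (⟨3, 0, 0, 3, 0, 4, 3, 0, 2, 4, 6, 6, 4, 5, 6, 1⟩, 4, one),
  (⟨6, 3, 6, 1, 3, 1, 1, 1, 3, 0, 6, 3, 0, 4, 3, 1⟩, 4, one),
  (⟨4, 2, 1, 6, 5, 4, 1, 1, 1, 6, 0, 3, 1, 1, 4, 0⟩, 5, one),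
  (⟨5, 1, 3, 1, 1, 2, 1, 4, 6, 6, 3, 1, 6, 1, 1, 4⟩, 4, one),
  (⟨6, 3, 4, 0, 3, 1, 0, 3, 1, 6, 6, 3, 6, 6, 3, 1⟩, 4, one),
  (⟨4, 2, 0, 1, 2, 3, 1, 0, 6, 2, 6, 5, 2, 1, 5, 1⟩, 6, one),
  (⟨4, 0, 0, 6, 0, 4, 1, 0, 6, 6, 0, 2, 1, 6, 5, 0⟩, 5, one),
  (⟨1, 6, 1, 2, 1, 1, 5, 1, 5, 0, 5, 1, 0, 5, 6, 5⟩, 13, ⟨6, 5, 2, 4, 2, 6, 3, 2, 3, 0, 0, 2, 0, 3, 5, 0⟩),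
  (⟨0, 5, 0, 2, 2, 0, 5, 0, 6, 2, 1, 2, 5, 6, 5, 1⟩, 3, one),
  (⟨0, 6, 6, 0, 6, 0, 0, 1, 3, 0, 2, 6, 0, 4, 6, 5⟩, 4, one),
  (⟨6, 5, 2, 5, 5, 1, 5, 5, 1, 6, 2, 2, 6, 6, 2, 5⟩, 4, one),
  (⟨6, 2, 0, 2, 5, 6, 5, 0, 1, 2, 0, 5, 5, 1, 2, 0⟩, 13, ⟨2, 4, 0, 4, 3, 2, 3, 0, 2, 4, 4, 3, 3, 2, 4, 4⟩),
  (⟨1, 1, 4, 0, 6, 1, 0, 4, 0, 5, 0, 6, 2, 0, 1, 0⟩, 3, one),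
  (⟨4, 6, 3, 1, 6, 3, 1, 4, 0, 3, 1, 2, 3, 0, 2, 6⟩, 4, one),
  (⟨4, 6, 2, 3, 6, 3, 3, 5, 1, 1, 5, 2, 1, 6, 2, 2⟩, 4, one),
  (⟨6, 5, 1, 6, 2, 6, 1, 1, 2, 6, 5, 0, 1, 2, 0, 5⟩, 5, one),
  (⟨6, 1, 6, 5, 6, 6, 2, 6, 2, 0, 2, 6, 0, 2, 1, 2⟩, 3, one),
  (⟨2, 4, 6, 6, 4, 5, 6, 1, 4, 0, 0, 4, 0, 3, 4, 0⟩, 4, one),
  (⟨6, 6, 2, 5, 6, 1, 5, 5, 4, 6, 2, 3, 6, 3, 3, 5⟩, 4, one),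
  (⟨5, 1, 2, 0, 6, 5, 0, 2, 6, 5, 1, 6, 2, 6, 1, 1⟩, 13, ⟨0, 2, 4, 0, 5, 0, 0, 4, 5, 3, 6, 5, 4, 5, 2, 6⟩),
  (⟨5, 0, 5, 1, 0, 5, 6, 5, 6, 1, 6, 5, 6, 6, 2, 6⟩, 5, one),
  (⟨6, 5, 6, 2, 2, 6, 5, 6, 0, 2, 0, 2, 5, 0, 5, 0⟩, 13, ⟨2, 3, 5, 4, 4, 2, 3, 5, 0, 4, 4, 4, 3, 0, 3, 4⟩),
  (⟨4, 5, 0, 6, 2, 4, 1, 0, 0, 6, 0, 0, 1, 0, 0, 0⟩, 5, one),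
  (⟨5, 4, 4, 6, 4, 2, 6, 3, 2, 5, 1, 1, 5, 5, 1, 6⟩, 4, one),
  (⟨2, 1, 2, 3, 1, 5, 3, 5, 5, 4, 0, 0, 4, 2, 0, 0⟩, 4, one),
  (⟨2, 5, 1, 5, 2, 2, 2, 1, 1, 5, 4, 2, 2, 1, 5, 4⟩, 13, ⟨1, 3, 2, 3, 4, 1, 4, 2, 2, 3, 5, 4, 4, 2, 3, 5⟩),
  (⟨1, 0, 5, 0, 0, 1, 0, 5, 5, 0, 5, 0, 0, 5, 0, 5⟩, 13, ⟨6, 0, 3, 0, 0, 6, 0, 3, 3, 0, 0, 0, 0, 3, 0, 0⟩),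
  (⟨6, 2, 6, 5, 2, 1, 5, 1, 3, 5, 0, 6, 5, 4, 6, 0⟩, 6, one),
  (⟨5, 1, 6, 5, 6, 5, 2, 6, 2, 0, 1, 6, 0, 2, 1, 1⟩, 13, ⟨0, 2, 5, 3, 5, 0, 4, 5, 4, 0, 6, 5, 0, 4, 2, 6⟩),
  (⟨6, 1, 3, 2, 1, 1, 2, 4, 1, 1, 0, 4, 1, 6, 4, 0⟩, 4, one),
  (⟨1, 4, 6, 5, 4, 6, 5, 1, 2, 6, 2, 1, 6, 5, 1, 5⟩, 6, one),
  (⟨6, 2, 1, 2, 5, 6, 5, 1, 0, 2, 0, 5, 5, 0, 2, 0⟩, 13, ⟨2, 4, 2, 4, 3, 2, 3, 2, 0, 4, 4, 3, 3, 0, 4, 4⟩),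
  (⟨1, 4, 1, 6, 4, 6, 6, 6, 4, 0, 1, 4, 0, 3, 4, 6⟩, 4, one),
  (⟨2, 1, 5, 5, 6, 2, 2, 5, 2, 0, 5, 6, 0, 2, 1, 5⟩, 2, one),
  (⟨1, 5, 3, 5, 5, 6, 5, 4, 2, 6, 2, 2, 6, 5, 2, 5⟩, 6, one),
  (⟨2, 2, 2, 1, 5, 2, 6, 2, 2, 1, 2, 0, 6, 2, 0, 2⟩, 5, one),
  (⟨6, 5, 0, 2, 2, 6, 5, 0, 6, 2, 0, 2, 5, 6, 5, 0⟩, 13, ⟨2, 3, 0, 4, 4, 2, 3, 0, 5, 4, 4, 4, 3, 5, 3, 4⟩),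
  (⟨5, 1, 5, 6, 1, 2, 6, 2, 1, 4, 6, 5, 4, 6, 5, 1⟩, 2, one),
  (⟨2, 1, 2, 0, 6, 2, 0, 2, 5, 5, 5, 6, 2, 5, 1, 5⟩, 2, one),
  (⟨4, 0, 6, 6, 0, 4, 1, 6, 0, 6, 0, 2, 1, 0, 5, 0⟩, 5, one),
  (⟨1, 2, 1, 4, 2, 6, 4, 6, 5, 6, 2, 6, 6, 2, 6, 5⟩, 2, one),
  (⟨3, 1, 0, 3, 1, 4, 3, 0, 5, 4, 6, 0, 4, 2, 0, 1⟩, 4, one),
  (⟨6, 1, 3, 0, 1, 1, 0, 4, 4, 0, 6, 1, 0, 3, 1, 1⟩, 4, one),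
  (⟨6, 2, 3, 5, 5, 6, 2, 3, 2, 5, 1, 5, 2, 2, 2, 1⟩, 2, one),
  (⟨3, 0, 6, 3, 0, 4, 3, 1, 1, 4, 1, 6, 4, 6, 6, 6⟩, 2, one),
  (⟨6, 3, 3, 5, 3, 1, 5, 4, 3, 5, 0, 0, 5, 4, 0, 0⟩, 6, one),
  (⟨2, 6, 1, 1, 1, 2, 6, 1, 5, 6, 2, 3, 1, 5, 4, 2⟩, 5, one),
  (⟨5, 6, 2, 3, 1, 5, 4, 2, 5, 1, 6, 6, 6, 5, 1, 6⟩, 5, one),
  (⟨0, 4, 3, 1, 4, 0, 1, 4, 1, 0, 5, 4, 0, 6, 4, 2⟩, 4, one),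
  (⟨4, 6, 0, 4, 6, 3, 4, 0, 2, 3, 1, 0, 3, 5, 0, 6⟩, 4, one),
  (⟨1, 2, 5, 1, 5, 1, 6, 5, 6, 1, 2, 0, 6, 6, 0, 2⟩, 15, ⟨4, 6, 0, 1, 1, 4, 6, 0, 3, 2, 2, 1, 5, 3, 6, 2⟩),
  (⟨5, 0, 6, 0, 0, 5, 0, 6, 5, 0, 2, 0, 0, 5, 0, 2⟩, 2, one),
  (⟨4, 0, 5, 1, 0, 3, 1, 2, 0, 6, 6, 0, 6, 0, 0, 1⟩, 6, one),
  (⟨2, 6, 4, 0, 6, 5, 0, 3, 1, 0, 0, 6, 0, 6, 6, 0⟩, 4, one),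
  (⟨1, 4, 1, 4, 4, 6, 4, 6, 1, 4, 6, 3, 4, 6, 3, 1⟩, 2, one),
  (⟨3, 5, 0, 0, 5, 4, 0, 0, 1, 4, 4, 2, 4, 6, 2, 3⟩, 2, one),
  (⟨5, 4, 5, 6, 3, 5, 1, 5, 1, 1, 5, 1, 6, 1, 6, 5⟩, 15, ⟨1, 1, 0, 6, 6, 1, 1, 0, 4, 2, 5, 6, 5, 4, 1, 5⟩),
  (⟨1, 4, 3, 0, 4, 6, 0, 4, 6, 1, 1, 4, 1, 1, 4, 6⟩, 4, one),
  (⟨0, 1, 4, 0, 6, 0, 0, 4, 0, 5, 6, 6, 2, 0, 1, 6⟩, 13, ⟨4, 2, 1, 0, 5, 4, 0, 1, 0, 3, 2, 5, 4, 0, 2, 2⟩),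
  (⟨2, 3, 2, 1, 4, 2, 6, 2, 6, 6, 2, 6, 1, 6, 1, 2⟩, 5, one),
  (⟨3, 5, 1, 4, 5, 4, 4, 6, 0, 0, 4, 2, 0, 0, 2, 3⟩, 2, one),
  (⟨2, 4, 1, 0, 3, 2, 0, 1, 4, 5, 5, 3, 2, 4, 4, 5⟩, 2, one),
  (⟨1, 4, 6, 3, 4, 6, 3, 1, 6, 3, 6, 3, 3, 1, 3, 1⟩, 2, one),
  (⟨2, 4, 4, 5, 3, 2, 2, 4, 1, 0, 5, 3, 0, 1, 4, 5⟩, 2, one),
  (⟨6, 6, 0, 2, 1, 6, 5, 0, 3, 0, 0, 1, 0, 3, 6, 0⟩, 13, ⟨2, 5, 0, 4, 2, 2, 3, 0, 6, 0, 4, 2, 0, 6, 5, 4⟩),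
  (⟨5, 4, 2, 1, 4, 2, 1, 5, 0, 0, 5, 4, 0, 0, 4, 2⟩, 2, one),
  (⟨1, 0, 5, 3, 0, 1, 4, 5, 5, 3, 3, 2, 4, 5, 5, 3⟩, 5, one),
  (⟨1, 2, 0, 4, 2, 6, 4, 0, 4, 6, 4, 6, 6, 3, 6, 3⟩, 4, one),
  (⟨0, 0, 0, 6, 0, 0, 1, 0, 0, 6, 3, 2, 1, 0, 5, 3⟩, 15, ⟨3, 6, 1, 4, 1, 3, 3, 1, 1, 4, 3, 1, 3, 1, 6, 3⟩),
  (⟨1, 6, 4, 5, 6, 6, 5, 3, 6, 6, 0, 3, 6, 1, 3, 0⟩, 4, one),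
  (⟨5, 1, 6, 6, 6, 5, 1, 6, 2, 1, 5, 4, 6, 2, 3, 5⟩, 15, ⟨5, 6, 3, 5, 1, 5, 2, 3, 0, 1, 1, 1, 6, 0, 6, 1⟩),
  (⟨5, 4, 0, 0, 4, 2, 0, 0, 5, 6, 5, 4, 6, 2, 4, 2⟩, 2, one),
  (⟨3, 1, 3, 1, 1, 4, 1, 4, 1, 2, 0, 4, 2, 6, 4, 0⟩, 6, one),
  (⟨0, 1, 4, 5, 6, 0, 2, 4, 0, 0, 0, 6, 0, 0, 1, 0⟩, 2, one),
  (⟨1, 1, 0, 4, 1, 6, 4, 0, 1, 6, 4, 5, 6, 6, 5, 3⟩, 4, one),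
  (⟨1, 1, 5, 1, 6, 1, 6, 5, 2, 3, 2, 1, 4, 2, 6, 2⟩, 15, ⟨5, 3, 0, 1, 4, 5, 6, 0, 3, 4, 1, 4, 3, 3, 3, 1⟩),
  (⟨1, 6, 0, 3, 1, 1, 4, 0, 3, 5, 6, 1, 2, 3, 6, 6⟩, 2, one),
  (⟨0, 4, 1, 6, 3, 0, 1, 1, 1, 6, 3, 5, 1, 1, 2, 3⟩, 15, ⟨6, 4, 4, 5, 3, 6, 2, 4, 4, 5, 0, 3, 2, 4, 4, 0⟩),
  (⟨2, 0, 1, 6, 0, 2, 1, 1, 2, 6, 1, 2, 1, 2, 5, 1⟩, 15, ⟨2, 1, 4, 5, 6, 2, 2, 4, 0, 6, 4, 6, 1, 0, 1, 4⟩),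
  (⟨1, 6, 2, 2, 6, 6, 2, 5, 1, 2, 5, 2, 2, 6, 2, 2⟩, 6, one),
  (⟨4, 6, 5, 1, 6, 3, 1, 2, 4, 6, 6, 6, 6, 3, 6, 1⟩, 6, one),
  (⟨5, 6, 5, 1, 1, 5, 6, 5, 2, 3, 6, 6, 4, 2, 1, 6⟩, 5, one),
  (⟨1, 2, 0, 5, 5, 1, 2, 0, 1, 5, 0, 5, 2, 1, 2, 0⟩, 3, one),
  (⟨4, 6, 6, 6, 6, 3, 6, 1, 3, 1, 2, 6, 1, 4, 6, 5⟩, 4, one),
  (⟨1, 6, 3, 5, 1, 1, 2, 3, 0, 3, 6, 1, 4, 0, 6, 6⟩, 2, one),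
  (⟨1, 1, 4, 6, 1, 6, 6, 3, 5, 1, 3, 1, 1, 2, 1, 4⟩, 6, one),
  (⟨0, 5, 6, 6, 2, 0, 1, 6, 0, 6, 3, 0, 1, 0, 0, 3⟩, 15, ⟨1, 2, 3, 5, 5, 1, 2, 3, 6, 4, 5, 5, 3, 6, 2, 5⟩),
  (⟨1, 2, 1, 5, 5, 1, 2, 1, 0, 5, 0, 5, 2, 0, 2, 0⟩, 3, one),
  (⟨3, 2, 1, 6, 2, 4, 6, 6, 0, 4, 6, 6, 4, 0, 6, 1⟩, 4, one),
  (⟨0, 5, 6, 2, 2, 0, 5, 6, 0, 2, 1, 2, 5, 0, 5, 1⟩, 3, one),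
  (⟨0, 1, 0, 0, 6, 0, 0, 0, 4, 5, 0, 6, 2, 4, 1, 0⟩, 2, one),
  (⟨0, 3, 1, 2, 3, 0, 2, 6, 3, 1, 4, 6, 1, 4, 6, 3⟩, 6, one),
  (⟨6, 0, 2, 4, 0, 6, 3, 2, 2, 4, 4, 5, 3, 2, 2, 4⟩, 15, ⟨0, 2, 3, 3, 5, 0, 4, 3, 3, 3, 6, 5, 4, 3, 2, 6⟩),
  (⟨2, 6, 4, 6, 6, 5, 6, 3, 1, 1, 4, 6, 1, 6, 6, 3⟩, 4, one),
  (⟨3, 1, 4, 6, 1, 4, 6, 3, 0, 4, 6, 5, 4, 0, 5, 1⟩, 4, one),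
  (⟨4, 5, 5, 3, 2, 4, 4, 5, 5, 3, 6, 0, 4, 5, 0, 6⟩, 15, ⟨6, 5, 4, 4, 2, 6, 3, 4, 4, 4, 0, 2, 3, 4, 5, 0⟩),
  (⟨6, 5, 0, 3, 5, 1, 3, 0, 3, 1, 3, 1, 1, 4, 1, 4⟩, 4, one),
  (⟨1, 5, 0, 5, 2, 1, 2, 0, 6, 5, 0, 2, 2, 6, 5, 0⟩, 3, one),
  (⟨6, 3, 1, 2, 3, 1, 2, 6, 5, 1, 5, 6, 1, 2, 6, 2⟩, 6, one),
  (⟨0, 1, 1, 0, 1, 0, 0, 6, 4, 0, 5, 1, 0, 3, 1, 2⟩, 4, one),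
  (⟨0, 2, 0, 2, 5, 0, 5, 0, 1, 2, 1, 5, 5, 1, 2, 1⟩, 3, one),
  (⟨2, 3, 1, 0, 3, 5, 0, 6, 3, 1, 0, 3, 1, 4, 3, 0⟩, 4, one),
  (⟨6, 2, 4, 2, 2, 1, 2, 3, 5, 1, 5, 5, 1, 2, 5, 2⟩, 6, one),
  (⟨0, 0, 1, 0, 0, 0, 0, 1, 6, 0, 0, 0, 0, 6, 0, 0⟩, 2, one),
  (⟨1, 0, 0, 6, 0, 6, 6, 0, 5, 1, 3, 0, 1, 2, 0, 4⟩, 6, one),
  (⟨5, 0, 5, 0, 0, 5, 0, 5, 6, 0, 2, 0, 0, 6, 0, 2⟩, 2, one),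
  (⟨1, 1, 5, 2, 1, 6, 2, 2, 3, 1, 5, 4, 1, 4, 4, 2⟩, 4, one),
  (⟨0, 4, 1, 0, 3, 0, 0, 1, 1, 0, 0, 3, 0, 1, 4, 0⟩, 2, one),
  (⟨0, 0, 3, 5, 0, 0, 5, 4, 3, 5, 1, 4, 5, 4, 4, 6⟩, 6, one),
  (⟨6, 2, 2, 5, 5, 6, 2, 2, 3, 5, 1, 5, 2, 3, 2, 1⟩, 2, one),
  (⟨2, 5, 1, 1, 5, 5, 1, 6, 2, 3, 3, 1, 3, 5, 1, 4⟩, 4, one),
  (⟨5, 5, 2, 6, 5, 2, 6, 5, 3, 5, 6, 2, 5, 4, 2, 1⟩, 6, one),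
  (⟨5, 1, 5, 5, 1, 2, 5, 2, 1, 5, 3, 5, 5, 6, 5, 4⟩, 6, one),
  (⟨0, 4, 3, 0, 4, 0, 0, 4, 1, 1, 2, 4, 1, 6, 4, 5⟩, 4, one),
  (⟨1, 5, 6, 5, 2, 1, 2, 6, 0, 5, 0, 2, 2, 0, 5, 0⟩, 3, one),
  (⟨5, 1, 3, 0, 1, 2, 0, 4, 6, 0, 0, 1, 0, 1, 1, 0⟩, 4, one),
  (⟨5, 5, 5, 6, 2, 5, 1, 5, 5, 6, 5, 0, 1, 5, 0, 5⟩, 15, ⟨2, 4, 0, 6, 3, 2, 1, 0, 0, 6, 4, 3, 1, 0, 4, 4⟩),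
  (⟨1, 5, 5, 2, 2, 1, 5, 5, 4, 2, 6, 2, 5, 4, 5, 6⟩, 2, one),
  (⟨3, 5, 6, 2, 5, 4, 2, 1, 2, 2, 5, 1, 2, 5, 1, 2⟩, 6, one),
  (⟨5, 5, 1, 6, 5, 2, 6, 6, 2, 5, 1, 2, 5, 5, 2, 6⟩, 4, one),
  (⟨1, 4, 4, 2, 4, 6, 2, 3, 4, 2, 0, 0, 2, 3, 0, 0⟩, 6, one),
  (⟨0, 3, 6, 0, 4, 0, 0, 6, 6, 0, 0, 4, 0, 6, 3, 0⟩, 2, one),
  (⟨2, 5, 1, 2, 5, 5, 2, 6, 2, 2, 6, 1, 2, 5, 1, 1⟩, 6, one),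
  (⟨2, 0, 2, 0, 0, 2, 0, 2, 1, 0, 5, 0, 0, 1, 0, 5⟩, 2, one),
  (⟨2, 2, 6, 1, 2, 5, 1, 1, 5, 2, 6, 5, 2, 2, 5, 1⟩, 4, one),
  (⟨3, 1, 1, 1, 1, 4, 1, 6, 4, 6, 5, 1, 6, 3, 1, 2⟩, 4, one),
  (⟨0, 0, 6, 0, 0, 0, 0, 6, 1, 0, 0, 0, 0, 1, 0, 0⟩, 2, one),
  (⟨1, 2, 5, 2, 2, 6, 2, 2, 6, 1, 5, 5, 1, 1, 5, 2⟩, 4, one),
  (⟨5, 0, 2, 1, 0, 5, 6, 2, 2, 1, 5, 5, 6, 2, 2, 5⟩, 15, ⟨4, 3, 0, 1, 4, 4, 6, 0, 0, 1, 2, 4, 6, 0, 3, 2⟩),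
  (⟨1, 1, 2, 4, 1, 6, 4, 5, 0, 3, 4, 0, 3, 0, 0, 3⟩, 4, one),
  (⟨3, 5, 1, 5, 2, 3, 2, 1, 1, 5, 5, 2, 2, 1, 5, 5⟩, 3, one),
  (⟨5, 6, 2, 6, 6, 2, 6, 5, 6, 5, 6, 3, 5, 1, 3, 1⟩, 6, one),
  (⟨6, 1, 2, 0, 6, 6, 0, 2, 6, 5, 2, 6, 2, 6, 1, 2⟩, 3, one),
  (⟨2, 0, 5, 0, 0, 2, 0, 5, 5, 0, 6, 0, 0, 5, 0, 6⟩, 3, one),
  (⟨1, 6, 6, 3, 6, 6, 3, 1, 1, 4, 3, 0, 4, 6, 0, 4⟩, 2, one),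
  (⟨5, 1, 2, 1, 6, 5, 6, 2, 6, 6, 5, 4, 1, 6, 3, 5⟩, 15, ⟨5, 6, 0, 1, 1, 5, 6, 0, 3, 5, 1, 1, 2, 3, 6, 1⟩),
  (⟨0, 1, 3, 5, 1, 0, 5, 4, 6, 5, 1, 5, 5, 1, 5, 6⟩, 6, one),
  (⟨5, 6, 5, 0, 1, 5, 0, 5, 2, 2, 2, 1, 5, 2, 6, 2⟩, 2, one),
  (⟨4, 0, 1, 4, 0, 3, 4, 6, 6, 3, 6, 1, 3, 1, 1, 1⟩, 2, one),
  (⟨1, 2, 6, 1, 5, 1, 6, 6, 5, 1, 2, 0, 6, 5, 0, 2⟩, 15, ⟨4, 6, 3, 2, 1, 4, 5, 3, 0, 1, 2, 1, 6, 0, 6, 2⟩),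
  (⟨3, 0, 1, 6, 0, 4, 6, 6, 6, 1, 3, 0, 1, 1, 0, 4⟩, 4, one),
  (⟨2, 0, 2, 6, 0, 2, 1, 2, 1, 6, 1, 2, 1, 1, 5, 1⟩, 15, ⟨2, 1, 0, 6, 6, 2, 1, 0, 4, 5, 4, 6, 2, 4, 1, 4⟩),
  (⟨6, 1, 4, 2, 6, 6, 5, 4, 0, 4, 1, 6, 3, 0, 1, 1⟩, 2, one),
  (⟨2, 0, 1, 0, 0, 2, 0, 1, 2, 0, 5, 0, 0, 2, 0, 5⟩, 2, one),
  (⟨2, 3, 5, 6, 3, 5, 6, 2, 0, 0, 2, 3, 0, 0, 3, 5⟩, 2, one),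
  (⟨0, 1, 0, 5, 6, 0, 2, 0, 4, 0, 6, 6, 0, 4, 1, 6⟩, 13, ⟨4, 2, 0, 3, 5, 4, 4, 0, 1, 0, 2, 5, 0, 1, 2, 2⟩),
  (⟨5, 6, 2, 2, 1, 5, 5, 2, 5, 0, 2, 1, 0, 5, 6, 2⟩, 2, one),
  (⟨5, 3, 3, 2, 4, 5, 5, 3, 6, 0, 2, 4, 0, 6, 3, 2⟩, 2, one),
  (⟨5, 4, 1, 1, 3, 5, 6, 1, 5, 6, 5, 1, 1, 5, 6, 5⟩, 15, ⟨1, 1, 4, 2, 6, 1, 5, 4, 0, 6, 5, 6, 1, 0, 1, 5⟩),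
  (⟨0, 6, 0, 0, 1, 0, 0, 0, 3, 2, 0, 1, 5, 3, 6, 0⟩, 2, one),
  (⟨2, 3, 3, 1, 3, 5, 1, 4, 5, 2, 6, 6, 2, 2, 6, 1⟩, 4, one),
  (⟨2, 3, 6, 6, 4, 2, 1, 6, 2, 1, 2, 6, 6, 2, 1, 2⟩, 5, one),
  (⟨2, 3, 0, 0, 3, 5, 0, 0, 2, 1, 2, 3, 1, 5, 3, 5⟩, 2, one),
  (⟨1, 5, 4, 2, 2, 1, 5, 4, 5, 2, 6, 2, 5, 5, 5, 6⟩, 2, one),
  (⟨2, 6, 1, 2, 1, 2, 5, 1, 5, 0, 6, 1, 0, 5, 6, 6⟩, 3, one),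
  (⟨4, 0, 0, 4, 0, 3, 4, 0, 5, 3, 1, 1, 3, 2, 1, 6⟩, 4, one),
  (⟨3, 1, 5, 4, 1, 4, 4, 2, 6, 6, 2, 5, 6, 1, 5, 5⟩, 4, one),
  (⟨5, 3, 6, 0, 4, 5, 0, 6, 3, 2, 2, 4, 5, 3, 3, 2⟩, 2, one),
  (⟨5, 3, 1, 1, 3, 2, 1, 6, 3, 0, 0, 3, 0, 4, 3, 0⟩, 4, one),
  (⟨2, 6, 5, 6, 1, 2, 1, 5, 1, 1, 2, 3, 6, 1, 4, 2⟩, 5, one),
  (⟨6, 6, 3, 0, 1, 6, 0, 3, 0, 2, 0, 1, 5, 0, 6, 0⟩, 13, ⟨2, 5, 6, 0, 2, 2, 0, 6, 0, 4, 4, 2, 3, 0, 5, 4⟩),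
  (⟨0, 3, 4, 6, 3, 0, 6, 3, 6, 0, 2, 3, 0, 1, 3, 5⟩, 4, one),
  (⟨5, 4, 6, 0, 4, 2, 0, 1, 4, 6, 0, 4, 6, 3, 4, 0⟩, 4, one),
  (⟨6, 6, 0, 3, 6, 1, 3, 0, 6, 1, 3, 2, 1, 1, 2, 4⟩, 4, one),
  (⟨0, 6, 4, 2, 6, 0, 2, 3, 1, 2, 6, 2, 2, 6, 2, 1⟩, 6, one),
  (⟨4, 5, 6, 1, 5, 3, 1, 1, 0, 3, 1, 1, 3, 0, 1, 6⟩, 4, one)]

def LM : List M4 := LT.map Prod.fst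

/-- certificate predicate -/
def good (e : M4 × ℕ × M4) : Bool :=
  (e.2.1 == 0 && decide (e.1 = one)) ||
  (decide (1 ≤ e.2.1) && decide (e.2.1 ≤ 6) && decide (pow e.1 e.2.1 = negone)) ||
  (e.2.1 == 13 && decide (pow e.1 3 = one) && decide (mul e.2.2 e.1 = add e.2.2 one)) ||
  (e.2.1 == 15 && decide (pow e.1 5 = one) && decide (mul e.2.2 e.1 = add e.2.2 one))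

theorem LT_good : LT.all good = true := by decide +kernel

theorem LM_closed : LM.all (fun x => LM.contains (mul x gA) && LM.contains (mul x gA') &&
    LM.contains (mul x gB) && LM.contains (mul x gB')) = true := by decide +kernel

theorem gens_ok : mul gA gA' = one ∧ mul gA' gA = one ∧ mul gB gB' = one ∧ mul gB' gB = one ∧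
    mul gA gA = gA2 ∧ mul gA2 gA2 = negone ∧
    mul gB gB = gB2 ∧ mul gB2 gB2 = gB4 ∧ mul gB4 gB = one ∧
    mul (mul gA gB) gB = x12 ∧ mul x12 x12 = x12_2 ∧ mul x12_2 x12_2 = x12_4 ∧
    mul x12_4 x12_2 = negone := by decide +kernel

end M4

end Cfsg.Agent.Helper16.TU
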