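import Mathlib
import Cfsg.Agent.Lib.Helper16.TUD

/-!
Bridge for S3489: from codes to matrices, the group `QQ ≤ GL(4,7)`, and `Hyp`.
-/

set_option autoImplicit false
set_option maxRecDepth 100000

namespace Cfsg.Agent.Helper16.TU

namespace M4

lemma dec_one : dec one = 1 := by
  ext i j
  fin_cases i <;> fin_cases j <;> simp [dec, one]

lemma dec_negone : dec negone = -1 := by
  ext i j
  fin_cases i <;> fin_cases j <;> simp [dec, negone] <;> decide

lemma dec_mul (x y : M4) : dec (mul x y) = dec x * dec y := by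
  ext i j
  fin_cases i <;> fin_cases j <;>
    simp [dec, mul, Matrix.mul_apply, Fin.sum_univ_four]

lemma dec_add (x y : M4) : dec (add x y) = dec x + dec y := by
  ext i j
  fin_cases i <;> fin_cases j <;>
    simp [dec, add]

lemma dec_pow (x : M4) (n : ℕ) : dec (pow x n) = dec x ^ n := by
  induction n with
  | zero => rw [pow, dec_one, pow_zero]
  | succ n ih => rw [pow, dec_mul, ih, pow_succ]

end M4

open M4

/-- generators as units -/
def ua : M4.Matˣ :=
  ⟨dec gA, dec gA', by rw [← dec_mul, gens_ok.1, dec_one],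
    by rw [← dec_mul, gens_ok.2.1, dec_one]⟩

def ub : M4.Matˣ :=
  ⟨dec gB, dec gB', by rw [← dec_mul, gens_ok.2.2.1, dec_one],
    by rw [← dec_mul, gens_ok.2.2.2.1, dec_one]⟩

/-- the group `2.S5` inside `GL(4,7)` -/
def QQ : Subgroup M4.Matˣ := Subgroup.closure {ua, ub}

lemma ua_mem : ua ∈ QQ := Subgroup.subset_closure (by simp)
lemma ub_mem : ub ∈ QQ := Subgroup.subset_closure (by simp)

lemma one_mem_LM : M4.one ∈ LM := by decide +kernel

lemma mem_LM (g : M4.Matˣ) (hg : g ∈ QQ) : ∃ x ∈ LM, dec x = (g : M4.Mat) := by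
  refine Subgroup.closure_induction_right
    (p := fun (g : M4.Matˣ) (_ : g ∈ Subgroup.closure {ua, ub}) =>
      ∃ x ∈ LM, dec x = (g : M4.Mat)) ?_ ?_ ?_ (show g ∈ Subgroup.closure {ua, ub} from hg)
  · exact ⟨M4.one, one_mem_LM, dec_one⟩
  · rintro g hg y hy ⟨x, hx, hxg⟩
    have hcl := (List.all_eq_true.1 LM_closed) x hx
    simp only [Bool.and_eq_true, List.contains_iff_mem] at hcl
    rcases hy with rfl | rfl
    · exact ⟨mul x gA, hcl.1.1.1, by rw [dec_mul, hxg]; rfl⟩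
    · exact ⟨mul x gB, hcl.1.2, by rw [dec_mul, hxg]; rfl⟩
  · rintro g hg y hy ⟨x, hx, hxg⟩
    have hcl := (List.all_eq_true.1 LM_closed) x hx
    simp only [Bool.and_eq_true, List.contains_iff_mem] at hcl
    rcases hy with rfl | rfl
    · exact ⟨mul x gA', hcl.1.1.2, by rw [dec_mul, hxg]; rfl⟩
    · exact ⟨mul x gB', hcl.2, by rw [dec_mul, hxg]; rfl⟩

lemma ua4 : ((ua ^ 4 : M4.Matˣ) : M4.Mat) = -1 := by
  rw [Units.val_pow_eq_pow_val]
  show dec gA ^ 4 = -1
  have h : dec gA ^ 4 = (dec gA ^ 2) ^ 2 := by rw [← pow_mul]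
  rw [h, pow_two (dec gA), ← dec_mul, gens_ok.2.2.2.2.1, pow_two,
    ← dec_mul, gens_ok.2.2.2.2.2.1, dec_negone]

lemma neg_one_ne_one : (-1 : M4.Mat) ≠ 1 := by
  intro h
  have := congrFun (congrFun h 0) 0
  simp at this
  revert this; decide

/-- the central involution -/
def zz : QQ := ⟨ua ^ 4, pow_mem ua_mem 4⟩

lemma zz_val : ((zz : M4.Matˣ) : M4.Mat) = -1 := ua4

/-- the natural module -/
def V7 : Type := Fin 4 → ZMod 7

instance : AddCommGroup V7 := inferInstanceAs (AddCommGroup (Fin 4 → ZMod 7))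
instance : Finite V7 := inferInstanceAs (Finite (Fin 4 → ZMod 7))

instance : DistribMulAction QQ V7 where
  smul g v := Matrix.mulVec ((g : M4.Matˣ) : M4.Mat) v
  one_smul v := Matrix.one_mulVec v
  mul_smul g h v :=
    (Matrix.mulVec_mulVec (v : Fin 4 → ZMod 7) ((g : M4.Matˣ) : M4.Mat)
      ((h : M4.Matˣ) : M4.Mat)).symm
  smul_zero g := Matrix.mulVec_zero _
  smul_add g v w := Matrix.mulVec_add _ v w

lemma smul_V7 (g : QQ) (v : V7) : g • v = Matrix.mulVec ((g : M4.Matˣ) : M4.Mat) v := rfl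

lemma V7_exp (v : V7) : 7 • v = 0 := by
  funext j
  have : ∀ a : ZMod 7, 7 • a = 0 := by decide
  exact this (v j)

lemma card_V7 : Nat.card V7 = 7 ^ 4 := by
  show Nat.card (Fin 4 → ZMod 7) = 7 ^ 4
  rw [Nat.card_fun, Nat.card_zmod, Nat.card_fin]

lemma fpf_aux (M c : M4.Mat) (hc : c * M = c + 1) (v : Fin 4 → ZMod 7)
    (hv : M.mulVec v = v) : v = 0 := by
  have h1 : (c * M).mulVec v = c.mulVec v := by rw [← Matrix.mulVec_mulVec, hv]
  rw [hc, Matrix.add_mulVec, Matrix.one_mulVec] at h1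
  exact add_eq_left.mp h1

lemma fpf_of_cert (g : QQ) (c : M4.Mat)
    (hc : c * ((g : M4.Matˣ) : M4.Mat) = c + 1) (v : V7) (hv : g • v = v) : v = 0 :=
  fpf_aux _ c hc v hv

end Cfsg.Agent.Helper16.TU
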