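import Mathlib
import Cfsg.Agent.Lib.Helper16.TUC
import Cfsg.Agent.Lib.Helper16.TUE

/-!
S3489: verification of `Hyp` for the concrete group and the final statement.
-/

set_option autoImplicit false
set_option maxRecDepth 100000

namespace Cfsg.Agent.Helper16.TU

open M4

lemma LT_good_mem (e : M4 × ℕ × M4) (he : e ∈ M4.LT) : good e = true :=
  (List.all_eq_true.1 LT_good) e he

lemma ext_QQ {a b : QQ} (h : ((a : M4.Matˣ) : M4.Mat) = ((b : M4.Matˣ) : M4.Mat)) : a = b :=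
  Subtype.ext (Units.ext h)

lemma val_pow_QQ (g : QQ) (n : ℕ) :
    (((g ^ n : QQ) : M4.Matˣ) : M4.Mat) = ((g : M4.Matˣ) : M4.Mat) ^ n := by
  rw [SubgroupClass.coe_pow, Units.val_pow_eq_pow_val]

lemma val_one_QQ : (((1 : QQ) : M4.Matˣ) : M4.Mat) = 1 := rfl

lemma val_mul_QQ (g h : QQ) :
    (((g * h : QQ) : M4.Matˣ) : M4.Mat) = ((g : M4.Matˣ) : M4.Mat) * ((h : M4.Matˣ) : M4.Mat) :=
  rfl

lemma cls_QQ (k : ℕ) (g : QQ) : g = 1 ∨ (∃ e : ℕ, 1 ≤ e ∧ e ≤ 6 ∧ g ^ e = zz) ∨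
    (g ^ 3 = 1 ∧ ∀ w : Fin k → V7, g • w = w → w = 0) ∨
    (g ^ 5 = 1 ∧ ∀ w : Fin k → V7, g • w = w → w = 0) := by
  obtain ⟨x, hx, hxg⟩ := mem_LM g.1 g.2
  obtain ⟨e, he, rfl⟩ := List.mem_map.1 hx
  have hgood := LT_good_mem e he
  obtain ⟨x, t, c⟩ := e
  simp only [good, Bool.or_eq_true, Bool.and_eq_true, beq_iff_eq, decide_eq_true_eq] at hgood
  have hfpf : mul c x = add c M4.one → ∀ w : Fin k → V7, g • w = w → w = 0 := by
    intro hc w hw
    funext i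
    have hc' : dec c * ((g : M4.Matˣ) : M4.Mat) = dec c + 1 := by
      rw [← hxg, ← dec_mul, hc, dec_add, dec_one]
    exact fpf_of_cert g (dec c) hc' (w i) (congrFun hw i)
  rcases hgood with ((⟨_, h1⟩ | ⟨⟨_, _⟩, h2⟩) | ⟨⟨_, h3⟩, hc⟩) | ⟨⟨_, h5⟩, hc⟩
  · left
    apply ext_QQ
    rw [← hxg, val_one_QQ]
    show dec x = 1
    rw [h1, dec_one]
  · right; left
    refine ⟨t, by assumption, by assumption, ?_⟩
    apply ext_QQ
    rw [val_pow_QQ, ← hxg, zz_val]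
    show dec x ^ t = -1
    rw [← dec_pow, h2, dec_negone]
  · right; right; left
    refine ⟨?_, hfpf hc⟩
    apply ext_QQ
    rw [val_pow_QQ, ← hxg, val_one_QQ]
    show dec x ^ 3 = 1
    rw [← dec_pow, h3, dec_one]
  · right; right; right
    refine ⟨?_, hfpf hc⟩
    apply ext_QQ
    rw [val_pow_QQ, ← hxg, val_one_QQ]
    show dec x ^ 5 = 1
    rw [← dec_pow, h5, dec_one]

lemma zz_central (g : QQ) : zz * g = g * zz := by
  apply ext_QQ
  rw [val_mul_QQ, val_mul_QQ, zz_val, neg_one_mul, mul_neg_one]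

lemma zz_sq : zz * zz = 1 := by
  apply ext_QQ
  rw [val_mul_QQ, zz_val, val_one_QQ, neg_one_mul, neg_neg]

lemma zz_ne : zz ≠ 1 := by
  intro h
  have := congrArg (fun q : QQ => ((q : M4.Matˣ) : M4.Mat)) h
  simp only [zz_val, val_one_QQ] at this
  exact neg_one_ne_one this

lemma zz_neg (k : ℕ) (w : Fin k → V7) : zz • w = -w := by
  funext i
  show zz • w i = -(w i)
  rw [smul_V7, zz_val]
  exact (Matrix.neg_mulVec (w i : Fin 4 → ZMod 7) 1).trans
    (congrArg Neg.neg (Matrix.one_mulVec (w i : Fin 4 → ZMod 7)))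

lemma orderOf_QQ (g : M4.Matˣ) (hg : g ∈ QQ) : orderOf (⟨g, hg⟩ : QQ) = orderOf g :=
  Subgroup.orderOf_mk g hg

lemma ua4_ne : ua ^ 4 ≠ 1 := by
  intro h
  have := congrArg (fun q : M4.Matˣ => (q : M4.Mat)) h
  simp only [ua4, Units.val_one] at this
  exact neg_one_ne_one this

lemma ua4_sq : (ua ^ 4) ^ 2 = 1 := by
  apply Units.ext
  rw [Units.val_pow_eq_pow_val, ua4, Units.val_one, neg_one_sq]

lemma ua_order : orderOf ua = 8 := by
  have := orderOf_eq_prime_pow (x := ua) (p := 2) (n := 2) ua4_ne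
    (by
      show ua ^ 8 = 1
      rw [show (8 : ℕ) = 4 * 2 from rfl, pow_mul, ua4_sq])
  simpa using this

lemma ua4_order : orderOf (ua ^ 4) = 2 := by
  have : Fact (Nat.Prime 2) := ⟨by norm_num⟩
  exact orderOf_eq_prime ua4_sq ua4_ne

lemma ub_order : orderOf ub = 5 := by
  have : Fact (Nat.Prime 5) := ⟨by norm_num⟩
  apply orderOf_eq_prime
  · apply Units.ext
    rw [Units.val_pow_eq_pow_val, Units.val_one]
    show dec gB ^ 5 = 1
    have h : dec gB ^ 5 = (dec gB ^ 2) ^ 2 * dec gB := by rw [← pow_mul, ← pow_succ]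
    rw [h, pow_two (dec gB), ← dec_mul, gens_ok.2.2.2.2.2.2.1, pow_two, ← dec_mul,
      gens_ok.2.2.2.2.2.2.2.1, ← dec_mul, gens_ok.2.2.2.2.2.2.2.2.1, dec_one]
  · intro h
    have h1 := congrArg (fun q : M4.Matˣ => (q : M4.Mat) 0 1) h
    simp only [Units.val_one] at h1
    have h2 : (ub : M4.Mat) 0 1 = 1 := by
      show dec gB 0 1 = 1
      simp [dec, gB]
    rw [h2] at h1
    revert h1; decide

lemma ua4_ub_order : orderOf (ua ^ 4 * ub) = 10 := by
  have hc : Commute (ua ^ 4) ub := by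
    apply Units.ext
    rw [Units.val_mul, Units.val_mul, ua4, neg_one_mul, mul_neg_one]
  rw [hc.orderOf_mul_eq_mul_orderOf_of_coprime (by rw [ua4_order, ub_order]; decide),
    ua4_order, ub_order]

lemma x12_val : ((ua * ub * ub : M4.Matˣ) : M4.Mat) = dec x12 := by
  rw [Units.val_mul, Units.val_mul]
  show dec gA * dec gB * dec gB = dec x12
  rw [← dec_mul, ← dec_mul, gens_ok.2.2.2.2.2.2.2.2.2.1]

lemma x12_order : orderOf (ua * ub * ub) = 12 := by
  have h2 : dec x12 ^ 2 = dec x12_2 := by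
    rw [pow_two, ← dec_mul, gens_ok.2.2.2.2.2.2.2.2.2.2.1]
  have h4 : dec x12 ^ 4 = dec x12_4 := by
    have h : dec x12 ^ 4 = (dec x12 ^ 2) ^ 2 := pow_mul (dec x12) 2 2
    rw [h, h2, pow_two, ← dec_mul, gens_ok.2.2.2.2.2.2.2.2.2.2.2.1]
  have h6 : dec x12 ^ 6 = -1 := by
    have h : dec x12 ^ 6 = dec x12 ^ 4 * dec x12 ^ 2 := pow_add (dec x12) 4 2
    rw [h, h4, h2, ← dec_mul, gens_ok.2.2.2.2.2.2.2.2.2.2.2.2, dec_negone]
  have h12 : dec x12 ^ 12 = 1 := by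
    have h : dec x12 ^ 12 = (dec x12 ^ 6) ^ 2 := pow_mul (dec x12) 6 2
    rw [h, h6, neg_one_sq]
  have h4ne : dec x12 ^ 4 ≠ 1 := by
    rw [h4]
    intro h
    have h1 := congrFun (congrFun h 0) 1
    have h2 : dec x12_4 0 1 = 6 := by
      simp [dec, x12_4]
    rw [h2] at h1
    simp at h1
    revert h1; decide
  have h6ne : dec x12 ^ 6 ≠ 1 := by
    rw [h6]; exact neg_one_ne_one
  have key : ∀ n : ℕ, (ua * ub * ub) ^ n = 1 ↔ dec x12 ^ n = 1 := by
    intro n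
    rw [← x12_val, ← Units.val_pow_eq_pow_val]
    constructor
    · intro h; rw [h]; rfl
    · intro h; exact Units.ext h
  apply orderOf_eq_of_pow_and_pow_div_prime (by norm_num) ((key 12).2 h12)
  intro p hp hd
  have hp' : p = 2 ∨ p = 3 := by
    have hle := Nat.le_of_dvd (by norm_num) hd
    interval_cases p <;>
      first | (exfalso; revert hd; decide) | (exfalso; revert hp; decide) | (left; rfl) |
        (right; rfl)
  rcases hp' with rfl | rfl
  · rw [Ne, key]; exact h6ne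
  · rw [Ne, key]; exact h4ne

theorem hyp_QQ (k : ℕ) : Hyp QQ (Fin (k + 1) → V7) zz where
  z_central := zz_central
  z_sq := zz_sq
  z_ne := zz_ne
  exp7 w := by
    funext i
    exact V7_exp (w i)
  z_neg := zz_neg (k + 1)
  cls := cls_QQ (k + 1)
  ex8 := ⟨⟨ua, ua_mem⟩, by rw [orderOf_QQ, ua_order]⟩
  ex10 := ⟨⟨ua ^ 4 * ub, mul_mem (pow_mem ua_mem 4) ub_mem⟩, by
    rw [orderOf_QQ, ua4_ub_order]⟩
  ex12 := ⟨⟨ua * ub * ub, mul_mem (mul_mem ua_mem ub_mem) ub_mem⟩, by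
    rw [orderOf_QQ, x12_order]⟩
  exW := by
    refine ⟨fun _ => (fun _ => (1 : ZMod 7) : Fin 4 → ZMod 7), ?_⟩
    intro h
    have h1 : (1 : ZMod 7) = 0 := congrFun (congrFun h 0) 0
    revert h1; decide

theorem main_S3489 (N : ℕ) : ∃ (H : Type) (_ : Group H) (_ : Fintype H), N < Fintype.card H ∧
    Set.range (orderOf : H → ℕ) = Set.range (orderOf : alternatingGroup (Fin 10) → ℕ) := by
  have hyp := hyp_QQ N
  refine ⟨HH zz (Fin (N + 1) → V7), inferInstance, inferInstance, ?_, ?_⟩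
  · apply card_lt
    rw [Nat.card_fun, card_V7, Nat.card_fin]
    calc N < 2 ^ N := Nat.lt_two_pow_self
      _ ≤ (7 ^ 4) ^ N := Nat.pow_le_pow_left (by norm_num) N
      _ ≤ (7 ^ 4) ^ (N + 1) := Nat.pow_le_pow_right (by norm_num) (Nat.le_succ N)
  · rw [range_orderOf hyp, a10_range]

end Cfsg.Agent.Helper16.TU
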