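import Mathlib
import Cfsg.Agent.Lib.Helper10.IsolatedInv
import Cfsg.Agent.Lib.Helper10.ThompsonOrder

/-!
# Involutions whose centralizer contains exactly three involutions: basic tools

`Triple x b c` says that `x, b, c = x b` are the only involutions commuting with `x`.
The main result of this file is `Triple.false_of_isConj`: in a non-abelian simple group
it is impossible that `x` is conjugate to `b` but not to `c`.
-/

set_option autoImplicit false

namespace Cfsg.Agent.Helper16.ThreeInv

variable {G : Type*} [Group G]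

theorem sq_of_inv {u : G} (hu : orderOf u = 2) : u * u = 1 := by
  rw [← pow_two, ← hu]; exact pow_orderOf_eq_one u

theorem ne_one_of_inv {u : G} (hu : orderOf u = 2) : u ≠ 1 := by
  rintro rfl
  rw [orderOf_one] at hu
  omega

theorem inv_of_sq {u : G} (h1 : u ≠ 1) (h2 : u * u = 1) : orderOf u = 2 := by
  have : Fact (Nat.Prime 2) := ⟨Nat.prime_two⟩
  rw [orderOf_eq_prime_iff]
  exact ⟨by rw [pow_two]; exact h2, h1⟩

theorem inv_eq_of_inv {u : G} (hu : orderOf u = 2) : u⁻¹ = u :=
  inv_eq_of_mul_eq_one_left (sq_of_inv hu)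

theorem orderOf_conj' (g u : G) : orderOf (g * u * g⁻¹) = orderOf u := by
  have : g * u * g⁻¹ = MulAut.conj g u := by simp [MulAut.conj_apply]
  rw [this, MulEquiv.orderOf_eq]

theorem inv_mul_of_commute {u v : G} (hu : orderOf u = 2) (hv : orderOf v = 2)
    (huv : u * v = v * u) (hne : u ≠ v) : orderOf (u * v) = 2 := by
  apply inv_of_sq
  · intro h
    apply hne
    have h1 := eq_inv_of_mul_eq_one_left h
    rw [h1, inv_eq_of_inv hv]
  · calc u * v * (u * v) = u * (v * u) * v := by group
      _ = u * (u * v) * v := by rw [huv]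
      _ = (u * u) * (v * v) := by group
      _ = 1 := by rw [sq_of_inv hu, sq_of_inv hv, one_mul]

/-- The central involution of a dihedral group of order divisible by `4`. -/
theorem exists_central_inv_of_even [Finite G] {s t : G} (hs : orderOf s = 2) (ht : orderOf t = 2)
    (heven : Even (orderOf (s * t))) :
    ∃ m : ℕ, orderOf ((s * t) ^ m) = 2 ∧ (s * t) ^ m * s = s * (s * t) ^ m ∧
      (s * t) ^ m * t = t * (s * t) ^ m := by
  have hs2 := sq_of_inv hs
  have ht2 := sq_of_inv ht
  have hpos : 0 < orderOf (s * t) := orderOf_pos _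
  obtain ⟨m, hm⟩ := heven
  have hu2 : (s * t) ^ m * (s * t) ^ m = 1 := by
    rw [← pow_add, ← hm]; exact pow_orderOf_eq_one _
  have hu1 : (s * t) ^ m ≠ 1 := by
    intro h
    have := orderOf_dvd_of_pow_eq_one h
    have h2 : orderOf (s * t) ≤ m := Nat.le_of_dvd (by omega) this
    omega
  have huo : orderOf ((s * t) ^ m) = 2 := inv_of_sq hu1 hu2
  have hinv : (((s * t)⁻¹) ^ m) = (s * t) ^ m := by
    rw [inv_pow, inv_eq_of_inv huo]
  refine ⟨m, huo, ?_, ?_⟩
  · have h1 := Cfsg.Agent.Helper10.conj_pow_of_invol hs2 ht2 m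
    rw [hinv] at h1
    calc (s * t) ^ m * s = (s * (s * t) ^ m * s) * s := by rw [h1]
      _ = s * (s * t) ^ m * (s * s) := by group
      _ = s * (s * t) ^ m := by rw [hs2, mul_one]
  · have h1 := Cfsg.Agent.Helper10.conj_pow_of_invol' hs2 ht2 m
    rw [hinv] at h1
    calc (s * t) ^ m * t = (t * (s * t) ^ m * t) * t := by rw [h1]
      _ = t * (s * t) ^ m * (t * t) := by group
      _ = t * (s * t) ^ m := by rw [ht2, mul_one]

/-- The central involution of the dihedral group generated by two non-conjugate involutions. -/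
theorem exists_central_inv [Finite G] {s t : G} (hs : orderOf s = 2) (ht : orderOf t = 2)
    (hnc : ¬ IsConj s t) :
    ∃ m : ℕ, orderOf ((s * t) ^ m) = 2 ∧ (s * t) ^ m * s = s * (s * t) ^ m ∧
      (s * t) ^ m * t = t * (s * t) ^ m := by
  apply exists_central_inv_of_even hs ht
  rcases Nat.even_or_odd (orderOf (s * t)) with h | h
  · exact h
  · exact absurd
      (Cfsg.Agent.Helper10.isConj_of_odd_order_mul (sq_of_inv hs) (sq_of_inv ht) h) hnc

/-- Two involutions whose product has odd order `2 j + 1` are conjugate by the `j`-th power of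
the product. -/
theorem conj_pow_eq_of_odd {a b : G} (ha : orderOf a = 2) (hb : orderOf b = 2) {j : ℕ}
    (hj : orderOf (a * b) = 2 * j + 1) : (a * b) ^ j * a * ((a * b) ^ j)⁻¹ = b := by
  have ha2 := sq_of_inv ha
  have hb2 := sq_of_inv hb
  have h1 := Cfsg.Agent.Helper10.conj_pow_of_invol ha2 hb2 j
  set d := a * b with hd
  have hd1 : d ^ (2 * j) * d = 1 := by
    rw [← pow_succ, ← hj]; exact pow_orderOf_eq_one d
  have h2 : d ^ j * a = a * (d ^ j)⁻¹ := by
    calc d ^ j * a = (a * a) * d ^ j * a := by rw [ha2, one_mul]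
      _ = a * (a * d ^ j * a) := by group
      _ = a * (d ^ j)⁻¹ := by rw [h1, inv_pow]
  have h3 : (d ^ j)⁻¹ * (d ^ j)⁻¹ = d := by
    have : (d ^ j)⁻¹ * (d ^ j)⁻¹ = (d ^ (2 * j))⁻¹ := by
      rw [two_mul, pow_add, mul_inv_rev]
    rw [this]
    exact inv_eq_of_mul_eq_one_right hd1
  calc d ^ j * a * (d ^ j)⁻¹ = a * ((d ^ j)⁻¹ * (d ^ j)⁻¹) := by rw [h2, mul_assoc]
    _ = a * d := by rw [h3]
    _ = (a * a) * b := by rw [hd, mul_assoc]
    _ = b := by rw [ha2, one_mul]

/-- In a simple group, if all conjugates of `c ≠ 1` commute with each other then the group is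
commutative. -/
theorem comm_of_conj_commute [IsSimpleGroup G] {c : G} (hc1 : c ≠ 1)
    (h : ∀ g k : G, (k * c * k⁻¹) * (g * c * g⁻¹) = (g * c * g⁻¹) * (k * c * k⁻¹)) :
    ∀ y z : G, y * z = z * y := by
  have hN : Subgroup.normalClosure ({c} : Set G) = ⊤ := by
    rcases (Subgroup.normalClosure_normal (s := ({c} : Set G))).eq_bot_or_eq_top with h0 | h0
    · exfalso
      apply hc1
      have : c ∈ Subgroup.normalClosure ({c} : Set G) :=
        Subgroup.subset_normalClosure (Set.mem_singleton c)
      rw [h0] at this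
      exact Subgroup.mem_bot.mp this
    · exact h0
  have hS : ∀ a ∈ Group.conjugatesOfSet ({c} : Set G), ∃ g : G, a = g * c * g⁻¹ := by
    intro a ha
    rw [Group.mem_conjugatesOfSet_iff] at ha
    obtain ⟨a0, ha0, hconj⟩ := ha
    rw [Set.mem_singleton_iff] at ha0
    subst ha0
    rw [isConj_iff] at hconj
    obtain ⟨g, hg⟩ := hconj
    exact ⟨g, hg.symm⟩
  -- every element commutes with every conjugate
  have h1 : ∀ y : G, ∀ a ∈ Group.conjugatesOfSet ({c} : Set G), a * y = y * a := by
    intro y
    have hy : y ∈ Subgroup.normalClosure ({c} : Set G) := by rw [hN]; trivial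
    have hle : Subgroup.normalClosure ({c} : Set G) ≤
        Subgroup.centralizer (Group.conjugatesOfSet ({c} : Set G)) := by
      unfold Subgroup.normalClosure
      rw [Subgroup.closure_le]
      intro a ha
      rw [SetLike.mem_coe, Subgroup.mem_centralizer_iff]
      intro a' ha'
      obtain ⟨g, rfl⟩ := hS a ha
      obtain ⟨k, rfl⟩ := hS a' ha'
      exact h g k
    have := hle hy
    rw [Subgroup.mem_centralizer_iff] at this
    exact this
  intro y z
  have hz : z ∈ Subgroup.normalClosure ({c} : Set G) := by rw [hN]; trivial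
  have hle : Subgroup.normalClosure ({c} : Set G) ≤ Subgroup.centralizer ({y} : Set G) := by
    unfold Subgroup.normalClosure
    rw [Subgroup.closure_le]
    intro a ha
    rw [SetLike.mem_coe, Subgroup.mem_centralizer_iff]
    intro y' hy'
    rw [Set.mem_singleton_iff] at hy'
    subst hy'
    exact (h1 y' a ha).symm
  have := hle hz
  rw [Subgroup.mem_centralizer_iff] at this
  exact this y (Set.mem_singleton y)

/-- In a simple group, an element commuting with all conjugates of `c ≠ 1` is central. -/
theorem commute_all_of_commute_conj [IsSimpleGroup G] {b c : G} (hc1 : c ≠ 1)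
    (h : ∀ g : G, b * (g * c * g⁻¹) = (g * c * g⁻¹) * b) : ∀ y : G, b * y = y * b := by
  have hN : Subgroup.normalClosure ({c} : Set G) = ⊤ := by
    rcases (Subgroup.normalClosure_normal (s := ({c} : Set G))).eq_bot_or_eq_top with h0 | h0
    · exfalso
      apply hc1
      have : c ∈ Subgroup.normalClosure ({c} : Set G) :=
        Subgroup.subset_normalClosure (Set.mem_singleton c)
      rw [h0] at this
      exact Subgroup.mem_bot.mp this
    · exact h0
  intro y
  have hy : y ∈ Subgroup.normalClosure ({c} : Set G) := by rw [hN]; trivial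
  have hle : Subgroup.normalClosure ({c} : Set G) ≤ Subgroup.centralizer ({b} : Set G) := by
    unfold Subgroup.normalClosure
    rw [Subgroup.closure_le]
    intro a ha
    rw [SetLike.mem_coe, Subgroup.mem_centralizer_iff]
    intro b' hb'
    rw [Set.mem_singleton_iff] at hb'
    subst hb'
    rw [Group.mem_conjugatesOfSet_iff] at ha
    obtain ⟨a0, ha0, hconj⟩ := ha
    rw [Set.mem_singleton_iff] at ha0
    subst ha0
    rw [isConj_iff] at hconj
    obtain ⟨g, hg⟩ := hconj
    rw [← hg]
    exact h g
  have := hle hy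
  rw [Subgroup.mem_centralizer_iff] at this
  exact this b (Set.mem_singleton b)

/-- `x, b, c = x b` are exactly the involutions commuting with the involution `x`. -/
structure Triple (x b c : G) : Prop where
  hx : orderOf x = 2
  hb : orderOf b = 2
  hbx : b ≠ x
  comm : x * b = b * x
  hc : c = x * b
  all : ∀ u : G, orderOf u = 2 → u * x = x * u → u = x ∨ u = b ∨ u = c

namespace Triple

variable {x b c : G}

theorem hc2 (h : Triple x b c) : orderOf c = 2 := by
  rw [h.hc]; exact inv_mul_of_commute h.hx h.hb h.comm (Ne.symm h.hbx)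

theorem hcx (h : Triple x b c) : c ≠ x := by
  intro h1
  apply ne_one_of_inv h.hb
  have : x * b = x * 1 := by rw [mul_one, ← h.hc, h1]
  exact mul_left_cancel this

theorem hcb (h : Triple x b c) : c ≠ b := by
  intro h1
  apply ne_one_of_inv h.hx
  have : x * b = 1 * b := by rw [one_mul, ← h.hc, h1]
  exact mul_right_cancel this

theorem xc (h : Triple x b c) : x * c = b := by
  rw [h.hc, ← mul_assoc, sq_of_inv h.hx, one_mul]

theorem commc (h : Triple x b c) : x * c = c * x := by
  rw [h.xc, h.hc, h.comm, mul_assoc, sq_of_inv h.hx, mul_one]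

theorem symm (h : Triple x b c) : Triple x c b where
  hx := h.hx
  hb := h.hc2
  hbx := h.hcx
  comm := h.commc
  hc := h.xc.symm
  all := by
    intro u hu hux
    rcases h.all u hu hux with h1 | h1 | h1
    · exact Or.inl h1
    · exact Or.inr (Or.inr h1)
    · exact Or.inr (Or.inl h1)

theorem conj (h : Triple x b c) (g : G) : Triple (g * x * g⁻¹) (g * b * g⁻¹) (g * c * g⁻¹) where
  hx := by rw [orderOf_conj']; exact h.hx
  hb := by rw [orderOf_conj']; exact h.hb
  hbx := by
    intro h1
    apply h.hbx
    have := mul_right_cancel h1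
    exact mul_left_cancel this
  comm := by
    calc g * x * g⁻¹ * (g * b * g⁻¹) = g * (x * b) * g⁻¹ := by group
      _ = g * (b * x) * g⁻¹ := by rw [h.comm]
      _ = g * b * g⁻¹ * (g * x * g⁻¹) := by group
  hc := by rw [h.hc]; group
  all := by
    intro u hu hux
    have hu' : orderOf (g⁻¹ * u * g) = 2 := by
      have := orderOf_conj' g⁻¹ u
      rw [inv_inv] at this
      rw [this]; exact hu
    have hux' : g⁻¹ * u * g * x = x * (g⁻¹ * u * g) := by
      calc g⁻¹ * u * g * x = g⁻¹ * (u * (g * x * g⁻¹)) * g := by group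
        _ = g⁻¹ * ((g * x * g⁻¹) * u) * g := by rw [hux]
        _ = x * (g⁻¹ * u * g) := by group
    have key : ∀ v : G, g⁻¹ * u * g = v → u = g * v * g⁻¹ := by
      intro v hv
      rw [← hv]; group
    rcases h.all _ hu' hux' with h1 | h1 | h1
    · exact Or.inl (key _ h1)
    · exact Or.inr (Or.inl (key _ h1))
    · exact Or.inr (Or.inr (key _ h1))

/-- If `x` is conjugate to `b` but not to `c` then `b, x, c` is again such a triple. -/
theorem of_isConj (h : Triple x b c) (hxb : IsConj x b) (hxc : ¬ IsConj x c) : Triple b x c := by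
  rw [isConj_iff] at hxb
  obtain ⟨k, hk⟩ := hxb
  have hT := h.conj k
  rw [hk] at hT
  -- `c` commutes with `b`
  have hcb' : c * b = b * c := by
    rw [h.hc]
    calc x * b * b = (x * b) * b := rfl
      _ = (b * x) * b := by rw [h.comm]
      _ = b * (x * b) := by rw [mul_assoc]
  have hc_eq : c = k * c * k⁻¹ := by
    rcases hT.all c h.hc2 hcb' with h1 | h1 | h1
    · exact absurd h1 h.hcb
    · exfalso
      apply hxc
      -- c = k b k⁻¹ is conjugate to b, which is conjugate to x
      have h2 : IsConj x b := isConj_iff.mpr ⟨k, hk⟩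
      have h3 : IsConj b c := isConj_iff.mpr ⟨k, h1.symm⟩
      exact h2.trans h3
    · exact h1
  have hx_eq : x = k * b * k⁻¹ := by
    rcases hT.all x h.hx h.comm with h1 | h1 | h1
    · exact absurd h1.symm h.hbx
    · exact h1
    · exfalso
      apply h.hcx
      rw [hc_eq]; exact h1.symm
  rw [← hx_eq, ← hc_eq] at hT
  exact hT

/-- **Key lemma.** In a non-abelian simple group, `x` cannot be conjugate to `b` without being
conjugate to `c`. -/
theorem false_of_isConj [Finite G] [IsSimpleGroup G] (hna : ¬ ∀ y z : G, y * z = z * y)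
    (h : Triple x b c) (hxb : IsConj x b) (hxc : ¬ IsConj x c) : False := by
  apply hna
  apply comm_of_conj_commute (ne_one_of_inv h.hc2)
  intro g k
  -- `c' = k c k⁻¹` commutes with `g c g⁻¹`
  set c' := k * c * k⁻¹ with hc'
  have hc'o : orderOf c' = 2 := by rw [hc', orderOf_conj']; exact h.hc2
  have hTg := h.conj g
  have hTb := (h.of_isConj hxb hxc).conj g
  have hconj_x : IsConj x (g * x * g⁻¹) := isConj_iff.mpr ⟨g, rfl⟩
  have hconj_c : IsConj c c' := isConj_iff.mpr ⟨k, rfl⟩
  have hnc : ¬ IsConj (g * x * g⁻¹) c' := by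
    intro h1
    exact hxc ((hconj_x.trans h1).trans hconj_c.symm)
  have hnx : c' ≠ g * x * g⁻¹ := by
    intro h1
    apply hnc
    rw [h1]
  have hnb : c' ≠ g * b * g⁻¹ := by
    intro h1
    apply hnc
    rw [h1]
    have : IsConj x (g * b * g⁻¹) := hxb.trans (isConj_iff.mpr ⟨g, rfl⟩)
    exact hconj_x.symm.trans this
  obtain ⟨m, hu, hus, hut⟩ := exists_central_inv hTg.hx hc'o hnc
  set u := (g * x * g⁻¹ * c') ^ m with hu_def
  rcases hTg.all u hu hus with h1 | h1 | h1
  · -- u = x'
    rw [h1] at hut
    rcases hTg.all c' hc'o hut.symm with h2 | h2 | h2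
    · exact absurd h2 hnx
    · exact absurd h2 hnb
    · rw [h2]
  · -- u = b'
    rw [h1] at hut
    rcases hTb.all c' hc'o hut.symm with h2 | h2 | h2
    · exact absurd h2 hnb
    · exact absurd h2 hnx
    · rw [h2]
  · -- u = c^g
    rw [h1] at hut
    exact hut.symm

end Triple

end Cfsg.Agent.Helper16.ThreeInv
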