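import Mathlib
import Cfsg.Agent.Lib.Helper16.ThreeInvA
import Cfsg.Agent.Lib.Helper16.Basic
import Cfsg.Agent.Lib.Helper16.PGroup2

/-!
# Involutions whose centralizer contains at most three involutions: Sylow part

* `exists_sylow_le_centralizer`: in a non-abelian simple group such an involution centralizes
  a Sylow `2`-subgroup;
* `Triple.false_of_three_classes`: the three involutions cannot be pairwise non-conjugate.
-/

set_option autoImplicit false

namespace Cfsg.Agent.Helper16.ThreeInv

open scoped Pointwise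

variable {G : Type*} [Group G]

/-- A nontrivial finite `2`-subgroup has a central involution. -/
theorem exists_central_inv_of_two_group [Finite G] (S : Subgroup G) (hS : IsPGroup 2 S) {x : G}
    (hxS : x ∈ S) (hx1 : x ≠ 1) :
    ∃ z ∈ S, orderOf z = 2 ∧ ∀ s ∈ S, s * z = z * s := by
  have : Fact (Nat.Prime 2) := ⟨Nat.prime_two⟩
  have hnt : Nontrivial S :=
    ⟨⟨⟨x, hxS⟩, 1, by intro h; apply hx1; exact congrArg Subtype.val h⟩⟩
  have hcnt : Nontrivial (Subgroup.center S) := hS.center_nontrivial
  have hcp : IsPGroup 2 (Subgroup.center S) := hS.to_subgroup _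
  obtain ⟨n, hn0, hn⟩ := hcp.nontrivial_iff_card.mp hcnt
  have hdvd : 2 ∣ Nat.card (Subgroup.center S) := by
    rw [hn]; exact dvd_pow_self 2 (by omega)
  obtain ⟨z, hz⟩ := exists_prime_orderOf_dvd_card' 2 hdvd
  refine ⟨((z : S) : G), (z : S).2, ?_, ?_⟩
  · rw [Subgroup.orderOf_coe, Subgroup.orderOf_coe]; exact hz
  · intro s hs
    have := Subgroup.mem_center_iff.mp z.2 ⟨s, hs⟩
    exact congrArg Subtype.val this

theorem exists_conj_mem_of_inv [Finite G] (S : Sylow 2 G) {v : G} (hv : orderOf v = 2) :
    ∃ k : G, k * v * k⁻¹ ∈ (S : Subgroup G) := by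
  have : Fact (Nat.Prime 2) := ⟨Nat.prime_two⟩
  have hA : IsPGroup 2 (Subgroup.zpowers v) :=
    IsPGroup.of_card (n := 1) (by rw [Nat.card_zpowers, hv, pow_one])
  obtain ⟨k, hk⟩ := Cfsg.Agent.Helper16.exists_conj_le_sylow hA S
  exact ⟨k, hk v (Subgroup.mem_zpowers v)⟩

theorem exists_sylow_conj [Finite G] (S : Sylow 2 G) (k : G) :
    ∃ S' : Sylow 2 G, ∀ s : G, s ∈ (S' : Subgroup G) ↔ k⁻¹ * s * k ∈ (S : Subgroup G) := by
  refine ⟨k • S, fun s => ?_⟩
  rw [Sylow.coe_subgroup_smul, Subgroup.mem_pointwise_smul_iff_inv_smul_mem]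
  simp [MulAut.smul_def]

/-- In a simple group a nontrivial central element forces commutativity. -/
theorem comm_of_central [IsSimpleGroup G] {b : G} (hb1 : b ≠ 1) (h : ∀ y : G, b * y = y * b) :
    ∀ y z : G, y * z = z * y := by
  have hb : b ∈ Subgroup.center G := by
    rw [Subgroup.mem_center_iff]
    intro g
    exact (h g).symm
  have hN : Subgroup.center G = ⊤ := by
    rcases (inferInstance : (Subgroup.center G).Normal).eq_bot_or_eq_top with h0 | h0
    · exfalso
      apply hb1
      rw [h0] at hb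
      exact Subgroup.mem_bot.mp hb
    · exact h0
  intro y z
  have hz : z ∈ Subgroup.center G := by rw [hN]; trivial
  rw [Subgroup.mem_center_iff] at hz
  exact hz y

/-- **Step 1.** An involution of a non-abelian simple group whose centralizer contains at most
three involutions centralizes a Sylow `2`-subgroup. -/
theorem exists_sylow_le_centralizer [Finite G] [IsSimpleGroup G]
    (hna : ¬ ∀ y z : G, y * z = z * y) {x : G} (hx : orderOf x = 2)
    (h : (∀ u : G, orderOf u = 2 → u * x = x * u → u = x) ∨ ∃ b c, Triple x b c) :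
    ∃ S : Sylow 2 G, ∀ s ∈ (S : Subgroup G), s * x = x * s := by
  have : Fact (Nat.Prime 2) := ⟨Nat.prime_two⟩
  have hA : IsPGroup 2 (Subgroup.zpowers x) :=
    IsPGroup.of_card (n := 1) (by rw [Nat.card_zpowers, hx, pow_one])
  obtain ⟨S, hS⟩ := hA.exists_le_sylow
  have hxS : x ∈ (S : Subgroup G) := hS (Subgroup.mem_zpowers x)
  obtain ⟨z, hzS, hz, hzc⟩ :=
    exists_central_inv_of_two_group (S : Subgroup G) S.isPGroup' hxS (ne_one_of_inv hx)
  have hzx : z * x = x * z := (hzc x hxS).symm
  by_cases hzx_eq : z = x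
  · exact ⟨S, fun s hs => by rw [← hzx_eq]; exact hzc s hs⟩
  rcases h with h | ⟨b, c, hT⟩
  · exact absurd (h z hz hzx) hzx_eq
  have main : ∀ b c : G, Triple x b c → z = c →
      ∃ S : Sylow 2 G, ∀ s ∈ (S : Subgroup G), s * x = x * s := by
    intro b c hT hzc_eq
    subst hzc_eq
    by_cases hconj : IsConj x z
    · rw [isConj_comm, isConj_iff] at hconj
      obtain ⟨k, hk⟩ := hconj
      obtain ⟨S', hS'⟩ := exists_sylow_conj S k
      refine ⟨S', fun s hs => ?_⟩
      have h1 := hzc _ ((hS' s).mp hs)
      rw [← hk]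
      calc s * (k * z * k⁻¹) = k * ((k⁻¹ * s * k) * z) * k⁻¹ := by group
        _ = k * (z * (k⁻¹ * s * k)) * k⁻¹ := by rw [h1]
        _ = k * z * k⁻¹ * s := by group
    · refine ⟨S, ?_⟩
      by_contra hcon
      push Not at hcon
      obtain ⟨s0, hs0S, hs0⟩ := hcon
      set K := (S : Subgroup G) ⊓ Subgroup.centralizer ({x} : Set G) with hK
      have hKS : K ≤ (S : Subgroup G) := inf_le_left
      have hmemK : ∀ y : G, y ∈ K ↔ y ∈ (S : Subgroup G) ∧ x * y = y * x := by
        intro y
        rw [hK, Subgroup.mem_inf, Subgroup.mem_centralizer_iff]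
        constructor
        · rintro ⟨h1, h2⟩
          exact ⟨h1, h2 x (Set.mem_singleton x)⟩
        · rintro ⟨h1, h2⟩
          refine ⟨h1, fun y' hy' => ?_⟩
          rw [Set.mem_singleton_iff] at hy'
          subst hy'
          exact h2
      have hne : K ≠ (S : Subgroup G) := by
        intro h1
        have : s0 ∈ K := by rw [h1]; exact hs0S
        exact hs0 ((hmemK s0).mp this).2.symm
      obtain ⟨r, hrS, hrK, hr1, -⟩ :=
        Cfsg.Agent.Helper16.exists_normalizing_not_mem (S : Subgroup G) K S.isPGroup' hKS hne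
      have hxK : x ∈ K := (hmemK x).mpr ⟨hxS, rfl⟩
      have h1 := (hmemK _).mp (hr1 x hxK)
      have hy : orderOf (r * x * r⁻¹) = 2 := by rw [orderOf_conj']; exact hx
      have hconj_y : IsConj x (r * x * r⁻¹) := isConj_iff.mpr ⟨r, rfl⟩
      rcases hT.all _ hy h1.2.symm with h2 | h2 | h2
      · -- `r` centralizes `x`
        apply hrK
        rw [hmemK]
        refine ⟨hrS, ?_⟩
        calc x * r = (r * x * r⁻¹) * r := by rw [h2]
          _ = r * x := by group
      · rw [h2] at hconj_y
        exact hT.false_of_isConj hna hconj_y hconj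
      · rw [h2] at hconj_y
        exact hconj hconj_y
  rcases hT.all z hz hzx with h1 | h1 | h1
  · exact absurd h1 hzx_eq
  · exact main c b hT.symm h1
  · exact main b c hT h1

/-- Every involution is conjugate to one of the three involutions of the triple. -/
theorem Triple.isConj_cases [Finite G] {x b c : G} (hT : Triple x b c) (S : Sylow 2 G)
    (hS : ∀ s ∈ (S : Subgroup G), s * x = x * s) {v : G} (hv : orderOf v = 2) :
    IsConj x v ∨ IsConj b v ∨ IsConj c v := by
  obtain ⟨k, hk⟩ := exists_conj_mem_of_inv S hv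
  have h1 : orderOf (k * v * k⁻¹) = 2 := by rw [orderOf_conj']; exact hv
  have hc : IsConj (k * v * k⁻¹) v := (isConj_iff.mpr ⟨k, rfl⟩ : IsConj v (k * v * k⁻¹)).symm
  rcases hT.all _ h1 (hS _ hk) with h2 | h2 | h2 <;> rw [h2] at hc
  · exact Or.inl hc
  · exact Or.inr (Or.inl hc)
  · exact Or.inr (Or.inr hc)

/-- **Three classes are impossible.** -/
theorem Triple.false_of_three_classes [Finite G] [IsSimpleGroup G]
    (hna : ¬ ∀ y z : G, y * z = z * y) {x b c : G} (hT : Triple x b c) (S : Sylow 2 G)
    (hS : ∀ s ∈ (S : Subgroup G), s * x = x * s)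
    (hxb : ¬ IsConj x b) (hxc : ¬ IsConj x c) (hbc : ¬ IsConj b c) : False := by
  have : Fact (Nat.Prime 2) := ⟨Nat.prime_two⟩
  -- conjugate involutions of `S` are equal
  have hinj : ∀ w w' : G, w ∈ (S : Subgroup G) → w' ∈ (S : Subgroup G) → orderOf w = 2 →
      orderOf w' = 2 → IsConj w w' → w = w' := by
    intro w w' hw hw' hwo hw'o hconj
    rcases hT.all w hwo (hS w hw) with h1 | h1 | h1 <;>
      rcases hT.all w' hw'o (hS w' hw') with h2 | h2 | h2
    · rw [h1, h2]
    · rw [h1, h2] at hconj; exact absurd hconj hxb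
    · rw [h1, h2] at hconj; exact absurd hconj hxc
    · rw [h1, h2] at hconj; exact absurd hconj.symm hxb
    · rw [h1, h2]
    · rw [h1, h2] at hconj; exact absurd hconj hbc
    · rw [h1, h2] at hconj; exact absurd hconj.symm hxc
    · rw [h1, h2] at hconj; exact absurd hconj.symm hbc
    · rw [h1, h2]
  -- commuting conjugate involutions are equal
  have hF : ∀ v v' : G, orderOf v = 2 → IsConj v v' → v' * v = v * v' → v' = v := by
    intro v v' hv hconj hcomm
    have hv' : orderOf v' = 2 := by
      obtain ⟨k, hk⟩ := isConj_iff.mp hconj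
      rw [← hk, orderOf_conj']; exact hv
    have hA : IsPGroup 2 (Subgroup.zpowers v) :=
      IsPGroup.of_card (n := 1) (by rw [Nat.card_zpowers, hv, pow_one])
    have hA' : IsPGroup 2 (Subgroup.zpowers v') :=
      IsPGroup.of_card (n := 1) (by rw [Nat.card_zpowers, hv', pow_one])
    have hnorm : Subgroup.zpowers v ≤ Subgroup.normalizer (Subgroup.zpowers v' : Set G) := by
      rw [Subgroup.zpowers_le]
      apply Subgroup.centralizer_le_normalizer
      rw [Subgroup.mem_centralizer_iff]
      intro y hy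
      obtain ⟨n, rfl⟩ := Subgroup.mem_zpowers_iff.mp hy
      exact ((show Commute v' v from hcomm).zpow_left n).eq
    have hQ : IsPGroup 2 ↥(Subgroup.zpowers v ⊔ Subgroup.zpowers v') :=
      hA.to_sup_of_normal_right' hA' hnorm
    obtain ⟨k, hk⟩ := Cfsg.Agent.Helper16.exists_conj_le_sylow hQ S
    have h1 := hk v ((le_sup_left : Subgroup.zpowers v ≤ _) (Subgroup.mem_zpowers v))
    have h2 := hk v' ((le_sup_right : Subgroup.zpowers v' ≤ _) (Subgroup.mem_zpowers v'))
    have h3 : IsConj (k * v * k⁻¹) (k * v' * k⁻¹) :=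
      ((isConj_iff.mpr ⟨k, rfl⟩ : IsConj v (k * v * k⁻¹)).symm.trans hconj).trans
        (isConj_iff.mpr ⟨k, rfl⟩)
    have h4 := hinj _ _ h1 h2 (by rw [orderOf_conj']; exact hv) (by rw [orderOf_conj']; exact hv') h3
    have h5 := mul_right_cancel h4
    exact (mul_left_cancel h5).symm
  -- `b` commutes with every conjugate of `c`
  have hbc_comm : b * c = c * b := by
    rw [hT.hc]
    calc b * (x * b) = (b * x) * b := by rw [mul_assoc]
      _ = (x * b) * b := by rw [hT.comm]
  have key : ∀ g : G, b * (g * c * g⁻¹) = (g * c * g⁻¹) * b := by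
    intro g
    set c' := g * c * g⁻¹ with hc'
    have hc'o : orderOf c' = 2 := by rw [hc', orderOf_conj']; exact hT.hc2
    have hcc' : IsConj c c' := isConj_iff.mpr ⟨g, rfl⟩
    have hnc : ¬ IsConj b c' := fun h1 => hbc (h1.trans hcc'.symm)
    obtain ⟨m, hu, hus, hut⟩ := exists_central_inv hT.hb hc'o hnc
    set u := (b * c') ^ m with hu_def
    rcases hT.isConj_cases S hS hu with h1 | h1 | h1
    · -- `u` conjugate to `x`
      obtain ⟨k, hk⟩ := isConj_iff.mp h1
      have hTk := hT.conj k
      rw [hk] at hTk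
      have hb_eq : b = k * b * k⁻¹ := by
        rcases hTk.all b hT.hb hus.symm with h2 | h2 | h2
        · exfalso; apply hxb; rw [h2]; exact h1
        · exact h2
        · exfalso; apply hbc
          have : IsConj c (k * c * k⁻¹) := isConj_iff.mpr ⟨k, rfl⟩
          rw [← h2] at this
          exact this.symm
      have hc_eq : c' = k * c * k⁻¹ := by
        rcases hTk.all c' hc'o hut.symm with h2 | h2 | h2
        · exfalso; apply hxc
          rw [← h2] at h1
          exact h1.trans hcc'.symm
        · exfalso; apply hbc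
          have : IsConj b (k * b * k⁻¹) := isConj_iff.mpr ⟨k, rfl⟩
          rw [← h2] at this
          exact this.trans hcc'.symm
        · exact h2
      rw [hc_eq]
      calc b * (k * c * k⁻¹) = (k * b * k⁻¹) * (k * c * k⁻¹) := by rw [← hb_eq]
        _ = k * (b * c) * k⁻¹ := by group
        _ = k * (c * b) * k⁻¹ := by rw [hbc_comm]
        _ = (k * c * k⁻¹) * (k * b * k⁻¹) := by group
        _ = (k * c * k⁻¹) * b := by rw [← hb_eq]
    · -- `u` conjugate to `b`
      have h2 := hF b u hT.hb h1 hus
      rw [h2] at hut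
      exact hut
    · -- `u` conjugate to `c`
      have h2 := hF c' u hc'o (hcc'.symm.trans h1) hut
      rw [h2] at hus
      exact hus.symm
  exact hna (comm_of_central (ne_one_of_inv hT.hb)
    (commute_all_of_commute_conj (ne_one_of_inv hT.hc2) key))

end Cfsg.Agent.Helper16.ThreeInv
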