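import Mathlib
import Cfsg.Agent.Lib.Helper16.ThreeInvB
import Cfsg.Agent.Lib.Helper16.TransferSign

/-!
# Involutions whose centralizer contains exactly three involutions: two classes

`Triple.false_of_two_classes`: in a non-abelian simple group it is impossible that `b` and `c`
are conjugate but not conjugate to `x`.  Then `x` is isolated, its centralizer controls fusion,
and the action of the centralizer on `{b, c}` gives (via transfer) a subgroup of index two.
-/

set_option autoImplicit false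

namespace Cfsg.Agent.Helper16.ThreeInv

variable {G : Type*} [Group G]

section sign

open scoped Classical in
/-- The sign of the action of a subgroup on a pair `{b, c}` which it permutes. -/
noncomputable def swapSign (K : Subgroup G) (b c : G) (hbc : b ≠ c)
    (hact : ∀ y ∈ K, (y * b * y⁻¹ = b ∧ y * c * y⁻¹ = c) ∨ (y * b * y⁻¹ = c ∧ y * c * y⁻¹ = b)) :
    ↥K →* ℤˣ :=
  MonoidHom.mk' (fun y => if (y : G) * b * (y : G)⁻¹ = b then 1 else -1) (by
    intro y z
    have hyz : ((y * z : ↥K) : G) * b * ((y * z : ↥K) : G)⁻¹ =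
        (y : G) * ((z : G) * b * (z : G)⁻¹) * (y : G)⁻¹ := by
      rw [Subgroup.coe_mul]; group
    simp only [hyz]
    rcases hact z z.2 with ⟨hz1, hz2⟩ | ⟨hz1, hz2⟩ <;>
      rcases hact y y.2 with ⟨hy1, hy2⟩ | ⟨hy1, hy2⟩
    · rw [hz1, hy1]; simp
    · rw [hz1, hy1]; simp [hbc.symm]
    · rw [hz1, hy2, hy1]; simp [hbc.symm]
    · rw [hz1, hy2, hy1]; simp [hbc.symm])

variable (K : Subgroup G) (b c : G) (hbc : b ≠ c)
  (hact : ∀ y ∈ K, (y * b * y⁻¹ = b ∧ y * c * y⁻¹ = c) ∨ (y * b * y⁻¹ = c ∧ y * c * y⁻¹ = b))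

theorem swapSign_of_fix (y : ↥K) (hy : (y : G) * b * (y : G)⁻¹ = b) :
    swapSign K b c hbc hact y = 1 := by
  unfold swapSign
  simp [hy]

theorem swapSign_of_swap (y : ↥K) (hy : (y : G) * b * (y : G)⁻¹ = c) :
    swapSign K b c hbc hact y = -1 := by
  unfold swapSign
  simp [hy, hbc.symm]

end sign

/-- **Two classes are impossible.** -/
theorem Triple.false_of_two_classes [Finite G] [IsSimpleGroup G]
    (hna : ¬ ∀ y z : G, y * z = z * y) {x b c : G} (hT : Triple x b c) (S : Sylow 2 G)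
    (hS : ∀ s ∈ (S : Subgroup G), s * x = x * s)
    (hxb : ¬ IsConj x b) (hxc : ¬ IsConj x c) (hbc : IsConj b c) : False := by
  have : Fact (Nat.Prime 2) := ⟨Nat.prime_two⟩
  have hx2 := sq_of_inv hT.hx
  -- (i) products of distinct conjugates of `x` have odd order
  have hodd : ∀ g : G, g * x * g⁻¹ ≠ x → Odd (orderOf (x * (g * x * g⁻¹))) := by
    intro g hne
    by_contra hno
    rw [Nat.not_odd_iff_even] at hno
    have hx'' : orderOf (g * x * g⁻¹) = 2 := by rw [orderOf_conj']; exact hT.hx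
    have hconj : IsConj x (g * x * g⁻¹) := isConj_iff.mpr ⟨g, rfl⟩
    obtain ⟨m, hu, hus, hut⟩ := exists_central_inv_of_even hT.hx hx'' hno
    have hdich := Cfsg.Agent.Helper10.isConj_mul_pow_of_invol hx2 (sq_of_inv hx'') m
    have hdich' : IsConj x (x * (x * (g * x * g⁻¹)) ^ m) := by
      rcases hdich with h1 | h1
      · exact h1
      · exact hconj.trans h1
    rcases hT.all _ hu hus with h1 | h1 | h1
    · -- `u = x`: then `x` commutes with its conjugate
      rw [h1] at hut
      rcases hT.all _ hx'' hut.symm with h2 | h2 | h2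
      · exact hne h2
      · rw [h2] at hconj; exact hxb hconj
      · rw [h2] at hconj; exact hxc hconj
    · rw [h1, ← hT.hc] at hdich'
      exact hxc hdich'
    · rw [h1, hT.xc] at hdich'
      exact hxb hdich'
  -- (ii) the centralizer of `x` controls fusion
  have hfus : ∀ s g : G, s * x = x * s → (g * s * g⁻¹) * x = x * (g * s * g⁻¹) →
      ∃ k : G, k * x = x * k ∧ k * s * k⁻¹ = g * s * g⁻¹ := by
    intro s g hsx hs'x
    by_cases hne : g * x * g⁻¹ = x
    · refine ⟨g, ?_, rfl⟩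
      calc g * x = (g * x * g⁻¹) * g := by group
        _ = x * g := by rw [hne]
    · obtain ⟨j, hj⟩ := hodd g hne
      have hx'' : orderOf (g * x * g⁻¹) = 2 := by rw [orderOf_conj']; exact hT.hx
      have hconj := conj_pow_eq_of_odd hT.hx hx'' hj
      set s' := g * s * g⁻¹ with hs'
      set x'' := g * x * g⁻¹ with hx''def
      -- `s'` commutes with `x''`
      have hs'x'' : s' * x'' = x'' * s' := by
        rw [hs', hx''def]
        calc g * s * g⁻¹ * (g * x * g⁻¹) = g * (s * x) * g⁻¹ := by group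
          _ = g * (x * s) * g⁻¹ := by rw [hsx]
          _ = g * x * g⁻¹ * (g * s * g⁻¹) := by group
      set ρ := x * x'' with hρ
      have hρs' : Commute (ρ ^ j) s' := by
        apply Commute.pow_left
        show ρ * s' = s' * ρ
        rw [hρ]
        calc x * x'' * s' = x * (x'' * s') := mul_assoc x x'' s'
          _ = x * (s' * x'') := by rw [hs'x'']
          _ = (x * s') * x'' := (mul_assoc x s' x'').symm
          _ = (s' * x) * x'' := by rw [hs'x]
          _ = s' * (x * x'') := mul_assoc s' x x''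
      refine ⟨(ρ ^ j)⁻¹ * g, ?_, ?_⟩
      · -- `k x k⁻¹ = x`
        have h1 : (ρ ^ j)⁻¹ * x'' * (ρ ^ j) = x := by
          rw [← hconj]; group
        calc (ρ ^ j)⁻¹ * g * x = ((ρ ^ j)⁻¹ * x'' * (ρ ^ j)) * ((ρ ^ j)⁻¹ * g) := by
              rw [hx''def]; group
          _ = x * ((ρ ^ j)⁻¹ * g) := by rw [h1]
      · calc (ρ ^ j)⁻¹ * g * s * ((ρ ^ j)⁻¹ * g)⁻¹ = (ρ ^ j)⁻¹ * s' * (ρ ^ j) := by
              rw [hs']; group
          _ = (ρ ^ j)⁻¹ * (ρ ^ j * s') := by rw [mul_assoc, hρs'.eq]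
          _ = s' := by group
  -- (iii) the centralizer of `x` permutes `{b, c}`
  set K := Subgroup.centralizer ({x} : Set G) with hK
  have hmemK : ∀ y : G, y ∈ K ↔ y * x = x * y := by
    intro y
    rw [hK, Subgroup.mem_centralizer_iff]
    constructor
    · intro h; exact (h x (Set.mem_singleton x)).symm
    · intro h y' hy'
      rw [Set.mem_singleton_iff] at hy'
      subst hy'
      exact h.symm
  have hbc_ne : b ≠ c := fun h => hT.hcb h.symm
  have hact : ∀ y ∈ K, (y * b * y⁻¹ = b ∧ y * c * y⁻¹ = c) ∨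
      (y * b * y⁻¹ = c ∧ y * c * y⁻¹ = b) := by
    intro y hy
    rw [hmemK] at hy
    have hyx : y * x * y⁻¹ = x := by rw [hy]; group
    have hTy := hT.conj y
    rw [hyx] at hTy
    have hyc : y * c * y⁻¹ = x * (y * b * y⁻¹) := hTy.hc
    rcases hT.all _ hTy.hb hTy.comm.symm with h1 | h1 | h1
    · exact absurd h1 hTy.hbx
    · left
      refine ⟨h1, ?_⟩
      rw [hyc, h1, ← hT.hc]
    · right
      refine ⟨h1, ?_⟩
      rw [hyc, h1, hT.xc]
  have hSK : (S : Subgroup G) ≤ K := fun s hs => (hmemK s).mpr (hS s hs)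
  set sgn := swapSign K b c hbc_ne hact with hsgn
  -- some element of `K` swaps `b` and `c`
  obtain ⟨g0, hg0⟩ := isConj_iff.mp hbc
  obtain ⟨k0, hk0x, hk0⟩ := hfus b g0 hT.comm.symm (by rw [hg0]; exact hT.commc.symm)
  rw [hg0] at hk0
  have hk0K : k0 ∈ K := (hmemK k0).mpr hk0x
  have hsgn_k0 : sgn ⟨k0, hk0K⟩ = -1 := swapSign_of_swap K b c hbc_ne hact ⟨k0, hk0K⟩ hk0
  -- (iv) some element of `S` swaps `b` and `c`
  have hswapS : ∃ t ∈ (S : Subgroup G), t * b * t⁻¹ = c := by
    by_contra hcon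
    push Not at hcon
    have hle : (S : Subgroup G).subgroupOf K ≤ sgn.ker := by
      intro y hy
      rw [Subgroup.mem_subgroupOf] at hy
      rw [MonoidHom.mem_ker]
      apply swapSign_of_fix
      rcases hact y y.2 with ⟨h1, -⟩ | ⟨h1, -⟩
      · exact h1
      · exact absurd h1 (hcon _ hy)
    have hidx : sgn.ker.index = 2 := by
      rw [Subgroup.index_eq_two_iff]
      refine ⟨⟨k0, hk0K⟩, fun y => ?_⟩
      rw [MonoidHom.mem_ker, MonoidHom.mem_ker, map_mul, hsgn_k0]
      rcases Int.units_eq_one_or (sgn y) with h | h <;> rw [h] <;> decide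
    have h1 : sgn.ker.index ∣ ((S : Subgroup G).subgroupOf K).index :=
      Subgroup.index_dvd_of_le hle
    have h2 : (S : Subgroup G).relIndex K * K.index = (S : Subgroup G).index :=
      Subgroup.relIndex_mul_index hSK
    have h3 : 2 ∣ (S : Subgroup G).index := by
      rw [← h2]
      apply Dvd.dvd.mul_right
      rw [hidx] at h1
      exact h1
    exact S.not_dvd_index h3
  obtain ⟨t, htS, htb⟩ := hswapS
  -- (v) transfer
  have hG2 : ∀ H : Subgroup G, H.index ≠ 2 := by
    apply index_ne_two_of_isSimpleGroup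
    intro hcomm
    exact hna (fun y z => hcomm.is_comm.comm y z)
  set ε : ↥(S : Subgroup G) →* ℤˣ := sgn.comp (Subgroup.inclusion hSK) with hε
  obtain ⟨n, hn⟩ := (IsPGroup.iff_orderOf.mp S.isPGroup') ⟨t, htS⟩
  rw [← Subgroup.orderOf_coe] at hn
  obtain ⟨r, g, hmem, -, hne⟩ := exists_conj_sign_ne hG2 S ε t n hn
  apply hne
  have htK : t ∈ K := hSK htS
  have htr : t ^ r * x = x * t ^ r := by
    have : Commute t x := (hmemK t).mp htK
    exact (this.pow_left r).eq
  obtain ⟨k, hkx, hk⟩ := hfus (t ^ r) g⁻¹ htr (by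
    rw [inv_inv]; exact (hmemK _).mp (hSK hmem))
  rw [inv_inv] at hk
  have hkK : k ∈ K := (hmemK k).mpr hkx
  have heq : (Subgroup.inclusion hSK ⟨g⁻¹ * t ^ r * g, hmem⟩ : ↥K) =
      (⟨k, hkK⟩ : ↥K) * (⟨t, htK⟩ : ↥K) ^ r * (⟨k, hkK⟩ : ↥K)⁻¹ := by
    apply Subtype.ext
    simp only [Subgroup.coe_inclusion, Subgroup.coe_mul, Subgroup.coe_pow, Subgroup.coe_inv]
    exact hk.symm
  have hsgn_t : sgn ⟨t, htK⟩ = -1 := swapSign_of_swap K b c hbc_ne hact ⟨t, htK⟩ htb
  rw [hε, MonoidHom.comp_apply, heq, map_mul, map_mul, map_pow, map_inv, hsgn_t]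
  rw [mul_comm (sgn ⟨k, hkK⟩), mul_assoc, mul_inv_cancel, mul_one]

end Cfsg.Agent.Helper16.ThreeInv
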