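import Mathlib
import Cfsg.Agent.Lib.Helper21.PolySeq

set_option autoImplicit false

/-! The exact top term of the Hall--Petrescu expansion for a *strongly central* filtration
(`⁅F i, F j⁆ ≤ F (i + j + 1)`), obtained from the polynomial-sequence machinery of
`Lib/Helper21/PolySeq`: for `f n = u ^ n * (s ^ n)⁻¹` one has
`u ^ p * (s ^ p)⁻¹ = ⁅u, ⁅u, …, ⁅u, u * s⁻¹⁆⁆⁆` (`p - 1` brackets) as soon as `F (p + 1) = ⊥`
and `F 1` has exponent `p`. -/

namespace Cfsg.Agent.Helper16.TopTerm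

open scoped commutatorElement
open Cfsg.Agent.Helper21.PolySeq

variable {G : Type*} [Group G]

/-- The reindexed filtration: elements of `F i` get weight `i + 1`. -/
def shiftF (F : ℕ → Subgroup G) (i : ℕ) : Subgroup G := F (max 1 (i - 1))

theorem shiftF_antitone {F : ℕ → Subgroup G} (hF : Antitone F) : Antitone (shiftF F) := by
  intro i j hij
  exact hF (by omega)

theorem shiftF_comm {F : ℕ → Subgroup G} (hF : Antitone F)
    (hc : ∀ i j, 1 ≤ i → 1 ≤ j → ⁅F i, F j⁆ ≤ F (i + j + 1)) (i j : ℕ) :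
    ⁅shiftF F i, shiftF F j⁆ ≤ shiftF F (i + j) := by
  unfold shiftF
  refine le_trans (hc _ _ (le_max_left _ _) (le_max_left _ _)) (hF ?_)
  omega

theorem shiftF_succ {F : ℕ → Subgroup G} (j : ℕ) (hj : 1 ≤ j) : shiftF F (j + 1) = F j := by
  unfold shiftF
  congr 1
  omega

theorem D_mul3 (a c b : ℕ → G) :
    D (a * c * b) = D a * (⁅a, D c⁆ * D c * ⁅a * c, D b⁆) * D b := by
  funext n
  simp only [D, Pi.mul_apply, commutatorElement_def, Pi.inv_apply]
  group

theorem iterate_D_one : ∀ m : ℕ, D^[m] (1 : ℕ → G) = 1 := by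
  intro m
  induction m with
  | zero => rfl
  | succ m ih => rw [Function.iterate_succ_apply, D_one, ih]

theorem iterate_D_choose (x : G) : ∀ (j m : ℕ), j < m →
    D^[m] (fun n : ℕ => x ^ (n.choose j)) = 1 := by
  intro j
  induction j with
  | zero =>
    intro m hm
    obtain ⟨m', rfl⟩ : ∃ m', m = m' + 1 := ⟨m - 1, by omega⟩
    rw [Function.iterate_succ_apply]
    have : D (fun n : ℕ => x ^ (n.choose 0)) = 1 := by
      funext n
      simp [D]
    rw [this, iterate_D_one]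
  | succ j ih =>
    intro m hm
    obtain ⟨m', rfl⟩ : ∃ m', m = m' + 1 := ⟨m - 1, by omega⟩
    rw [Function.iterate_succ_apply]
    have : D (fun n : ℕ => x ^ (n.choose (j + 1))) = fun n => x ^ (n.choose j) := by
      funext n
      simp only [D]
      rw [Nat.choose_succ_succ, pow_add, mul_inv_cancel_right]
    rw [this]
    exact ih m' (by omega)

section additive

variable {Φ : ℕ → Subgroup G}

/-- Differences of a product of sequences that are one level better than generic. -/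
theorem iterate_D_mul3 (hΦ : Antitone Φ) (hcΦ : ∀ i j, ⁅Φ i, Φ j⁆ ≤ Φ (i + j)) :
    ∀ (m k : ℕ) (a c b : ℕ → G), IsPoly Φ m (k + 1) a → IsPoly Φ m (k + 2) c →
      IsPoly Φ m (k + 1) b →
      ∃ c' : ℕ → G, (∀ n, c' n ∈ Φ (k + m + 2)) ∧ D^[m] (a * c * b) = D^[m] a * c' * D^[m] b := by
  intro m
  induction m with
  | zero =>
    intro k a c b _ hc _
    exact ⟨c, fun n => by simpa using hc n, rfl⟩
  | succ m ih =>
    intro k a c b ha hc hb
    have H := good hΦ hcΦ m
    have ha0 : IsPoly Φ m (k + 1) a := ha.of_succ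
    have hc0 : IsPoly Φ m (k + 2) c := hc.of_succ
    have hDa : IsPoly Φ m (k + 1 + 1) (D a) := ha.2
    have hDb : IsPoly Φ m (k + 1 + 1) (D b) := hb.2
    have hDc : IsPoly Φ m (k + 1 + 2) (D c) := hc.2
    have h1 : IsPoly Φ m (k + 1 + 2) ⁅a, D c⁆ :=
      (H.comm _ _ _ _ ha0 hDc).mono hΦ (by omega)
    have hac : IsPoly Φ m (k + 1) (a * c) :=
      H.mul _ _ _ ha0 (hc0.mono hΦ (by omega))
    have h2 : IsPoly Φ m (k + 1 + 2) ⁅a * c, D b⁆ :=
      (H.comm _ _ _ _ hac hDb).mono hΦ (by omega)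
    have h3 : IsPoly Φ m (k + 1 + 2) (⁅a, D c⁆ * D c * ⁅a * c, D b⁆) :=
      H.mul _ _ _ (H.mul _ _ _ h1 hDc) h2
    obtain ⟨c', hc', heq⟩ := ih (k + 1) (D a) _ (D b) hDa h3 hDb
    refine ⟨c', fun n => ?_, ?_⟩
    · have := hc' n
      rwa [show k + 1 + m + 2 = k + (m + 1) + 2 by omega] at this
    · rw [Function.iterate_succ_apply, Function.iterate_succ_apply, Function.iterate_succ_apply,
        D_mul3, heq]

/-- `D^[m]` is additive on sequences that are one level better than generic, as soon as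
`Φ (m + 2) = ⊥`. -/
theorem iterate_D_mul (hΦ : Antitone Φ) (hcΦ : ∀ i j, ⁅Φ i, Φ j⁆ ≤ Φ (i + j)) (m : ℕ)
    (hbot : Φ (m + 2) = ⊥) (g h : ℕ → G) (hg : IsPoly Φ m 1 g) (hh : IsPoly Φ m 1 h) :
    D^[m] (g * h) = D^[m] g * D^[m] h := by
  obtain ⟨c', hc', heq⟩ := iterate_D_mul3 hΦ hcΦ m 0 g 1 h hg (isPoly_one _ _) hh
  have hc1 : c' = 1 := by
    funext n
    have := hc' n
    rw [Nat.zero_add, hbot, Subgroup.mem_bot] at this
    simpa using this
  rw [hc1, mul_one, mul_one] at heq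
  exact heq

/-- Evaluation at `p` of a (one level better than generic) polynomial sequence vanishing
at `0` is its `p`-th difference, in exponent `p`. -/
theorem eval_eq_iterate_D (hΦ : Antitone Φ) (hcΦ : ∀ i j, ⁅Φ i, Φ j⁆ ≤ Φ (i + j)) {p : ℕ}
    (hp : p.Prime) (hbot : Φ (p + 2) = ⊥) (hexp : ∀ x ∈ Φ 2, x ^ p = 1) :
    ∀ (d j : ℕ), j + d = p → 1 ≤ j → ∀ f : ℕ → G, (∀ r, IsPoly Φ r 1 f) →
      (∀ i, i < j → f i = 1) → f p = (D^[p] f) 0 := by
  intro d
  induction d with
  | zero =>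
    intro j hj _ f _ hv
    obtain rfl : j = p := by omega
    exact (iterate_D_zero j f hv).symm
  | succ d ih =>
    intro j hj hj1 f hf hv
    have hx : f j ∈ Φ (j + 1) := by
      have h1 := (hf j).iterate_mem j le_rfl 0
      rwa [iterate_D_zero j f hv] at h1
    set x := f j with hxdef
    set e : ℕ → G := fun n => x ^ (n.choose j) with hedef
    have he : ∀ r, IsPoly Φ r 1 e := fun r => isPoly_choose hΦ r j 1 x hx
    have hf' : ∀ r, IsPoly Φ r 1 (f * e⁻¹) := fun r =>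
      (good hΦ hcΦ r).mul _ _ _ (hf r) ((good hΦ hcΦ r).inv _ _ (he r))
    have hv' : ∀ i, i < j + 1 → (f * e⁻¹) i = 1 := by
      intro i hi
      rcases Nat.lt_succ_iff_lt_or_eq.1 hi with h | h
      · simp [hedef, hv i h, Nat.choose_eq_zero_of_lt h]
      · subst h
        simp [hedef, hxdef]
    have h2 := ih (j + 1) (by omega) (by omega) _ hf' hv'
    have hx2 : x ∈ Φ 2 := hΦ (by omega) hx
    have hxp : x ^ (p.choose j) = 1 := by
      obtain ⟨m, hm⟩ := hp.dvd_choose_self (by omega : j ≠ 0) (by omega : j < p)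
      rw [hm, pow_mul, hexp x hx2, one_pow]
    have h3 : f p = (f * e⁻¹) p := by
      simp [hedef, hxp]
    have h4 : f = (f * e⁻¹) * e := by
      simp
    have h5 : D^[p] f = D^[p] (f * e⁻¹) := by
      conv_lhs => rw [h4]
      rw [iterate_D_mul hΦ hcΦ p hbot _ _ (hf' p) (he p), hedef,
        iterate_D_choose x j p (by omega), mul_one]
    rw [h3, h2, h5]

end additive

section application

variable {p : ℕ} (F : ℕ → Subgroup G) (u : G)

theorem conj_pow_mem {i : ℕ} (hu : ∀ x ∈ F i, u * x * u⁻¹ ∈ F i) {x : G} (hx : x ∈ F i) :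
    ∀ n : ℕ, u ^ n * x * (u ^ n)⁻¹ ∈ F i := by
  intro n
  induction n with
  | zero => simpa using hx
  | succ n ih =>
    have := hu _ ih
    have h2 : u ^ (n + 1) * x * (u ^ (n + 1))⁻¹ = u * (u ^ n * x * (u ^ n)⁻¹) * u⁻¹ := by
      rw [pow_succ']
      group
    rwa [h2]

theorem D_conj (e : G) :
    D (fun n : ℕ => u ^ n * e * (u ^ n)⁻¹) = fun n : ℕ => u ^ n * ⁅u, e⁆ * (u ^ n)⁻¹ := by
  funext n
  simp only [D, commutatorElement_def, pow_succ]
  group

theorem D_pow_mul_inv_pow (s : G) :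
    D (fun n : ℕ => u ^ n * (s ^ n)⁻¹) = fun n : ℕ => u ^ n * (u * s⁻¹) * (u ^ n)⁻¹ := by
  funext n
  simp only [D, pow_succ]
  group

theorem iterate_D_conj (e : ℕ → G) (hes : ∀ k, e (k + 1) = ⁅u, e k⁆) :
    ∀ (m k : ℕ), D^[m] (fun n : ℕ => u ^ n * e k * (u ^ n)⁻¹) =
      fun n : ℕ => u ^ n * e (k + m) * (u ^ n)⁻¹ := by
  intro m
  induction m with
  | zero => intro k; rfl
  | succ m ih =>
    intro k
    rw [Function.iterate_succ_apply, D_conj, ← hes, ih (k + 1)]
    rw [show k + 1 + m = k + (m + 1) by omega]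

/-- **Exact top term.**  `F` strongly central with `F (p + 1) = ⊥` and `F 1` of exponent `p`,
`u` normalising every `F i`, `e 0 = u * s⁻¹`, `e (k + 1) = ⁅u, e k⁆`, `e k ∈ F (k + 1)`.
Then `u ^ p * (s ^ p)⁻¹ = e (p - 1)`. -/
theorem pow_mul_inv_pow_eq (hp : p.Prime) (hF : Antitone F)
    (hc : ∀ i j, 1 ≤ i → 1 ≤ j → ⁅F i, F j⁆ ≤ F (i + j + 1)) (hFp : F (p + 1) = ⊥)
    (hexp : ∀ x ∈ F 1, x ^ p = 1) (s : G)
    (hu : ∀ i, 1 ≤ i → ∀ x ∈ F i, u * x * u⁻¹ ∈ F i) (e : ℕ → G) (he0 : e 0 = u * s⁻¹)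
    (hes : ∀ k, e (k + 1) = ⁅u, e k⁆) (hek : ∀ k, e k ∈ F (k + 1)) :
    u ^ p * (s ^ p)⁻¹ = e (p - 1) := by
  have hΦ := shiftF_antitone hF
  have hcΦ := shiftF_comm hF hc
  set f : ℕ → G := fun n => u ^ n * (s ^ n)⁻¹ with hf
  have hDf : D f = fun n : ℕ => u ^ n * e 0 * (u ^ n)⁻¹ := by
    rw [hf, D_pow_mul_inv_pow, he0]
  -- the conjugated sequences are polynomial
  have hpolyg : ∀ (r k : ℕ), IsPoly (shiftF F) r (k + 2)
      (fun n : ℕ => u ^ n * e k * (u ^ n)⁻¹) := by
    intro r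
    induction r with
    | zero =>
      intro k n
      rw [show k + 2 = (k + 1) + 1 by omega, shiftF_succ (k + 1) (by omega)]
      exact conj_pow_mem F u (hu (k + 1) (by omega)) (hek k) n
    | succ r ih =>
      intro k
      refine ⟨fun n => ?_, ?_⟩
      · rw [show k + 2 = (k + 1) + 1 by omega, shiftF_succ (k + 1) (by omega)]
        exact conj_pow_mem F u (hu (k + 1) (by omega)) (hek k) n
      · rw [D_conj, ← hes]
        exact ih (k + 1)
  have hfmem : ∀ n, f n ∈ F 1 := by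
    intro n
    induction n with
    | zero => simp [hf]
    | succ n ih =>
      have h1 : f (n + 1) = D f n * f n := by simp [D]
      rw [h1, hDf]
      exact mul_mem (conj_pow_mem F u (hu 1 le_rfl) (by simpa using hek 0) n) ih
  have hS1 : shiftF F 1 = F 1 := by
    unfold shiftF
    congr 1
  have hpolyf : ∀ r, IsPoly (shiftF F) r 1 f := by
    intro r
    cases r with
    | zero =>
      intro n
      rw [hS1]
      exact hfmem n
    | succ r =>
      refine ⟨fun n => ?_, ?_⟩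
      · rw [hS1]
        exact hfmem n
      · rw [hDf]
        exact hpolyg r 0
  have hbot : shiftF F (p + 2) = ⊥ := by
    rw [show p + 2 = (p + 1) + 1 by omega, shiftF_succ (p + 1) (by omega), hFp]
  have hexp' : ∀ x ∈ shiftF F 2, x ^ p = 1 := by
    intro x hx
    rw [show (2 : ℕ) = 1 + 1 by rfl, shiftF_succ 1 le_rfl] at hx
    exact hexp x hx
  have hmain := eval_eq_iterate_D hΦ hcΦ hp hbot hexp' (p - 1) 1
    (by have := hp.two_le; omega) le_rfl f hpolyf (by
      intro i hi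
      obtain rfl : i = 0 := by omega
      simp [hf])
  have hp1 : p = (p - 1) + 1 := by have := hp.two_le; omega
  have h6 : (D^[p] f) 0 = e (p - 1) := by
    conv_lhs => rw [hp1]
    rw [Function.iterate_succ_apply, hDf, iterate_D_conj u e hes (p - 1) 0]
    simp
  rw [← h6, ← hmain]

end application

end Cfsg.Agent.Helper16.TopTerm
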