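import Mathlib
import Cfsg.Agent.Lib.Helper27.Tw6Defs
import Cfsg.Agent.Lib.Helper6.InvNLEN

/-!
S2182 piece LENV (helper16): the cell of `v ++ w` is longer when `w` permutes the roots of the class `v`.
-/

set_option autoImplicit false
set_option linter.unusedSectionVars false
set_option linter.unusedVariables false

namespace Cfsg.Agent.Helper27.Tw6

open Cfsg Cfsg.Lie Cfsg.Agent.Lead.Chev Cfsg.Agent.Lead.Tw Cfsg.Agent.Helper13.InvN Cfsg.Agent.Helper6.ChevL

variable {K : Type*} [Field K] [Fintype K] [CharP K 2] {D : ChevalleyDatum} {hF : ChevFacts D K}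
  {T : Twist D K hF.xadd} {π' : ℕ → ℕ} {S l₀ : List (List ℕ)} {f : K ≃+* K} (hX : Ctx hF T π' S l₀ f)
include hX

/-- if `w` permutes the roots of the class then so does `w⁻¹`, and the images are positive -/
theorem tw6lenv_pos (v : List ℕ) (hv : v ∈ S) (w : List ℕ) (hw : WOK D w) (hp : PermV D v w)
    (i : ℕ) (hi : i ∈ v) : D.IsPosRoot (reflWord D w.reverse (D.simple i)) := by
  obtain ⟨j, hj, h1, h2⟩ := hp i hi
  have hjr : j < D.rank := hX.valid v hv j hj
  have hc := reflWord_reverse_cancel' D (etaOf D) hF.facts w hw (D.simple j) (hF.simple_lt j hjr)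
  rw [h2] at hc
  rw [hc]
  exact hF.simple_pos j hjr

/-- PIECE LENV: the cell of `v ++ w` is longer -/
theorem len_class_lt (v : List ℕ) (hv : v ∈ S) (w : List ℕ) (hw : WOK D w) (hp : PermV D v w) :
    len D w < len D (v ++ w) := by
  have hne := hX.orth.ne_nil v hv
  have hl2 := hX.len2 v hv
  have hval := hX.valid v hv
  match v, hv, hp, hne, hl2, hval with
  | [], _, _, hne, _, _ => exact absurd rfl hne
  | [i], hv, hp, _, _, hval =>
    have hi : i < D.rank := hval i List.mem_cons_self
    have hpos := tw6lenv_pos hX [i] hv w hw hp i List.mem_cons_self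
    exact len_cons_lt hF hX.corS hX.corI w hw i hi hpos
  | [i, j], hv, hp, _, _, hval =>
    have hi : i < D.rank := hval i List.mem_cons_self
    have hj : j < D.rank := hval j (List.mem_cons_of_mem _ List.mem_cons_self)
    have hij : i ≠ j := by
      have := (hX.orth.cls _ hv).nodup
      intro h
      subst h
      simp at this
    have hposj := tw6lenv_pos hX [i, j] hv w hw hp j (List.mem_cons_of_mem _ List.mem_cons_self)
    have hposi := tw6lenv_pos hX [i, j] hv w hw hp i List.mem_cons_self
    have h1 := len_cons_lt hF hX.corS hX.corI w hw j hj hposj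
    have hposi' : D.IsPosRoot (reflWord D (j :: w).reverse (D.simple i)) := by
      rw [List.reverse_cons, reflWord_append]
      have : reflWord D [j] (D.simple i) = D.simple i := by
        simp only [reflWord]
        exact hX.orthRefl _ hv j (List.mem_cons_of_mem _ List.mem_cons_self) i List.mem_cons_self
          (Ne.symm hij)
      rw [this]
      exact hposi
    have h2 := len_cons_lt hF hX.corS hX.corI (j :: w) (WOK.cons hj hw) i hi hposi'
    show len D w < len D (i :: j :: w)
    omega
  | _ :: _ :: _ :: _, _, _, _, hl2, _ => simp at hl2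

end Cfsg.Agent.Helper27.Tw6
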