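import Mathlib
import Cfsg.Agent.Lib.Helper27.Tw6Defs
import Cfsg.Agent.Lib.Helper15.InvNMAXPre

/-!
S2182 piece MAXT (helper16): a conjugate under the twisted group in an ambient cell of maximal length.
-/

set_option autoImplicit false
set_option linter.unusedSectionVars false
set_option linter.unusedVariables false

namespace Cfsg.Agent.Helper27.Tw6

open Cfsg Cfsg.Lie Cfsg.Agent.Lead.Chev Cfsg.Agent.Lead.Tw Cfsg.Agent.Helper13.InvN Cfsg.Agent.Helper6.ChevL

variable {K : Type*} [Field K] [Fintype K] [CharP K 2] {D : ChevalleyDatum} {hF : ChevFacts D K}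
  {T : Twist D K hF.xadd} {π' : ℕ → ℕ} {S l₀ : List (List ℕ)} {f : K ≃+* K} (hX : Ctx hF T π' S l₀ f)
include hX

/-- PIECE MAXT -/
theorem exists_maxT (g : GL D.Idx K) (hg : g ∈ orthGroup hF T S) :
    ∃ c ∈ orthGroup hF T S, ∃ w, WOK D w ∧ IsMaxCellT hF (orthGroup hF T S) (c * g * c⁻¹) w := by
  classical
  let P : ℕ → Prop := fun n =>
    ∃ c ∈ orthGroup hF T S, ∃ w, WOK D w ∧ InCell hF (c * g * c⁻¹) w ∧ len D w = n
  have hgG : g ∈ D.group K := hX.orth.le_group hg
  obtain ⟨w0, hw0, hc0⟩ := invol_exists_cell hF hX.corS hX.corI g hgG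
  have hP0 : P (len D w0) := by
    refine ⟨1, one_mem _, w0, hw0, ?_, rfl⟩
    simpa using hc0
  have hmax := Nat.findGreatest_spec (P := P) (len_le D w0) hP0
  obtain ⟨c, hc, w, hw, hcell, hlen⟩ := hmax
  refine ⟨c, hc, w, hw, hcell, ?_⟩
  intro c' hc' w' hw' hcell'
  have hP1 : P (len D w') := by
    refine ⟨c' * c, mul_mem hc' hc, w', hw', ?_, rfl⟩
    have e : c' * c * g * (c' * c)⁻¹ = c' * (c * g * c⁻¹) * c'⁻¹ := by group
    rw [e]
    exact hcell'
  have h2 := Nat.le_findGreatest (P := P) (len_le D w') hP1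
  omega

end Cfsg.Agent.Helper27.Tw6
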