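import Mathlib

/-!
# A norm trick for two commuting automorphisms of prime order (helper16)
-/

set_option autoImplicit false
set_option linter.unusedSectionVars false
set_option linter.style.haveILetI false

namespace Cfsg.Agent.Helper16.TwoIdx

section PT

variable {V : Type*} [CommGroup V]

/-- The norm of `v` under the cyclic group generated by `γ` (assumed of order dividing `r`). -/
def nrm (r : ℕ) (γ : Monoid.End V) (v : V) : V := ∏ j ∈ Finset.range r, (γ ^ j) v

theorem nrm_fixed {r : ℕ} (γ : Monoid.End V) (hγ : γ ^ r = 1) (v : V) :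
    γ (nrm r γ v) = nrm r γ v := by
  unfold nrm
  rw [map_prod]
  have h1 : ∀ j, γ ((γ ^ j) v) = (γ ^ (j + 1)) v := by
    intro j
    rw [pow_succ']
    rfl
  simp_rw [h1]
  have e1 := Finset.prod_range_succ' (fun j => (γ ^ j) v) r
  have e2 := Finset.prod_range_succ (fun j => (γ ^ j) v) r
  rw [e1] at e2
  simp only [hγ, pow_zero] at e2
  exact mul_right_cancel e2

theorem End_mul_apply' (f g : Monoid.End V) (v : V) : (f * g) v = f (g v) := rfl

theorem pow_eq_pow_mod' {r : ℕ} (β : Monoid.End V) (hβ : β ^ r = 1) (n : ℕ) :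
    β ^ n = β ^ (n % r) := pow_eq_pow_mod n hβ

/-- The product trick: two commuting endomorphisms of order `r` such that every `α^i β^j`
(not both exponents divisible by `r`) has all its fixed points in `V0` force `v ^ r ∈ V0`. -/
theorem pow_mem_of_two_commuting {r : ℕ} [hr : Fact r.Prime] (α β : Monoid.End V)
    (hc : Commute α β) (hα : α ^ r = 1) (hβ : β ^ r = 1) (V0 : Subgroup V)
    (hfix : ∀ i j : ℕ, ¬ (r ∣ i ∧ r ∣ j) → ∀ v, (α ^ i * β ^ j) v = v → v ∈ V0) (v : V) :
    v ^ r ∈ V0 := by
  have hr1 : ¬ r ∣ 1 := fun h => hr.out.one_lt.ne' (Nat.dvd_one.1 h)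
  obtain ⟨r', hr'⟩ : ∃ r', r = r' + 1 := ⟨r - 1, by have := hr.out.pos; omega⟩
  set F : ℕ → ℕ → V := fun a b => (α ^ a * β ^ b) v with hF
  -- each norm is in V0
  have hn1 : ∀ i, nrm r (α * β ^ i) v ∈ V0 := by
    intro i
    have hci : Commute α (β ^ i) := hc.pow_right i
    have hγ : (α * β ^ i) ^ r = 1 := by
      rw [hci.mul_pow, hα, ← pow_mul, mul_comm, pow_mul, hβ, one_pow, one_mul]
    have := nrm_fixed (α * β ^ i) hγ v
    apply hfix 1 i (fun h => hr1 h.1)
    rw [pow_one]
    exact this
  have hn2 : nrm r β v ∈ V0 := by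
    have := nrm_fixed β hβ v
    apply hfix 0 1 (fun h => hr1 h.2)
    rw [pow_zero, pow_one, one_mul]
    exact this
  -- the double product
  set W : V := ∏ a ∈ Finset.range r, ∏ b ∈ Finset.range r, F a b with hW
  have hWeq : W = nrm r α (nrm r β v) := by
    unfold nrm
    rw [hW]
    apply Finset.prod_congr rfl
    intro a _
    rw [map_prod]
    exact Finset.prod_congr rfl (fun b _ => rfl)
  have hW0 : W ∈ V0 := by
    have := nrm_fixed α hα (nrm r β v)
    rw [← hWeq] at this
    apply hfix 1 0 (fun h => hr1 h.1)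
    rw [pow_one, pow_zero, mul_one]
    exact this
  -- the identity
  have hnrm : ∀ i, nrm r (α * β ^ i) v = ∏ j ∈ Finset.range r, F j ((i * j) % r) := by
    intro i
    unfold nrm
    apply Finset.prod_congr rfl
    intro j _
    have hci : Commute α (β ^ i) := hc.pow_right i
    rw [hci.mul_pow, ← pow_mul, pow_eq_pow_mod' β hβ (i * j)]
  have hperm : ∀ j, 0 < j → j < r →
      ∏ i ∈ Finset.range r, F j ((i * j) % r) = ∏ b ∈ Finset.range r, F j b := by
    intro j hj0 hjr
    have hcop : Nat.Coprime j r := by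
      rw [Nat.coprime_comm]
      exact (Nat.Prime.coprime_iff_not_dvd hr.out).2 (fun h => by
        have := Nat.le_of_dvd hj0 h; omega)
    have hinj : Set.InjOn (fun i => (i * j) % r) (Finset.range r : Set ℕ) := by
      intro i1 h1 i2 h2 h12
      have h1' : i1 < r := Finset.mem_range.1 (Finset.mem_coe.1 h1)
      have h2' : i2 < r := Finset.mem_range.1 (Finset.mem_coe.1 h2)
      have hmod : i1 * j ≡ i2 * j [MOD r] := h12
      have := Nat.ModEq.cancel_right_of_coprime (Nat.coprime_comm.1 hcop |>.symm |> Nat.coprime_comm.1) hmod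
      exact Nat.ModEq.eq_of_lt_of_lt this h1' h2'
    have hmaps : ∀ i ∈ Finset.range r, (fun i => (i * j) % r) i ∈ Finset.range r := by
      intro i _
      exact Finset.mem_range.2 (Nat.mod_lt _ hr.out.pos)
    have hsurj : Set.SurjOn (fun i => (i * j) % r) (Finset.range r : Set ℕ)
        (Finset.range r : Set ℕ) :=
      Finset.surjOn_of_injOn_of_card_le _ hmaps hinj le_rfl
    exact Finset.prod_nbij (fun i => (i * j) % r) hmaps hinj hsurj (fun _ _ => rfl)
  have hid : (∏ i ∈ Finset.range r, nrm r (α * β ^ i) v) * nrm r β v = v ^ r * W := by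
    simp_rw [hnrm]
    rw [Finset.prod_comm]
    have hβn : nrm r β v = ∏ b ∈ Finset.range r, F 0 b := by
      unfold nrm
      apply Finset.prod_congr rfl
      intro b _
      simp [hF]
    rw [hβn, hW]
    subst hr'
    rw [Finset.prod_range_succ' (fun j => ∏ i ∈ Finset.range (r' + 1), F j ((i * j) % (r' + 1))),
      Finset.prod_range_succ' (fun a => ∏ b ∈ Finset.range (r' + 1), F a b)]
    have h0 : ∏ i ∈ Finset.range (r' + 1), F 0 ((i * 0) % (r' + 1)) = v ^ (r' + 1) := by
      simp [hF]
    rw [h0]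
    have hrest : ∏ j ∈ Finset.range r', ∏ i ∈ Finset.range (r' + 1),
          F (j + 1) ((i * (j + 1)) % (r' + 1)) =
        ∏ a ∈ Finset.range r', ∏ b ∈ Finset.range (r' + 1), F (a + 1) b := by
      apply Finset.prod_congr rfl
      intro j hj
      have hj' := Finset.mem_range.1 hj
      exact hperm (j + 1) (Nat.succ_pos _) (by omega)
    rw [hrest]
    -- commutative group arithmetic
    set X := ∏ a ∈ Finset.range r', ∏ b ∈ Finset.range (r' + 1), F (a + 1) b
    set Y := ∏ b ∈ Finset.range (r' + 1), F 0 b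
    rw [mul_comm X, mul_assoc]
  have hfin : v ^ r = (∏ i ∈ Finset.range r, nrm r (α * β ^ i) v) * nrm r β v * W⁻¹ := by
    rw [hid, mul_inv_cancel_right]
  rw [hfin]
  exact V0.mul_mem (V0.mul_mem (Subgroup.prod_mem V0 (fun i _ => hn1 i)) hn2) (V0.inv_mem hW0)

end PT

end Cfsg.Agent.Helper16.TwoIdx
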