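import Mathlib
import Cfsg.Agent.Lib.Helper16.TwoIdxA
import Cfsg.Agent.Lib.Helper16.TwoIdxB
import Cfsg.Agent.Lib.Helper16.Conj

/-!
# Normal subgroups with two class sizes: the abstract counting argument, part 1 (helper16)
-/

set_option autoImplicit false
set_option linter.unusedSectionVars false
set_option linter.style.haveILetI false

namespace Cfsg.Agent.Helper16.TwoIdx

variable {N : Type*} [Group N] [Finite N] {r : ℕ} [hr : Fact r.Prime]

/-- The hypotheses of the abstract counting argument. -/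
structure CntHyp (R : Sylow r N) (Z : Subgroup N) : Prop where
  hZ : Z ≤ Subgroup.center N
  ha : ∀ v : N, v ∉ Z → ∀ c ∈ K v, c ∉ Z → K c = K v
  hb1 : ∀ v : N, v ∉ Z → ∀ P : Subgroup N, P ≤ K v → IsPGroup r P →
    Nat.card P * r ≤ Nat.card R
  hb2 : ∀ v : N, v ∉ Z → ∃ P : Subgroup N, P ≤ K v ∧ IsPGroup r P ∧
    Nat.card P * r = Nat.card R ∧ ¬ P ≤ Z
  hc : ∀ v : N, v ∉ Z → ∃ y ∈ K v, y ∉ Z ∧ (orderOf y).Coprime r
  hd : ¬ (R : Subgroup N) ≤ Z

variable {R : Sylow r N} {Z : Subgroup N}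

namespace CntHyp

theorem Z_le_K (H : CntHyp R Z) (v : N) : Z ≤ K v := H.hZ.trans (center_le_K v)

theorem conj_mem_Z (H : CntHyp R Z) {v : N} (n : N) (hv : v ∈ Z) : n * v * n⁻¹ ∈ Z := by
  have hc := Subgroup.mem_center_iff.1 (H.hZ hv) n
  have : n * v * n⁻¹ = v := by rw [hc]; group
  rw [this]; exact hv

theorem conj_not_mem_Z (H : CntHyp R Z) {v : N} (n : N) (hv : v ∉ Z) : n * v * n⁻¹ ∉ Z := by
  intro h
  apply hv
  have := H.conj_mem_Z n⁻¹ h
  have e : n⁻¹ * (n * v * n⁻¹) * n⁻¹⁻¹ = v := by group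
  rwa [e] at this

theorem comm_of_mem (H : CntHyp R Z) {v c c' : N} (hv : v ∉ Z) (hc : c ∈ K v) (hc' : c' ∈ K v) :
    c * c' = c' * c := by
  by_cases hcz : c ∈ Z
  · exact (Subgroup.mem_center_iff.1 (H.hZ hcz) c').symm
  · have := H.ha v hv c hc hcz
    rw [← this] at hc'
    exact mem_K.1 hc'

theorem mem_normalizer_of_conj_mem (H : CntHyp R Z) {v n : N} (hv : v ∉ Z)
    (hn : n * v * n⁻¹ ∈ K v) : n ∈ Subgroup.normalizer ((K v : Subgroup N) : Set N) := by
  have hw : n * v * n⁻¹ ∉ Z := H.conj_not_mem_Z n hv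
  have hK : K (n * v * n⁻¹) = K v := H.ha v hv _ hn hw
  rw [Subgroup.mem_normalizer_iff]
  intro k
  rw [← conj_mem_K_conj_iff (g := v) (k := k) n, hK]

/-- `v` is well placed with respect to `R`. -/
def RGood (R : Sylow r N) (Z : Subgroup N) (v : N) : Prop :=
  v ∉ Z ∧ Nat.card ↥((R : Subgroup N) ⊓ K v) * r = Nat.card R ∧ ¬ ((R : Subgroup N) ⊓ K v ≤ Z)

theorem exists_conj_RGood (H : CntHyp R Z) {v : N} (hv : v ∉ Z) :
    ∃ n : N, RGood R Z (n * v * n⁻¹) := by
  obtain ⟨P, hPK, hP, hPc, hPZ⟩ := H.hb2 v hv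
  obtain ⟨n, hn⟩ := exists_conj_le_sylow hP R
  refine ⟨n, H.conj_not_mem_Z n hv, ?_, ?_⟩
  · have hle : P.map (MulAut.conj n).toMonoidHom ≤ (R : Subgroup N) ⊓ K (n * v * n⁻¹) := by
      rintro _ ⟨a, ha, rfl⟩
      have e : (MulAut.conj n).toMonoidHom a = n * a * n⁻¹ := by simp
      rw [e]
      exact ⟨hn a ha, conj_mem_K_conj n (hPK ha)⟩
    have h1 : Nat.card P ≤ Nat.card ↥((R : Subgroup N) ⊓ K (n * v * n⁻¹)) := by
      rw [← Cfsg.Agent.Helper16.card_map_conj P n]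
      exact Subgroup.card_le_of_le hle
    have h2 := H.hb1 (n * v * n⁻¹) (H.conj_not_mem_Z n hv) _ inf_le_right
      (R.2.to_le inf_le_left)
    have h3 : Nat.card P * r ≤ Nat.card ↥((R : Subgroup N) ⊓ K (n * v * n⁻¹)) * r :=
      Nat.mul_le_mul_right r h1
    omega
  · intro hle
    apply hPZ
    intro a ha
    have h1 : n * a * n⁻¹ ∈ Z := hle ⟨hn a ha, conj_mem_K_conj n (hPK ha)⟩
    have := H.conj_mem_Z n⁻¹ h1
    have e : n⁻¹ * (n * a * n⁻¹) * n⁻¹⁻¹ = a := by group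
    rwa [e] at this

theorem card_inf_mul_relIndex (A B : Subgroup N) :
    Nat.card (A ⊓ B : Subgroup N) * A.relIndex B = Nat.card B := by
  have := Subgroup.relIndex_inf_mul_relIndex (⊥ : Subgroup N) A B
  rwa [Subgroup.relIndex_bot_left, bot_inf_eq, Subgroup.relIndex_bot_left] at this

theorem RGood.relIndex_eq {v : N} (hv : RGood R Z v) : (K v).relIndex (R : Subgroup N) = r := by
  have h1 := card_inf_mul_relIndex (K v) (R : Subgroup N)
  rw [inf_comm] at h1
  rw [← hv.2.1] at h1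
  exact Nat.eq_of_mul_eq_mul_left Nat.card_pos h1

theorem RGood.conj_mem {v g s : N} (hv : RGood R Z v) (hg : g ∈ (R : Subgroup N))
    (hs : s ∈ (R : Subgroup N) ⊓ K v) : g * s * g⁻¹ ∈ (R : Subgroup N) ⊓ K v := by
  have hidx : ((K v).subgroupOf (R : Subgroup N)).index = (Nat.card (R : Subgroup N)).minFac := by
    have h1 : ((K v).subgroupOf (R : Subgroup N)).index = r := hv.relIndex_eq
    obtain ⟨k, hk⟩ := (IsPGroup.iff_card.1 R.2)
    have hk0 : k ≠ 0 := by
      rintro rfl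
      have := hv.2.1
      rw [hk, pow_zero] at this
      have hr2 := hr.out.two_le
      have : r = 1 := Nat.eq_one_of_mul_eq_one_left this
      omega
    rw [h1, hk, Nat.Prime.pow_minFac hr.out hk0]
  have hn : ((K v).subgroupOf (R : Subgroup N)).Normal :=
    Subgroup.normal_of_index_eq_minFac_card hidx
  have hsR : s ∈ (R : Subgroup N) := hs.1
  have := hn.conj_mem ⟨s, hsR⟩ (by
    rw [Subgroup.mem_subgroupOf]; exact hs.2) ⟨g, hg⟩
  rw [Subgroup.mem_subgroupOf] at this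
  refine ⟨(R : Subgroup N).mul_mem ((R : Subgroup N).mul_mem hg hsR) ((R : Subgroup N).inv_mem hg),
    ?_⟩
  simpa using this

theorem RGood.le_normalizer (H : CntHyp R Z) {v : N} (hv : RGood R Z v) :
    (R : Subgroup N) ≤ Subgroup.normalizer ((K v : Subgroup N) : Set N) := by
  intro g hg
  obtain ⟨s, hs, hsZ⟩ := SetLike.not_le_iff_exists.1 hv.2.2
  have hKs : K s = K v := H.ha v hv.1 s hs.2 hsZ
  have h1 := hv.conj_mem hg hs
  have h2 : g * s * g⁻¹ ∈ K s := by rw [hKs]; exact h1.2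
  have := H.mem_normalizer_of_conj_mem hsZ h2
  rwa [hKs] at this

theorem RGood.card_sup (H : CntHyp R Z) {v : N} (hv : RGood R Z v) :
    Nat.card ↥((R : Subgroup N) ⊔ K v) = Nat.card (K v) * r := by
  have hle := hv.le_normalizer H
  haveI := Subgroup.normal_subgroupOf_of_le_normalizer hle
  haveI := Subgroup.normal_subgroupOf_sup_of_le_normalizer hle
  have e : ↥(R : Subgroup N) ⧸ (K v).subgroupOf (R : Subgroup N) ≃*
      ↥((R : Subgroup N) ⊔ K v) ⧸ (K v).subgroupOf ((R : Subgroup N) ⊔ K v) :=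
    QuotientGroup.quotientInfEquivProdNormalizerQuotient (R : Subgroup N) (K v) hle
  have h1 : (K v).relIndex (R : Subgroup N) = (K v).relIndex ((R : Subgroup N) ⊔ K v) :=
    Nat.card_congr e.toEquiv
  have h2 := card_inf_mul_relIndex (K v) ((R : Subgroup N) ⊔ K v)
  rw [inf_of_le_left le_sup_right, ← h1, hv.relIndex_eq] at h2
  exact h2.symm

theorem RGood.mul_card_dvd (H : CntHyp R Z) {v : N} (hv : RGood R Z v) :
    r * Nat.card (K v) ∣ Nat.card (Subgroup.normalizer ((K v : Subgroup N) : Set N)) := by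
  have hle : (R : Subgroup N) ⊔ K v ≤ Subgroup.normalizer ((K v : Subgroup N) : Set N) :=
    sup_le (hv.le_normalizer H) Subgroup.le_normalizer
  have := Subgroup.card_dvd_of_le hle
  rwa [hv.card_sup H, mul_comm] at this

end CntHyp

end Cfsg.Agent.Helper16.TwoIdx
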