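import Mathlib
import Cfsg.Agent.Lib.Helper16.TwoIdxD1

/-!
# Normal subgroups with two class sizes: the abstract counting argument, part 2 (helper16)
-/

set_option autoImplicit false
set_option linter.unusedSectionVars false
set_option linter.style.haveILetI false

namespace Cfsg.Agent.Helper16.TwoIdx

variable {N : Type*} [Group N] [Finite N] {r : ℕ} [hr : Fact r.Prime]

/-- The noncentral elements having a conjugate in `D`. -/
def U (Z D : Subgroup N) : Set N := {w | w ∉ Z ∧ ∃ n : N, n * w * n⁻¹ ∈ D}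

/-- The noncentral part of `D`. -/
def T (Z D : Subgroup N) : Set N := {d | d ∈ D ∧ d ∉ Z}

theorem card_T {Z D : Subgroup N} (hZD : Z ≤ D) : Nat.card (T Z D) + Nat.card Z = Nat.card D := by
  classical
  have e := Equiv.sumCompl (fun d : D => (d : N) ∈ Z)
  have e1 : {d : D // (d : N) ∈ Z} ≃ Z :=
    ⟨fun d => ⟨d.1.1, d.2⟩, fun z => ⟨⟨z.1, hZD z.2⟩, z.2⟩, fun _ => rfl, fun _ => rfl⟩
  have e2 : {d : D // ¬ (d : N) ∈ Z} ≃ T Z D :=
    ⟨fun d => ⟨d.1.1, d.1.2, d.2⟩, fun t => ⟨⟨t.1, t.2.1⟩, t.2.2⟩, fun _ => rfl, fun _ => rfl⟩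
  rw [← Nat.card_congr e, Nat.card_sum, Nat.card_congr e1, Nat.card_congr e2, add_comm]

variable {R : Sylow r N} {Z : Subgroup N}

namespace CntHyp

theorem card_U (H : CntHyp R Z) {v : N} (hv : v ∉ Z) :
    Nat.card (U Z (K v)) * Nat.card (Subgroup.normalizer ((K v : Subgroup N) : Set N)) =
      Nat.card N * Nat.card (T Z (K v)) := by
  classical
  rw [← Nat.card_prod, ← Nat.card_prod]
  let n0 : U Z (K v) → N := fun w => Classical.choose w.2.2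
  have hn0 : ∀ w : U Z (K v), n0 w * w * (n0 w)⁻¹ ∈ K v := fun w => Classical.choose_spec w.2.2
  -- conjugating an element of `T` by a normalizing element
  have hnorm : ∀ (k : N), k ∈ Subgroup.normalizer ((K v : Subgroup N) : Set N) →
      ∀ d ∈ K v, k * d * k⁻¹ ∈ K v := by
    intro k hk d hd
    exact (Subgroup.mem_normalizer_iff.1 hk d).1 hd
  -- two conjugators differ by a normalizing element
  have hdiff : ∀ (w n n' : N), w ∉ Z → n * w * n⁻¹ ∈ K v → n' * w * n'⁻¹ ∈ K v →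
      n * n'⁻¹ ∈ Subgroup.normalizer ((K v : Subgroup N) : Set N) := by
    intro w n n' hw h1 h2
    have hd0 : n' * w * n'⁻¹ ∉ Z := H.conj_not_mem_Z n' hw
    have hK : K (n' * w * n'⁻¹) = K v := H.ha v hv _ h2 hd0
    have h3 : (n * n'⁻¹) * (n' * w * n'⁻¹) * (n * n'⁻¹)⁻¹ ∈ K (n' * w * n'⁻¹) := by
      rw [hK]
      have : (n * n'⁻¹) * (n' * w * n'⁻¹) * (n * n'⁻¹)⁻¹ = n * w * n⁻¹ := by group
      rw [this]; exact h1
    have := H.mem_normalizer_of_conj_mem hd0 h3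
    rwa [hK] at this
  apply Nat.card_congr
  refine ⟨fun p => (p.2.1 * n0 p.1, ⟨(p.2.1 * n0 p.1) * p.1.1 * (p.2.1 * n0 p.1)⁻¹, ?_, ?_⟩),
    fun p => (⟨p.1⁻¹ * p.2.1 * p.1, ?_, ?_⟩,
      ⟨p.1 * (n0 ⟨p.1⁻¹ * p.2.1 * p.1, ?_, ?_⟩)⁻¹, ?_⟩), ?_, ?_⟩
  · have : (p.2.1 * n0 p.1) * p.1.1 * (p.2.1 * n0 p.1)⁻¹ =
        p.2.1 * (n0 p.1 * p.1.1 * (n0 p.1)⁻¹) * p.2.1⁻¹ := by group
    rw [this]
    exact hnorm _ p.2.2 _ (hn0 p.1)
  · exact H.conj_not_mem_Z _ p.1.2.1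
  · intro h
    apply p.2.2.2
    have := H.conj_mem_Z p.1 h
    have e : p.1 * (p.1⁻¹ * p.2.1 * p.1) * p.1⁻¹ = p.2.1 := by group
    rwa [e] at this
  · refine ⟨p.1, ?_⟩
    have e : p.1 * (p.1⁻¹ * p.2.1 * p.1) * p.1⁻¹ = p.2.1 := by group
    rw [e]; exact p.2.2.1
  · intro h
    apply p.2.2.2
    have := H.conj_mem_Z p.1 h
    have e : p.1 * (p.1⁻¹ * p.2.1 * p.1) * p.1⁻¹ = p.2.1 := by group
    rwa [e] at this
  · refine ⟨p.1, ?_⟩
    have e : p.1 * (p.1⁻¹ * p.2.1 * p.1) * p.1⁻¹ = p.2.1 := by group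
    rw [e]; exact p.2.2.1
  · have hw : p.1⁻¹ * p.2.1 * p.1 ∉ Z := by
      intro h
      apply p.2.2.2
      have := H.conj_mem_Z p.1 h
      have e : p.1 * (p.1⁻¹ * p.2.1 * p.1) * p.1⁻¹ = p.2.1 := by group
      rwa [e] at this
    apply hdiff (p.1⁻¹ * p.2.1 * p.1) _ _ hw
    · have e : p.1 * (p.1⁻¹ * p.2.1 * p.1) * p.1⁻¹ = p.2.1 := by group
      rw [e]; exact p.2.2.1
    · exact hn0 _
  · rintro ⟨w, k⟩
    have hw : (⟨(k.1 * n0 w)⁻¹ * ((k.1 * n0 w) * w.1 * (k.1 * n0 w)⁻¹) * (k.1 * n0 w),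
        by
          have e : (k.1 * n0 w)⁻¹ * ((k.1 * n0 w) * w.1 * (k.1 * n0 w)⁻¹) * (k.1 * n0 w) = w.1 := by
            group
          rw [e]; exact w.2⟩ : U Z (K v)) = w := by
      apply Subtype.ext
      show (k.1 * n0 w)⁻¹ * ((k.1 * n0 w) * w.1 * (k.1 * n0 w)⁻¹) * (k.1 * n0 w) = w.1
      group
    apply Prod.ext
    · exact hw
    · apply Subtype.ext
      show (k.1 * n0 w) * (n0 _)⁻¹ = k.1
      rw [hw]
      group
  · rintro ⟨n, d⟩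
    apply Prod.ext
    · show n * (n0 _)⁻¹ * n0 _ = n
      group
    · apply Subtype.ext
      show (n * (n0 _)⁻¹ * n0 _) * (n⁻¹ * d.1 * n) * (n * (n0 _)⁻¹ * n0 _)⁻¹ = d.1
      group

theorem mem_U_of_RGood {v w n : N} (hw : w ∉ Z) (hn : n * w * n⁻¹ = v) : w ∈ U Z (K v) :=
  ⟨hw, n, by rw [hn]; exact self_mem_K v⟩

theorem exists_RGood_cover (H : CntHyp R Z) {w : N} (hw : w ∉ Z) :
    ∃ v, RGood R Z v ∧ w ∈ U Z (K v) := by
  obtain ⟨n, hn⟩ := H.exists_conj_RGood hw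
  exact ⟨n * w * n⁻¹, hn, mem_U_of_RGood hw rfl⟩

theorem U_K_conj (v a : N) : U Z (K (a * v * a⁻¹)) = U Z (K v) := by
  ext w
  constructor
  · rintro ⟨hw, n, hn⟩
    refine ⟨hw, a⁻¹ * n, ?_⟩
    have := (conj_mem_K_conj_iff (g := v) (k := a⁻¹ * (n * w * n⁻¹) * a) a).1 (by
      have e : a * (a⁻¹ * (n * w * n⁻¹) * a) * a⁻¹ = n * w * n⁻¹ := by group
      rw [e]; exact hn)
    have e : a⁻¹ * n * w * (a⁻¹ * n)⁻¹ = a⁻¹ * (n * w * n⁻¹) * a := by group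
    rw [e]; exact this
  · rintro ⟨hw, n, hn⟩
    refine ⟨hw, a * n, ?_⟩
    have := conj_mem_K_conj a hn
    have e : a * n * w * (a * n)⁻¹ = a * (n * w * n⁻¹) * a⁻¹ := by group
    rw [e]; exact this

theorem U_eq_of_inter (H : CntHyp R Z) {v v' w : N} (hv : v ∉ Z) (hv' : v' ∉ Z)
    (h1 : w ∈ U Z (K v)) (h2 : w ∈ U Z (K v')) : U Z (K v') = U Z (K v) := by
  obtain ⟨hw, n, hn⟩ := h1
  obtain ⟨_, n', hn'⟩ := h2
  have e1 : K (n * w * n⁻¹) = K v := H.ha v hv _ hn (H.conj_not_mem_Z n hw)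
  have e2 : K (n' * w * n'⁻¹) = K v' := H.ha v' hv' _ hn' (H.conj_not_mem_Z n' hw)
  rw [← e1, ← e2, U_K_conj, U_K_conj]

theorem U_subset (D : Subgroup N) : U Z D ⊆ {w | w ∉ Z} := fun _ hw => hw.1

end CntHyp

end Cfsg.Agent.Helper16.TwoIdx
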