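import Mathlib
import Cfsg.Agent.Lib.Helper16.TwoIdxD2

/-!
# Normal subgroups with two class sizes: the abstract counting argument, part 3 (helper16)
-/

set_option autoImplicit false
set_option linter.unusedSectionVars false
set_option linter.style.haveILetI false

namespace Cfsg.Agent.Helper16.TwoIdx

variable {N : Type*} [Group N] [Finite N] {r : ℕ} [hr : Fact r.Prime]
variable {R : Sylow r N} {Z : Subgroup N}

theorem isPGroup_zpowers_of_pow {G : Type*} [Group G] {p : ℕ} [Fact p.Prime] {d : G} {k : ℕ}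
    (h : d ^ p ^ k = 1) : IsPGroup p (Subgroup.zpowers d) := by
  have hd : orderOf d ∣ p ^ k := orderOf_dvd_of_pow_eq_one h
  obtain ⟨j, -, hj⟩ := (Nat.dvd_prime_pow Fact.out).1 hd
  apply IsPGroup.of_card (n := j)
  rw [Nat.card_zpowers, hj]

theorem exists_pow_eq_one_of_mem_sylow {G : Type*} [Group G] {p : ℕ} [Fact p.Prime]
    (P : Sylow p G) {g : G} (hg : g ∈ (P : Subgroup G)) : ∃ k : ℕ, g ^ p ^ k = 1 := by
  obtain ⟨k, hk⟩ := P.2 ⟨g, hg⟩
  exact ⟨k, by simpa using congrArg Subtype.val hk⟩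

namespace CntHyp

/-- The central part of `R`. -/
abbrev ZR (R : Sylow r N) (Z : Subgroup N) : Subgroup N := (R : Subgroup N) ⊓ Z

theorem ZR_le_S (H : CntHyp R Z) (v : N) : ZR R Z ≤ (R : Subgroup N) ⊓ K v :=
  inf_le_inf_left _ (H.Z_le_K v)

theorem RGood.card_ZR_lt (H : CntHyp R Z) {v : N} (hv : RGood R Z v) :
    Nat.card (ZR R Z) < Nat.card ↥((R : Subgroup N) ⊓ K v) := by
  have hle := H.ZR_le_S (R := R) v
  rcases (Subgroup.card_le_of_le hle).lt_or_eq with h | h
  · exact h
  · exfalso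
    have := Subgroup.eq_of_le_of_card_ge hle h.ge
    apply hv.2.2
    rw [← this]
    exact inf_le_right

theorem RGood.mul_card_ZR_le (H : CntHyp R Z) {v : N} (hv : RGood R Z v) :
    r * Nat.card (ZR R Z) ≤ Nat.card ↥((R : Subgroup N) ⊓ K v) := by
  have hlt := hv.card_ZR_lt H
  obtain ⟨i, hi⟩ := IsPGroup.iff_card.1 (R.2.to_le (inf_le_left : (R : Subgroup N) ⊓ K v ≤ R))
  obtain ⟨j, hj⟩ := IsPGroup.iff_card.1 (R.2.to_le (inf_le_left : ZR R Z ≤ R))
  rw [hi, hj] at hlt ⊢
  have hji : j < i := (Nat.pow_lt_pow_iff_right hr.out.one_lt).1 hlt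
  calc r * r ^ j = r ^ (j + 1) := by rw [pow_succ]; ring
    _ ≤ r ^ i := Nat.pow_le_pow_right hr.out.pos hji

/-- `r`-elements of a component lie in `R ⊓ K v`. -/
theorem RGood.mem_of_pow (H : CntHyp R Z) {v : N} (hv : RGood R Z v) {d : N} (hd : d ∈ K v)
    {k : ℕ} (hdr : d ^ r ^ k = 1) : d ∈ (R : Subgroup N) ⊓ K v := by
  set S : Subgroup N := (R : Subgroup N) ⊓ K v with hS
  have hzd : IsPGroup r (Subgroup.zpowers d) := isPGroup_zpowers_of_pow hdr
  have hSp : IsPGroup r S := R.2.to_le inf_le_left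
  have hdc : d ∈ Subgroup.centralizer (S : Set N) := by
    rw [Subgroup.mem_centralizer_iff]
    intro s hs
    exact H.comm_of_mem hv.1 hs.2 hd
  have hle : Subgroup.zpowers d ≤ Subgroup.normalizer (S : Set N) := by
    rw [Subgroup.zpowers_le]
    exact Subgroup.centralizer_le_normalizer _ hdc
  have hP : IsPGroup r (Subgroup.zpowers d ⊔ S : Subgroup N) :=
    hzd.to_sup_of_normal_right' hSp hle
  have hPK : Subgroup.zpowers d ⊔ S ≤ K v :=
    sup_le (by rw [Subgroup.zpowers_le]; exact hd) inf_le_right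
  have h1 := H.hb1 v hv.1 _ hPK hP
  have h2 : Nat.card ↥(Subgroup.zpowers d ⊔ S) ≤ Nat.card S := by
    have := hv.2.1
    rw [← this] at h1
    exact Nat.le_of_mul_le_mul_right h1 hr.out.pos
  have h3 : S = Subgroup.zpowers d ⊔ S := Subgroup.eq_of_le_of_card_ge le_sup_right h2
  rw [h3]
  exact le_sup_left (a := Subgroup.zpowers d) (Subgroup.mem_zpowers d)

/-- The bound on the normalizer of a component. -/
theorem RGood.card_normalizer_le (H : CntHyp R Z) {v : N} (hv : RGood R Z v)
    (hab : Nat.card ↥((R : Subgroup N) ⊓ K v) = r * Nat.card (ZR R Z)) :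
    Nat.card (Subgroup.normalizer ((K v : Subgroup N) : Set N)) ≤
      r * (r - 1) * Nat.card (K v) := by
  set S : Subgroup N := (R : Subgroup N) ⊓ K v with hS
  set Hn := Subgroup.normalizer ((K v : Subgroup N) : Set N) with hHn
  set b := Nat.card (ZR R Z) with hb
  have hKH : K v ≤ Hn := Subgroup.le_normalizer
  have hΩc := card_T (H.ZR_le_S (R := R) v)
  rw [← hS, hab] at hΩc
  have hfo : Nat.card Hn ∣ Nat.card (K v) * Nat.card (T (ZR R Z) S) := by
    apply card_dvd_of_free_conj Hn (K v) hKH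
    · rintro k hk ω ⟨hωS, hωZ⟩
      obtain ⟨j, hj⟩ := exists_pow_eq_one_of_mem_sylow R hωS.1
      have h1 : k * ω * k⁻¹ ∈ K v := (Subgroup.mem_normalizer_iff.1 hk ω).1 hωS.2
      have h2 : (k * ω * k⁻¹) ^ r ^ j = 1 := by
        rw [conj_pow, hj]; group
      refine ⟨hv.mem_of_pow H h1 h2, ?_⟩
      intro h3
      apply hωZ
      refine ⟨hωS.1, ?_⟩
      by_contra h4
      exact H.conj_not_mem_Z k h4 h3.2
    · rintro k hk ω ⟨hωS, hωZ⟩
      have hωZ' : ω ∉ Z := fun h => hωZ ⟨hωS.1, h⟩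
      have hK : K ω = K v := H.ha v hv.1 ω hωS.2 hωZ'
      rw [← hK, mem_K]
      constructor
      · intro h
        have : k * ω = ω * k := by
          calc k * ω = k * ω * k⁻¹ * k := by group
            _ = ω * k := by rw [h]
        exact this.symm
      · intro h
        rw [← h]; group
  -- arithmetic
  have hr2 := hr.out.two_le
  have hbpos : 0 < b := Nat.card_pos
  have hT : Nat.card (T (ZR R Z) S) = (r - 1) * b := by
    have : r * b = (r - 1) * b + b := by
      obtain ⟨c, hc⟩ : ∃ c, r = c + 1 := ⟨r - 1, by omega⟩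
      rw [hc]; simp; ring
    omega
  rw [hT] at hfo
  obtain ⟨τ, hτ⟩ := Subgroup.card_dvd_of_le hKH
  have hhpos : 0 < Nat.card (K v) := Nat.card_pos
  have hτ1 : τ ∣ (r - 1) * b := by
    rw [hτ] at hfo
    exact Nat.dvd_of_mul_dvd_mul_left hhpos hfo
  -- second divisibility
  have hRc : Nat.card (R : Subgroup N) = Nat.card S * r := hv.2.1.symm
  have hcop := R.card_coprime_index
  have hA := Subgroup.card_mul_index (R : Subgroup N)
  obtain ⟨h'', hh''⟩ := Subgroup.card_dvd_of_le (inf_le_right : S ≤ K v)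
  have hSpos : 0 < Nat.card S := Nat.card_pos
  have hτ2 : τ ∣ r * (R : Subgroup N).index := by
    have h1 : Nat.card Hn ∣ Nat.card N := Subgroup.card_subgroup_dvd_card Hn
    rw [hτ, hh'', ← hA, hRc] at h1
    have h2 : Nat.card S * (h'' * τ) ∣ Nat.card S * (r * (R : Subgroup N).index) := by
      have e1 : Nat.card S * h'' * τ = Nat.card S * (h'' * τ) := by ring
      have e2 : Nat.card S * r * (R : Subgroup N).index =
          Nat.card S * (r * (R : Subgroup N).index) := by ring
      rwa [e1, e2] at h1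
    have h3 := Nat.dvd_of_mul_dvd_mul_left hSpos h2
    exact (Dvd.intro_left _ rfl).trans h3
  have hcop' : ((R : Subgroup N).index).Coprime b := by
    have hbR : b ∣ Nat.card (R : Subgroup N) :=
      Subgroup.card_dvd_of_le (inf_le_left : ZR R Z ≤ R)
    exact (Nat.Coprime.coprime_dvd_left hbR hcop).symm
  have hτ3 : τ ∣ r * (r - 1) := by
    have h1 : τ ∣ r * (r - 1) * (R : Subgroup N).index := by
      have : r * (r - 1) * (R : Subgroup N).index = (r - 1) * (r * (R : Subgroup N).index) := by ring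
      rw [this]; exact Dvd.dvd.mul_left hτ2 _
    have h2 : τ ∣ r * (r - 1) * b := by
      have : r * (r - 1) * b = r * ((r - 1) * b) := by ring
      rw [this]; exact Dvd.dvd.mul_left hτ1 _
    have h3 := Nat.dvd_gcd h1 h2
    rw [Nat.gcd_mul_left, hcop', mul_one] at h3
    exact h3
  have hpos : 0 < r * (r - 1) := Nat.mul_pos hr.out.pos (by omega)
  have hτle : τ ≤ r * (r - 1) := Nat.le_of_dvd hpos hτ3
  rw [hτ]
  calc Nat.card (K v) * τ ≤ Nat.card (K v) * (r * (r - 1)) := Nat.mul_le_mul_left _ hτle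
    _ = r * (r - 1) * Nat.card (K v) := by ring

end CntHyp

end Cfsg.Agent.Helper16.TwoIdx
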