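import Mathlib
import Cfsg.Agent.Lib.Helper16.TwoIdxD3

/-!
# Normal subgroups with two class sizes: the abstract counting argument, part 4 (helper16)
-/

set_option autoImplicit false
set_option linter.unusedSectionVars false
set_option linter.style.haveILetI false

namespace Cfsg.Agent.Helper16.TwoIdx

variable {N : Type*} [Group N] [Finite N] {r : ℕ} [hr : Fact r.Prime]
variable {R : Sylow r N} {Z : Subgroup N}

theorem orderOf_conj' {G : Type*} [Group G] (k g : G) : orderOf (k * g * k⁻¹) = orderOf g := by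
  have := orderOf_injective (MulAut.conj k).toMonoidHom (MulAut.conj k).injective g
  simpa using this

namespace CntHyp

/-- The `r'`-part of a component. -/
def Epart (H : CntHyp R Z) {v : N} (hv : v ∉ Z) : Subgroup N where
  carrier := {d | d ∈ K v ∧ (orderOf d).Coprime r}
  one_mem' := ⟨Subgroup.one_mem _, by simp⟩
  mul_mem' := by
    rintro a b ⟨ha, hao⟩ ⟨hb, hbo⟩
    refine ⟨Subgroup.mul_mem _ ha hb, ?_⟩
    have hc : Commute a b := H.comm_of_mem hv ha hb
    exact Nat.Coprime.coprime_dvd_left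
      (hc.orderOf_mul_dvd_lcm.trans (Nat.lcm_dvd_mul _ _)) (Nat.Coprime.mul_left hao hbo)
  inv_mem' := by
    rintro a ⟨ha, hao⟩
    exact ⟨Subgroup.inv_mem _ ha, by rwa [orderOf_inv]⟩

theorem mem_Epart (H : CntHyp R Z) {v : N} (hv : v ∉ Z) {d : N} :
    d ∈ H.Epart hv ↔ d ∈ K v ∧ (orderOf d).Coprime r := Iff.rfl

/-- central `r`-elements lie in `R`. -/
theorem mem_R_of_mem_Z (H : CntHyp R Z) {c : N} (hc : c ∈ Z) {k : ℕ} (hk : c ^ r ^ k = 1) :
    c ∈ (R : Subgroup N) := by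
  obtain ⟨n, hn⟩ := exists_conj_le_sylow (isPGroup_zpowers_of_pow hk) R
  have := hn c (Subgroup.mem_zpowers c)
  have hcc := Subgroup.mem_center_iff.1 (H.hZ hc) n
  have e : n * c * n⁻¹ = c := by rw [hcc]; group
  rwa [e] at this

theorem RGood.card_K_ge (H : CntHyp R Z) {v : N} (hv : RGood R Z v)
    (hab : Nat.card ↥((R : Subgroup N) ⊓ K v) = r * Nat.card (ZR R Z)) :
    r * (r + 1) * Nat.card Z ≤ Nat.card (K v) := by
  classical
  have hr2 := hr.out.two_le
  set S : Subgroup N := (R : Subgroup N) ⊓ K v with hS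
  set E : Subgroup N := H.Epart hv.1 with hE
  set E0 : Subgroup N := E ⊓ Z with hE0
  set b := Nat.card (ZR R Z) with hb
  -- an element of `R` outside `S`
  obtain ⟨u, huR, huS⟩ : ∃ u, u ∈ (R : Subgroup N) ∧ u ∉ S := by
    by_contra hcon
    push Not at hcon
    have hle : (R : Subgroup N) ≤ S := hcon
    have h1 := Subgroup.card_le_of_le hle
    have h2 := hv.2.1
    have hSpos : 0 < Nat.card S := Nat.card_pos
    rw [← hS] at h2
    nlinarith
  have hQ : IsPGroup r (Subgroup.zpowers u) :=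
    R.2.to_le (by rw [Subgroup.zpowers_le]; exact huR)
  have hQn : Subgroup.zpowers u ≤ Subgroup.normalizer ((K v : Subgroup N) : Set N) := by
    rw [Subgroup.zpowers_le]; exact hv.le_normalizer H huR
  have hinv : ∀ k ∈ Subgroup.zpowers u, ∀ ω ∈ (E : Set N), k * ω * k⁻¹ ∈ (E : Set N) := by
    rintro k hk ω ⟨hω1, hω2⟩
    refine ⟨(Subgroup.mem_normalizer_iff.1 (hQn hk) ω).1 hω1, ?_⟩
    rw [orderOf_conj']; exact hω2
  have hmod := card_modEq_card_fixed_conj (Subgroup.zpowers u) hQ (E : Set N) hinv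
  have hfix : Nat.card {ω : N // ω ∈ (E : Set N) ∧ ∀ k ∈ Subgroup.zpowers u, k * ω * k⁻¹ = ω} =
      Nat.card E0 := by
    apply Nat.card_congr
    apply Equiv.subtypeEquivRight
    intro ω
    constructor
    · rintro ⟨hωE, hfixω⟩
      refine ⟨hωE, ?_⟩
      by_contra hωZ
      have hK : K ω = K v := H.ha v hv.1 ω hωE.1 hωZ
      have h1 := hfixω u (Subgroup.mem_zpowers u)
      have h2 : u ∈ K ω := by
        rw [mem_K]
        calc ω * u = u * ω * u⁻¹ * u := by rw [h1]
          _ = u * ω := by group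
      rw [hK] at h2
      exact huS ⟨huR, h2⟩
    · rintro ⟨hωE, hωZ⟩
      refine ⟨hωE, fun k _ => ?_⟩
      have := Subgroup.mem_center_iff.1 (H.hZ hωZ) k
      rw [this]; group
  rw [hfix] at hmod
  have hEc : Nat.card (E : Set N) = Nat.card E := rfl
  rw [hEc] at hmod
  -- `r` does not divide `|E0|`
  have hE0r : ¬ r ∣ Nat.card E0 := by
    intro hdvd
    obtain ⟨x, hx⟩ := exists_prime_orderOf_dvd_card' r hdvd
    have hx' : orderOf (x : N) = r := by rw [Subgroup.orderOf_coe]; exact hx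
    have hxE : (x : N) ∈ E := x.2.1
    have := hxE.2
    rw [hx', Nat.coprime_self] at this
    omega
  obtain ⟨j, hj⟩ := Subgroup.card_dvd_of_le (inf_le_left : E0 ≤ E)
  have hE0pos : 0 < Nat.card E0 := Nat.card_pos
  have hj1 : j ≡ 1 [MOD r] := by
    have h1 : Nat.card E0 * j ≡ Nat.card E0 * 1 [MOD r] := by
      rw [mul_one, ← hj]; exact hmod
    have hg : Nat.gcd r (Nat.card E0) = 1 :=
      (Nat.Prime.coprime_iff_not_dvd hr.out).2 hE0r
    exact Nat.ModEq.cancel_left_of_coprime hg h1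
  -- `E0 ≠ E`
  obtain ⟨y, hyK, hyZ, hyo⟩ := H.hc v hv.1
  have hyE : y ∈ E := ⟨hyK, hyo⟩
  have hj2 : 2 ≤ j := by
    by_contra hlt
    have hj01 : j = 0 ∨ j = 1 := by omega
    rcases hj01 with h0 | h1
    · rw [h0, mul_zero] at hj
      have : 0 < Nat.card E := Nat.card_pos
      omega
    · rw [h1, mul_one] at hj
      have := Subgroup.eq_of_le_of_card_ge (inf_le_left : E0 ≤ E) hj.le
      have hy0 : y ∈ E0 := by
        show y ∈ E ⊓ Z
        rw [this]; exact hyE
      exact hyZ hy0.2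
  have hj3 : r + 1 ≤ j := by
    have h1 : j % r = 1 := by
      have := hj1
      unfold Nat.ModEq at this
      rw [this, Nat.mod_eq_of_lt (by omega)]
    have h2 := Nat.div_add_mod j r
    have h3 : 1 ≤ j / r := by
      by_contra h0
      have : j / r = 0 := Nat.lt_one_iff.1 (not_le.1 h0)
      rw [this, h1] at h2
      omega
    nlinarith
  -- `|S| * |E| ≤ |D|`
  have hSE : Nat.card S * Nat.card E ≤ Nat.card (K v) := by
    rw [← Nat.card_prod]
    let f : S × E → K v := fun p => ⟨p.1.1 * p.2.1, Subgroup.mul_mem _ p.1.2.2 p.2.2.1⟩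
    apply Nat.card_le_card_of_injective f
    rintro ⟨s, e⟩ ⟨s', e'⟩ hf
    have hf' : (s : N) * e = s' * e' := congrArg Subtype.val hf
    have hq : (s' : N)⁻¹ * s = e' * (e : N)⁻¹ := by
      calc (s' : N)⁻¹ * s = (s' : N)⁻¹ * (s * e) * (e : N)⁻¹ := by group
        _ = (s' : N)⁻¹ * (s' * e') * (e : N)⁻¹ := by rw [hf']
        _ = e' * (e : N)⁻¹ := by group
    have hqS : (s' : N)⁻¹ * s ∈ S := S.mul_mem (S.inv_mem s'.2) s.2
    have hqE : (s' : N)⁻¹ * s ∈ E := by rw [hq]; exact E.mul_mem e'.2 (E.inv_mem e.2)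
    obtain ⟨k, hk⟩ := exists_pow_eq_one_of_mem_sylow R hqS.1
    have h1 : (s' : N)⁻¹ * s = 1 := eq_one_of_pow_of_coprime hk hqE.2
    have hs : (s : N) = s' := by
      have := inv_mul_eq_one.1 h1
      exact this.symm
    have he : (e : N) = e' := by
      rw [hs] at hf'
      exact mul_left_cancel hf'
    exact Prod.ext (Subtype.ext hs) (Subtype.ext he)
  -- `|Z| ≤ b * |E0|`
  have hZle : Nat.card Z ≤ b * Nat.card E0 := by
    rw [← Nat.card_prod]
    let f : (ZR R Z) × E0 → Z := fun p => ⟨p.1.1 * p.2.1, Z.mul_mem p.1.2.2 p.2.2.2⟩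
    apply Nat.card_le_card_of_surjective f
    rintro ⟨c, hc⟩
    obtain ⟨u', y', hu', hy', hcuy, ⟨k, hk⟩, hyo'⟩ := exists_parts r c
    have hzc : Subgroup.zpowers c ≤ Z := by rw [Subgroup.zpowers_le]; exact hc
    have hu'Z : u' ∈ Z := hzc hu'
    have hy'Z : y' ∈ Z := hzc hy'
    have hu'R : u' ∈ (R : Subgroup N) := H.mem_R_of_mem_Z hu'Z hk
    refine ⟨(⟨u', hu'R, hu'Z⟩, ⟨y', ⟨H.Z_le_K v hy'Z, hyo'⟩, hy'Z⟩), ?_⟩
    apply Subtype.ext
    exact hcuy.symm
  -- conclusion
  calc r * (r + 1) * Nat.card Z ≤ r * (r + 1) * (b * Nat.card E0) :=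
        Nat.mul_le_mul_left _ hZle
    _ = (r * b) * ((r + 1) * Nat.card E0) := by ring
    _ ≤ (r * b) * (j * Nat.card E0) := by gcongr
    _ = Nat.card S * Nat.card E := by rw [hab, hj]; ring
    _ ≤ Nat.card (K v) := hSE

end CntHyp

end Cfsg.Agent.Helper16.TwoIdx
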