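import Mathlib
import Cfsg.Agent.Lib.Helper16.TwoIdxD4

/-!
# Normal subgroups with two class sizes: the abstract counting argument, part 5 (helper16)
-/

set_option autoImplicit false
set_option linter.unusedSectionVars false
set_option linter.style.haveILetI false

namespace Cfsg.Agent.Helper16.TwoIdx

variable {N : Type*} [Group N] [Finite N] {r : ℕ} [hr : Fact r.Prime]
variable {R : Sylow r N} {Z : Subgroup N}

/-- arithmetic: the size of a union of conjugates -/
theorem arith_cover {k h ν u A t z : ℕ} (hk : k * h ≤ ν) (huν : u * ν = A * t) (htz : t + z = h)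
    (hνA : ν ∣ A) (hν : 0 < ν) (hA : 0 < A) : k * (u + z) ≤ A := by
  obtain ⟨c, rfl⟩ := hνA
  have hc : 1 ≤ c := by
    rcases Nat.eq_zero_or_pos c with h0 | h0
    · rw [h0, mul_zero] at hA; omega
    · exact h0
  have hu : u = c * t := by
    have : ν * u = ν * (c * t) := by rw [mul_comm ν u, huν]; ring
    exact Nat.eq_of_mul_eq_mul_left hν this
  subst hu
  calc k * (c * t + z) ≤ k * (c * t + c * z) := by
        gcongr
        nlinarith
    _ = c * (k * (t + z)) := by ring
    _ = c * (k * h) := by rw [htz]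
    _ ≤ c * ν := Nat.mul_le_mul_left _ hk
    _ = ν * c := by ring

namespace CntHyp

/-- The family of well placed components. -/
noncomputable def fam (R : Sylow r N) (Z : Subgroup N) : Finset (Subgroup N) :=
  (Set.toFinite {D : Subgroup N | ∃ v, RGood R Z v ∧ D = K v}).toFinset

theorem mem_fam {D : Subgroup N} : D ∈ fam R Z ↔ ∃ v, RGood R Z v ∧ D = K v := by
  simp [fam]

theorem card_fam_bound (H : CntHyp R Z) {a : ℕ} (ha : a * r = Nat.card R) :
    (fam R Z).card * (a - Nat.card (ZR R Z)) + Nat.card (ZR R Z) ≤ Nat.card R := by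
  classical
  set b := Nat.card (ZR R Z) with hb
  have hr0 : 0 < r := hr.out.pos
  -- each member contributes `a - b`
  have hmemc : ∀ D : fam R Z, Nat.card (T (ZR R Z) ((R : Subgroup N) ⊓ D.1)) = a - b := by
    rintro ⟨D, hD⟩
    obtain ⟨v, hv, rfl⟩ := mem_fam.1 hD
    have h1 := card_T (H.ZR_le_S (R := R) v)
    have h2 := hv.2.1
    rw [← ha] at h2
    have h3 : Nat.card ↥((R : Subgroup N) ⊓ K v) = a := Nat.eq_of_mul_eq_mul_right hr0 h2
    show Nat.card (T (ZR R Z) ((R : Subgroup N) ⊓ K v)) = a - b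
    omega
  have htot : Nat.card (T (ZR R Z) (R : Subgroup N)) + b = Nat.card (R : Subgroup N) :=
    card_T (inf_le_left : ZR R Z ≤ (R : Subgroup N))
  -- the injection
  let f : (Σ D : fam R Z, T (ZR R Z) ((R : Subgroup N) ⊓ D.1)) → T (ZR R Z) (R : Subgroup N) :=
    fun p => ⟨p.2.1, p.2.2.1.1, p.2.2.2⟩
  have hf : Function.Injective f := by
    rintro ⟨D, d⟩ ⟨D', d'⟩ hdd
    have hdeq : (d : N) = d' := congrArg Subtype.val hdd
    have hDD : D = D' := by
      obtain ⟨v, hv, hDv⟩ := mem_fam.1 D.2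
      obtain ⟨v', hv', hDv'⟩ := mem_fam.1 D'.2
      obtain ⟨x, hx, hxR, hxD, hxZ⟩ : ∃ x : N, x = (d : N) ∧ x ∈ (R : Subgroup N) ∧
          x ∈ (D : Subgroup N) ∧ x ∉ ZR R Z := ⟨d, rfl, d.2.1.1, d.2.1.2, d.2.2⟩
      have hxD' : x ∈ (D' : Subgroup N) := by rw [hx, hdeq]; exact d'.2.1.2
      rw [hDv] at hxD
      rw [hDv'] at hxD'
      have hdZ : x ∉ Z := fun h => hxZ ⟨hxR, h⟩
      have e1 : K x = K v := H.ha v hv.1 x hxD hdZ
      have e2 : K x = K v' := H.ha v' hv'.1 x hxD' hdZ
      apply Subtype.ext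
      rw [hDv, hDv', ← e1, ← e2]
    subst hDD
    have : d = d' := Subtype.ext hdeq
    rw [this]
  have hle := Nat.card_le_card_of_injective f hf
  rw [Nat.card_sigma] at hle
  simp_rw [hmemc] at hle
  rw [Finset.sum_const, Finset.card_univ, Fintype.card_coe, smul_eq_mul] at hle
  omega

end CntHyp

end Cfsg.Agent.Helper16.TwoIdx
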