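import Mathlib
import Cfsg.Agent.Lib.Helper16.TwoIdxD5

/-!
# Normal subgroups with two class sizes: the abstract counting argument, part 6 (helper16)
-/

set_option autoImplicit false
set_option linter.unusedSectionVars false
set_option linter.style.haveILetI false

namespace Cfsg.Agent.Helper16.TwoIdx

variable {N : Type*} [Group N] [Finite N] {r : ℕ} [hr : Fact r.Prime]
variable {R : Sylow r N} {Z : Subgroup N}

namespace CntHyp

/-- numeric data of a member of the family -/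
theorem fam_data (H : CntHyp R Z) {D : Subgroup N} (hD : D ∈ fam R Z) :
    ∃ t : ℕ, (U Z D).ncard * Nat.card (Subgroup.normalizer ((D : Subgroup N) : Set N)) =
        Nat.card N * t ∧ t + Nat.card Z = Nat.card D ∧
      r * Nat.card D ∣ Nat.card (Subgroup.normalizer ((D : Subgroup N) : Set N)) := by
  obtain ⟨v, hv, rfl⟩ := mem_fam.1 hD
  refine ⟨Nat.card (T Z (K v)), ?_, card_T (H.Z_le_K v), hv.mul_card_dvd H⟩
  rw [← _root_.Nat.card_coe_set_eq]
  exact H.card_U hv.1

theorem fam_cover (H : CntHyp R Z) {w : N} (hw : w ∉ Z) : ∃ D ∈ fam R Z, w ∈ U Z D := by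
  obtain ⟨v, hv, hwv⟩ := H.exists_RGood_cover hw
  exact ⟨K v, mem_fam.2 ⟨v, hv, rfl⟩, hwv⟩

theorem card_compl (Z : Subgroup N) : (T Z (⊤ : Subgroup N)).ncard + Nat.card Z = Nat.card N := by
  have := card_T (le_top : Z ≤ (⊤ : Subgroup N))
  rwa [_root_.Nat.card_coe_set_eq, Subgroup.card_top] at this

theorem card_Z_lt (H : CntHyp R Z) : Nat.card Z < Nat.card N := by
  have h1 : Nat.card Z ≤ Nat.card N := Subgroup.card_le_card_group Z
  rcases h1.lt_or_eq with h | h
  · exact h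
  · exfalso
    have : Z = ⊤ := Subgroup.card_eq_iff_eq_top Z |>.1 h
    apply H.hd
    rw [this]; exact le_top

/-- A cover by at most `r` members of the family is impossible. -/
theorem false_of_small_cover (H : CntHyp R Z) (𝒯 : Finset (Subgroup N)) (h𝒯 : 𝒯 ⊆ fam R Z)
    (hcard : 𝒯.card ≤ r) (hcov : ∀ w : N, w ∉ Z → ∃ D ∈ 𝒯, w ∈ U Z D) : False := by
  classical
  have hr2 := hr.out.two_le
  set A := Nat.card N with hA
  set z := Nat.card Z with hz
  have hzpos : 0 < z := Nat.card_pos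
  have hApos : 0 < A := Nat.card_pos
  have hzA : z < A := H.card_Z_lt
  have hcompl := card_compl Z
  have hsub : T Z (⊤ : Subgroup N) ⊆ ⋃ D ∈ 𝒯, U Z D := by
    rintro w ⟨-, hw⟩
    obtain ⟨D, hD, hwD⟩ := hcov w hw
    exact Set.mem_biUnion hD hwD
  have h1 : (T Z (⊤ : Subgroup N)).ncard ≤ ∑ D ∈ 𝒯, (U Z D).ncard :=
    (Set.ncard_le_ncard hsub (Set.toFinite _)).trans (Finset.set_ncard_biUnion_le _ _)
  have h2 : ∀ D ∈ 𝒯, r * ((U Z D).ncard + z) ≤ A := by
    intro D hD
    obtain ⟨t, ht1, ht2, ht3⟩ := H.fam_data (h𝒯 hD)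
    exact arith_cover (Nat.le_of_dvd Nat.card_pos ht3) ht1 ht2
      (Subgroup.card_subgroup_dvd_card _) Nat.card_pos hApos
  have h3 : ∑ D ∈ 𝒯, r * ((U Z D).ncard + z) ≤ 𝒯.card * A := by
    calc ∑ D ∈ 𝒯, r * ((U Z D).ncard + z) ≤ ∑ _D ∈ 𝒯, A := Finset.sum_le_sum h2
      _ = 𝒯.card * A := by rw [Finset.sum_const, smul_eq_mul]
  have h4 : ∑ D ∈ 𝒯, r * ((U Z D).ncard + z) =
      r * (∑ D ∈ 𝒯, (U Z D).ncard) + r * (𝒯.card * z) := by
    rw [← Finset.mul_sum, Finset.sum_add_distrib, Finset.sum_const, smul_eq_mul]; ring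
  set s := ∑ D ∈ 𝒯, (U Z D).ncard with hs
  set c := 𝒯.card with hc
  -- r s + r c z ≤ c A ≤ c (z + s)
  have h5 : r * s + r * (c * z) ≤ c * (z + s) := by
    calc r * s + r * (c * z) ≤ c * A := by rw [← h4]; exact h3
      _ ≤ c * (z + s) := by
          apply Nat.mul_le_mul_left
          omega
  -- hence c = 0
  have hc0 : c = 0 := by
    by_contra hne
    have hcpos : 1 ≤ c := Nat.one_le_iff_ne_zero.2 hne
    have h6 : c * s ≤ r * s := Nat.mul_le_mul_right _ hcard
    have h7 : c * z < r * (c * z) := by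
      have : 0 < c * z := Nat.mul_pos hcpos hzpos
      nlinarith
    nlinarith
  have : s = 0 := by
    rw [hs]
    have : 𝒯 = ∅ := Finset.card_eq_zero.1 hc0
    rw [this]; simp
  omega

end CntHyp

end Cfsg.Agent.Helper16.TwoIdx
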