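import Mathlib
import Cfsg.Agent.Lib.Helper16.TwoIdxD6

/-!
# Normal subgroups with two class sizes: the abstract counting argument, part 7 (helper16)
-/

set_option autoImplicit false
set_option linter.unusedSectionVars false
set_option linter.style.haveILetI false

namespace Cfsg.Agent.Helper16.TwoIdx

variable {N : Type*} [Group N] [Finite N] {r : ℕ} [hr : Fact r.Prime]
variable {R : Sylow r N} {Z : Subgroup N}

/-- arithmetic: lower bound for a union of conjugates -/
theorem arith_lower {r c h ν u A t z : ℕ} (hr : 2 ≤ r) (hν : ν ≤ c * h) (huν : u * ν = A * t)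
    (htz : t + z = h) (hz : r * (r + 1) * z ≤ h) (hh : 0 < h) :
    (r * r + r - 1) * A ≤ r * (r + 1) * c * u := by
  -- r(r+1) c u h ≥ r(r+1) u ν = r(r+1) A t ≥ (r²+r-1) A h
  have h1 : r * (r + 1) * (u * ν) ≤ r * (r + 1) * c * u * h := by
    calc r * (r + 1) * (u * ν) ≤ r * (r + 1) * (u * (c * h)) := by gcongr
      _ = r * (r + 1) * c * u * h := by ring
  have h2 : (r * r + r - 1) * A * h ≤ r * (r + 1) * (A * t) := by
    have e : r * r + r - 1 + 1 = r * (r + 1) := by
      have : 1 ≤ r * r + r := by nlinarith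
      rw [Nat.sub_add_cancel this]; ring
    have h3 : A * (r * (r + 1) * z) ≤ A * h := Nat.mul_le_mul_left _ hz
    have h4 : r * (r + 1) * (A * t) + A * (r * (r + 1) * z) = r * (r + 1) * A * h := by
      rw [← htz]; ring
    have h5 : (r * r + r - 1) * A * h + A * h = r * (r + 1) * A * h := by
      rw [← e]; ring
    omega
  rw [huν] at h1
  exact Nat.le_of_mul_le_mul_right (h2.trans h1) hh

theorem arith_case1 {r s0 u1 u2 z A : ℕ} (hr : 2 ≤ r) (hz : 0 < z)
    (h3 : r * s0 + r * ((r - 1) * z) ≤ (r - 1) * A) (h1 : 2 * r * (u1 + z) ≤ A)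
    (h2 : 2 * r * (u2 + z) ≤ A) (hA : A ≤ s0 + u1 + u2 + z) : False := by
  obtain ⟨ρ, rfl⟩ : ∃ ρ, r = ρ + 1 := ⟨r - 1, by omega⟩
  simp only [Nat.add_sub_cancel] at h3
  have h4 := Nat.mul_le_mul_left (ρ + 1) hA
  have p1 : 0 ≤ ρ * ρ * z := Nat.zero_le _
  have p2 : 0 ≤ ρ * z := Nat.zero_le _
  zify at *
  nlinarith

theorem arith_case2 {r s0 us z A : ℕ} (hr : 2 ≤ r) (hz : 0 < z)
    (hrest : r * ((r * r + r - 1) * A) ≤ r * (r + 1) * r * s0)
    (hlows : (r * r + r - 1) * A ≤ r * (r + 1) * (r * (r - 1)) * us)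
    (hA : s0 + us + z ≤ A) : False := by
  obtain ⟨ρ, rfl⟩ : ∃ ρ, r = ρ + 2 := ⟨r - 2, by omega⟩
  have e3 : (ρ + 2) * (ρ + 2) + (ρ + 2) - 1 = ρ * ρ + 5 * ρ + 5 := by
    have : (ρ + 2) * (ρ + 2) + (ρ + 2) = ρ * ρ + 5 * ρ + 5 + 1 := by ring
    omega
  have e4 : ρ + 2 - 1 = ρ + 1 := by omega
  rw [e3] at hrest hlows
  rw [e4] at hlows
  have h5 := Nat.mul_le_mul_left (ρ + 1) hrest
  have h6 := Nat.mul_le_mul_left ((ρ + 2) * (ρ + 3) * ((ρ + 2) * (ρ + 1))) hA
  clear e3 e4
  have hApos : 0 < A := by omega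
  -- total: ((ρ+1)(ρ+2)+1)(ρ²+5ρ+5) A ≤ (ρ+2)²(ρ+3)(ρ+1) (s0+us)
  have h7 : ((ρ + 1) * (ρ + 2) + 1) * ((ρ * ρ + 5 * ρ + 5) * A) ≤
      (ρ + 2) * (ρ + 3) * ((ρ + 2) * (ρ + 1)) * (s0 + us) := by
    calc ((ρ + 1) * (ρ + 2) + 1) * ((ρ * ρ + 5 * ρ + 5) * A)
        = (ρ + 1) * ((ρ + 2) * ((ρ * ρ + 5 * ρ + 5) * A)) + (ρ * ρ + 5 * ρ + 5) * A := by ring
      _ ≤ (ρ + 1) * ((ρ + 2) * (ρ + 2 + 1) * (ρ + 2) * s0) +
          (ρ + 2) * (ρ + 2 + 1) * ((ρ + 2) * (ρ + 1)) * us := Nat.add_le_add h5 hlows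
      _ = (ρ + 2) * (ρ + 3) * ((ρ + 2) * (ρ + 1)) * (s0 + us) := by ring
  have h8 : (ρ + 2) * (ρ + 3) * ((ρ + 2) * (ρ + 1)) * (s0 + us) <
      (ρ + 2) * (ρ + 3) * ((ρ + 2) * (ρ + 1)) * A := by
    apply Nat.mul_lt_mul_of_pos_left
    · omega
    · positivity
  have h9 : (ρ + 2) * (ρ + 3) * ((ρ + 2) * (ρ + 1)) * A ≤
      ((ρ + 1) * (ρ + 2) + 1) * ((ρ * ρ + 5 * ρ + 5) * A) := by
    have : (ρ + 2) * (ρ + 3) * ((ρ + 2) * (ρ + 1)) ≤ ((ρ + 1) * (ρ + 2) + 1) * (ρ * ρ + 5 * ρ + 5) := by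
      ring_nf
      nlinarith [Nat.zero_le ρ, Nat.zero_le (ρ^2), Nat.zero_le (ρ^3)]
    calc (ρ + 2) * (ρ + 3) * ((ρ + 2) * (ρ + 1)) * A
        ≤ ((ρ + 1) * (ρ + 2) + 1) * (ρ * ρ + 5 * ρ + 5) * A := Nat.mul_le_mul_right _ this
      _ = ((ρ + 1) * (ρ + 2) + 1) * ((ρ * ρ + 5 * ρ + 5) * A) := by ring
  omega

namespace CntHyp

/-- The abstract counting argument: the hypotheses are contradictory. -/
theorem false (H : CntHyp R Z) : False := by
  classical
  have hr2 := hr.out.two_le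
  have hApos : 0 < Nat.card N := Nat.card_pos
  have hzpos : 0 < Nat.card Z := Nat.card_pos
  have hbig : r + 1 ≤ (fam R Z).card := by
    by_contra h
    exact H.false_of_small_cover (fam R Z) subset_rfl (by omega) (fun w hw => H.fam_cover hw)
  have hne : (fam R Z).Nonempty := Finset.card_pos.1 (by omega)
  obtain ⟨D0, hD0⟩ := hne
  obtain ⟨v0, hv0, hD0v⟩ := mem_fam.1 hD0
  obtain ⟨a, ha⟩ : ∃ a, a = Nat.card ↥((R : Subgroup N) ⊓ K v0) := ⟨_, rfl⟩
  obtain ⟨b, hb⟩ : ∃ b, b = Nat.card (ZR R Z) := ⟨_, rfl⟩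
  have hbpos : 0 < b := by rw [hb]; exact Nat.card_pos
  have har : a * r = Nat.card R := by rw [ha]; exact hv0.2.1
  have hbound := H.card_fam_bound har
  rw [← hb] at hbound
  have hrb : r * b ≤ a := by rw [ha, hb]; exact hv0.mul_card_ZR_le H
  have hab : a = r * b := by
    have h1 : (r + 1) * (a - b) + b ≤ a * r := by
      calc (r + 1) * (a - b) + b ≤ (fam R Z).card * (a - b) + b := by gcongr
        _ ≤ Nat.card R := hbound
        _ = a * r := har.symm
    have hba : b ≤ a := by nlinarith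
    obtain ⟨d, hd⟩ : ∃ d, a = b + d := ⟨a - b, by omega⟩
    rw [hd] at h1 hrb ⊢
    rw [Nat.add_sub_cancel_left] at h1
    nlinarith
  have hcard : (fam R Z).card = r + 1 := by
    apply le_antisymm _ hbig
    by_contra hgt
    push Not at hgt
    obtain ⟨e, he⟩ : ∃ e, e + b = r * b := ⟨r * b - b, by
      have : b ≤ r * b := by nlinarith
      omega⟩
    have h1 : (fam R Z).card * e + b ≤ r * b * r := by
      have : a - b = e := by omega
      rw [← this, ← hab, har]; exact hbound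
    have h2 : (r + 2) * e ≤ (fam R Z).card * e := Nat.mul_le_mul_right _ hgt
    have h3 : r * b * r = r * e + r * b := by
      calc r * b * r = (e + b) * r := by rw [he]
        _ = r * e + r * b := by ring
    have h4 : 0 < e := by
      by_contra h0
      have : e = 0 := by omega
      rw [this, zero_add] at he
      nlinarith
    nlinarith
  -- every member has `|R ⊓ K v| = r b`
  have habD : ∀ v, RGood R Z v → Nat.card ↥((R : Subgroup N) ⊓ K v) = r * Nat.card (ZR R Z) := by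
    intro v hv
    have h1 := hv.2.1
    rw [← har, hab] at h1
    rw [← hb]
    exact Nat.eq_of_mul_eq_mul_right hr.out.pos h1
  -- pairwise disjointness
  have hdisj : ∀ D ∈ fam R Z, ∀ D' ∈ fam R Z, D ≠ D' → Disjoint (U Z D) (U Z D') := by
    intro D hD D' hD' hne
    rw [Set.disjoint_left]
    intro w hw hw'
    obtain ⟨v, hv, rfl⟩ := mem_fam.1 hD
    obtain ⟨v', hv', rfl⟩ := mem_fam.1 hD'
    have hU := H.U_eq_of_inter hv.1 hv'.1 hw hw'
    apply H.false_of_small_cover ((fam R Z).erase (K v')) (Finset.erase_subset _ _)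
      (by rw [Finset.card_erase_of_mem hD', hcard]; simp)
    intro x hx
    obtain ⟨D'', hD'', hxD''⟩ := H.fam_cover hx
    by_cases h : D'' = K v'
    · subst h
      exact ⟨K v, Finset.mem_erase.2 ⟨hne, hD⟩, hU ▸ hxD''⟩
    · exact ⟨D'', Finset.mem_erase.2 ⟨h, hD''⟩, hxD''⟩
  -- the two sum bounds
  have hcompl := card_compl Z
  have hsum_ge : (T Z (⊤ : Subgroup N)).ncard ≤ ∑ D ∈ fam R Z, (U Z D).ncard := by
    have hsub : T Z (⊤ : Subgroup N) ⊆ ⋃ D ∈ fam R Z, U Z D := by
      rintro w ⟨-, hw⟩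
      obtain ⟨D, hD, hwD⟩ := H.fam_cover hw
      exact Set.mem_biUnion hD hwD
    exact (Set.ncard_le_ncard hsub (Set.toFinite _)).trans (Finset.set_ncard_biUnion_le _ _)
  have hsum_le : ∑ D ∈ fam R Z, (U Z D).ncard ≤ (T Z (⊤ : Subgroup N)).ncard := by
    have hsub : (⋃ D ∈ (fam R Z : Set (Subgroup N)), U Z D) ⊆ T Z (⊤ : Subgroup N) := by
      intro w hw
      obtain ⟨D, -, hwD⟩ := Set.mem_iUnion₂.1 hw
      exact ⟨Subgroup.mem_top w, hwD.1⟩
    have hpd : (fam R Z : Set (Subgroup N)).PairwiseDisjoint (fun D => U Z D) := by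
      intro D hD D' hD' hne
      exact hdisj D hD D' hD' hne
    have h1 := Set.Finite.ncard_biUnion (Finset.finite_toSet (fam R Z))
      (fun D _ => Set.toFinite (U Z D)) hpd
    rw [finsum_mem_coe_finset] at h1
    rw [← h1]
    exact Set.ncard_le_ncard hsub (Set.toFinite _)
  -- member data
  have hdata : ∀ D ∈ fam R Z, ∃ t : ℕ,
      (U Z D).ncard * Nat.card (Subgroup.normalizer ((D : Subgroup N) : Set N)) =
        Nat.card N * t ∧ t + Nat.card Z = Nat.card D ∧
      r * Nat.card D ∣ Nat.card (Subgroup.normalizer ((D : Subgroup N) : Set N)) ∧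
      Nat.card (Subgroup.normalizer ((D : Subgroup N) : Set N)) ≤ r * (r - 1) * Nat.card D ∧
      r * (r + 1) * Nat.card Z ≤ Nat.card D := by
    intro D hD
    obtain ⟨t, h1, h2, h3⟩ := H.fam_data hD
    obtain ⟨v, hv, rfl⟩ := mem_fam.1 hD
    exact ⟨t, h1, h2, h3, hv.card_normalizer_le H (habD v hv), hv.card_K_ge H (habD v hv)⟩
  -- general upper bound r (u + z) ≤ A
  have hup : ∀ D ∈ fam R Z, r * ((U Z D).ncard + Nat.card Z) ≤ Nat.card N := by
    intro D hD
    obtain ⟨t, h1, h2, h3, -, -⟩ := hdata D hD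
    exact arith_cover (Nat.le_of_dvd Nat.card_pos h3) h1 h2
      (Subgroup.card_subgroup_dvd_card _) Nat.card_pos hApos
  by_cases hcase : ∃ D1 ∈ fam R Z, ∃ D2 ∈ fam R Z, D1 ≠ D2 ∧
      Nat.card (Subgroup.normalizer ((D1 : Subgroup N) : Set N)) ≠ r * Nat.card D1 ∧
      Nat.card (Subgroup.normalizer ((D2 : Subgroup N) : Set N)) ≠ r * Nat.card D2
  · -- two members with a large normalizer: the cover is too small
    obtain ⟨D1, hD1, D2, hD2, hne, hν1, hν2⟩ := hcase
    have hup2 : ∀ D ∈ fam R Z,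
        Nat.card (Subgroup.normalizer ((D : Subgroup N) : Set N)) ≠ r * Nat.card D →
        2 * r * ((U Z D).ncard + Nat.card Z) ≤ Nat.card N := by
      intro D hD hν
      obtain ⟨t, h1, h2, h3, -, -⟩ := hdata D hD
      obtain ⟨c, hc⟩ := h3
      have hc2 : 2 ≤ c := by
        by_contra hlt
        have hc01 : c = 0 ∨ c = 1 := by omega
        rcases hc01 with h0 | h1'
        · rw [h0, mul_zero] at hc
          have : 0 < Nat.card (Subgroup.normalizer ((D : Subgroup N) : Set N)) := Nat.card_pos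
          omega
        · rw [h1', mul_one] at hc
          exact hν hc
      have hk : 2 * r * Nat.card D ≤ Nat.card (Subgroup.normalizer ((D : Subgroup N) : Set N)) := by
        rw [hc]
        calc 2 * r * Nat.card D = r * Nat.card D * 2 := by ring
          _ ≤ r * Nat.card D * c := Nat.mul_le_mul_left _ hc2
      exact arith_cover hk h1 h2 (Subgroup.card_subgroup_dvd_card _) Nat.card_pos hApos
    have hD2' : D2 ∈ (fam R Z).erase D1 := Finset.mem_erase.2 ⟨hne.symm, hD2⟩
    have e1 := Finset.add_sum_erase (fam R Z) (fun D => (U Z D).ncard) hD1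
    have e2 := Finset.add_sum_erase ((fam R Z).erase D1) (fun D => (U Z D).ncard) hD2'
    have hrest : ∑ D ∈ ((fam R Z).erase D1).erase D2, r * ((U Z D).ncard + Nat.card Z) ≤
        (r - 1) * Nat.card N := by
      calc ∑ D ∈ ((fam R Z).erase D1).erase D2, r * ((U Z D).ncard + Nat.card Z)
          ≤ ∑ _D ∈ ((fam R Z).erase D1).erase D2, Nat.card N := by
            apply Finset.sum_le_sum
            intro D hD
            exact hup D (Finset.mem_of_mem_erase (Finset.mem_of_mem_erase hD))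
        _ = (r - 1) * Nat.card N := by
            rw [Finset.sum_const, smul_eq_mul, Finset.card_erase_of_mem hD2',
              Finset.card_erase_of_mem hD1, hcard]
            simp
    have hrest' : ∑ D ∈ ((fam R Z).erase D1).erase D2, r * ((U Z D).ncard + Nat.card Z) =
        r * (∑ D ∈ ((fam R Z).erase D1).erase D2, (U Z D).ncard) + r * ((r - 1) * Nat.card Z) := by
      rw [← Finset.mul_sum, Finset.sum_add_distrib, Finset.sum_const, smul_eq_mul,
        Finset.card_erase_of_mem hD2', Finset.card_erase_of_mem hD1, hcard]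
      simp
      ring
    have h1 := hup2 D1 hD1 hν1
    have h2 := hup2 D2 hD2 hν2
    have h3 : r * (∑ D ∈ ((fam R Z).erase D1).erase D2, (U Z D).ncard) +
        r * ((r - 1) * Nat.card Z) ≤ (r - 1) * Nat.card N := by
      rw [← hrest']; exact hrest
    have hA : Nat.card N ≤ (∑ D ∈ ((fam R Z).erase D1).erase D2, (U Z D).ncard) +
        (U Z D1).ncard + (U Z D2).ncard + Nat.card Z := by
      have e1' : (U Z D1).ncard + ∑ x ∈ (fam R Z).erase D1, (U Z x).ncard =
          ∑ D ∈ fam R Z, (U Z D).ncard := e1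
      have e2' : (U Z D2).ncard + ∑ x ∈ ((fam R Z).erase D1).erase D2, (U Z x).ncard =
          ∑ x ∈ (fam R Z).erase D1, (U Z x).ncard := e2
      omega
    exact arith_case1 hr2 hzpos h3 h1 h2 hA
  · -- at most one member with a large normalizer: the disjoint union is too big
    push Not at hcase
    obtain ⟨Ds, hDs, hDs'⟩ : ∃ Ds ∈ fam R Z, ∀ D ∈ fam R Z, D ≠ Ds →
        Nat.card (Subgroup.normalizer ((D : Subgroup N) : Set N)) = r * Nat.card D := by
      by_cases hex : ∃ D1 ∈ fam R Z,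
          Nat.card (Subgroup.normalizer ((D1 : Subgroup N) : Set N)) ≠ r * Nat.card D1
      · obtain ⟨D1, hD1, hν1⟩ := hex
        refine ⟨D1, hD1, fun D hD hne => ?_⟩
        by_contra hν
        exact hν (hcase D1 hD1 D hD hne.symm hν1)
      · push Not at hex
        exact ⟨D0, hD0, fun D hD _ => hex D hD⟩
    have hlow : ∀ D ∈ fam R Z, D ≠ Ds →
        (r * r + r - 1) * Nat.card N ≤ r * (r + 1) * r * (U Z D).ncard := by
      intro D hD hne
      obtain ⟨t, h1, h2, -, -, h5⟩ := hdata D hD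
      exact arith_lower hr2 (hDs' D hD hne).le h1 h2 h5 Nat.card_pos
    have hlows : (r * r + r - 1) * Nat.card N ≤ r * (r + 1) * (r * (r - 1)) * (U Z Ds).ncard := by
      obtain ⟨t, h1, h2, -, h4, h5⟩ := hdata Ds hDs
      exact arith_lower hr2 h4 h1 h2 h5 Nat.card_pos
    have e1 := Finset.add_sum_erase (fam R Z) (fun D => (U Z D).ncard) hDs
    have hrest : r * ((r * r + r - 1) * Nat.card N) ≤
        r * (r + 1) * r * ∑ D ∈ (fam R Z).erase Ds, (U Z D).ncard := by
      rw [Finset.mul_sum]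
      calc r * ((r * r + r - 1) * Nat.card N)
          = ∑ _D ∈ (fam R Z).erase Ds, (r * r + r - 1) * Nat.card N := by
            rw [Finset.sum_const, smul_eq_mul, Finset.card_erase_of_mem hDs, hcard]
            simp
        _ ≤ ∑ D ∈ (fam R Z).erase Ds, r * (r + 1) * r * (U Z D).ncard := by
            apply Finset.sum_le_sum
            intro D hD
            exact hlow D (Finset.mem_of_mem_erase hD) (Finset.ne_of_mem_erase hD)
    have hA : (∑ D ∈ (fam R Z).erase Ds, (U Z D).ncard) + (U Z Ds).ncard + Nat.card Z ≤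
        Nat.card N := by
      have e1' : (U Z Ds).ncard + ∑ x ∈ (fam R Z).erase Ds, (U Z x).ncard =
          ∑ D ∈ fam R Z, (U Z D).ncard := e1
      omega
    exact arith_case2 hr2 hzpos hrest hlows hA

end CntHyp

end Cfsg.Agent.Helper16.TwoIdx
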