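import Mathlib
import Cfsg.Agent.Lib.Helper16.TwoIdxD7

/-!
# Normal subgroups with two class sizes: the group-level context, part 1 (helper16)
-/

set_option autoImplicit false
set_option linter.unusedSectionVars false
set_option linter.style.haveILetI false

namespace Cfsg.Agent.Helper16.TwoIdx

variable {G : Type*} [Group G] [Finite G] {r : ℕ} [hr : Fact r.Prime]

/-- The hypotheses of the statement. -/
structure Ctx (R : Sylow r G) (N : Subgroup G) (m : ℕ) : Prop where
  nN : N.Normal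
  hRN : (R : Subgroup G) ≤ N
  hR : ¬ (R : Subgroup G) ≤ Subgroup.center G
  h : ∀ x ∈ N, (K x).index = 1 ∨ (K x).index = m

variable {R : Sylow r G} {N : Subgroup G} {m : ℕ}

theorem conj_mem_center_iff {c : G} (a : G) :
    a * c * a⁻¹ ∈ Subgroup.center G ↔ c ∈ Subgroup.center G := by
  constructor
  · intro h
    have h1 := (Subgroup.center G).normal_of_characteristic.conj_mem _ h a⁻¹
    have e : a⁻¹ * (a * c * a⁻¹) * a⁻¹⁻¹ = c := by group
    rwa [e] at h1
  · intro h
    exact (Subgroup.center G).normal_of_characteristic.conj_mem _ h a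

theorem conj_eq_of_mem_center {c : G} (a : G) (hc : c ∈ Subgroup.center G) : a * c * a⁻¹ = c := by
  have := Subgroup.mem_center_iff.1 hc a
  rw [this]; group

namespace Ctx

theorem conj_mem_N (C : Ctx R N m) {x : G} (a : G) (hx : x ∈ N) : a * x * a⁻¹ ∈ N :=
  C.nN.conj_mem x hx a

theorem index_eq (C : Ctx R N m) {x : G} (hx : x ∈ N) (hxc : x ∉ Subgroup.center G) :
    (K x).index = m := by
  rcases C.h x hx with h | h
  · exfalso
    apply hxc
    rw [← K_eq_top_iff]
    exact Subgroup.index_eq_one.1 h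
  · exact h

theorem m_pos (C : Ctx R N m) : 0 < m := by
  obtain ⟨x, hxR, hxc⟩ := SetLike.not_le_iff_exists.1 C.hR
  rw [← C.index_eq (C.hRN hxR) hxc]
  exact Nat.pos_of_ne_zero Subgroup.index_ne_zero_of_finite

theorem card_K (C : Ctx R N m) {x : G} (hx : x ∈ N) (hxc : x ∉ Subgroup.center G) :
    Nat.card (K x) * m = Nat.card G := by
  rw [← C.index_eq hx hxc]; exact Subgroup.card_mul_index _

theorem K_eq_of_le (C : Ctx R N m) {x y : G} (hx : x ∈ N) (hxc : x ∉ Subgroup.center G)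
    (hy : y ∈ N) (hyc : y ∉ Subgroup.center G) (hle : K x ≤ K y) : K x = K y := by
  have h1 := Subgroup.relIndex_mul_index hle
  rw [C.index_eq hx hxc, C.index_eq hy hyc] at h1
  have h2 : (K x).relIndex (K y) = 1 := by
    have hm := C.m_pos
    have : (K x).relIndex (K y) * m = 1 * m := by rw [h1, one_mul]
    exact Nat.eq_of_mul_eq_mul_right hm this
  exact le_antisymm hle (Subgroup.relIndex_eq_one.1 h2)

/-- The key lemma on commuting elements of coprime orders. -/
theorem K_le_of_coprime (C : Ctx R N m) {x v : G} (hx : x ∈ N) (hxc : x ∉ Subgroup.center G)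
    (hv : v ∈ N) (hcomm : Commute x v) (hcop : (orderOf x).Coprime (orderOf v)) :
    K x ≤ K v := by
  obtain ⟨h1, h2⟩ := mem_zpowers_mul_of_coprime hcomm hcop
  have hxv : x * v ∈ N := N.mul_mem hx hv
  have hxvc : x * v ∉ Subgroup.center G := by
    intro h
    apply hxc
    have : Subgroup.zpowers (x * v) ≤ Subgroup.center G := by
      rw [Subgroup.zpowers_le]; exact h
    exact this h1
  have e := C.K_eq_of_le hxv hxvc hx hxc (K_le_of_mem_zpowers h1)
  rw [← e]
  exact K_le_of_mem_zpowers h2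

theorem le_N_of_isPGroup (C : Ctx R N m) {P : Subgroup G} (hP : IsPGroup r P) : P ≤ N := by
  obtain ⟨k, hk⟩ := exists_conj_le_sylow hP R
  intro p hp
  have h1 : k * p * k⁻¹ ∈ N := C.hRN (hk p hp)
  have h2 := C.conj_mem_N k⁻¹ h1
  have e : k⁻¹ * (k * p * k⁻¹) * k⁻¹⁻¹ = p := by group
  rwa [e] at h2

theorem mem_N_of_pow (C : Ctx R N m) {g : G} {k : ℕ} (hg : g ^ r ^ k = 1) : g ∈ N :=
  C.le_N_of_isPGroup (isPGroup_zpowers_of_pow hg) (Subgroup.mem_zpowers g)

theorem mem_R_of_center {c : G} (R : Sylow r G) (hc : c ∈ Subgroup.center G) {k : ℕ}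
    (hk : c ^ r ^ k = 1) : c ∈ (R : Subgroup G) := by
  obtain ⟨n, hn⟩ := exists_conj_le_sylow (isPGroup_zpowers_of_pow hk) R
  have := hn c (Subgroup.mem_zpowers c)
  rwa [conj_eq_of_mem_center n hc] at this

/-- The centre of `R` is central in `G` when `r ∣ m`. -/
theorem center_R_le (C : Ctx R N m) (hrm : r ∣ m) {z : G} (hz : z ∈ (R : Subgroup G))
    (hzc : ∀ g ∈ (R : Subgroup G), z * g = g * z) : z ∈ Subgroup.center G := by
  by_contra hcon
  have h1 := C.index_eq (C.hRN hz) hcon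
  have hle : (R : Subgroup G) ≤ K z := fun g hg => mem_K.2 (hzc g hg)
  have h2 := Subgroup.index_dvd_of_le hle
  rw [h1] at h2
  exact R.not_dvd_index (hrm.trans h2)

/-- The common order of the Sylow `r`-subgroups of the centralizers of noncentral elements. -/
noncomputable def s0 (G : Type*) [Group G] (r m : ℕ) : ℕ := r ^ (Nat.card G / m).factorization r

theorem card_K_eq (C : Ctx R N m) {x : G} (hx : x ∈ N) (hxc : x ∉ Subgroup.center G) :
    Nat.card (K x) = Nat.card G / m := by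
  rw [← C.card_K hx hxc, Nat.mul_div_cancel _ C.m_pos]

theorem card_dvd_s0 (C : Ctx R N m) {x : G} (hx : x ∈ N) (hxc : x ∉ Subgroup.center G)
    {P : Subgroup G} (hPK : P ≤ K x) (hP : IsPGroup r P) : Nat.card P ∣ s0 G r m := by
  obtain ⟨j, hj⟩ := IsPGroup.iff_card.1 hP
  have h1 : r ^ j ∣ Nat.card G / m := by
    rw [← hj, ← C.card_K_eq hx hxc]; exact Subgroup.card_dvd_of_le hPK
  have hne : Nat.card G / m ≠ 0 := by
    rw [← C.card_K_eq hx hxc]; exact Nat.card_pos.ne'
  have h2 := (hr.out.pow_dvd_iff_le_factorization hne).1 h1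
  rw [hj]
  exact pow_dvd_pow r h2

theorem exists_sylow_K_ge (C : Ctx R N m) {x : G} (hx : x ∈ N) (hxc : x ∉ Subgroup.center G)
    {Q : Subgroup G} (hQK : Q ≤ K x) (hQ : IsPGroup r Q) :
    ∃ P : Subgroup G, Q ≤ P ∧ P ≤ K x ∧ IsPGroup r P ∧ Nat.card P = s0 G r m := by
  have hQ' : IsPGroup r (Q.subgroupOf (K x)) := hQ.comap_subtype
  obtain ⟨S, hS⟩ := hQ'.exists_le_sylow
  refine ⟨(S : Subgroup (K x)).map (K x).subtype, ?_, ?_, S.2.map _, ?_⟩
  · intro q hq
    exact ⟨⟨q, hQK hq⟩, hS (by simpa [Subgroup.mem_subgroupOf] using hq), rfl⟩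
  · rintro _ ⟨y, _, rfl⟩
    exact y.2
  · rw [Subgroup.card_map_of_injective (K x).subtype_injective, S.card_eq_multiplicity,
      C.card_K_eq hx hxc]
    rfl

theorem exists_sylow_K (C : Ctx R N m) {x : G} (hx : x ∈ N) (hxc : x ∉ Subgroup.center G) :
    ∃ P : Subgroup G, P ≤ K x ∧ IsPGroup r P ∧ Nat.card P = s0 G r m := by
  obtain ⟨P, -, h1, h2, h3⟩ := C.exists_sylow_K_ge hx hxc (bot_le : (⊥ : Subgroup G) ≤ K x)
    IsPGroup.of_bot
  exact ⟨P, h1, h2, h3⟩

end Ctx

end Cfsg.Agent.Helper16.TwoIdx
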