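import Mathlib
import Cfsg.Agent.Lib.Helper16.TwoIdxE1

/-!
# Normal subgroups with two class sizes: the group-level context, part 2 (helper16)
-/

set_option autoImplicit false
set_option linter.unusedSectionVars false
set_option linter.style.haveILetI false

namespace Cfsg.Agent.Helper16.TwoIdx

variable {G : Type*} [Group G] [Finite G] {r : ℕ} [hr : Fact r.Prime]
variable {R : Sylow r G} {N : Subgroup G} {m : ℕ}

/-- `x` is a second-centre element of `R` (relative to the centre of `G`). -/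
def IsZ2 (R : Sylow r G) (x : G) : Prop :=
  x ∈ (R : Subgroup G) ∧ x ∉ Subgroup.center G ∧
    ∀ g ∈ (R : Subgroup G), x⁻¹ * g⁻¹ * x * g ∈ Subgroup.center G

namespace Ctx

theorem IsZ2.le_normalizer {x : G} (hx : IsZ2 R x) :
    (R : Subgroup G) ≤ Subgroup.normalizer ((K x : Subgroup G) : Set G) := by
  intro g hg
  have hc := hx.2.2 g hg
  have e : g⁻¹ * x * g⁻¹⁻¹ = x * (x⁻¹ * g⁻¹ * x * g) := by group
  have hK : K (g⁻¹ * x * g⁻¹⁻¹) = K x := by rw [e]; exact K_mul_central hc
  have : g⁻¹ ∈ Subgroup.normalizer ((K x : Subgroup G) : Set G) := by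
    rw [Subgroup.mem_normalizer_iff]
    intro k
    rw [← conj_mem_K_conj_iff (g := x) (k := k) g⁻¹, hK]
  simpa using Subgroup.inv_mem _ this

theorem IsZ2.conj_mem {x g a : G} (hx : IsZ2 R x) (hg : g ∈ (R : Subgroup G))
    (ha : a ∈ (R : Subgroup G) ⊓ K x) : g * a * g⁻¹ ∈ (R : Subgroup G) ⊓ K x :=
  ⟨(R : Subgroup G).mul_mem ((R : Subgroup G).mul_mem hg ha.1) ((R : Subgroup G).inv_mem hg),
    (Subgroup.mem_normalizer_iff.1 (IsZ2.le_normalizer hx hg) a).1 ha.2⟩

theorem card_inf_mul_relIndex' (A B : Subgroup G) :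
    Nat.card (A ⊓ B : Subgroup G) * A.relIndex B = Nat.card B := by
  have := Subgroup.relIndex_inf_mul_relIndex (⊥ : Subgroup G) A B
  rwa [Subgroup.relIndex_bot_left, bot_inf_eq, Subgroup.relIndex_bot_left] at this

theorem IsZ2.relIndex_dvd (C : Ctx R N m) {x : G} (hx : IsZ2 R x) :
    (K x).relIndex (R : Subgroup G) ∣ m := by
  have hle := IsZ2.le_normalizer hx
  haveI := Subgroup.normal_subgroupOf_of_le_normalizer hle
  haveI := Subgroup.normal_subgroupOf_sup_of_le_normalizer hle
  have e : ↥(R : Subgroup G) ⧸ (K x).subgroupOf (R : Subgroup G) ≃*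
      ↥((R : Subgroup G) ⊔ K x) ⧸ (K x).subgroupOf ((R : Subgroup G) ⊔ K x) :=
    QuotientGroup.quotientInfEquivProdNormalizerQuotient (R : Subgroup G) (K x) hle
  have h1 : (K x).relIndex (R : Subgroup G) = (K x).relIndex ((R : Subgroup G) ⊔ K x) :=
    Nat.card_congr e.toEquiv
  rw [h1, ← C.index_eq (C.hRN hx.1) hx.2.1]
  exact Subgroup.relIndex_dvd_index_of_le le_sup_right

theorem IsZ2.card_inf (C : Ctx R N m) {x : G} (hx : IsZ2 R x) :
    Nat.card ↥((R : Subgroup G) ⊓ K x) = s0 G r m := by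
  have hxN := C.hRN hx.1
  have hdvd := C.card_dvd_s0 hxN hx.2.1 (inf_le_right : (R : Subgroup G) ⊓ K x ≤ K x)
    (R.2.to_le inf_le_left)
  apply Nat.dvd_antisymm hdvd
  -- the other divisibility
  have hmpos := C.m_pos
  have hmG : m ∣ Nat.card G := ⟨Nat.card (K x), by rw [mul_comm]; exact (C.card_K hxN hx.2.1).symm⟩
  have h1 := card_inf_mul_relIndex' (K x) (R : Subgroup G)
  rw [inf_comm] at h1
  obtain ⟨j, hj⟩ := IsPGroup.iff_card.1 (R.2.to_le (inf_le_left : (R : Subgroup G) ⊓ K x ≤ R))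
  have hRc := R.card_eq_multiplicity
  have hρ : (K x).relIndex (R : Subgroup G) ∣ r ^ (Nat.card G).factorization r := by
    rw [← hRc, ← h1]; exact Dvd.intro_left _ rfl
  obtain ⟨i, -, hi⟩ := (Nat.dvd_prime_pow hr.out).1 hρ
  have him : i ≤ m.factorization r := by
    have := IsZ2.relIndex_dvd C hx
    rw [hi] at this
    exact (hr.out.pow_dvd_iff_le_factorization hmpos.ne').1 this
  have hfac : (Nat.card G).factorization r = (Nat.card G / m).factorization r + m.factorization r := by
    have hne : Nat.card G / m ≠ 0 := by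
      rw [← C.card_K_eq hxN hx.2.1]; exact Nat.card_pos.ne'
    conv_lhs => rw [← Nat.div_mul_cancel hmG]
    rw [Nat.factorization_mul hne hmpos.ne']
    rfl
  rw [hj, hi, hRc, ← pow_add] at h1
  have hji : j + i = (Nat.card G).factorization r := Nat.pow_right_injective hr.out.two_le h1
  rw [hj]
  unfold s0
  apply pow_dvd_pow
  omega

/-- existence of a second-centre element of `R` whose `r`-th power is central -/
theorem exists_isZ2 (C : Ctx R N m) (hrm : r ∣ m) :
    ∃ x, IsZ2 R x ∧ x ^ r ∈ Subgroup.center G := by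
  set P := ↥(R : Subgroup G) with hP
  have hPp : IsPGroup r P := R.2
  -- the quotient by the centre is nontrivial
  haveI hQnt : Nontrivial (P ⧸ Subgroup.center P) := by
    by_contra hnt
    rw [not_nontrivial_iff_subsingleton] at hnt
    apply C.hR
    intro z hz
    apply C.center_R_le hrm hz
    intro g hg
    have h1 : (QuotientGroup.mk (⟨z, hz⟩ : P) : P ⧸ Subgroup.center P) = 1 :=
      Subsingleton.elim _ _
    rw [QuotientGroup.eq_one_iff] at h1
    have h2 := Subgroup.mem_center_iff.1 h1 ⟨g, hg⟩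
    exact (congrArg Subtype.val h2).symm
  have hQp : IsPGroup r (P ⧸ Subgroup.center P) := hPp.to_quotient _
  haveI := hQp.center_nontrivial
  have hcQ : IsPGroup r (Subgroup.center (P ⧸ Subgroup.center P)) :=
    hQp.to_subgroup _
  obtain ⟨k, hk⟩ := IsPGroup.iff_card.1 hcQ
  have hk0 : k ≠ 0 := by
    rintro rfl
    rw [pow_zero] at hk
    have : 1 < Nat.card (Subgroup.center (P ⧸ Subgroup.center P)) := Finite.one_lt_card
    omega
  have hdvd : r ∣ Nat.card (Subgroup.center (P ⧸ Subgroup.center P)) := by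
    rw [hk]; exact dvd_pow_self r hk0
  obtain ⟨c, hc⟩ := exists_prime_orderOf_dvd_card' r hdvd
  obtain ⟨x', hx'⟩ := QuotientGroup.mk_surjective (c : P ⧸ Subgroup.center P)
  have hcz : (c : P ⧸ Subgroup.center P) ∈ Subgroup.center (P ⧸ Subgroup.center P) := c.2
  have hcord : orderOf (c : P ⧸ Subgroup.center P) = r := by
    rw [Subgroup.orderOf_coe]; exact hc
  -- membership in centre of P implies central in G
  have hcen : ∀ y : P, y ∈ Subgroup.center P → (y : G) ∈ Subgroup.center G := by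
    intro y hy
    apply C.center_R_le hrm y.2
    intro g hg
    have h2 := Subgroup.mem_center_iff.1 hy ⟨g, hg⟩
    exact (congrArg Subtype.val h2).symm
  refine ⟨(x' : G), ⟨x'.2, ?_, ?_⟩, ?_⟩
  · intro hxc
    have hx'c : x' ∈ Subgroup.center P := by
      rw [Subgroup.mem_center_iff]
      intro g
      apply Subtype.ext
      have := Subgroup.mem_center_iff.1 hxc (g : G)
      exact this
    have h1 : (QuotientGroup.mk x' : P ⧸ Subgroup.center P) = 1 :=
      (QuotientGroup.eq_one_iff _).2 hx'c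
    rw [hx', ] at h1
    rw [h1, orderOf_one] at hcord
    have := hr.out.two_le
    omega
  · intro g hg
    have h1 : (QuotientGroup.mk (x'⁻¹ * (⟨g, hg⟩ : P)⁻¹ * x' * ⟨g, hg⟩) :
        P ⧸ Subgroup.center P) = 1 := by
      have hcomm := Subgroup.mem_center_iff.1 hcz (QuotientGroup.mk (⟨g, hg⟩ : P))
      simp only [QuotientGroup.mk_mul, QuotientGroup.mk_inv, hx']
      rw [mul_assoc, ← hcomm]
      group
    rw [QuotientGroup.eq_one_iff] at h1
    exact hcen _ h1
  · have h1 : (QuotientGroup.mk (x' ^ r) : P ⧸ Subgroup.center P) = 1 := by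
      rw [QuotientGroup.mk_pow, hx']
      have := pow_orderOf_eq_one (c : P ⧸ Subgroup.center P)
      rwa [hcord] at this
    rw [QuotientGroup.eq_one_iff] at h1
    exact hcen _ h1

/-- Sylow `r`-subgroups of centralizers of noncentral elements are not central. -/
theorem not_le_center (C : Ctx R N m) (hrm : r ∣ m) {P : Subgroup G} (hP : IsPGroup r P)
    (hPc : Nat.card P = s0 G r m) : ¬ P ≤ Subgroup.center G := by
  intro hle
  obtain ⟨x, hx, -⟩ := C.exists_isZ2 hrm
  have hPR : P ≤ (R : Subgroup G) ⊓ K x := by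
    intro p hp
    obtain ⟨k, hk⟩ := hP ⟨p, hp⟩
    have hk' : p ^ r ^ k = 1 := by simpa using congrArg Subtype.val hk
    exact ⟨mem_R_of_center R (hle hp) hk', center_le_K x (hle hp)⟩
  have hc := IsZ2.card_inf C hx
  have heq : P = (R : Subgroup G) ⊓ K x :=
    Subgroup.eq_of_le_of_card_ge hPR (by rw [hc, hPc])
  have : x ∈ P := by rw [heq]; exact ⟨hx.1, self_mem_K x⟩
  exact hx.2.1 (hle this)

end Ctx

end Cfsg.Agent.Helper16.TwoIdx
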