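import Mathlib
import Cfsg.Agent.Lib.Helper16.TwoIdxE2

/-!
# Normal subgroups with two class sizes: good elements (helper16)
-/

set_option autoImplicit false
set_option linter.unusedSectionVars false
set_option linter.style.haveILetI false

namespace Cfsg.Agent.Helper16.TwoIdx

variable {G : Type*} [Group G] [Finite G] {r : ℕ} [hr : Fact r.Prime]
variable {R : Sylow r G} {N : Subgroup G} {m : ℕ}

theorem coprime_orderOf_of_pow_pow {p q : ℕ} (hp : p.Prime) (hq : q.Prime) (hpq : p ≠ q)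
    {g y : G} {k j : ℕ} (hg : g ^ p ^ k = 1) (hy : y ^ q ^ j = 1) :
    (orderOf g).Coprime (orderOf y) := by
  have h1 : (p ^ k).Coprime (q ^ j) := Nat.Coprime.pow k j ((Nat.coprime_primes hp hq).2 hpq)
  exact Nat.Coprime.coprime_dvd_left (orderOf_dvd_of_pow_eq_one hg)
    (Nat.Coprime.coprime_dvd_right (orderOf_dvd_of_pow_eq_one hy) h1)

theorem coprime_orderOf_of_pow_coprime {p : ℕ} {g b : G} {k : ℕ} (hg : g ^ p ^ k = 1)
    (hb : (orderOf b).Coprime p) : (orderOf g).Coprime (orderOf b) :=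
  Nat.Coprime.coprime_dvd_left (orderOf_dvd_of_pow_eq_one hg) (hb.pow_right k).symm

/-- `g` commutes with a noncentral `q`-element of `N`. -/
def Good (N : Subgroup G) (q : ℕ) (g : G) : Prop :=
  ∃ y ∈ N, y ∉ Subgroup.center G ∧ (∃ k : ℕ, y ^ q ^ k = 1) ∧ g * y = y * g

namespace Ctx

theorem Good.conj (C : Ctx R N m) {q : ℕ} {g : G} (a : G) (h : Good N q g) :
    Good N q (a * g * a⁻¹) := by
  obtain ⟨y, hyN, hyc, ⟨k, hk⟩, hcomm⟩ := h
  refine ⟨a * y * a⁻¹, C.conj_mem_N a hyN, fun h => hyc ((conj_mem_center_iff a).1 h),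
    ⟨k, by rw [conj_pow, hk]; group⟩, ?_⟩
  calc a * g * a⁻¹ * (a * y * a⁻¹) = a * (g * y) * a⁻¹ := by group
    _ = a * (y * g) * a⁻¹ := by rw [hcomm]
    _ = a * y * a⁻¹ * (a * g * a⁻¹) := by group

theorem Good.of_conj (C : Ctx R N m) {q : ℕ} {g : G} (a : G) (h : Good N q (a * g * a⁻¹)) :
    Good N q g := by
  have := Good.conj C a⁻¹ h
  have e : a⁻¹ * (a * g * a⁻¹) * a⁻¹⁻¹ = g := by group
  rwa [e] at this

variable {q : ℕ} [hq : Fact q.Prime]

theorem good_K_le (C : Ctx R N m) (hqr : q ≠ r) {g : G} (hg : g ∈ N)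
    (hgc : g ∉ Subgroup.center G) {k : ℕ} (hgr : g ^ r ^ k = 1) (hgood : Good N q g)
    {c : G} (hc : c ∈ N) (hcK : c ∈ K g) : K g ≤ K c := by
  obtain ⟨y, hyN, hyc, ⟨j, hj⟩, hcomm⟩ := hgood
  have hcop : (orderOf g).Coprime (orderOf y) :=
    coprime_orderOf_of_pow_pow hr.out hq.out hqr.symm hgr hj
  have h1 : K g ≤ K y := C.K_le_of_coprime hg hgc hyN hcomm hcop
  have h2 : K y ≤ K g := C.K_le_of_coprime hyN hyc hg hcomm.symm hcop.symm
  have hKgy : K g = K y := le_antisymm h1 h2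
  obtain ⟨a, b, ha, hb, hcab, ⟨i, hi⟩, hbo⟩ := exists_parts r c
  have hzN : Subgroup.zpowers c ≤ N := by rw [Subgroup.zpowers_le]; exact hc
  have hzK : Subgroup.zpowers c ≤ K g := by rw [Subgroup.zpowers_le]; exact hcK
  have hb1 : K g ≤ K b :=
    C.K_le_of_coprime hg hgc (hzN hb) (mem_K.1 (hzK hb)) (coprime_orderOf_of_pow_coprime hgr hbo)
  have ha1 : K y ≤ K a := by
    have haKy : a ∈ K y := by rw [← hKgy]; exact hzK ha
    exact C.K_le_of_coprime hyN hyc (hzN ha) (mem_K.1 haKy)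
      (coprime_orderOf_of_pow_pow hq.out hr.out hqr hj hi)
  rw [hcab]
  exact (le_inf (hKgy ▸ ha1) hb1).trans (K_inf_le_K_mul a b)

theorem good_K_eq (C : Ctx R N m) (hqr : q ≠ r) {g : G} (hg : g ∈ N)
    (hgc : g ∉ Subgroup.center G) {k : ℕ} (hgr : g ^ r ^ k = 1) (hgood : Good N q g)
    {c : G} (hc : c ∈ N) (hcK : c ∈ K g) (hcc : c ∉ Subgroup.center G) : K c = K g :=
  (C.K_eq_of_le hg hgc hc hcc (C.good_K_le hqr hg hgc hgr hgood hc hcK)).symm

/-- elements of `K g ⊓ N` commute when `g` is good. -/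
theorem good_comm (C : Ctx R N m) (hqr : q ≠ r) {g : G} (hg : g ∈ N)
    (hgc : g ∉ Subgroup.center G) {k : ℕ} (hgr : g ^ r ^ k = 1) (hgood : Good N q g)
    {c : G} (hc : c ∈ N) (hcK : c ∈ K g) {d : G} (hdK : d ∈ K g) : c * d = d * c :=
  mem_K.1 (C.good_K_le hqr hg hgc hgr hgood hc hcK hdK)

theorem good_of_mem (C : Ctx R N m) (hqr : q ≠ r) {g : G} (hg : g ∈ N)
    (hgc : g ∉ Subgroup.center G) {k : ℕ} (hgr : g ^ r ^ k = 1) (hgood : Good N q g)
    {c : G} (hc : c ∈ N) (hcK : c ∈ K g) (hcc : c ∉ Subgroup.center G) : Good N q c := by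
  have hK := C.good_K_eq hqr hg hgc hgr hgood hc hcK hcc
  obtain ⟨y, hyN, hyc, hyq, hcomm⟩ := hgood
  refine ⟨y, hyN, hyc, hyq, ?_⟩
  have : y ∈ K c := by rw [hK]; exact mem_K.2 hcomm
  exact mem_K.1 this

/-- a good element of `R` whose centralizer meets `R` in a Sylow subgroup of it -/
theorem exists_good_T (C : Ctx R N m) (hrm : r ∣ m) (hqr : q ≠ r) {y0 : G} (hy0N : y0 ∈ N)
    (hy0c : y0 ∉ Subgroup.center G) {j : ℕ} (hy0q : y0 ^ q ^ j = 1) :
    ∃ w ∈ (R : Subgroup G), w ∉ Subgroup.center G ∧ Good N q w ∧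
      Nat.card ↥((R : Subgroup G) ⊓ K w) = s0 G r m := by
  obtain ⟨P, hPK, hP, hPc⟩ := C.exists_sylow_K hy0N hy0c
  have hPnc := C.not_le_center hrm hP hPc
  obtain ⟨p, hpP, hpc⟩ := SetLike.not_le_iff_exists.1 hPnc
  obtain ⟨n, hn⟩ := exists_conj_le_sylow hP R
  set y := n * y0 * n⁻¹ with hy
  have hyN : y ∈ N := C.conj_mem_N n hy0N
  have hyc : y ∉ Subgroup.center G := fun h => hy0c ((conj_mem_center_iff n).1 h)
  have hyq : y ^ q ^ j = 1 := by rw [hy, conj_pow, hy0q]; group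
  set w := n * p * n⁻¹ with hw
  have hwR : w ∈ (R : Subgroup G) := hn p hpP
  have hwc : w ∉ Subgroup.center G := fun h => hpc ((conj_mem_center_iff n).1 h)
  have hwy : w ∈ K y := conj_mem_K_conj n (hPK hpP)
  have hgood : Good N q w := ⟨y, hyN, hyc, ⟨j, hyq⟩, (mem_K.1 hwy).symm⟩
  obtain ⟨i, hi⟩ := exists_pow_eq_one_of_mem_sylow R hwR
  have hKyw : K y = K w :=
    C.good_K_eq hqr (C.hRN hwR) hwc hi hgood hyN (mem_K_comm.1 hwy) hyc
  refine ⟨w, hwR, hwc, hgood, ?_⟩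
  have hdvd := C.card_dvd_s0 (C.hRN hwR) hwc (inf_le_right : (R : Subgroup G) ⊓ K w ≤ K w)
    (R.2.to_le inf_le_left)
  apply Nat.dvd_antisymm hdvd
  have hle : P.map (MulAut.conj n).toMonoidHom ≤ (R : Subgroup G) ⊓ K w := by
    rintro _ ⟨a, ha, rfl⟩
    have e : (MulAut.conj n).toMonoidHom a = n * a * n⁻¹ := by simp
    rw [e, ← hKyw]
    exact ⟨hn a ha, conj_mem_K_conj n (hPK ha)⟩
  have := Subgroup.card_dvd_of_le hle
  rwa [Cfsg.Agent.Helper16.card_map_conj, hPc] at this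

end Ctx

end Cfsg.Agent.Helper16.TwoIdx
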