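import Mathlib
import Cfsg.Agent.Lib.Helper16.TwoIdxE3

/-!
# Normal subgroups with two class sizes: the Sylow subgroup of the centralizer of a
second-centre element (helper16)
-/

set_option autoImplicit false
set_option linter.unusedSectionVars false
set_option linter.style.haveILetI false

namespace Cfsg.Agent.Helper16.TwoIdx

variable {G : Type*} [Group G] [Finite G] {r : ℕ} [hr : Fact r.Prime]
variable {R : Sylow r G} {N : Subgroup G} {m : ℕ}

namespace Ctx

/-- `r'`-elements of `N` commuting with an `r`-element `x` are central in its centralizer. -/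
theorem K_le_of_rprime (C : Ctx R N m) {x : G} (hxN : x ∈ N) (hxc : x ∉ Subgroup.center G)
    {i : ℕ} (hxi : x ^ r ^ i = 1) {b : G} (hbN : b ∈ N) (hbK : b ∈ K x)
    (hbo : (orderOf b).Coprime r) : K x ≤ K b :=
  C.K_le_of_coprime hxN hxc hbN (mem_K.1 hbK) (coprime_orderOf_of_pow_coprime hxi hbo)

/-- Every `r`-element of the centralizer of a second-centre element `x` lies in `R ⊓ K x`. -/
theorem IsZ2.mem_R1_of_pow (C : Ctx R N m) {x : G} (hx : IsZ2 R x) {a : G} (haK : a ∈ K x)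
    {k : ℕ} (hak : a ^ r ^ k = 1) : a ∈ (R : Subgroup G) ⊓ K x := by
  have hxN := C.hRN hx.1
  obtain ⟨i, hxi⟩ := exists_pow_eq_one_of_mem_sylow R hx.1
  set Cx : Subgroup G := K x ⊓ N with hCx
  have hcen : ∀ b ∈ Cx, (orderOf b).Coprime r → K x ≤ K b := fun b hb hbo =>
    C.K_le_of_rprime hxN hx.2.1 hxi hb.2 hb.1 hbo
  -- the quotient of `Cx` by its centre is an `r`-group
  have hQ : IsPGroup r (↥Cx ⧸ Subgroup.center ↥Cx) := by
    intro cbar
    obtain ⟨c, rfl⟩ := QuotientGroup.mk_surjective cbar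
    obtain ⟨u, y, hu, hy, hcuy, ⟨j, hj⟩, hyo⟩ := exists_parts r (c : G)
    have hz : Subgroup.zpowers (c : G) ≤ Cx := by rw [Subgroup.zpowers_le]; exact c.2
    have hyc : (⟨y, hz hy⟩ : Cx) ∈ Subgroup.center ↥Cx := by
      rw [Subgroup.mem_center_iff]
      intro d
      apply Subtype.ext
      have := hcen y (hz hy) hyo d.2.1
      exact (mem_K.1 this).symm
    refine ⟨j, ?_⟩
    have hc : c = ⟨u, hz hu⟩ * ⟨y, hz hy⟩ := Subtype.ext hcuy
    rw [hc, QuotientGroup.mk_mul, (QuotientGroup.eq_one_iff _).2 hyc, mul_one,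
      ← QuotientGroup.mk_pow, QuotientGroup.eq_one_iff]
    have : (⟨u, hz hu⟩ : Cx) ^ r ^ j = 1 := Subtype.ext (by simpa using hj)
    rw [this]; exact Subgroup.one_mem _
  haveI hnilQ : Group.IsNilpotent (↥Cx ⧸ Subgroup.center ↥Cx) := hQ.isNilpotent
  haveI hnil : Group.IsNilpotent ↥Cx :=
    Subgroup.isNilpotent_of_ker_le_center (QuotientGroup.mk' (Subgroup.center ↥Cx))
      (by rw [QuotientGroup.ker_mk'])
  have hR1Cx : (R : Subgroup G) ⊓ K x ≤ Cx := fun g hg => ⟨hg.2, C.hRN hg.1⟩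
  have hR1p : IsPGroup r (((R : Subgroup G) ⊓ K x).subgroupOf Cx) :=
    (R.2.to_le inf_le_left).comap_subtype
  obtain ⟨S, hS⟩ := hR1p.exists_le_sylow
  have haN : a ∈ N := C.mem_N_of_pow hak
  have haCx : a ∈ Cx := ⟨haK, haN⟩
  have hza : IsPGroup r (Subgroup.zpowers (⟨a, haCx⟩ : Cx)) :=
    isPGroup_zpowers_of_pow (k := k) (Subtype.ext (by simpa using hak))
  obtain ⟨S', hS'⟩ := hza.exists_le_sylow
  obtain ⟨g, hg⟩ := MulAction.exists_smul_eq ↥Cx S S'
  have hSS' : S' = S := by rw [← hg]; exact Sylow.smul_eq_of_normal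
  have haS : (⟨a, haCx⟩ : Cx) ∈ S := by rw [← hSS']; exact hS' (Subgroup.mem_zpowers _)
  have hmap : (S : Subgroup ↥Cx).map Cx.subtype = (R : Subgroup G) ⊓ K x := by
    symm
    apply Subgroup.eq_of_le_of_card_ge
    · intro g hg
      exact ⟨⟨g, hR1Cx hg⟩, hS (by simpa [Subgroup.mem_subgroupOf] using hg), rfl⟩
    · have h1 : Nat.card ((S : Subgroup ↥Cx).map Cx.subtype) ∣ s0 G r m :=
        C.card_dvd_s0 hxN hx.2.1 (by rintro _ ⟨y, _, rfl⟩; exact y.2.1) (S.2.map _)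
      rw [IsZ2.card_inf C hx]
      exact Nat.le_of_dvd (by unfold s0; exact pow_pos hr.out.pos _) h1
  rw [← hmap]
  exact ⟨⟨a, haCx⟩, haS, rfl⟩

/-- `R ⊓ K x` is normal in `K x`. -/
theorem IsZ2.conj_mem_R1 (C : Ctx R N m) {x : G} (hx : IsZ2 R x) {k a : G} (hk : k ∈ K x)
    (ha : a ∈ (R : Subgroup G) ⊓ K x) : k * a * k⁻¹ ∈ (R : Subgroup G) ⊓ K x := by
  obtain ⟨i, hi⟩ := exists_pow_eq_one_of_mem_sylow R ha.1
  apply IsZ2.mem_R1_of_pow C hx ((K x).mul_mem ((K x).mul_mem hk ha.2) ((K x).inv_mem hk)) (k := i)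
  rw [conj_pow, hi]; group

end Ctx

end Cfsg.Agent.Helper16.TwoIdx
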