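import Mathlib
import Cfsg.Agent.Lib.Helper16.TwoIdxE4

/-!
# Normal subgroups with two class sizes: commutators of `q`-elements with `R` (helper16)
-/

set_option autoImplicit false
set_option linter.unusedSectionVars false
set_option linter.style.haveILetI false

namespace Cfsg.Agent.Helper16.TwoIdx

variable {G : Type*} [Group G] [Finite G] {r : ℕ} [hr : Fact r.Prime]
variable {R : Sylow r G} {N : Subgroup G} {m : ℕ}

theorem orderOf_pow_coprime {G : Type*} [Group G] {b : G} {p : ℕ} (hb : (orderOf b).Coprime p)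
    (n : ℕ) : (orderOf (b ^ n)).Coprime p :=
  Nat.Coprime.coprime_dvd_left (orderOf_pow_dvd n) hb

namespace Ctx

variable {q : ℕ} [hq : Fact q.Prime]

theorem IsZ2.comm_mem_R1 (C : Ctx R N m) {x : G} (hx : IsZ2 R x)
    (hbad : ∀ y ∈ N, (∃ k : ℕ, y ^ q ^ k = 1) → x * y = y * x → y ∈ Subgroup.center G)
    {k : G} (hk : k ∈ K x) {e : ℕ} (hke : k ^ q ^ e = 1) {g : G} (hg : g ∈ (R : Subgroup G)) :
    k⁻¹ * g⁻¹ * k * g ∈ (R : Subgroup G) ⊓ K x := by
  have hxN := C.hRN hx.1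
  obtain ⟨ix, hxi⟩ := exists_pow_eq_one_of_mem_sylow R hx.1
  have hginvR : g⁻¹ ∈ (R : Subgroup G) := (R : Subgroup G).inv_mem hg
  have hgn := IsZ2.le_normalizer hx hginvR
  have hkg : g⁻¹ * k * g ∈ K x := by
    have := (Subgroup.mem_normalizer_iff.1 hgn k).1 hk
    simpa using this
  set c := k⁻¹ * g⁻¹ * k * g with hc
  have hcK : c ∈ K x := by
    have : c = k⁻¹ * (g⁻¹ * k * g) := by rw [hc]; group
    rw [this]; exact (K x).mul_mem ((K x).inv_mem hk) hkg
  have hcN : c ∈ N := by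
    have : c = (k⁻¹ * g⁻¹ * k⁻¹⁻¹) * g := by rw [hc]; group
    rw [this]
    exact N.mul_mem (C.conj_mem_N k⁻¹ (C.hRN hginvR)) (C.hRN hg)
  obtain ⟨a, b, ha, hb, hcab, ⟨ia, hia⟩, hbo⟩ := exists_parts r c
  have hzK : Subgroup.zpowers c ≤ K x := by rw [Subgroup.zpowers_le]; exact hcK
  have hzN : Subgroup.zpowers c ≤ N := by rw [Subgroup.zpowers_le]; exact hcN
  have haR1 : a ∈ (R : Subgroup G) ⊓ K x := IsZ2.mem_R1_of_pow C hx (hzK ha) hia
  have hbK : K x ≤ K b := C.K_le_of_rprime hxN hx.2.1 hxi (hzN hb) (hzK hb) hbo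
  have hkc : g⁻¹ * k * g = k * a * b := by
    rw [mul_assoc k a b, ← hcab, hc]; group
  -- step 1: `b` is a `q`-element
  have hpow : ∀ n : ℕ, ∃ an ∈ (R : Subgroup G) ⊓ K x, (k * a) ^ n = k ^ n * an := by
    intro n
    induction n with
    | zero => exact ⟨1, Subgroup.one_mem _, by simp⟩
    | succ n ih =>
      obtain ⟨an, han, hn⟩ := ih
      refine ⟨(k⁻¹ * an * k⁻¹⁻¹) * a, Subgroup.mul_mem _
        (IsZ2.conj_mem_R1 C hx ((K x).inv_mem hk) han) haR1, ?_⟩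
      rw [pow_succ, hn, pow_succ]; group
  have hbq : b ^ q ^ e = 1 := by
    have hkaK : k * a ∈ K x := (K x).mul_mem hk haR1.2
    have hcomm : Commute (k * a) b := (mem_K.1 (hbK hkaK)).symm
    have h1 : (g⁻¹ * k * g) ^ q ^ e = 1 := by
      have : g⁻¹ * k * g = g⁻¹ * k * g⁻¹⁻¹ := by group
      rw [this, conj_pow, hke]; group
    rw [hkc, hcomm.mul_pow] at h1
    obtain ⟨an, han, hn⟩ := hpow (q ^ e)
    rw [hn, hke, one_mul] at h1
    have h2 : b ^ q ^ e = an⁻¹ := eq_inv_of_mul_eq_one_right h1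
    have h3 : b ^ q ^ e ∈ (R : Subgroup G) := by rw [h2]; exact (R : Subgroup G).inv_mem han.1
    obtain ⟨i', hi'⟩ := exists_pow_eq_one_of_mem_sylow R h3
    exact eq_one_of_pow_of_coprime hi' (orderOf_pow_coprime hbo _)
  -- step 2: `b` is central
  have hbc : b ∈ Subgroup.center G :=
    hbad b (hzN hb) ⟨e, hbq⟩ (mem_K.1 (hzK hb))
  have hbcomm : ∀ z : G, z * b = b * z := fun z => Subgroup.mem_center_iff.1 hbc z
  -- step 3: iteration
  have hiter : ∀ j : ℕ, ∃ aj ∈ (R : Subgroup G) ⊓ K x, g⁻¹ ^ j * k * g ^ j = k * aj * b ^ j := by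
    intro j
    induction j with
    | zero => exact ⟨1, Subgroup.one_mem _, by simp⟩
    | succ j ih =>
      obtain ⟨aj, haj, hj⟩ := ih
      have haj' : g⁻¹ * aj * g ∈ (R : Subgroup G) ⊓ K x := by
        have := IsZ2.conj_mem hx hginvR haj
        simpa using this
      refine ⟨a * (g⁻¹ * aj * g), Subgroup.mul_mem _ haR1 haj', ?_⟩
      have hbj : g⁻¹ * b ^ j * g = b ^ j := by
        have hbjc : b ^ j ∈ Subgroup.center G := Subgroup.pow_mem _ hbc j
        have := conj_eq_of_mem_center g⁻¹ hbjc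
        simpa using this
      calc g⁻¹ ^ (j + 1) * k * g ^ (j + 1) = g⁻¹ * (g⁻¹ ^ j * k * g ^ j) * g := by
            rw [pow_succ', pow_succ]; group
        _ = g⁻¹ * (k * aj * b ^ j) * g := by rw [hj]
        _ = (g⁻¹ * k * g) * (g⁻¹ * aj * g) * (g⁻¹ * b ^ j * g) := by group
        _ = (k * a * b) * (g⁻¹ * aj * g) * b ^ j := by rw [hkc, hbj]
        _ = k * a * (b * (g⁻¹ * aj * g)) * b ^ j := by group
        _ = k * a * ((g⁻¹ * aj * g) * b) * b ^ j := by rw [hbcomm]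
        _ = k * (a * (g⁻¹ * aj * g)) * b ^ (j + 1) := by rw [pow_succ']; group
  -- step 4
  obtain ⟨ig, hig⟩ := exists_pow_eq_one_of_mem_sylow R hg
  obtain ⟨aJ, haJ, hJ⟩ := hiter (r ^ ig)
  have hginv : g⁻¹ ^ r ^ ig = 1 := by rw [inv_pow, hig, inv_one]
  rw [hig, hginv, one_mul, mul_one] at hJ
  have h4 : aJ * b ^ r ^ ig = 1 := by
    have : k * (aJ * b ^ r ^ ig) = k * 1 := by rw [mul_one, ← mul_assoc]; exact hJ.symm
    exact mul_left_cancel this
  have h5 : b ^ r ^ ig = aJ⁻¹ := eq_inv_of_mul_eq_one_right h4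
  have h6 : b ^ r ^ ig ∈ (R : Subgroup G) := by rw [h5]; exact (R : Subgroup G).inv_mem haJ.1
  obtain ⟨i', hi'⟩ := exists_pow_eq_one_of_mem_sylow R h6
  have h7 : b ^ r ^ ig = 1 := eq_one_of_pow_of_coprime hi' (orderOf_pow_coprime hbo _)
  have hb1 : b = 1 := eq_one_of_pow_of_coprime h7 hbo
  rw [hcab, hb1, mul_one]
  exact haR1

end Ctx

end Cfsg.Agent.Helper16.TwoIdx
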