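import Mathlib
import Cfsg.Agent.Lib.Helper16.TwoIdxE5

/-!
# Normal subgroups with two class sizes: second-centre elements are good (helper16)
-/

set_option autoImplicit false
set_option linter.unusedSectionVars false
set_option linter.style.haveILetI false

namespace Cfsg.Agent.Helper16.TwoIdx

variable {G : Type*} [Group G] [Finite G] {r : ℕ} [hr : Fact r.Prime]
variable {R : Sylow r G} {N : Subgroup G} {m : ℕ}

namespace Ctx

variable {q : ℕ} [hq : Fact q.Prime]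

/-- a Sylow `q`-subgroup of the centralizer, as a subgroup of `G` -/
theorem exists_qSylow_K (x : G) :
    ∃ Q : Subgroup G, Q ≤ K x ∧ IsPGroup q Q ∧
      Nat.card Q = q ^ (Nat.card (K x)).factorization q := by
  obtain ⟨S⟩ : Nonempty (Sylow q (K x)) := inferInstance
  refine ⟨(S : Subgroup (K x)).map (K x).subtype, ?_, S.2.map _, ?_⟩
  · rintro _ ⟨y, _, rfl⟩
    exact y.2
  · rw [Subgroup.card_map_of_injective (K x).subtype_injective, S.card_eq_multiplicity]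

/-- Every second-centre element of `R` is good. -/
theorem IsZ2.good (C : Ctx R N m) (hrm : r ∣ m) (hqr : q ≠ r) {y0 : G} (hy0N : y0 ∈ N)
    (hy0c : y0 ∉ Subgroup.center G) {j0 : ℕ} (hy0q : y0 ^ q ^ j0 = 1) {x : G} (hx : IsZ2 R x) :
    Good N q x := by
  by_contra hng
  have hbad : ∀ y ∈ N, (∃ k : ℕ, y ^ q ^ k = 1) → x * y = y * x → y ∈ Subgroup.center G := by
    intro y hyN hyq hcomm
    by_contra hyc
    exact hng ⟨y, hyN, hyc, hyq, hcomm⟩
  have hxN := C.hRN hx.1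
  set R1 : Subgroup G := (R : Subgroup G) ⊓ K x with hR1
  have hR1c : Nat.card R1 = s0 G r m := IsZ2.card_inf C hx
  obtain ⟨Q, hQK, hQ, hQc⟩ := exists_qSylow_K (q := q) x
  have hQel : ∀ k ∈ Q, ∃ e : ℕ, k ^ q ^ e = 1 := by
    intro k hk
    obtain ⟨e, he⟩ := hQ ⟨k, hk⟩
    exact ⟨e, by simpa using congrArg Subtype.val he⟩
  -- (d) every coset of `R1` in `R` contains an element centralizing `Q`
  have hcover : ∀ g ∈ (R : Subgroup G), ∃ a ∈ R1, g * a ∈ (R : Subgroup G) ⊓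
      Subgroup.centralizer (Q : Set G) := by
    intro g hg
    set Ω : Set G := {v | v ∈ (R : Subgroup G) ∧ g⁻¹ * v ∈ R1} with hΩ
    have hΩcard : Nat.card Ω = Nat.card R1 := by
      apply Nat.card_congr
      refine ⟨fun v => ⟨g⁻¹ * v.1, v.2.2⟩, fun a => ⟨g * a.1, ?_, ?_⟩, ?_, ?_⟩
      · exact (R : Subgroup G).mul_mem hg a.2.1
      · have : g⁻¹ * (g * a.1) = a.1 := by group
        rw [this]; exact a.2
      · intro v; apply Subtype.ext; show g * (g⁻¹ * v.1) = v.1; group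
      · intro a; apply Subtype.ext; show g⁻¹ * (g * a.1) = a.1; group
    have hinv : ∀ k ∈ Q, ∀ ω ∈ Ω, k * ω * k⁻¹ ∈ Ω := by
      rintro k hk ω ⟨hωR, hωg⟩
      obtain ⟨e, he⟩ := hQel k hk
      have hkinv : (k⁻¹) ^ q ^ e = 1 := by rw [inv_pow, he, inv_one]
      have h1 := IsZ2.comm_mem_R1 C hx hbad ((K x).inv_mem (hQK hk)) hkinv hωR
      -- h1 : k⁻¹⁻¹ * ω⁻¹ * k⁻¹ * ω ∈ R1
      have h2 : ω⁻¹ * k * ω * k⁻¹ ∈ R1 := by
        have := R1.inv_mem h1
        have e2 : (k⁻¹⁻¹ * ω⁻¹ * k⁻¹ * ω)⁻¹ = ω⁻¹ * k * ω * k⁻¹ := by group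
        rwa [e2] at this
      have e3 : k * ω * k⁻¹ = ω * (ω⁻¹ * k * ω * k⁻¹) := by group
      refine ⟨?_, ?_⟩
      · rw [e3]; exact (R : Subgroup G).mul_mem hωR h2.1
      · have e4 : g⁻¹ * (k * ω * k⁻¹) = (g⁻¹ * ω) * (ω⁻¹ * k * ω * k⁻¹) := by group
        rw [e4]; exact R1.mul_mem hωg h2
    have hqΩ : ¬ q ∣ Nat.card Ω := by
      rw [hΩcard, hR1c]
      unfold s0
      intro hdvd
      have := (Nat.prime_dvd_prime_iff_eq hq.out hr.out).1 (hq.out.dvd_of_dvd_pow hdvd)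
      exact hqr this
    obtain ⟨ω, ⟨hωR, hωg⟩, hfix⟩ := exists_fixed_of_isPGroup_conj Q hQ Ω hinv hqΩ
    refine ⟨g⁻¹ * ω, hωg, ?_⟩
    have e5 : g * (g⁻¹ * ω) = ω := by group
    rw [e5]
    refine ⟨hωR, ?_⟩
    show ω ∈ Subgroup.centralizer (Q : Set G)
    rw [Subgroup.mem_centralizer_iff]
    intro k hk
    have := hfix k hk
    calc k * ω = k * ω * k⁻¹ * k := by group
      _ = ω * k := by rw [this]
  set B : Subgroup G := (R : Subgroup G) ⊓ Subgroup.centralizer (Q : Set G) with hB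
  -- (e) noncentral elements of `B` are not good
  have hBbad : ∀ g' ∈ B, g' ∉ Subgroup.center G → ¬ Good N q g' := by
    rintro g' ⟨hg'R, hg'Q⟩ hg'c hgood
    obtain ⟨ig, hig⟩ := exists_pow_eq_one_of_mem_sylow R hg'R
    obtain ⟨y', hy'N, hy'c, ⟨jy, hy'q⟩, hcomm⟩ := hgood
    have hgood' : Good N q g' := ⟨y', hy'N, hy'c, ⟨jy, hy'q⟩, hcomm⟩
    have hKy : K g' ≤ K y' :=
      C.good_K_le hqr (C.hRN hg'R) hg'c hig hgood' hy'N (mem_K.2 hcomm)
    have hQg : Q ≤ K g' := by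
      intro k hk
      rw [mem_K]
      exact (Subgroup.mem_centralizer_iff.1 hg'Q k hk).symm
    have hzy : IsPGroup q (Subgroup.zpowers y') := isPGroup_zpowers_of_pow hy'q
    have hyQ : y' ∈ Subgroup.centralizer (Q : Set G) := by
      rw [Subgroup.mem_centralizer_iff]
      intro k hk
      exact (mem_K.1 (hKy (hQg hk))).symm
    have hle : Subgroup.zpowers y' ≤ Subgroup.normalizer (Q : Set G) := by
      rw [Subgroup.zpowers_le]
      exact Subgroup.centralizer_le_normalizer _ hyQ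
    have hQ' : IsPGroup q (Subgroup.zpowers y' ⊔ Q : Subgroup G) :=
      hzy.to_sup_of_normal_right' hQ hle
    have hQ'K : Subgroup.zpowers y' ⊔ Q ≤ K g' :=
      sup_le (by rw [Subgroup.zpowers_le]; exact mem_K.2 hcomm) hQg
    have hcardK : Nat.card (K g') = Nat.card (K x) := by
      rw [C.card_K_eq (C.hRN hg'R) hg'c, C.card_K_eq hxN hx.2.1]
    obtain ⟨t, ht⟩ := IsPGroup.iff_card.1 hQ'
    have h1 : q ^ t ∣ Nat.card (K x) := by
      rw [← ht, ← hcardK]; exact Subgroup.card_dvd_of_le hQ'K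
    have h2 := (hq.out.pow_dvd_iff_le_factorization Nat.card_pos.ne').1 h1
    have h3 : Nat.card ↥(Subgroup.zpowers y' ⊔ Q) ≤ Nat.card Q := by
      rw [ht, hQc]; exact Nat.pow_le_pow_right hq.out.pos h2
    have h4 : Q = Subgroup.zpowers y' ⊔ Q := Subgroup.eq_of_le_of_card_ge le_sup_right h3
    have hy'Q : y' ∈ Q := by
      rw [h4]; exact le_sup_left (a := Subgroup.zpowers y') (Subgroup.mem_zpowers y')
    have hy'x : x * y' = y' * x := mem_K.1 (hQK hy'Q)
    exact hy'c (hbad y' hy'N ⟨jy, hy'q⟩ hy'x)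
  -- (f) counting
  obtain ⟨w, hwR, hwc, hwgood, hTc⟩ := C.exists_good_T hrm hqr hy0N hy0c hy0q
  set T : Subgroup G := (R : Subgroup G) ⊓ K w with hT
  obtain ⟨iw, hiw⟩ := exists_pow_eq_one_of_mem_sylow R hwR
  set ZR : Subgroup G := (R : Subgroup G) ⊓ Subgroup.center G with hZR
  have hTB : T ⊓ B ≤ ZR := by
    rintro t ⟨⟨htR, htK⟩, htB⟩
    refine ⟨htR, ?_⟩
    by_contra htc
    exact hBbad t htB htc (C.good_of_mem hqr (C.hRN hwR) hwc hiw hwgood (C.hRN htR) htK htc)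
  have h1 := card_mul_card_le_of_le T B (R : Subgroup G) inf_le_left inf_le_left
  have h2 := card_mul_inf_le_of_cover R1 B (R : Subgroup G) hcover
  have h3 : Nat.card ↥(T ⊓ B) ≤ Nat.card ZR := Subgroup.card_le_of_le hTB
  have hZRle : ZR ≤ R1 ⊓ B := by
    rintro z ⟨hzR, hzc⟩
    refine ⟨⟨hzR, center_le_K x hzc⟩, hzR, ?_⟩
    show z ∈ Subgroup.centralizer (Q : Set G)
    rw [Subgroup.mem_centralizer_iff]
    intro k _
    exact Subgroup.mem_center_iff.1 hzc k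
  have hxmem : x ∈ R1 ⊓ B := by
    refine ⟨⟨hx.1, self_mem_K x⟩, hx.1, ?_⟩
    show x ∈ Subgroup.centralizer (Q : Set G)
    rw [Subgroup.mem_centralizer_iff]
    intro k hk
    exact (mem_K.1 (hQK hk)).symm
  have hlt : Nat.card ZR < Nat.card ↥(R1 ⊓ B) := by
    rcases (Subgroup.card_le_of_le hZRle).lt_or_eq with h | h
    · exact h
    · exfalso
      have := Subgroup.eq_of_le_of_card_ge hZRle h.ge
      rw [← this] at hxmem
      exact hx.2.1 hxmem.2
  rw [hTc] at h1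
  rw [hR1c] at h2
  have hs0pos : 0 < s0 G r m := by unfold s0; exact pow_pos hr.out.pos _
  have hRpos : 0 < Nat.card (R : Subgroup G) := Nat.card_pos
  -- s0 |B| ≤ |T ⊓ B| |R| ≤ |ZR| |R| and |R| |R1 ⊓ B| ≤ s0 |B|
  have h4 : Nat.card (R : Subgroup G) * Nat.card ↥(R1 ⊓ B) ≤
      Nat.card ZR * Nat.card (R : Subgroup G) :=
    calc Nat.card (R : Subgroup G) * Nat.card ↥(R1 ⊓ B) ≤ s0 G r m * Nat.card B := h2
      _ ≤ Nat.card ↥(T ⊓ B) * Nat.card (R : Subgroup G) := h1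
      _ ≤ Nat.card ZR * Nat.card (R : Subgroup G) := Nat.mul_le_mul_right _ h3
  nlinarith

end Ctx

end Cfsg.Agent.Helper16.TwoIdx
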