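import Mathlib
import Cfsg.Agent.Lib.Helper16.TwoIdxE6
import Cfsg.Agent.Lib.Helper16.TwoIdxC

/-!
# Normal subgroups with two class sizes: the index of `R ⊓ K x` in `R` is `r` (helper16)
-/

set_option autoImplicit false
set_option linter.unusedSectionVars false
set_option linter.style.haveILetI false

namespace Cfsg.Agent.Helper16.TwoIdx

variable {G : Type*} [Group G] [Finite G] {r : ℕ} [hr : Fact r.Prime]
variable {R : Sylow r G} {N : Subgroup G} {m : ℕ}

/-- the commutator map -/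
def th (x g : G) : G := x⁻¹ * g⁻¹ * x * g

theorem conj_eq_mul_th (x g : G) : g⁻¹ * x * g = x * th x g := by unfold th; group

theorem th_mul {x g g' : G} (hc : th x g ∈ Subgroup.center G) :
    th x (g * g') = th x g * th x g' := by
  have hcc : ∀ z : G, z * th x g = th x g * z := fun z => Subgroup.mem_center_iff.1 hc z
  calc th x (g * g') = x⁻¹ * g'⁻¹ * (g⁻¹ * x * g) * g' := by unfold th; group
    _ = x⁻¹ * g'⁻¹ * (x * th x g) * g' := by rw [conj_eq_mul_th]
    _ = x⁻¹ * g'⁻¹ * x * (th x g * g') := by group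
    _ = x⁻¹ * g'⁻¹ * x * (g' * th x g) := by rw [hcc g']
    _ = th x g' * th x g := by unfold th; group
    _ = th x g * th x g' := hcc _

theorem th_eq_one_iff {x g : G} : th x g = 1 ↔ g ∈ K x := by
  rw [mem_K]
  unfold th
  constructor
  · intro h
    have : x * (x⁻¹ * g⁻¹ * x * g) = x * 1 := by rw [h]
    calc x * g = g * (x * (x⁻¹ * g⁻¹ * x * g)) := by group
      _ = g * x := by rw [this, mul_one]
  · intro h
    calc x⁻¹ * g⁻¹ * x * g = x⁻¹ * g⁻¹ * (x * g) := by group
      _ = x⁻¹ * g⁻¹ * (g * x) := by rw [h]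
      _ = 1 := by group

theorem th_pow_prime {x g : G} {r : ℕ} (hc : th x g ∈ Subgroup.center G)
    (hxr : x ^ r ∈ Subgroup.center G) : th x g ^ r = 1 := by
  have hcomm : Commute x (th x g) := (Subgroup.mem_center_iff.1 hc x : x * th x g = th x g * x)
  have h1 : (g⁻¹ * x * g) ^ r = x ^ r := by
    have e : g⁻¹ * x * g = g⁻¹ * x * g⁻¹⁻¹ := by group
    rw [e, conj_pow]
    exact conj_eq_of_mem_center g⁻¹ hxr
  rw [conj_eq_mul_th, hcomm.mul_pow] at h1
  exact mul_left_cancel (h1.trans (mul_one _).symm)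

/-- independence of two elements of order `r` -/
theorem dvd_of_pow_mul_pow_eq_one {r : ℕ} (hr : r.Prime) {c1 c2 : G}
    (h1 : c1 ^ r = 1) (h2 : c2 ^ r = 1) (h2ne : c2 ≠ 1) (hind : c1 ∉ Subgroup.zpowers c2)
    {i j : ℕ} (hij : c1 ^ i * c2 ^ j = 1) : r ∣ i ∧ r ∣ j := by
  have hi : r ∣ i := by
    by_contra hni
    have hcop : Nat.Coprime i r := (Nat.Prime.coprime_iff_not_dvd hr).2 hni |>.symm
    obtain ⟨i', -, hi'⟩ := Nat.exists_mul_mod_eq_one_of_coprime hcop hr.one_lt
    apply hind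
    have e1 : c1 = c1 ^ (i * i') := by
      rw [pow_eq_pow_mod (i * i') h1, hi', pow_one]
    have e2 : c1 ^ i = (c2 ^ j)⁻¹ := eq_inv_of_mul_eq_one_left hij
    rw [e1, pow_mul, e2]
    exact Subgroup.pow_mem _ (Subgroup.inv_mem _ (Subgroup.pow_mem _ (Subgroup.mem_zpowers c2) _)) _
  refine ⟨hi, ?_⟩
  obtain ⟨t, rfl⟩ := hi
  rw [pow_mul, h1, one_pow, one_mul] at hij
  have hd := orderOf_dvd_of_pow_eq_one hij
  haveI : Fact r.Prime := ⟨hr⟩
  rwa [orderOf_eq_prime h2 h2ne] at hd

namespace Ctx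

variable {q : ℕ} [hq : Fact q.Prime]

/-- the commutator homomorphism `R → Z(G)`, `g ↦ [x, g]` -/
def thHom {x : G} (hx : IsZ2 R x) : ↥(R : Subgroup G) →* G where
  toFun g := th x g
  map_one' := by unfold th; simp
  map_mul' g g' := th_mul (hx.2.2 g g.2)

theorem thHom_apply {x : G} (hx : IsZ2 R x) (g : ↥(R : Subgroup G)) : thHom hx g = th x g := rfl

theorem thHom_ker {x : G} (hx : IsZ2 R x) :
    (thHom hx).ker = (K x).subgroupOf (R : Subgroup G) := by
  ext g
  rw [MonoidHom.mem_ker, thHom_apply, th_eq_one_iff, Subgroup.mem_subgroupOf]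

theorem card_eq_mul_card_range {x : G} (hx : IsZ2 R x) :
    Nat.card (R : Subgroup G) = Nat.card ↥((R : Subgroup G) ⊓ K x) * Nat.card (thHom hx).range := by
  have h1 := card_inf_mul_relIndex' (K x) (R : Subgroup G)
  have h2 : (K x).relIndex (R : Subgroup G) = Nat.card (thHom hx).range := by
    rw [← Subgroup.index_ker, thHom_ker]; rfl
  rw [h2, inf_comm] at h1
  exact h1.symm

end Ctx

end Cfsg.Agent.Helper16.TwoIdx
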