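import Mathlib
import Cfsg.Agent.Lib.Helper16.TwoIdxE7

/-!
# Normal subgroups with two class sizes: the index of `R ⊓ K x` in `R` is `r`, part 2 (helper16)
-/

set_option autoImplicit false
set_option linter.unusedSectionVars false
set_option linter.style.haveILetI false

namespace Cfsg.Agent.Helper16.TwoIdx

variable {G : Type*} [Group G] [Finite G] {r : ℕ} [hr : Fact r.Prime]
variable {R : Sylow r G} {N : Subgroup G} {m : ℕ}

namespace Ctx

variable {q : ℕ} [hq : Fact q.Prime]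

/-- Two independent elements of `R` modulo `R ⊓ K x` are impossible when `x` is good. -/
theorem IsZ2.false_of_independent (C : Ctx R N m) (hqr : q ≠ r) {x : G} (hx : IsZ2 R x)
    (hxr : x ^ r ∈ Subgroup.center G) (hgood : Good N q x) (g1 g2 : ↥(R : Subgroup G))
    (h2ne : th x g2 ≠ 1) (hind : th x g1 ∉ Subgroup.zpowers (th x g2)) : False := by
  have hxN := C.hRN hx.1
  obtain ⟨ix, hxi⟩ := exists_pow_eq_one_of_mem_sylow R hx.1
  set D : Subgroup G := K x ⊓ N with hD
  have hDcomm : ∀ c ∈ D, ∀ d ∈ D, c * d = d * c := fun c hc d hd =>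
    C.good_comm hqr hxN hx.2.1 hxi hgood hc.2 hc.1 hd.1
  letI : CommGroup ↥D :=
    { (inferInstance : Group ↥D) with
      mul_comm := fun a b => Subtype.ext (hDcomm a a.2 b b.2) }
  have hcjD : ∀ g : ↥(R : Subgroup G), ∀ d ∈ D, (g : G)⁻¹ * d * g ∈ D := by
    intro g d hd
    have hgn := IsZ2.le_normalizer hx ((R : Subgroup G).inv_mem g.2)
    refine ⟨?_, ?_⟩
    · have := (Subgroup.mem_normalizer_iff.1 hgn d).1 hd.1
      simpa using this
    · have := C.conj_mem_N (g : G)⁻¹ hd.2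
      simpa using this
  let cj : ↥(R : Subgroup G) → Monoid.End ↥D := fun g =>
    { toFun := fun d => ⟨(g : G)⁻¹ * d * g, hcjD g d d.2⟩
      map_one' := by apply Subtype.ext; simp
      map_mul' := fun a b => by apply Subtype.ext; simp [mul_assoc] }
  have hcj_apply : ∀ g d, ((cj g d : ↥D) : G) = (g : G)⁻¹ * d * g := fun _ _ => rfl
  have hcj_mul : ∀ g g', cj (g * g') = cj g' * cj g := by
    intro g g'
    ext d
    show ((g * g' : ↥(R : Subgroup G)) : G)⁻¹ * d * ((g * g' : ↥(R : Subgroup G)) : G) =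
      (g' : G)⁻¹ * ((g : G)⁻¹ * d * g) * g'
    rw [Subgroup.coe_mul]; group
  have hcj_one : cj 1 = 1 := by
    ext d
    show ((1 : ↥(R : Subgroup G)) : G)⁻¹ * d * ((1 : ↥(R : Subgroup G)) : G) = d
    simp
  have hcj_pow : ∀ g (n : ℕ), cj (g ^ n) = cj g ^ n := by
    intro g n
    induction n with
    | zero => simpa using hcj_one
    | succ n ih => rw [pow_succ, hcj_mul, ih, pow_succ']
  -- elements with the same commutator act in the same way
  have hcj_eq : ∀ g g' : ↥(R : Subgroup G), th x g = th x g' → cj g = cj g' := by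
    intro g g' hgg
    have h1 : thHom hx (g⁻¹ * g') = 1 := by
      rw [map_mul, map_inv, thHom_apply, thHom_apply, hgg, inv_mul_cancel]
    have h2 : ((g⁻¹ * g' : ↥(R : Subgroup G)) : G) ∈ K x := th_eq_one_iff.1 h1
    have h3 : ((g⁻¹ * g' : ↥(R : Subgroup G)) : G) ∈ D := ⟨h2, C.hRN (g⁻¹ * g').2⟩
    ext d
    show (g : G)⁻¹ * d * g = (g' : G)⁻¹ * d * g'
    have h4 := hDcomm _ h3 _ (hcjD g d d.2)
    rw [Subgroup.coe_mul, Subgroup.coe_inv] at h4
    calc (g : G)⁻¹ * d * g = ((g : G)⁻¹ * g')⁻¹ * (((g : G)⁻¹ * g') * ((g : G)⁻¹ * d * g)) := by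
          group
      _ = ((g : G)⁻¹ * g')⁻¹ * (((g : G)⁻¹ * d * g) * ((g : G)⁻¹ * g')) := by rw [h4]
      _ = (g' : G)⁻¹ * d * g' := by group
  set α := cj g1 with hα
  set β := cj g2 with hβ
  have hth_pow : ∀ (g : ↥(R : Subgroup G)) (n : ℕ), th x ((g ^ n : ↥(R : Subgroup G)) : G) =
      th x g ^ n := by
    intro g n
    rw [← thHom_apply hx, map_pow, thHom_apply]
  have hthr : ∀ g : ↥(R : Subgroup G), th x g ^ r = 1 := fun g =>
    th_pow_prime (hx.2.2 g g.2) hxr
  have hth1 : th x ((1 : ↥(R : Subgroup G)) : G) = 1 := by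
    rw [← thHom_apply hx, map_one]
  have hcomm : Commute α β := by
    show α * β = β * α
    rw [hα, hβ, ← hcj_mul, ← hcj_mul]
    apply hcj_eq
    rw [← thHom_apply hx, ← thHom_apply hx, map_mul, map_mul, thHom_apply, thHom_apply]
    exact (Subgroup.mem_center_iff.1 (hx.2.2 g1 g1.2) _)
  have hαr : α ^ r = 1 := by
    rw [hα, ← hcj_pow, ← hcj_one]
    apply hcj_eq
    rw [hth_pow, hthr, hth1]
  have hβr : β ^ r = 1 := by
    rw [hβ, ← hcj_pow, ← hcj_one]
    apply hcj_eq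
    rw [hth_pow, hthr, hth1]
  set V0 : Subgroup ↥D := (Subgroup.center G).subgroupOf D with hV0
  have hfix : ∀ i j : ℕ, ¬ (r ∣ i ∧ r ∣ j) → ∀ v : ↥D, (α ^ i * β ^ j) v = v → v ∈ V0 := by
    intro i j hij v hv
    rw [hV0, Subgroup.mem_subgroupOf]
    by_contra hvc
    apply hij
    rw [hα, hβ, ← hcj_pow, ← hcj_pow, ← hcj_mul] at hv
    have hv' : ((g2 ^ j * g1 ^ i : ↥(R : Subgroup G)) : G)⁻¹ * v *
        ((g2 ^ j * g1 ^ i : ↥(R : Subgroup G)) : G) = v := congrArg Subtype.val hv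
    have hKv : K (v : G) = K x :=
      C.good_K_eq hqr hxN hx.2.1 hxi hgood v.2.2 v.2.1 hvc
    have hmem : ((g2 ^ j * g1 ^ i : ↥(R : Subgroup G)) : G) ∈ K (v : G) := by
      rw [mem_K]
      set h := ((g2 ^ j * g1 ^ i : ↥(R : Subgroup G)) : G)
      calc (v : G) * h = h * (h⁻¹ * v * h) := by group
        _ = h * v := by rw [hv']
    rw [hKv] at hmem
    have h1 : thHom hx (g2 ^ j * g1 ^ i) = 1 := th_eq_one_iff.2 hmem
    rw [map_mul, map_pow, map_pow, thHom_apply, thHom_apply] at h1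
    have hcc : Commute (th x g2 ^ j) (th x g1 ^ i) :=
      (Subgroup.mem_center_iff.1 (Subgroup.pow_mem _ (hx.2.2 g2 g2.2) j) _).symm
    rw [hcc.eq] at h1
    exact dvd_of_pow_mul_pow_eq_one hr.out (hthr g1) (hthr g2) h2ne hind h1
  obtain ⟨y, hyN, hyc, ⟨jy, hyq⟩, hxy⟩ := hgood
  have hyD : y ∈ D := ⟨mem_K.2 hxy, hyN⟩
  have hpt := pow_mem_of_two_commuting α β hcomm hαr hβr V0 hfix ⟨y, hyD⟩
  rw [hV0, Subgroup.mem_subgroupOf] at hpt
  have hyr : y ^ r ∈ Subgroup.center G := by simpa using hpt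
  -- `y` is a power of `y ^ r`
  have ho1 : 1 < orderOf y := by
    have h1 : orderOf y ≠ 1 := by
      intro h
      rw [orderOf_eq_one_iff] at h
      exact hyc (h ▸ Subgroup.one_mem _)
    have h0 : 0 < orderOf y := orderOf_pos y
    omega
  have hcop : Nat.Coprime r (orderOf y) := by
    have h1 : (r).Coprime (q ^ jy) :=
      Nat.Coprime.pow_right jy ((Nat.coprime_primes hr.out hq.out).2 hqr.symm)
    exact Nat.Coprime.coprime_dvd_right (orderOf_dvd_of_pow_eq_one hyq) h1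
  obtain ⟨n, -, hn⟩ := Nat.exists_mul_mod_eq_one_of_coprime hcop ho1
  have hy : y = (y ^ r) ^ n := by
    rw [← pow_mul]
    have : y ^ (r * n) = y ^ 1 := by
      rw [pow_eq_pow_iff_modEq]
      unfold Nat.ModEq
      rw [hn, Nat.mod_eq_of_lt ho1]
    rw [this, pow_one]
  apply hyc
  rw [hy]
  exact Subgroup.pow_mem _ hyr n

end Ctx

end Cfsg.Agent.Helper16.TwoIdx
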