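import Mathlib
import Cfsg.Agent.Lib.Helper16.TwoIdxE8

/-!
# Normal subgroups with two class sizes: the index of `R ⊓ K x` in `R` is `r`, part 3 (helper16)
-/

set_option autoImplicit false
set_option linter.unusedSectionVars false
set_option linter.style.haveILetI false

namespace Cfsg.Agent.Helper16.TwoIdx

variable {G : Type*} [Group G] [Finite G] {r : ℕ} [hr : Fact r.Prime]
variable {R : Sylow r G} {N : Subgroup G} {m : ℕ}

namespace Ctx

variable {q : ℕ} [hq : Fact q.Prime]

theorem IsZ2.card_R1_mul (C : Ctx R N m) (hrm : r ∣ m) (hqr : q ≠ r) {x : G} (hx : IsZ2 R x)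
    (hxr : x ^ r ∈ Subgroup.center G) (hgood : Good N q x) :
    Nat.card ↥((R : Subgroup G) ⊓ K x) * r = Nat.card (R : Subgroup G) := by
  have h1 := card_eq_mul_card_range hx
  have hIp : IsPGroup r (thHom hx).range := by
    rintro ⟨c, g, rfl⟩
    refine ⟨1, Subtype.ext ?_⟩
    rw [pow_one]
    exact th_pow_prime (hx.2.2 g g.2) hxr
  obtain ⟨t, ht⟩ := IsPGroup.iff_card.1 hIp
  rcases t with _ | _ | t
  · exfalso
    rw [ht, pow_zero, mul_one] at h1
    have h2 : (R : Subgroup G) ⊓ K x = R :=
      Subgroup.eq_of_le_of_card_ge inf_le_left h1.le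
    apply hx.2.1
    apply C.center_R_le hrm hx.1
    intro g hg
    have : g ∈ (R : Subgroup G) ⊓ K x := by rw [h2]; exact hg
    exact mem_K.1 this.2
  · rw [h1, ht]; simp
  · exfalso
    have hr2 := hr.out.two_le
    have hcard : r < Nat.card (thHom hx).range := by
      rw [ht]
      calc r = r ^ 1 := (pow_one r).symm
        _ < r ^ (t + 1 + 1) := Nat.pow_lt_pow_right hr.out.one_lt (by omega)
    haveI : Nontrivial (thHom hx).range := by
      rw [← Finite.one_lt_card_iff_nontrivial]; omega
    obtain ⟨c2, hc2⟩ := exists_ne (1 : (thHom hx).range)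
    obtain ⟨g2, hg2⟩ := c2.2
    have hc2ne : th x g2 ≠ 1 := by
      intro h
      apply hc2
      apply Subtype.ext
      rw [← hg2, thHom_apply]; exact h
    have hc2r : th x g2 ^ r = 1 := th_pow_prime (hx.2.2 g2 g2.2) hxr
    have hord : orderOf (th x g2) = r := orderOf_eq_prime hc2r hc2ne
    obtain ⟨c1, hc1I, hc1⟩ : ∃ c1 ∈ (thHom hx).range, c1 ∉ Subgroup.zpowers (th x g2) := by
      by_contra hcon
      push Not at hcon
      have hle : (thHom hx).range ≤ Subgroup.zpowers (th x g2) := hcon
      have := Subgroup.card_le_of_le hle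
      rw [Nat.card_zpowers, hord] at this
      omega
    obtain ⟨g1, hg1⟩ := hc1I
    rw [← hg1, thHom_apply] at hc1
    exact IsZ2.false_of_independent C hqr hx hxr hgood g1 g2 hc2ne hc1

end Ctx

end Cfsg.Agent.Helper16.TwoIdx
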