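import Mathlib
import Cfsg.Agent.Lib.Helper16.TwoIdxE9

/-!
# Normal subgroups with two class sizes: every noncentral element of `R` is good (helper16)
-/

set_option autoImplicit false
set_option linter.unusedSectionVars false
set_option linter.style.haveILetI false

namespace Cfsg.Agent.Helper16.TwoIdx

variable {G : Type*} [Group G] [Finite G] {r : ℕ} [hr : Fact r.Prime]
variable {R : Sylow r G} {N : Subgroup G} {m : ℕ}

namespace Ctx

variable {q : ℕ} [hq : Fact q.Prime]

/-- If `R` modulo its central part has order at most `r ^ 2`, commutators of `R` are central. -/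
theorem comm_mem_center_of_small (R : Sylow r G)
    (hsmall : Nat.card (R : Subgroup G) ≤ r ^ 2 *
      Nat.card ↥((R : Subgroup G) ⊓ Subgroup.center G)) {a b : G} (ha : a ∈ (R : Subgroup G))
    (hb : b ∈ (R : Subgroup G)) : a⁻¹ * b⁻¹ * a * b ∈ Subgroup.center G := by
  set P := ↥(R : Subgroup G) with hP
  set ZR' : Subgroup P := (Subgroup.center G).subgroupOf (R : Subgroup G) with hZR'
  haveI : ZR'.Normal := (Subgroup.center G).normal_of_characteristic.subgroupOf _
  have h1 := card_inf_mul_relIndex' (Subgroup.center G) (R : Subgroup G)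
  rw [inf_comm] at h1
  have hidx : ZR'.index ≤ r ^ 2 := by
    have hpos : 0 < Nat.card ↥((R : Subgroup G) ⊓ Subgroup.center G) := Nat.card_pos
    have : (Subgroup.center G).relIndex (R : Subgroup G) ≤ r ^ 2 := by
      by_contra hlt
      push Not at hlt
      have := Nat.mul_lt_mul_of_pos_left hlt hpos
      rw [h1] at this
      nlinarith
    exact this
  have hQp : IsPGroup r (P ⧸ ZR') := R.2.to_quotient _
  obtain ⟨t, ht⟩ := IsPGroup.iff_card.1 hQp
  have hcardQ : Nat.card (P ⧸ ZR') = ZR'.index := rfl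
  have ht2 : t ≤ 2 := by
    rw [← hcardQ, ht] at hidx
    exact (Nat.pow_le_pow_iff_right hr.out.one_lt).1 hidx
  have hcomm : ∀ u v : P ⧸ ZR', u * v = v * u := by
    interval_cases t
    · rw [pow_zero] at ht
      haveI : Subsingleton (P ⧸ ZR') := (Nat.card_eq_one_iff_unique.1 ht).1
      intro u v; exact Subsingleton.elim _ _
    · rw [pow_one] at ht
      haveI := isCyclic_of_prime_card ht
      intro u v
      exact (inferInstance : IsMulCommutative (P ⧸ ZR')).is_comm.comm u v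
    · intro u v
      exact (IsPGroup.isMulCommutative_of_card_eq_prime_sq ht).is_comm.comm u v
  have h2 : (QuotientGroup.mk ((⟨a, ha⟩ : P)⁻¹ * (⟨b, hb⟩ : P)⁻¹ * ⟨a, ha⟩ * ⟨b, hb⟩) :
      P ⧸ ZR') = 1 := by
    simp only [QuotientGroup.mk_mul, QuotientGroup.mk_inv]
    rw [mul_assoc _ (QuotientGroup.mk (⟨a, ha⟩ : P) : P ⧸ ZR'),
      hcomm (QuotientGroup.mk (⟨a, ha⟩ : P))]
    group
  rw [QuotientGroup.eq_one_iff, hZR', Subgroup.mem_subgroupOf] at h2
  exact h2

/-- Every noncentral element of `R` is good. -/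
theorem good_of_mem_R (C : Ctx R N m) (hrm : r ∣ m) (hqr : q ≠ r) {y0 : G} (hy0N : y0 ∈ N)
    (hy0c : y0 ∉ Subgroup.center G) {j0 : ℕ} (hy0q : y0 ^ q ^ j0 = 1) {g : G}
    (hg : g ∈ (R : Subgroup G)) (hgc : g ∉ Subgroup.center G) : Good N q g := by
  obtain ⟨x, hx, hxr⟩ := C.exists_isZ2 hrm
  have hxN := C.hRN hx.1
  obtain ⟨ix, hxi⟩ := exists_pow_eq_one_of_mem_sylow R hx.1
  have hgoodx : Good N q x := IsZ2.good C hrm hqr hy0N hy0c hy0q hx
  have hcard := IsZ2.card_R1_mul C hrm hqr hx hxr hgoodx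
  have hR1c := IsZ2.card_inf C hx
  -- elements of `R ⊓ K x` are good
  have hin : ∀ g' ∈ (R : Subgroup G), g' ∉ Subgroup.center G → g' ∈ K x → Good N q g' :=
    fun g' hg'R hg'c hg'K => C.good_of_mem hqr hxN hx.2.1 hxi hgoodx (C.hRN hg'R) hg'K hg'c
  by_cases hgK : g ∈ K x
  · exact hin g hg hgc hgK
  obtain ⟨ig, hig⟩ := exists_pow_eq_one_of_mem_sylow R hg
  have hgN := C.hRN hg
  obtain ⟨P, hzP, hPK, hP, hPc⟩ := C.exists_sylow_K_ge hgN hgc
    (by rw [Subgroup.zpowers_le]; exact self_mem_K g : Subgroup.zpowers g ≤ K g)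
    (isPGroup_zpowers_of_pow hig)
  have hgP : g ∈ P := hzP (Subgroup.mem_zpowers g)
  obtain ⟨n, hn⟩ := exists_conj_le_sylow hP R
  set g' := n * g * n⁻¹ with hg'
  have hg'R : g' ∈ (R : Subgroup G) := hn g hgP
  have hg'c : g' ∉ Subgroup.center G := fun h => hgc ((conj_mem_center_iff n).1 h)
  by_cases hg'K : g' ∈ K x
  · exact Good.of_conj C n (hin g' hg'R hg'c hg'K)
  -- the small case
  set A : Subgroup G := (R : Subgroup G) ⊓ K g' with hA
  set R1 : Subgroup G := (R : Subgroup G) ⊓ K x with hR1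
  set ZR : Subgroup G := (R : Subgroup G) ⊓ Subgroup.center G with hZR
  have hAR1 : A ⊓ R1 ≤ ZR := by
    rintro s ⟨⟨hsR, hsK'⟩, ⟨-, hsK⟩⟩
    refine ⟨hsR, ?_⟩
    by_contra hsc
    have hKs : K s = K x := C.good_K_eq hqr hxN hx.2.1 hxi hgoodx (C.hRN hsR) hsK hsc
    apply hg'K
    rw [← hKs]
    exact mem_K_comm.1 hsK'
  have hAc : s0 G r m ≤ Nat.card A := by
    have hle : P.map (MulAut.conj n).toMonoidHom ≤ A := by
      rintro _ ⟨a, ha, rfl⟩
      have e : (MulAut.conj n).toMonoidHom a = n * a * n⁻¹ := by simp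
      rw [e]
      exact ⟨hn a ha, conj_mem_K_conj n (hPK ha)⟩
    have := Subgroup.card_le_of_le hle
    rwa [Cfsg.Agent.Helper16.card_map_conj, hPc] at this
  have h1 := card_mul_card_le_of_le A R1 (R : Subgroup G) inf_le_left inf_le_left
  have h2 : Nat.card ↥(A ⊓ R1) ≤ Nat.card ZR := Subgroup.card_le_of_le hAR1
  have hs0pos : 0 < s0 G r m := by unfold s0; exact pow_pos hr.out.pos _
  have hsmall : Nat.card (R : Subgroup G) ≤ r ^ 2 * Nat.card ZR := by
    rw [hR1c] at h1 hcard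
    -- s0 * s0 ≤ |A| * s0 ≤ |A ⊓ R1| * |R| ≤ |ZR| * (s0 * r)
    have h3 : s0 G r m * s0 G r m ≤ Nat.card ZR * (s0 G r m * r) :=
      calc s0 G r m * s0 G r m ≤ Nat.card A * s0 G r m := Nat.mul_le_mul_right _ hAc
        _ ≤ Nat.card ↥(A ⊓ R1) * Nat.card (R : Subgroup G) := h1
        _ ≤ Nat.card ZR * Nat.card (R : Subgroup G) := Nat.mul_le_mul_right _ h2
        _ = Nat.card ZR * (s0 G r m * r) := by rw [hcard]
    have h4 : s0 G r m ≤ Nat.card ZR * r := by
      have : s0 G r m * s0 G r m ≤ s0 G r m * (Nat.card ZR * r) := by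
        calc s0 G r m * s0 G r m ≤ Nat.card ZR * (s0 G r m * r) := h3
          _ = s0 G r m * (Nat.card ZR * r) := by ring
      exact Nat.le_of_mul_le_mul_left this hs0pos
    rw [← hcard]
    calc s0 G r m * r ≤ (Nat.card ZR * r) * r := Nat.mul_le_mul_right _ h4
      _ = r ^ 2 * Nat.card ZR := by ring
  have hZ2 : IsZ2 R g := ⟨hg, hgc, fun b hb => comm_mem_center_of_small R hsmall hg hb⟩
  exact IsZ2.good C hrm hqr hy0N hy0c hy0q hZ2

end Ctx

end Cfsg.Agent.Helper16.TwoIdx
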