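import Mathlib
import Cfsg.Agent.Lib.Helper16.TwoIdxF1

/-!
# Normal subgroups with two class sizes: reduction to the abstract counting argument (helper16)
-/

set_option autoImplicit false
set_option linter.unusedSectionVars false
set_option linter.style.haveILetI false

namespace Cfsg.Agent.Helper16.TwoIdx

variable {G : Type*} [Group G] [Finite G] {r : ℕ} [hr : Fact r.Prime]
variable {R : Sylow r G} {N : Subgroup G} {m : ℕ}

theorem mem_K_subtype {N : Subgroup G} {v k : N} : k ∈ K v ↔ (k : G) ∈ K (v : G) := by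
  rw [mem_K, mem_K, Subtype.ext_iff]
  rfl

namespace Ctx

variable {q : ℕ} [hq : Fact q.Prime]

/-- A noncentral `q`-element in `N` (with `r ∣ m`) leads to a contradiction. -/
theorem false_of_qElement (C : Ctx R N m) (hrm : r ∣ m) (hqr : q ≠ r) {y0 : G} (hy0N : y0 ∈ N)
    (hy0c : y0 ∉ Subgroup.center G) {j0 : ℕ} (hy0q : y0 ^ q ^ j0 = 1) : False := by
  -- the order of a Sylow subgroup of a centralizer
  obtain ⟨x, hx, hxr⟩ := C.exists_isZ2 hrm
  have hgoodx : Good N q x := IsZ2.good C hrm hqr hy0N hy0c hy0q hx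
  have hcard := IsZ2.card_R1_mul C hrm hqr hx hxr hgoodx
  rw [IsZ2.card_inf C hx] at hcard
  -- every noncentral element of `N` commutes with a good `r`-element
  have key : ∀ v ∈ N, v ∉ Subgroup.center G → ∃ s ∈ N, s ∉ Subgroup.center G ∧
      (∃ k : ℕ, s ^ r ^ k = 1) ∧ Good N q s ∧ K v = K s := by
    intro v hvN hvc
    obtain ⟨P, hPK, hP, hPc⟩ := C.exists_sylow_K hvN hvc
    obtain ⟨s, hsP, hsc⟩ := SetLike.not_le_iff_exists.1 (C.not_le_center hrm hP hPc)
    obtain ⟨k, hk⟩ := hP ⟨s, hsP⟩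
    have hk' : s ^ r ^ k = 1 := by simpa using congrArg Subtype.val hk
    have hsN : s ∈ N := C.mem_N_of_pow hk'
    obtain ⟨n, hn⟩ := exists_conj_le_sylow (isPGroup_zpowers_of_pow hk') R
    have hnR : n * s * n⁻¹ ∈ (R : Subgroup G) := hn s (Subgroup.mem_zpowers s)
    have hgood : Good N q s :=
      Good.of_conj C n (C.good_of_mem_R hrm hqr hy0N hy0c hy0q hnR
        (fun h => hsc ((conj_mem_center_iff n).1 h)))
    refine ⟨s, hsN, hsc, ⟨k, hk'⟩, hgood, ?_⟩
    exact C.good_K_eq hqr hsN hsc hk' hgood hvN (mem_K_comm.1 (hPK hsP)) hvc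
  have Fa : ∀ v ∈ N, v ∉ Subgroup.center G → ∀ c ∈ N, c ∈ K v → c ∉ Subgroup.center G →
      K c = K v := by
    intro v hvN hvc c hcN hcK hcc
    obtain ⟨s, hsN, hsc, ⟨k, hk⟩, hgood, hKvs⟩ := key v hvN hvc
    rw [hKvs] at hcK ⊢
    exact C.good_K_eq hqr hsN hsc hk hgood hcN hcK hcc
  have Fc : ∀ v ∈ N, v ∉ Subgroup.center G → ∃ y ∈ N, y ∈ K v ∧ y ∉ Subgroup.center G ∧
      (orderOf y).Coprime r := by
    intro v hvN hvc
    obtain ⟨s, hsN, hsc, ⟨k, hk⟩, hgood, hKvs⟩ := key v hvN hvc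
    obtain ⟨y, hyN, hyc, ⟨j, hj⟩, hcomm⟩ := hgood
    refine ⟨y, hyN, by rw [hKvs]; exact mem_K.2 hcomm, hyc, ?_⟩
    have h1 : (q ^ j).Coprime r :=
      Nat.Coprime.pow_left j ((Nat.coprime_primes hq.out hr.out).2 hqr)
    exact Nat.Coprime.coprime_dvd_left (orderOf_dvd_of_pow_eq_one hj) h1
  -- the abstract hypotheses
  set R' : Sylow r ↥N := R.subtype C.hRN with hR'
  set Z' : Subgroup ↥N := (Subgroup.center G).subgroupOf N with hZ'
  have hcardR' : Nat.card (R' : Subgroup ↥N) = Nat.card (R : Subgroup G) := by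
    rw [hR', Sylow.coe_subtype]
    exact Nat.card_congr (Subgroup.subgroupOfEquivOfLe C.hRN).toEquiv
  have hZmem : ∀ v : ↥N, v ∈ Z' ↔ (v : G) ∈ Subgroup.center G := fun v => Subgroup.mem_subgroupOf
  have H : CntHyp R' Z' := by
    refine ⟨?_, ?_, ?_, ?_, ?_, ?_⟩
    · intro z hz
      rw [Subgroup.mem_center_iff]
      intro g
      apply Subtype.ext
      exact Subgroup.mem_center_iff.1 ((hZmem z).1 hz) (g : G)
    · intro v hv c hc hcZ
      ext k
      rw [mem_K_subtype, mem_K_subtype,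
        Fa v v.2 (fun h => hv ((hZmem v).2 h)) c c.2 (mem_K_subtype.1 hc)
          (fun h => hcZ ((hZmem c).2 h))]
    · intro v hv P hPK hP
      have hvc : (v : G) ∉ Subgroup.center G := fun h => hv ((hZmem v).2 h)
      have h1 : P.map N.subtype ≤ K (v : G) := by
        rintro _ ⟨p, hp, rfl⟩
        exact mem_K_subtype.1 (hPK hp)
      have h2 := C.card_dvd_s0 v.2 hvc h1 (hP.map _)
      rw [Subgroup.card_map_of_injective N.subtype_injective] at h2
      have hs0pos : 0 < s0 G r m := by unfold s0; exact pow_pos hr.out.pos _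
      have h3 := Nat.le_of_dvd hs0pos h2
      rw [hcardR', ← hcard]
      exact Nat.mul_le_mul_right _ h3
    · intro v hv
      have hvc : (v : G) ∉ Subgroup.center G := fun h => hv ((hZmem v).2 h)
      obtain ⟨P, hPK, hP, hPc⟩ := C.exists_sylow_K v.2 hvc
      have hPN : P ≤ N := C.le_N_of_isPGroup hP
      have hnc := C.not_le_center hrm hP hPc
      refine ⟨P.subgroupOf N, ?_, hP.comap_subtype, ?_, ?_⟩
      · intro p hp
        exact mem_K_subtype.2 (hPK (Subgroup.mem_subgroupOf.1 hp))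
      · rw [Nat.card_congr (Subgroup.subgroupOfEquivOfLe hPN).toEquiv, hPc, hcardR', hcard]
      · intro hle
        apply hnc
        intro p hp
        have : (⟨p, hPN hp⟩ : ↥N) ∈ Z' := hle (Subgroup.mem_subgroupOf.2 hp)
        exact (hZmem _).1 this
    · intro v hv
      have hvc : (v : G) ∉ Subgroup.center G := fun h => hv ((hZmem v).2 h)
      obtain ⟨y, hyN, hyK, hyc, hyo⟩ := Fc v v.2 hvc
      refine ⟨⟨y, hyN⟩, mem_K_subtype.2 hyK, fun h => hyc ((hZmem _).1 h), ?_⟩
      rw [← Subgroup.orderOf_coe]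
      exact hyo
    · intro hle
      apply hx.2.1
      have : (⟨x, C.hRN hx.1⟩ : ↥N) ∈ Z' := hle (by
        rw [hR', Sylow.coe_subtype, Subgroup.mem_subgroupOf]; exact hx.1)
      exact (hZmem _).1 this
  exact H.false

end Ctx

end Cfsg.Agent.Helper16.TwoIdx
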