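import Mathlib
import Cfsg.Agent.Lib.Helper16.TwoIdxF2

/-!
# Normal subgroups with two class sizes: the final assembly (helper16)
-/

set_option autoImplicit false
set_option linter.unusedSectionVars false
set_option linter.style.haveILetI false

namespace Cfsg.Agent.Helper16.TwoIdx

variable {G : Type*} [Group G] [Finite G] {r : ℕ} [hr : Fact r.Prime]
variable {R : Sylow r G} {N : Subgroup G} {m : ℕ}

/-- A noncentral element of order prime to `r` has a noncentral primary component. -/
theorem exists_prime_part (N : Subgroup G) (r : ℕ) [Fact r.Prime] :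
    ∀ n : ℕ, ∀ y ∈ N, orderOf y = n → y ∉ Subgroup.center G → (orderOf y).Coprime r →
      ∃ q : ℕ, q.Prime ∧ q ≠ r ∧ ∃ y0 ∈ N, y0 ∉ Subgroup.center G ∧ ∃ j : ℕ, y0 ^ q ^ j = 1 := by
  intro n
  induction n using Nat.strong_induction_on with
  | _ n ih =>
    intro y hyN hyn hyc hyo
    have hne1 : orderOf y ≠ 1 := by
      intro h
      rw [orderOf_eq_one_iff] at h
      exact hyc (h ▸ Subgroup.one_mem _)
    obtain ⟨q, hq, hqd⟩ := Nat.exists_prime_and_dvd hne1
    have hqr : q ≠ r := by
      rintro rfl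
      have := Nat.Coprime.eq_one_of_dvd hyo.symm hqd
      exact hq.one_lt.ne' this
    haveI : Fact q.Prime := ⟨hq⟩
    obtain ⟨u, b, hu, hb, hyub, ⟨j, hj⟩, hbo⟩ := exists_parts q y
    have hzN : Subgroup.zpowers y ≤ N := by rw [Subgroup.zpowers_le]; exact hyN
    by_cases huc : u ∈ Subgroup.center G
    · have hbc : b ∉ Subgroup.center G := by
        intro hbc
        apply hyc
        rw [hyub]
        exact Subgroup.mul_mem _ huc hbc
      have hbd : orderOf b ∣ orderOf y := orderOf_dvd_of_mem_zpowers hb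
      have hblt : orderOf b < n := by
        rw [← hyn]
        rcases (Nat.le_of_dvd (orderOf_pos y) hbd).lt_or_eq with h | h
        · exact h
        · exfalso
          rw [h] at hbo
          have := Nat.Coprime.eq_one_of_dvd hbo.symm hqd
          exact hq.one_lt.ne' this
      exact ih (orderOf b) hblt b (hzN hb) rfl hbc (Nat.Coprime.coprime_dvd_left hbd hyo)
    · exact ⟨q, hq, hqr, u, hzN hu, huc, j, hj⟩

namespace Ctx

/-- the case `r ∣ m` -/
theorem isNilpotent_of_dvd (C : Ctx R N m) (hrm : r ∣ m) : Group.IsNilpotent ↥N := by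
  by_cases hall : ∀ y ∈ N, (orderOf y).Coprime r → y ∈ Subgroup.center G
  · -- `N` modulo its central part is an `r`-group
    set Z' : Subgroup ↥N := (Subgroup.center G).subgroupOf N with hZ'
    haveI : Z'.Normal := (Subgroup.center G).normal_of_characteristic.subgroupOf _
    have hZc : Z' ≤ Subgroup.center ↥N := by
      intro z hz
      rw [Subgroup.mem_center_iff]
      intro g
      apply Subtype.ext
      exact Subgroup.mem_center_iff.1 (Subgroup.mem_subgroupOf.1 hz) (g : G)
    have hQ : IsPGroup r (↥N ⧸ Z') := by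
      intro cbar
      obtain ⟨c, rfl⟩ := QuotientGroup.mk_surjective cbar
      obtain ⟨u, y, hu, hy, hcuy, ⟨j, hj⟩, hyo⟩ := exists_parts r (c : G)
      have hz : Subgroup.zpowers (c : G) ≤ N := by rw [Subgroup.zpowers_le]; exact c.2
      have hyZ : (⟨y, hz hy⟩ : ↥N) ∈ Z' := Subgroup.mem_subgroupOf.2 (hall y (hz hy) hyo)
      refine ⟨j, ?_⟩
      have hc : c = ⟨u, hz hu⟩ * ⟨y, hz hy⟩ := Subtype.ext hcuy
      rw [hc, QuotientGroup.mk_mul, (QuotientGroup.eq_one_iff _).2 hyZ, mul_one,
        ← QuotientGroup.mk_pow, QuotientGroup.eq_one_iff]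
      have : (⟨u, hz hu⟩ : ↥N) ^ r ^ j = 1 := Subtype.ext (by simpa using hj)
      rw [this]; exact Subgroup.one_mem _
    haveI : Group.IsNilpotent (↥N ⧸ Z') := hQ.isNilpotent
    exact Subgroup.isNilpotent_of_ker_le_center (QuotientGroup.mk' Z')
      (by rw [QuotientGroup.ker_mk']; exact hZc)
  · exfalso
    push Not at hall
    obtain ⟨y, hyN, hyo, hyc⟩ := hall
    obtain ⟨q, hq, hqr, y0, hy0N, hy0c, j, hj⟩ :=
      exists_prime_part N r (orderOf y) y hyN rfl hyc hyo
    haveI : Fact q.Prime := ⟨hq⟩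
    exact C.false_of_qElement hrm hqr hy0N hy0c hj

/-- the case `r ∤ m` -/
theorem isNilpotent_of_not_dvd (C : Ctx R N m) (hrm : ¬ r ∣ m) : Group.IsNilpotent ↥N := by
  -- Step A: every element of `N` has an `N`-conjugate centralizing `R`
  have hA : ∀ x ∈ N, ∃ n ∈ N, (R : Subgroup G) ≤ K (n * x * n⁻¹) := by
    intro x hxN
    have hidx : ¬ r ∣ (K x).index := by
      rcases C.h x hxN with h | h
      · rw [h]; exact fun h1 => hr.out.one_lt.ne' (Nat.dvd_one.1 h1)
      · rw [h]; exact hrm
    obtain ⟨S⟩ : Nonempty (Sylow r (K x)) := inferInstance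
    set P : Subgroup G := (S : Subgroup (K x)).map (K x).subtype with hP
    have hPK : P ≤ K x := by
      rintro _ ⟨y, _, rfl⟩; exact y.2
    have hPp : IsPGroup r P := S.2.map _
    have hPc : Nat.card P = Nat.card (R : Subgroup G) := by
      rw [hP, Subgroup.card_map_of_injective (K x).subtype_injective, S.card_eq_multiplicity,
        R.card_eq_multiplicity]
      congr 1
      have h1 := Subgroup.card_mul_index (K x)
      have hidx0 : (K x).index ≠ 0 := Subgroup.index_ne_zero_of_finite
      rw [← h1, Nat.factorization_mul Nat.card_pos.ne' hidx0]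
      simp [Nat.factorization_eq_zero_of_not_dvd hidx]
    have hPN : P ≤ N := C.le_N_of_isPGroup hPp
    obtain ⟨k, hk⟩ := exists_conj_le_sylow (hPp.comap_subtype : IsPGroup r (P.subgroupOf N))
      (R.subtype C.hRN)
    refine ⟨k, k.2, ?_⟩
    have hle : P.map (MulAut.conj (k : G)).toMonoidHom ≤ (R : Subgroup G) := by
      rintro _ ⟨p, hp, rfl⟩
      have := hk ⟨p, hPN hp⟩ (Subgroup.mem_subgroupOf.2 hp)
      rw [Sylow.coe_subtype, Subgroup.mem_subgroupOf] at this
      simpa using this
    have heq : P.map (MulAut.conj (k : G)).toMonoidHom = (R : Subgroup G) :=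
      Subgroup.eq_of_le_of_card_ge hle (by
        rw [Cfsg.Agent.Helper16.card_map_conj, hPc])
    rw [← heq]
    rintro _ ⟨p, hp, rfl⟩
    have e : (MulAut.conj (k : G)).toMonoidHom p = k * p * (k : G)⁻¹ := by simp
    rw [e]
    exact conj_mem_K_conj _ (mem_K_comm.1 (mem_K_comm.1 (hPK hp)))
  -- Step B: `R` is central in `N`
  have hB : ∀ x ∈ N, ∀ a ∈ (R : Subgroup G), x * a = a * x := by
    set H : Subgroup ↥N := (Subgroup.centralizer ((R : Subgroup G) : Set G)).subgroupOf N with hH
    have hcov : ∀ x : ↥N, ∃ n : ↥N, n * x * n⁻¹ ∈ H := by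
      intro x
      obtain ⟨n, hnN, hn⟩ := hA x x.2
      refine ⟨⟨n, hnN⟩, ?_⟩
      rw [hH, Subgroup.mem_subgroupOf, Subgroup.mem_centralizer_iff]
      intro a ha
      exact (mem_K.1 (hn ha)).symm
    have htop := eq_top_of_conj_cover H hcov
    intro x hxN a ha
    have : (⟨x, hxN⟩ : ↥N) ∈ H := by rw [htop]; exact Subgroup.mem_top _
    rw [hH, Subgroup.mem_subgroupOf, Subgroup.mem_centralizer_iff] at this
    exact (this a ha).symm
  -- Step C: elements of order prime to `r`
  obtain ⟨x0, hx0R, hx0c⟩ := SetLike.not_le_iff_exists.1 C.hR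
  obtain ⟨i0, hx0i⟩ := exists_pow_eq_one_of_mem_sylow R hx0R
  have hNK : N ≤ K x0 := fun w hw => mem_K.2 (hB w hw x0 hx0R).symm
  have hC : ∀ v ∈ N, (orderOf v).Coprime r → ∀ w ∈ N, v * w = w * v := by
    intro v hvN hvo w hwN
    have := C.K_le_of_rprime (C.hRN hx0R) hx0c hx0i hvN (hNK hvN) hvo
    exact mem_K.1 (this (hNK hwN))
  -- Step D: `r`-elements
  have hD : ∀ a ∈ N, ∀ k : ℕ, a ^ r ^ k = 1 → ∀ w ∈ N, a * w = w * a := by
    intro a haN k hak w hwN
    obtain ⟨n, hn⟩ := exists_conj_le_sylow (isPGroup_zpowers_of_pow hak) R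
    have hnR : n * a * n⁻¹ ∈ (R : Subgroup G) := hn a (Subgroup.mem_zpowers a)
    have h1 := hB (n * w * n⁻¹) (C.conj_mem_N n hwN) (n * a * n⁻¹) hnR
    have h2 : n * (w * a) * n⁻¹ = n * (a * w) * n⁻¹ := by
      calc n * (w * a) * n⁻¹ = n * w * n⁻¹ * (n * a * n⁻¹) := by group
        _ = n * a * n⁻¹ * (n * w * n⁻¹) := h1
        _ = n * (a * w) * n⁻¹ := by group
    exact (mul_left_cancel (mul_right_cancel h2)).symm
  -- Step E
  letI : CommGroup ↥N :=
    { (inferInstance : Group ↥N) with
      mul_comm := fun c w => by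
        apply Subtype.ext
        obtain ⟨u, b, hu, hb, hcub, ⟨j, hj⟩, hbo⟩ := exists_parts r (c : G)
        have hz : Subgroup.zpowers (c : G) ≤ N := by rw [Subgroup.zpowers_le]; exact c.2
        have h1 := hD u (hz hu) j hj w w.2
        have h2 := hC b (hz hb) hbo w w.2
        show (c : G) * w = w * c
        rw [hcub]
        calc u * b * (w : G) = u * (b * w) := by group
          _ = u * (w * b) := by rw [h2]
          _ = u * w * b := by group
          _ = w * u * b := by rw [h1]
          _ = w * (u * b) := by group }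
  infer_instance

/-- The theorem: `N` is nilpotent. -/
theorem isNilpotent (C : Ctx R N m) : Group.IsNilpotent ↥N := by
  by_cases hrm : r ∣ m
  · exact C.isNilpotent_of_dvd hrm
  · exact C.isNilpotent_of_not_dvd hrm

end Ctx

end Cfsg.Agent.Helper16.TwoIdx
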