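import Mathlib

set_option autoImplicit false
set_option linter.style.haveILetI false
set_option linter.unusedSectionVars false

/-! A group of order 64 with Klein four centre and a fixed-point-free (modulo the centre)
automorphism of order five: basic structure. -/

namespace Cfsg.Agent.Helper16.U34

open scoped commutatorElement

/-- fixed points of a map of order five, modulo five -/
theorem natCard_mod5_fix {α : Type*} [Finite α] (f : α → α)
    (hf : ∀ x, f (f (f (f (f x)))) = x) :
    Nat.card α % 5 = Nat.card {x : α // f x = x} % 5 := by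
  classical
  haveI : Fintype α := Fintype.ofFinite α
  have : Fact (Nat.Prime 5) := ⟨by norm_num⟩
  let f' : Function.End α := f
  have hf' : f' ^ 5 ^ 1 = 1 := by
    rw [pow_one]
    funext x
    exact hf x
  have hmod := Equiv.Perm.card_fixedPoints_modEq (α := α) hf'
  rw [Fintype.card_eq_nat_card, Fintype.card_eq_nat_card] at hmod
  exact hmod

theorem card_cases {n : ℕ} (hdvd : n ∣ 64) (hmod : n % 5 = 4) : n = 4 ∨ n = 64 := by
  have hle : n ≤ 64 := Nat.le_of_dvd (by norm_num) hdvd
  interval_cases n <;> omega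

variable {P : Type*} [Group P]

/-- fixed points of an automorphism -/
def fixG (γ : P ≃* P) : Subgroup P where
  carrier := {g | γ g = g}
  mul_mem' := by
    intro a b ha hb
    change γ a = a at ha
    change γ b = b at hb
    change γ (a * b) = a * b
    rw [map_mul, ha, hb]
  one_mem' := map_one γ
  inv_mem' := by
    intro a ha
    change γ a = a at ha
    change γ a⁻¹ = a⁻¹
    rw [map_inv, ha]

theorem mem_fixG (γ : P ≃* P) (g : P) : g ∈ fixG γ ↔ γ g = g := Iff.rfl

theorem card_inf_fix [Finite P] (γ : P ≃* P) (h5 : ∀ g, γ (γ (γ (γ (γ g)))) = g)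
    (H : Subgroup P) (hH : ∀ g ∈ H, γ g ∈ H) :
    Nat.card H % 5 = Nat.card (H ⊓ fixG γ : Subgroup P) % 5 := by
  have h1 := natCard_mod5_fix (fun g : H => (⟨γ g.1, hH g.1 g.2⟩ : H)) (by
    intro g
    apply Subtype.ext
    exact h5 g.1)
  rw [h1]
  congr 1
  apply Nat.card_congr
  exact
    { toFun := fun x => ⟨x.1.1, ⟨x.1.2, congrArg Subtype.val x.2⟩⟩
      invFun := fun x => ⟨⟨x.1, x.2.1⟩, Subtype.ext x.2.2⟩
      left_inv := fun x => rfl
      right_inv := fun x => rfl }

/-- the hypotheses on the derived group and the automorphism induced by an element of order 5 -/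
structure Dat (P : Type*) [Group P] (γ : P ≃* P) : Prop where
  card : Nat.card P = 64
  cardZ : Nat.card (Subgroup.center P) = 4
  expZ : ∀ z ∈ Subgroup.center P, z * z = 1
  h5 : ∀ g, γ (γ (γ (γ (γ g)))) = g
  ht : ∀ M : Subgroup P, M.Normal → (∀ g ∈ M, γ g ∈ M) → (∀ g h : P, ⁅g, h⁆ ∈ M) →
      (∀ g, γ g * g⁻¹ ∈ M) → M = ⊤

variable {γ : P ≃* P}

theorem Dat.finite (D : Dat P γ) : Finite P :=
  Nat.finite_of_card_ne_zero (by rw [D.card]; norm_num)

theorem Dat.gamma_mem_center (_D : Dat P γ) {z : P} (hz : z ∈ Subgroup.center P) :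
    γ z ∈ Subgroup.center P := by
  rw [Subgroup.mem_center_iff] at hz ⊢
  intro g
  obtain ⟨g', rfl⟩ := γ.surjective g
  rw [← map_mul, ← map_mul, hz g']

theorem Dat.fix_center (D : Dat P γ) {z : P} (hz : z ∈ Subgroup.center P) : γ z = z := by
  haveI := D.finite
  have h1 := card_inf_fix γ D.h5 (Subgroup.center P) (fun g hg => D.gamma_mem_center hg)
  rw [D.cardZ] at h1
  have hle : Nat.card (Subgroup.center P ⊓ fixG γ : Subgroup P) ≤ 4 := by
    rw [← D.cardZ]; exact Subgroup.card_le_of_le inf_le_left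
  have hpos : 0 < Nat.card (Subgroup.center P ⊓ fixG γ : Subgroup P) := Nat.card_pos
  have h4 : Nat.card (Subgroup.center P ⊓ fixG γ : Subgroup P) = 4 := by omega
  have heq : Subgroup.center P ⊓ fixG γ = Subgroup.center P :=
    Subgroup.eq_of_le_of_card_ge inf_le_left (by rw [h4, D.cardZ])
  have : z ∈ Subgroup.center P ⊓ fixG γ := by rw [heq]; exact hz
  exact this.2

theorem Dat.fix_eq_center (D : Dat P γ) : fixG γ = Subgroup.center P := by
  haveI := D.finite
  have hle : Subgroup.center P ≤ fixG γ := fun z hz => D.fix_center hz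
  have h1 := card_inf_fix γ D.h5 ⊤ (fun g _ => Subgroup.mem_top _)
  rw [top_inf_eq, Subgroup.card_top, D.card] at h1
  have hdvd : Nat.card (fixG γ) ∣ 64 := by
    rw [← D.card]; exact Subgroup.card_subgroup_dvd_card _
  rcases card_cases hdvd (by omega) with h4 | h64
  · exact (Subgroup.eq_of_le_of_card_ge hle (by rw [h4, D.cardZ])).symm
  · exfalso
    have htop : fixG γ = ⊤ := (Subgroup.card_eq_iff_eq_top _).1 (by rw [h64, D.card])
    have hfix : ∀ g, γ g = g := fun g => by
      have : g ∈ fixG γ := by rw [htop]; exact Subgroup.mem_top g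
      exact this
    have hc := D.ht (commutator P) inferInstance (fun g hg => by rw [hfix]; exact hg)
      (fun g h => by
        rw [commutator_def]
        exact Subgroup.commutator_mem_commutator (Subgroup.mem_top g) (Subgroup.mem_top h))
      (fun g => by rw [hfix, mul_inv_cancel]; exact Subgroup.one_mem _)
    have : Fact (Nat.Prime 2) := ⟨Nat.prime_two⟩
    have hp : IsPGroup 2 P := IsPGroup.of_card (n := 6) (by rw [D.card]; norm_num)
    haveI := hp.isNilpotent
    haveI : Nontrivial P := by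
      apply Finite.one_lt_card_iff_nontrivial.mp
      rw [D.card]; norm_num
    exact (Group.IsSolvable.commutator_lt_top_of_nontrivial P).ne hc

/-- fixed-point-freeness modulo the centre -/
theorem Dat.mem_center_of_comm (D : Dat P γ) {g : P} (h : γ g * g⁻¹ ∈ Subgroup.center P) :
    g ∈ Subgroup.center P := by
  rw [← D.fix_eq_center, mem_fixG]
  obtain ⟨z, hz⟩ : ∃ z, z = γ g * g⁻¹ := ⟨_, rfl⟩
  rw [← hz] at h
  have h1 : γ g = z * g := by rw [hz]; group
  have h2 : γ (γ g) = g := by
    rw [h1, map_mul, D.fix_center h, h1, ← mul_assoc, D.expZ z h, one_mul]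
  have h3 := D.h5 g
  rw [h2, h2] at h3
  exact h3

theorem Dat.card_of_invariant (D : Dat P γ) (H : Subgroup P) (hH : ∀ g ∈ H, γ g ∈ H)
    (hZ : Subgroup.center P ≤ H) (hne : H ≠ Subgroup.center P) : H = ⊤ := by
  haveI := D.finite
  have h1 := card_inf_fix γ D.h5 H hH
  have h2 : H ⊓ fixG γ = Subgroup.center P := by
    rw [D.fix_eq_center]; exact inf_eq_right.mpr hZ
  rw [h2, D.cardZ] at h1
  have hdvd : Nat.card H ∣ 64 := by
    rw [← D.card]; exact Subgroup.card_subgroup_dvd_card _
  rcases card_cases hdvd (by omega) with h4 | h64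
  · exfalso
    exact hne (Subgroup.eq_of_le_of_card_ge hZ (by rw [h4, D.cardZ])).symm
  · exact (Subgroup.card_eq_iff_eq_top _).1 (by rw [h64, D.card])


/-- commutators are central -/
theorem Dat.comm_mem_center (D : Dat P γ) (g h : P) : ⁅g, h⁆ ∈ Subgroup.center P := by
  haveI := D.finite
  have : Fact (Nat.Prime 2) := ⟨Nat.prime_two⟩
  have hp : IsPGroup 2 P := IsPGroup.of_card (n := 6) (by rw [D.card]; norm_num)
  let Z := Subgroup.center P
  let Z2 : Subgroup P := (Subgroup.center (P ⧸ Z)).comap (QuotientGroup.mk' Z)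
  have hmem : ∀ g : P, g ∈ Z2 ↔ ∀ h : P, h⁻¹ * g⁻¹ * h * g ∈ Z := by
    intro g
    show (QuotientGroup.mk' Z g) ∈ Subgroup.center (P ⧸ Z) ↔ _
    rw [Subgroup.mem_center_iff]
    constructor
    · intro hg h
      have := hg (QuotientGroup.mk' Z h)
      rw [← map_mul, ← map_mul, QuotientGroup.mk'_apply, QuotientGroup.mk'_apply,
        QuotientGroup.eq] at this
      have e : h⁻¹ * g⁻¹ * h * g = ((h * g)⁻¹ * (g * h))⁻¹ := by group
      rw [e]
      exact Subgroup.inv_mem _ this
    · intro hg q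
      induction q using QuotientGroup.induction_on with
      | _ h =>
        rw [QuotientGroup.mk'_apply, ← QuotientGroup.mk_mul, ← QuotientGroup.mk_mul,
          QuotientGroup.eq]
        have e : (h * g)⁻¹ * (g * h) = (h⁻¹ * g⁻¹ * h * g)⁻¹ := by group
        rw [e]
        exact Subgroup.inv_mem _ (hg h)
  have hZ2 : Z2 = ⊤ := by
    apply D.card_of_invariant Z2
    · intro g hg
      rw [hmem] at hg ⊢
      intro h
      obtain ⟨h', rfl⟩ := γ.surjective h
      have := D.gamma_mem_center (hg h')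
      rwa [map_mul, map_mul, map_mul, map_inv, map_inv] at this
    · intro z hz
      rw [hmem]
      intro h
      rw [Subgroup.mem_center_iff] at hz
      have e : h⁻¹ * z⁻¹ * h * z = 1 := by
        rw [mul_assoc, hz h]; group
      rw [e]
      exact Subgroup.one_mem _
    · intro heq
      have hcardQ : Nat.card (P ⧸ Z) = 16 := by
        have := Subgroup.card_eq_card_quotient_mul_card_subgroup Z
        rw [D.card, D.cardZ] at this
        omega
      haveI : Nontrivial (P ⧸ Z) := by
        apply Finite.one_lt_card_iff_nontrivial.mp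
        rw [hcardQ]; norm_num
      have hpQ : IsPGroup 2 (P ⧸ Z) := hp.to_quotient Z
      haveI := hpQ.center_nontrivial
      obtain ⟨q, hq⟩ := exists_ne (1 : Subgroup.center (P ⧸ Z))
      obtain ⟨g, hg⟩ := QuotientGroup.mk'_surjective Z q.1
      have hgZ2 : g ∈ Z2 := by
        show (QuotientGroup.mk' Z g) ∈ Subgroup.center (P ⧸ Z)
        rw [hg]; exact q.2
      rw [heq] at hgZ2
      apply hq
      apply Subtype.ext
      rw [← hg]
      exact (QuotientGroup.eq_one_iff g).mpr hgZ2
  have h1 : g⁻¹ ∈ Z2 := by rw [hZ2]; exact Subgroup.mem_top _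
  rw [hmem] at h1
  have h2 := h1 h⁻¹
  have e : h⁻¹⁻¹ * g⁻¹⁻¹ * h⁻¹ * g⁻¹ = ⁅h, g⁆ := by
    rw [commutatorElement_def]; group
  rw [e] at h2
  have e2 : ⁅g, h⁆ = ⁅h, g⁆⁻¹ := (commutatorElement_inv h g).symm
  rw [e2]
  exact Subgroup.inv_mem _ h2

/-- squares are central -/
theorem Dat.sq_mem_center (D : Dat P γ) (g : P) : g * g ∈ Subgroup.center P := by
  haveI := D.finite
  let Z := Subgroup.center P
  let Om : Subgroup P :=
    { carrier := {g | g * g ∈ Z}
      mul_mem' := by
        intro a b ha hb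
        change a * a ∈ Z at ha
        change b * b ∈ Z at hb
        change a * b * (a * b) ∈ Z
        have e : a * b * (a * b) = a * a * ⁅a⁻¹, b⁆ * (b * b) := by
          rw [commutatorElement_def]; group
        rw [e]
        exact Subgroup.mul_mem _ (Subgroup.mul_mem _ ha (D.comm_mem_center _ _)) hb
      one_mem' := by
        change (1 : P) * 1 ∈ Z
        rw [mul_one]; exact Subgroup.one_mem _
      inv_mem' := by
        intro a ha
        change a * a ∈ Z at ha
        change a⁻¹ * a⁻¹ ∈ Z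
        have e : a⁻¹ * a⁻¹ = (a * a)⁻¹ := by group
        rw [e]
        exact Subgroup.inv_mem _ ha }
  have hOm : Om = ⊤ := by
    apply D.card_of_invariant Om
    · intro g hg
      change g * g ∈ Z at hg
      change γ g * γ g ∈ Z
      rw [← map_mul]
      exact D.gamma_mem_center hg
    · intro z hz
      change z * z ∈ Z
      exact Subgroup.mul_mem _ hz hz
    · intro heq
      -- an element outside the centre
      obtain ⟨g₀, hg₀⟩ : ∃ g₀ : P, g₀ ∉ Z := by
        by_contra hall
        push Not at hall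
        have : Z = ⊤ := (Subgroup.eq_top_iff' Z).mpr hall
        have h1 := D.cardZ
        change Nat.card Z = 4 at h1
        rw [this, Subgroup.card_top, D.card] at h1
        omega
      have hex : ∃ k : ℕ, g₀ ^ (2 ^ k) ∈ Z := by
        refine ⟨6, ?_⟩
        have : g₀ ^ (2 ^ 6) = 1 := by
          have := pow_card_eq_one' (G := P) (x := g₀)
          rw [D.card] at this
          exact this
        rw [this]; exact Subgroup.one_mem _
      classical
      obtain ⟨k, hk, hmin⟩ : ∃ k : ℕ, g₀ ^ (2 ^ k) ∈ Z ∧ ∀ j < k, g₀ ^ (2 ^ j) ∉ Z :=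
        ⟨Nat.find hex, Nat.find_spec hex, fun j hj => Nat.find_min hex hj⟩
      have hk0 : k ≠ 0 := by
        intro h0
        rw [h0, pow_zero, pow_one] at hk
        exact hg₀ hk
      obtain ⟨j, rfl⟩ : ∃ j, k = j + 1 := ⟨k - 1, by omega⟩
      have h1 : g₀ ^ (2 ^ j) ∈ Om := by
        change g₀ ^ (2 ^ j) * g₀ ^ (2 ^ j) ∈ Z
        rw [← pow_add, ← two_mul, ← pow_succ']
        exact hk
      rw [heq] at h1
      exact hmin j (Nat.lt_succ_self j) h1
  have : g ∈ Om := by rw [hOm]; exact Subgroup.mem_top _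
  exact this

/-- the centre is generated by commutators -/
theorem Dat.eq_center_of_comm_mem (D : Dat P γ) (Y : Subgroup P) (hY : Y ≤ Subgroup.center P)
    (hcm : ∀ g h : P, ⁅g, h⁆ ∈ Y) : Y = Subgroup.center P := by
  have hYc : ∀ y ∈ Y, ∀ g : P, g * y = y * g := fun y hy g =>
    (Subgroup.mem_center_iff.mp (hY hy)) g
  let M : Subgroup P :=
    { carrier := {g | ∃ h : P, ∃ y ∈ Y, g = γ h * h⁻¹ * y}
      mul_mem' := by
        rintro _ _ ⟨h, y, hy, rfl⟩ ⟨h', y', hy', rfl⟩
        refine ⟨h * h', ⁅h, (γ h' * h'⁻¹)⁻¹⁆ * y * y',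
          Subgroup.mul_mem _ (Subgroup.mul_mem _ (hcm _ _) hy) hy', ?_⟩
        have e1 : γ h * h⁻¹ * y * (γ h' * h'⁻¹ * y') = γ h * h⁻¹ * (γ h' * h'⁻¹) * y * y' := by
          have := hYc y hy (γ h' * h'⁻¹)
          calc γ h * h⁻¹ * y * (γ h' * h'⁻¹ * y')
              = γ h * h⁻¹ * (y * (γ h' * h'⁻¹)) * y' := by group
            _ = γ h * h⁻¹ * ((γ h' * h'⁻¹) * y) * y' := by rw [this]
            _ = γ h * h⁻¹ * (γ h' * h'⁻¹) * y * y' := by group
        rw [e1, map_mul, commutatorElement_def]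
        group
      one_mem' := ⟨1, 1, Subgroup.one_mem _, by simp⟩
      inv_mem' := by
        rintro _ ⟨h, y, hy, rfl⟩
        refine ⟨h⁻¹, y⁻¹ * ⁅h⁻¹, γ h⁆, Subgroup.mul_mem _ (Subgroup.inv_mem _ hy) (hcm _ _), ?_⟩
        have hyi := hYc y⁻¹ (Subgroup.inv_mem _ hy)
        have e1 : (γ h * h⁻¹ * y)⁻¹ = y⁻¹ * (h * (γ h)⁻¹) := by group
        have e2 : γ h⁻¹ * h⁻¹⁻¹ * (y⁻¹ * ⁅h⁻¹, γ h⁆) = (γ h⁻¹ * h⁻¹⁻¹ * y⁻¹) * ⁅h⁻¹, γ h⁆ := by
          group
        rw [e1, e2, hyi (γ h⁻¹ * h⁻¹⁻¹), map_inv, commutatorElement_def]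
        group }
  have hmemM : ∀ g : P, g ∈ M ↔ ∃ h : P, ∃ y ∈ Y, g = γ h * h⁻¹ * y := fun g => Iff.rfl
  have hYM : Y ≤ M := fun y hy => ⟨1, y, hy, by simp⟩
  have hMtop : M = ⊤ := by
    apply D.ht M
    · constructor
      intro m hm p
      have e : p * m * p⁻¹ = ⁅p, m⁆ * m := by rw [commutatorElement_def]; group
      rw [e]
      exact Subgroup.mul_mem _ (hYM (hcm _ _)) hm
    · rintro _ ⟨h, y, hy, rfl⟩
      refine ⟨γ h, y, hy, ?_⟩
      rw [map_mul, map_mul, map_inv, D.fix_center (hY hy)]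
    · intro g h
      exact hYM (hcm g h)
    · intro g
      exact ⟨g, 1, Subgroup.one_mem _, by simp⟩
  apply le_antisymm hY
  intro z hz
  have : z ∈ M := by rw [hMtop]; exact Subgroup.mem_top _
  obtain ⟨h, y, hy, hzy⟩ := this
  have h1 : γ h * h⁻¹ = z * y⁻¹ := by rw [hzy]; group
  have h2 : h ∈ Subgroup.center P := by
    apply D.mem_center_of_comm
    rw [h1]
    exact Subgroup.mul_mem _ hz (Subgroup.inv_mem _ (hY hy))
  have h3 := D.fix_center h2
  rw [h3, mul_inv_cancel, one_mul] at hzy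
  rw [hzy]
  exact hy

end Cfsg.Agent.Helper16.U34
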