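import Mathlib
import Cfsg.Agent.Lib.Helper16.U34A

set_option autoImplicit false
set_option linter.style.haveILetI false
set_option linter.unusedSectionVars false

/-! Coordinates on the central quotient. -/

namespace Cfsg.Agent.Helper16.U34

open scoped commutatorElement

theorem zmod2_eq_one : ∀ x : ZMod 2, x ≠ 0 → x = 1 := by decide

/-- a functional on an elementary abelian quotient -/
theorem exists_functional {P : Type*} [Group P] (Z : Subgroup P) [Z.Normal]
    (hsq : ∀ g : P, g * g ∈ Z) (hcm : ∀ g h : P, ⁅g, h⁆ ∈ Z) {g₀ : P} (hg₀ : g₀ ∉ Z) :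
    ∃ l : P → ZMod 2, (∀ g h, l (g * h) = l g + l h) ∧ (∀ z ∈ Z, l z = 0) ∧ l g₀ = 1 := by
  classical
  letI : CommGroup (P ⧸ Z) :=
    { (inferInstance : Group (P ⧸ Z)) with
      mul_comm := by
        intro a b
        induction a using QuotientGroup.induction_on with
        | _ a =>
          induction b using QuotientGroup.induction_on with
          | _ b =>
            rw [← QuotientGroup.mk_mul, ← QuotientGroup.mk_mul, QuotientGroup.eq]
            have e : (a * b)⁻¹ * (b * a) = ⁅b⁻¹, a⁻¹⁆ := by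
              rw [commutatorElement_def]; group
            rw [e]
            exact hcm _ _ }
  have h2 : ∀ w : Additive (P ⧸ Z), 2 • w = 0 := by
    intro w
    induction w using Additive.rec with
    | _ q =>
      induction q using QuotientGroup.induction_on with
      | _ a =>
        rw [← ofMul_pow, ← QuotientGroup.mk_pow, pow_two]
        rw [(QuotientGroup.eq_one_iff (a * a)).mpr (hsq a)]
        rfl
  haveI : Fact (Nat.Prime 2) := ⟨Nat.prime_two⟩
  letI : Module (ZMod 2) (Additive (P ⧸ Z)) := AddCommGroup.zmodModule h2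
  have hw₀ : Additive.ofMul (QuotientGroup.mk g₀ : P ⧸ Z) ≠ 0 := by
    intro h
    apply hg₀
    have h' : (QuotientGroup.mk g₀ : P ⧸ Z) = 1 := h
    exact (QuotientGroup.eq_one_iff g₀).mp h'
  obtain ⟨f, hf⟩ : ∃ f : Module.Dual (ZMod 2) (Additive (P ⧸ Z)),
      f (Additive.ofMul (QuotientGroup.mk g₀ : P ⧸ Z)) ≠ 0 := by
    by_contra hcon
    push Not at hcon
    exact hw₀ ((Module.forall_dual_apply_eq_zero_iff (ZMod 2) _).1 hcon)
  refine ⟨fun g => f (Additive.ofMul (QuotientGroup.mk g : P ⧸ Z)), ?_, ?_, ?_⟩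
  · intro g h
    show f (Additive.ofMul (QuotientGroup.mk (g * h) : P ⧸ Z)) = _
    rw [QuotientGroup.mk_mul, ofMul_mul, map_add]
  · intro z hz
    show f (Additive.ofMul (QuotientGroup.mk z : P ⧸ Z)) = 0
    rw [(QuotientGroup.eq_one_iff z).mpr hz, ofMul_one, map_zero]
  · show f (Additive.ofMul (QuotientGroup.mk g₀ : P ⧸ Z)) = 1
    exact zmod2_eq_one _ hf


section coords

variable {P : Type*} [Group P] {γ : P ≃* P} {F : Type*} [Field F]

/-- the twisted sum -/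
def aM (γ : P ≃* P) (l : P → F) (ξ : F) (g : P) : F :=
  l g + ξ ^ 4 * l (γ g) + ξ ^ 3 * l (γ (γ g)) + ξ ^ 2 * l (γ (γ (γ g))) +
    ξ * l (γ (γ (γ (γ g))))

theorem aM_mul (l : P → F) (hl : ∀ g h, l (g * h) = l g + l h) (ξ : F) (g h : P) :
    aM γ l ξ (g * h) = aM γ l ξ g + aM γ l ξ h := by
  unfold aM
  simp only [map_mul, hl]
  ring

theorem aM_gamma (l : P → F) (h5 : ∀ g, γ (γ (γ (γ (γ g)))) = g) (ξ : F) (hξ : ξ ^ 5 = 1)
    (g : P) : aM γ l ξ (γ g) = ξ * aM γ l ξ g := by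
  unfold aM
  rw [h5]
  linear_combination (-(l (γ g))) * hξ

theorem ne_one_of_pow {ζ : F} (hζ5 : ζ ^ 5 = 1) (hζ1 : ζ ≠ 1) :
    ζ ^ 2 ≠ 1 ∧ ζ ^ 3 ≠ 1 ∧ ζ ^ 4 ≠ 1 := by
  refine ⟨fun h => hζ1 ?_, fun h => hζ1 ?_, fun h => hζ1 ?_⟩
  · linear_combination hζ5 - ζ * (ζ ^ 2 + 1) * h
  · linear_combination (ζ ^ 3 + 1) * h - ζ * hζ5
  · linear_combination (-ζ) * h + hζ5

theorem sum_roots {ζ : F} (hζ5 : ζ ^ 5 = 1) (hζ1 : ζ ≠ 1) :
    1 + ζ + ζ ^ 2 + ζ ^ 3 + ζ ^ 4 = 0 := by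
  have h : (ζ - 1) * (1 + ζ + ζ ^ 2 + ζ ^ 3 + ζ ^ 4) = 0 := by
    linear_combination hζ5
  rcases mul_eq_zero.mp h with h | h
  · exact absurd (sub_eq_zero.mp h) hζ1
  · exact h

variable [Fintype F] [CharP F 2]

theorem Dat.exists_coords (D : Dat P γ) (hF : Fintype.card F = 16) (ζ : F) (hζ5 : ζ ^ 5 = 1)
    (hζ1 : ζ ≠ 1) :
    ∃ ξ : F, ξ ^ 5 = 1 ∧ ξ ≠ 1 ∧ ∃ a : P → F, (∀ g h, a (g * h) = a g + a h) ∧
      (∀ g, a g = 0 ↔ g ∈ Subgroup.center P) ∧ (∀ g, a (γ g) = ξ * a g) ∧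
      (∀ x : F, ∃ g, a g = x) := by
  haveI := D.finite
  have h2 : (2 : F) = 0 := CharTwo.two_eq_zero
  obtain ⟨g₀, hg₀⟩ : ∃ g₀ : P, g₀ ∉ Subgroup.center P := by
    by_contra hall
    push Not at hall
    have : Subgroup.center P = ⊤ := (Subgroup.eq_top_iff' _).mpr hall
    have h1 := D.cardZ
    rw [this, Subgroup.card_top, D.card] at h1
    omega
  obtain ⟨l₀, hl₀mul, hl₀Z, hl₀g⟩ :=
    exists_functional (Subgroup.center P) D.sq_mem_center D.comm_mem_center hg₀
  let c : ZMod 2 →+* F := ZMod.castHom (dvd_refl 2) F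
  obtain ⟨l, hl⟩ : ∃ l : P → F, l = fun g => c (l₀ g) := ⟨_, rfl⟩
  have hlmul : ∀ g h, l (g * h) = l g + l h := by
    intro g h
    rw [hl]
    show c (l₀ (g * h)) = c (l₀ g) + c (l₀ h)
    rw [hl₀mul, map_add]
  have hlZ : ∀ z ∈ Subgroup.center P, l z = 0 := by
    intro z hz
    rw [hl]
    show c (l₀ z) = 0
    rw [hl₀Z z hz, map_zero]
  have hlg : l g₀ = 1 := by
    rw [hl]
    show c (l₀ g₀) = 1
    rw [hl₀g, map_one]
  have hsum := sum_roots hζ5 hζ1
  -- the orbit product is central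
  have horb : ∀ g : P, g * γ g * γ (γ g) * γ (γ (γ g)) * γ (γ (γ (γ g))) ∈ Subgroup.center P := by
    intro g
    apply D.mem_center_of_comm
    obtain ⟨w, hw⟩ : ∃ w, w = g * γ g * γ (γ g) * γ (γ (γ g)) * γ (γ (γ (γ g))) := ⟨_, rfl⟩
    rw [← hw]
    have e : γ w * w⁻¹ = ⁅g⁻¹, w⁆ := by
      rw [hw]
      simp only [map_mul, D.h5, commutatorElement_def]
      group
    rw [e]
    exact D.comm_mem_center _ _
  have h1 : aM γ l 1 g₀ = 0 := by
    have := hlZ _ (horb g₀)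
    rw [hlmul, hlmul, hlmul, hlmul] at this
    unfold aM
    linear_combination this
  have hex : ∃ ξ : F, ξ ^ 5 = 1 ∧ ξ ≠ 1 ∧ aM γ l ξ g₀ ≠ 0 := by
    by_contra hcon
    push Not at hcon
    obtain ⟨n2, n3, n4⟩ := ne_one_of_pow hζ5 hζ1
    have e1 := hcon ζ hζ5 hζ1
    have e2 := hcon (ζ ^ 2) (by rw [← pow_mul, mul_comm, pow_mul, hζ5, one_pow]) n2
    have e3 := hcon (ζ ^ 3) (by rw [← pow_mul, mul_comm, pow_mul, hζ5, one_pow]) n3
    have e4 := hcon (ζ ^ 4) (by rw [← pow_mul, mul_comm, pow_mul, hζ5, one_pow]) n4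
    have key : aM γ l 1 g₀ + aM γ l ζ g₀ + aM γ l (ζ ^ 2) g₀ + aM γ l (ζ ^ 3) g₀ +
        aM γ l (ζ ^ 4) g₀ = l g₀ := by
      unfold aM
      linear_combination (l (γ g₀) + l (γ (γ g₀)) + l (γ (γ (γ g₀))) + l (γ (γ (γ (γ g₀))))) * hsum
        + (l (γ g₀) * (ζ ^ 3 + ζ ^ 2 * (ζ ^ 5 + 1) + ζ * (ζ ^ 10 + ζ ^ 5 + 1))
          + l (γ (γ g₀)) * (ζ + ζ ^ 4 + ζ ^ 2 * (ζ ^ 5 + 1))
          + l (γ (γ (γ g₀))) * (ζ + ζ ^ 3)) * hζ5 + 2 * l g₀ * h2
    rw [h1, e1, e2, e3, e4, hlg] at key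
    norm_num at key
  obtain ⟨ξ, hξ5, hξ1, hne⟩ := hex
  obtain ⟨a, ha⟩ : ∃ a : P → F, a = aM γ l ξ := ⟨_, rfl⟩
  have hamul : ∀ g h, a (g * h) = a g + a h := by
    intro g h; rw [ha]; exact aM_mul l hlmul ξ g h
  have haγ : ∀ g, a (γ g) = ξ * a g := by
    intro g; rw [ha]; exact aM_gamma l D.h5 ξ hξ5 g
  have haZ : ∀ z ∈ Subgroup.center P, a z = 0 := by
    intro z hz
    rw [ha]
    unfold aM
    simp only [D.fix_center hz, hlZ z hz]
    ring
  have ha1 : a 1 = 0 := haZ 1 (Subgroup.one_mem _)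
  have hainv : ∀ g, a g⁻¹ = -a g := by
    intro g
    have := hamul g⁻¹ g
    rw [inv_mul_cancel, ha1] at this
    linear_combination -this
  let K : Subgroup P :=
    { carrier := {g | a g = 0}
      mul_mem' := by
        intro x y hx hy
        change a x = 0 at hx
        change a y = 0 at hy
        change a (x * y) = 0
        rw [hamul, hx, hy, add_zero]
      one_mem' := ha1
      inv_mem' := by
        intro x hx
        change a x = 0 at hx
        change a x⁻¹ = 0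
        rw [hainv, hx, neg_zero] }
  have hK : K = Subgroup.center P := by
    by_contra hne'
    have htop := D.card_of_invariant K (by
      intro g hg
      change a g = 0 at hg
      change a (γ g) = 0
      rw [haγ, hg, mul_zero]) (fun z hz => haZ z hz) hne'
    have : g₀ ∈ K := by rw [htop]; exact Subgroup.mem_top _
    apply hne
    rw [← ha]
    exact this
  have haiff : ∀ g, a g = 0 ↔ g ∈ Subgroup.center P := by
    intro g
    rw [← hK]
    exact Iff.rfl
  refine ⟨ξ, hξ5, hξ1, a, hamul, haiff, haγ, ?_⟩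
  -- surjectivity by counting
  let A : P →* Multiplicative F :=
    { toFun := fun g => Multiplicative.ofAdd (a g)
      map_one' := by rw [ha1]; rfl
      map_mul' := fun g h => by rw [hamul]; rfl }
  have hker : A.ker = Subgroup.center P := by
    ext g
    rw [MonoidHom.mem_ker, ← haiff]
    exact Iff.rfl
  have hc1 := Subgroup.card_eq_card_quotient_mul_card_subgroup A.ker
  have hc2 : Nat.card (P ⧸ A.ker) = Nat.card A.range :=
    Nat.card_congr (QuotientGroup.quotientKerEquivRange A).toEquiv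
  rw [hc2, hker, D.card, D.cardZ] at hc1
  have hc3 : Nat.card (Multiplicative F) = 16 := by
    rw [Nat.card_eq_fintype_card, Fintype.card_multiplicative, hF]
  have hrange : A.range = ⊤ := by
    apply (Subgroup.card_eq_iff_eq_top _).1
    rw [hc3]; omega
  intro x
  have : Multiplicative.ofAdd x ∈ A.range := by rw [hrange]; exact Subgroup.mem_top _
  obtain ⟨g, hg⟩ := this
  exact ⟨g, hg⟩

end coords

end Cfsg.Agent.Helper16.U34
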