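import Mathlib
import Cfsg.Agent.Lib.Helper16.U34B

set_option autoImplicit false
set_option linter.style.haveILetI false
set_option linter.unusedSectionVars false

/-! The squaring map in coordinates. -/

namespace Cfsg.Agent.Helper16.U34

open scoped commutatorElement

section klein

variable {P : Type*} [Group P] {F : Type*} [Field F]

/-- an additive map on a Klein four-group with prescribed values -/
theorem klein_iota (s₁ s₂ s₃ : P) (n₁ n₂ n₃ : F)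
    (h12 : s₁ ≠ s₂) (h13 : s₁ ≠ s₃) (h23 : s₂ ≠ s₃) (h1 : s₁ ≠ 1) (h2 : s₂ ≠ 1) (h3 : s₃ ≠ 1)
    (m11 : s₁ * s₁ = 1) (m22 : s₂ * s₂ = 1) (m33 : s₃ * s₃ = 1)
    (m12 : s₁ * s₂ = s₃) (m21 : s₂ * s₁ = s₃) (m13 : s₁ * s₃ = s₂) (m31 : s₃ * s₁ = s₂)
    (m23 : s₂ * s₃ = s₁) (m32 : s₃ * s₂ = s₁)
    (a12 : n₁ + n₂ = n₃) (a13 : n₁ + n₃ = n₂) (a23 : n₂ + n₃ = n₁)
    (d1 : n₁ + n₁ = 0) (d2 : n₂ + n₂ = 0) (d3 : n₃ + n₃ = 0) :
    ∃ ι : P → F, ι 1 = 0 ∧ ι s₁ = n₁ ∧ ι s₂ = n₂ ∧ ι s₃ = n₃ ∧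
      ∀ v w : P, (v = 1 ∨ v = s₁ ∨ v = s₂ ∨ v = s₃) → (w = 1 ∨ w = s₁ ∨ w = s₂ ∨ w = s₃) →
        ι (v * w) = ι v + ι w := by
  classical
  let ι : P → F := fun z => if z = s₁ then n₁ else if z = s₂ then n₂ else if z = s₃ then n₃ else 0
  have i0 : ι 1 = 0 := by
    show (if (1 : P) = s₁ then n₁ else if (1 : P) = s₂ then n₂ else if (1 : P) = s₃ then n₃ else 0) = 0
    rw [if_neg (Ne.symm h1), if_neg (Ne.symm h2), if_neg (Ne.symm h3)]
  have i1 : ι s₁ = n₁ := by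
    show (if s₁ = s₁ then n₁ else if s₁ = s₂ then n₂ else if s₁ = s₃ then n₃ else 0) = n₁
    rw [if_pos rfl]
  have i2 : ι s₂ = n₂ := by
    show (if s₂ = s₁ then n₁ else if s₂ = s₂ then n₂ else if s₂ = s₃ then n₃ else 0) = n₂
    rw [if_neg (Ne.symm h12), if_pos rfl]
  have i3 : ι s₃ = n₃ := by
    show (if s₃ = s₁ then n₁ else if s₃ = s₂ then n₂ else if s₃ = s₃ then n₃ else 0) = n₃
    rw [if_neg (Ne.symm h13), if_neg (Ne.symm h23), if_pos rfl]
  refine ⟨ι, i0, i1, i2, i3, ?_⟩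
  intro v w hv hw
  rcases hv with rfl | rfl | rfl | rfl <;> rcases hw with rfl | rfl | rfl | rfl
  · rw [mul_one, i0, add_zero]
  · rw [one_mul, i0, zero_add]
  · rw [one_mul, i0, zero_add]
  · rw [one_mul, i0, zero_add]
  · rw [mul_one, i0, add_zero]
  · rw [m11, i0, i1, d1]
  · rw [m12, i3, i1, i2, a12]
  · rw [m13, i2, i1, i3, a13]
  · rw [mul_one, i0, add_zero]
  · rw [m21, i3, i2, i1, add_comm, a12]
  · rw [m22, i0, i2, d2]
  · rw [m23, i1, i2, i3, a23]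
  · rw [mul_one, i0, add_zero]
  · rw [m31, i2, i3, i1, add_comm, a13]
  · rw [m32, i1, i3, i2, add_comm, a23]
  · rw [m33, i0, i3, d3]

end klein

section field

variable {F : Type*} [Field F] [Fintype F] [CharP F 2]

theorem pow_four_add (x y : F) : (x + y) ^ 4 = x ^ 4 + y ^ 4 := by
  have h2 : (2 : F) = 0 := CharTwo.two_eq_zero
  linear_combination (2 * x ^ 3 * y + 3 * x ^ 2 * y ^ 2 + 2 * x * y ^ 3) * h2

/-- the three orbits of fifth roots of unity on the nonzero elements -/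
theorem orbit_cases (hF : Fintype.card F = 16) {ξ : F} (hξ5 : ξ ^ 5 = 1) (hξ1 : ξ ≠ 1)
    {x : F} (hx : x ≠ 0) :
    ∃ j : ℕ, x = ξ ^ j * 1 ∨ x = ξ ^ j * (1 + ξ) ∨ x = ξ ^ j * (1 + ξ ^ 2) := by
  have h2 : (2 : F) = 0 := CharTwo.two_eq_zero
  have hsum := sum_roots hξ5 hξ1
  have : Fact (Nat.Prime 5) := ⟨by norm_num⟩
  have hprim : IsPrimitiveRoot ξ 5 := by
    have := IsPrimitiveRoot.orderOf ξ
    rwa [orderOf_eq_prime hξ5 hξ1] at this
  have hx15 : x ^ 15 = 1 := by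
    have := FiniteField.pow_card_sub_one_eq_one x hx
    rwa [hF] at this
  have hy3 : (x ^ 5) ^ 3 = 1 := by rw [← pow_mul]; exact hx15
  have hcube : (x ^ 5 - 1) * (x ^ 5 - (ξ + ξ ^ 4)) * (x ^ 5 - (ξ ^ 2 + ξ ^ 3)) = 0 := by
    linear_combination hy3 + (-(x ^ 5) ^ 2 + 2 * x ^ 5 - 1) * hsum
      + (ξ + ξ ^ 2) * (x ^ 5 - 1) * hξ5 + (1 - x ^ 5) * h2
  have e2 : (1 + ξ) ^ 5 = ξ + ξ ^ 4 := by
    linear_combination hξ5 + (1 + 2 * ξ + 5 * ξ ^ 2 + 5 * ξ ^ 3 + 2 * ξ ^ 4) * h2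
  have e3 : (1 + ξ ^ 2) ^ 5 = ξ ^ 2 + ξ ^ 3 := by
    linear_combination (ξ ^ 3 + ξ ^ 5 + 1) * hξ5
      + (1 + 2 * ξ ^ 2 + 5 * ξ ^ 4 + 5 * ξ ^ 6 + 2 * ξ ^ 8) * h2
  have key : ∀ x₀ : F, x₀ ≠ 0 → x ^ 5 = x₀ ^ 5 → ∃ j : ℕ, x = ξ ^ j * x₀ := by
    intro x₀ hx₀ h
    have h1 : (x / x₀) ^ 5 = 1 := by
      rw [div_pow, h, div_self (pow_ne_zero 5 hx₀)]
    obtain ⟨j, _, hj⟩ := hprim.eq_pow_of_pow_eq_one h1
    refine ⟨j, ?_⟩
    rw [hj, div_mul_cancel₀ _ hx₀]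
  have hprod : (ξ + ξ ^ 4) * (ξ ^ 2 + ξ ^ 3) = 1 := by
    linear_combination hsum + (ξ + ξ ^ 2) * hξ5 - h2
  rcases mul_eq_zero.mp hcube with h | h
  · rcases mul_eq_zero.mp h with h | h
    · obtain ⟨j, hj⟩ := key 1 one_ne_zero (by rw [one_pow]; exact sub_eq_zero.mp h)
      exact ⟨j, Or.inl hj⟩
    · have hne : (1 + ξ) ≠ 0 := by
        intro h0
        rw [h0, zero_pow (by norm_num)] at e2
        rw [← e2, zero_mul] at hprod
        exact zero_ne_one hprod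
      obtain ⟨j, hj⟩ := key (1 + ξ) hne (by rw [e2]; exact sub_eq_zero.mp h)
      exact ⟨j, Or.inr (Or.inl hj)⟩
  · have hne : (1 + ξ ^ 2) ≠ 0 := by
      intro h0
      rw [h0, zero_pow (by norm_num)] at e3
      rw [← e3, mul_zero] at hprod
      exact zero_ne_one hprod
    obtain ⟨j, hj⟩ := key (1 + ξ ^ 2) hne (by rw [e3]; exact sub_eq_zero.mp h)
    exact ⟨j, Or.inr (Or.inr hj)⟩

end field


/-- coordinates on the central quotient -/
structure Coo (P : Type*) [Group P] (γ : P ≃* P) (F : Type*) [Field F] (ξ : F) (a : P → F) :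
    Prop where
  hξ5 : ξ ^ 5 = 1
  hξ1 : ξ ≠ 1
  mul : ∀ g h, a (g * h) = a g + a h
  ker : ∀ g, a g = 0 ↔ g ∈ Subgroup.center P
  gam : ∀ g, a (γ g) = ξ * a g
  surj : ∀ x : F, ∃ g, a g = x

section sq

variable {P : Type*} [Group P] {γ : P ≃* P} {F : Type*} [Field F] {ξ : F} {a : P → F}

theorem Coo.one (C : Coo P γ F ξ a) : a 1 = 0 := (C.ker 1).mpr (Subgroup.one_mem _)

theorem Coo.inv (C : Coo P γ F ξ a) (g : P) : a g⁻¹ = -a g := by
  have := C.mul g⁻¹ g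
  rw [inv_mul_cancel, C.one] at this
  linear_combination -this

theorem Dat.central (_D : Dat P γ) {z : P} (hz : z ∈ Subgroup.center P) (g : P) :
    g * z = z * g := Subgroup.mem_center_iff.mp hz g

theorem Dat.sq_mul (D : Dat P γ) (g h : P) :
    (g * h) * (g * h) = ⁅h, g⁆ * ((g * g) * (h * h)) := by
  have hc := D.central (D.comm_mem_center h g)
  have e : h * g = ⁅h, g⁆ * (g * h) := by rw [commutatorElement_def]; group
  calc g * h * (g * h) = g * (h * g) * h := by group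
    _ = g * (⁅h, g⁆ * (g * h)) * h := by rw [← e]
    _ = (g * ⁅h, g⁆) * (g * h) * h := by group
    _ = (⁅h, g⁆ * g) * (g * h) * h := by rw [hc g]
    _ = ⁅h, g⁆ * ((g * g) * (h * h)) := by group

theorem Dat.comm_mul_right (D : Dat P γ) (k g h : P) : ⁅k, g * h⁆ = ⁅k, g⁆ * ⁅k, h⁆ := by
  have hc := D.central (D.comm_mem_center k h)
  have e : ⁅k, g * h⁆ = ⁅k, g⁆ * (g * ⁅k, h⁆ * g⁻¹) := by
    simp only [commutatorElement_def]; group
  rw [e, hc g, mul_assoc, mul_inv_cancel, mul_one]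

theorem Dat.sq_gamma (D : Dat P γ) (g : P) : γ g * γ g = g * g := by
  rw [← map_mul, D.fix_center (D.sq_mem_center g)]

theorem Dat.sq_eq_of_a_eq (D : Dat P γ) (C : Coo P γ F ξ a) {g h : P} (hgh : a g = a h) :
    g * g = h * h := by
  have h1 : a (g * h⁻¹) = 0 := by rw [C.mul, C.inv, hgh]; ring
  rw [C.ker] at h1
  have hc := D.central h1
  have e : g = (g * h⁻¹) * h := by group
  calc g * g = (g * h⁻¹) * h * ((g * h⁻¹) * h) := by rw [← e]
    _ = (g * h⁻¹) * (h * (g * h⁻¹)) * h := by group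
    _ = (g * h⁻¹) * ((g * h⁻¹) * h) * h := by rw [hc h]
    _ = ((g * h⁻¹) * (g * h⁻¹)) * (h * h) := by group
    _ = h * h := by rw [D.expZ _ h1, one_mul]

theorem Dat.sq_eq_of_pow (D : Dat P γ) (C : Coo P γ F ξ a) (j : ℕ) :
    ∀ {g h : P}, a g = ξ ^ j * a h → g * g = h * h := by
  induction j with
  | zero =>
    intro g h hgh
    rw [pow_zero, one_mul] at hgh
    exact D.sq_eq_of_a_eq C hgh
  | succ j ih =>
    intro g h hgh
    have h1 : a g = ξ ^ j * a (γ h) := by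
      rw [hgh, C.gam]; ring
    rw [ih h1, D.sq_gamma]

variable [Fintype F] [CharP F 2]

/-- degenerate squaring is impossible -/
theorem Dat.not_degenerate (D : Dat P γ) (s : P) (hs : s ∈ Subgroup.center P)
    (hall : ∀ g : P, g * g = 1 ∨ g * g = s) : False := by
  haveI := D.finite
  have hs2 : s * s = 1 := D.expZ s hs
  have hY : Subgroup.zpowers s ≤ Subgroup.center P := by
    rw [Subgroup.zpowers_le]; exact hs
  have hsq : ∀ g : P, g * g ∈ Subgroup.zpowers s := by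
    intro g
    rcases hall g with h | h
    · rw [h]; exact Subgroup.one_mem _
    · rw [h]; exact Subgroup.mem_zpowers s
  have hcm : ∀ g h : P, ⁅g, h⁆ ∈ Subgroup.zpowers s := by
    intro g h
    have e : ⁅g, h⁆ = (g * g) * ((g⁻¹ * h) * (g⁻¹ * h)) * (h⁻¹ * h⁻¹) := by
      rw [commutatorElement_def]; group
    rw [e]
    exact Subgroup.mul_mem _ (Subgroup.mul_mem _ (hsq _) (hsq _)) (hsq _)
  have h1 := D.eq_center_of_comm_mem _ hY hcm
  have h2 : Nat.card (Subgroup.zpowers s) ≤ 2 := by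
    rw [Nat.card_zpowers]
    apply orderOf_le_of_pow_eq_one (by norm_num)
    rw [pow_two, hs2]
  rw [h1, D.cardZ] at h2
  omega

/-- the additive identification of the centre with the fixed field -/
theorem Dat.exists_iota (D : Dat P γ) (C : Coo P γ F ξ a) (hF : Fintype.card F = 16) :
    ∃ ι : P → F,
      (∀ v ∈ Subgroup.center P, ∀ w ∈ Subgroup.center P, ι (v * w) = ι v + ι w) ∧
      (∀ g : P, ι (g * g) = a g * a g ^ 4) ∧
      (∀ v ∈ Subgroup.center P, ι v = 0 → v = 1) ∧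
      (∀ v ∈ Subgroup.center P, ι v ^ 4 = ι v) := by
  haveI := D.finite
  have h2 : (2 : F) = 0 := CharTwo.two_eq_zero
  have hξ5 := C.hξ5
  have hsum := sum_roots C.hξ5 C.hξ1
  obtain ⟨e, he⟩ := C.surj 1
  obtain ⟨e₂, he₂⟩ : ∃ e₂, e₂ = e * γ e := ⟨_, rfl⟩
  obtain ⟨e₃, he₃⟩ : ∃ e₃, e₃ = e * γ (γ e) := ⟨_, rfl⟩
  have hae₂ : a e₂ = 1 + ξ := by rw [he₂, C.mul, C.gam, he]; ring
  have hae₃ : a e₃ = 1 + ξ ^ 2 := by rw [he₃, C.mul, C.gam, C.gam, he]; ring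
  obtain ⟨s₁, hs₁⟩ : ∃ s₁, s₁ = e * e := ⟨_, rfl⟩
  obtain ⟨s₂, hs₂⟩ : ∃ s₂, s₂ = e₂ * e₂ := ⟨_, rfl⟩
  obtain ⟨s₃, hs₃⟩ : ∃ s₃, s₃ = e₃ * e₃ := ⟨_, rfl⟩
  have hz₁ : s₁ ∈ Subgroup.center P := by rw [hs₁]; exact D.sq_mem_center _
  have hz₂ : s₂ ∈ Subgroup.center P := by rw [hs₂]; exact D.sq_mem_center _
  have hz₃ : s₃ ∈ Subgroup.center P := by rw [hs₃]; exact D.sq_mem_center _
  have m11 : s₁ * s₁ = 1 := D.expZ _ hz₁
  have m22 : s₂ * s₂ = 1 := D.expZ _ hz₂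
  have m33 : s₃ * s₃ = 1 := D.expZ _ hz₃
  -- the squares of all elements
  have hsqcases : ∀ g : P, g * g = 1 ∨ g * g = s₁ ∨ g * g = s₂ ∨ g * g = s₃ := by
    intro g
    by_cases hg : a g = 0
    · left
      exact D.expZ g ((C.ker g).mp hg)
    · obtain ⟨j, hj | hj | hj⟩ := orbit_cases hF C.hξ5 C.hξ1 hg
      · right; left
        rw [hs₁]
        exact D.sq_eq_of_pow C j (by rw [hj, he])
      · right; right; left
        rw [hs₂]
        exact D.sq_eq_of_pow C j (by rw [hj, hae₂])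
      · right; right; right
        rw [hs₃]
        exact D.sq_eq_of_pow C j (by rw [hj, hae₃])
  -- the relation
  have hrel : s₂ = s₃ * s₁ := by
    have A1 := D.sq_mul (e * γ e) (γ (γ e))
    rw [D.comm_mul_right] at A1
    have A2 := D.sq_mul e (γ (γ e))
    have A3 := D.sq_mul (γ e) (γ (γ e))
    have hA : e * γ e * γ (γ e) * (e * γ e * γ (γ e)) = s₂ := by
      rw [hs₂]
      apply D.sq_eq_of_pow C 3
      rw [C.mul, C.mul, C.gam, C.gam, C.gam, he, hae₂]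
      linear_combination (-1 : F) * hsum + (1 + ξ + ξ ^ 2) * h2
    have hg1 : γ e * γ e = s₁ := by rw [D.sq_gamma, hs₁]
    have hg2 : γ (γ e) * γ (γ e) = s₁ := by rw [D.sq_gamma, D.sq_gamma, hs₁]
    have hA3 : γ e * γ (γ e) * (γ e * γ (γ e)) = s₂ := by
      rw [← map_mul, D.sq_gamma, hs₂, he₂]
    rw [← he₃, ← hs₃, ← hs₁, hg2, m11, mul_one] at A2
    rw [hA3, hg1, hg2, m11, mul_one] at A3
    rw [hA, ← A2, ← A3, ← he₂, ← hs₂, hg2] at A1
    -- A1 : s₂ = s₃ * s₂ * (s₂ * s₁)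
    rw [A1]
    calc s₃ * s₂ * (s₂ * s₁) = s₃ * (s₂ * s₂) * s₁ := by group
      _ = s₃ * s₁ := by rw [m22, mul_one]
  have c13 : s₁ * s₃ = s₃ * s₁ := D.central hz₃ s₁
  have m31 : s₃ * s₁ = s₂ := hrel.symm
  have m13 : s₁ * s₃ = s₂ := by rw [c13, m31]
  have m12 : s₁ * s₂ = s₃ := by
    rw [hrel, ← mul_assoc, c13, mul_assoc, m11, mul_one]
  have m21 : s₂ * s₁ = s₃ := by rw [hrel, mul_assoc, m11, mul_one]
  have m23 : s₂ * s₃ = s₁ := by
    rw [hrel, ← c13, mul_assoc, m33, mul_one]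
  have m32 : s₃ * s₂ = s₁ := by rw [hrel, ← mul_assoc, m33, one_mul]
  -- nondegeneracy
  have n1 : s₁ ≠ 1 := by
    intro h
    have h23 : s₂ = s₃ := by rw [← m12, h, one_mul]
    apply D.not_degenerate s₂ hz₂
    intro g
    rcases hsqcases g with h' | h' | h' | h'
    · exact Or.inl h'
    · left; rw [h', h]
    · exact Or.inr h'
    · right; rw [h', h23]
  have n2 : s₂ ≠ 1 := by
    intro h
    have h13 : s₁ = s₃ := by rw [← m12, h, mul_one]
    apply D.not_degenerate s₁ hz₁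
    intro g
    rcases hsqcases g with h' | h' | h' | h'
    · exact Or.inl h'
    · exact Or.inr h'
    · left; rw [h', h]
    · right; rw [h', h13]
  have n3 : s₃ ≠ 1 := by
    intro h
    have h12 : s₁ = s₂ := by rw [← m13, h, mul_one]
    apply D.not_degenerate s₁ hz₁
    intro g
    rcases hsqcases g with h' | h' | h' | h'
    · exact Or.inl h'
    · exact Or.inr h'
    · right; rw [h', h12]
    · left; rw [h', h]
  have d12 : s₁ ≠ s₂ := by
    intro h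
    apply n3
    rw [← m12, ← h, m11]
  have d13 : s₁ ≠ s₃ := by
    intro h
    apply n2
    rw [← m13, ← h, m11]
  have d23 : s₂ ≠ s₃ := by
    intro h
    apply n1
    rw [← m23, ← h, m22]
  -- the values
  obtain ⟨n₂, hn₂⟩ : ∃ n₂ : F, n₂ = ξ + ξ ^ 4 := ⟨_, rfl⟩
  obtain ⟨n₃, hn₃⟩ : ∃ n₃ : F, n₃ = ξ ^ 2 + ξ ^ 3 := ⟨_, rfl⟩
  obtain ⟨ι, i0, i1, i2, i3, hadd⟩ := klein_iota (F := F) s₁ s₂ s₃ 1 n₂ n₃ d12 d13 d23 n1 n2 n3
    m11 m22 m33 m12 m21 m13 m31 m23 m32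
    (by rw [hn₂, hn₃]; linear_combination hsum - (ξ ^ 2 + ξ ^ 3) * h2)
    (by rw [hn₂, hn₃]; linear_combination hsum - (ξ + ξ ^ 4) * h2)
    (by rw [hn₂, hn₃]; linear_combination hsum - h2)
    (by linear_combination h2)
    (by linear_combination n₂ * h2)
    (by linear_combination n₃ * h2)
  -- the centre
  have hZall : ∀ z ∈ Subgroup.center P, z = 1 ∨ z = s₁ ∨ z = s₂ ∨ z = s₃ := by
    classical
    intro z hz
    by_contra hcon
    push Not at hcon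
    obtain ⟨c0, c1, c2, c3⟩ := hcon
    let S : Finset (Subgroup.center P) :=
      {⟨1, Subgroup.one_mem _⟩, ⟨s₁, hz₁⟩, ⟨s₂, hz₂⟩, ⟨s₃, hz₃⟩, ⟨z, hz⟩}
    have hS : S.card = 5 := by
      have ne : ∀ {x y : P} (hx : x ∈ Subgroup.center P) (hy : y ∈ Subgroup.center P),
          x ≠ y → (⟨x, hx⟩ : Subgroup.center P) ≠ ⟨y, hy⟩ := by
        intro x y hx hy hxy h
        exact hxy (congrArg Subtype.val h)
      rw [Finset.card_insert_of_notMem, Finset.card_insert_of_notMem,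
        Finset.card_insert_of_notMem, Finset.card_insert_of_notMem, Finset.card_singleton]
      · simp only [Finset.mem_singleton]; exact ne _ _ (Ne.symm c3)
      · simp only [Finset.mem_insert, Finset.mem_singleton, not_or]
        exact ⟨ne _ _ d23, ne _ _ (Ne.symm c2)⟩
      · simp only [Finset.mem_insert, Finset.mem_singleton, not_or]
        exact ⟨ne _ _ d12, ne _ _ d13, ne _ _ (Ne.symm c1)⟩
      · simp only [Finset.mem_insert, Finset.mem_singleton, not_or]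
        exact ⟨ne _ _ (Ne.symm n1), ne _ _ (Ne.symm n2), ne _ _ (Ne.symm n3), ne _ _ (Ne.symm c0)⟩
    haveI : Fintype (Subgroup.center P) := Fintype.ofFinite _
    have hle := Finset.card_le_univ S
    rw [hS, Fintype.card_eq_nat_card, D.cardZ] at hle
    omega
  refine ⟨ι, ?_, ?_, ?_, ?_⟩
  · intro v hv w hw
    exact hadd v w (hZall v hv) (hZall w hw)
  · intro g
    by_cases hg : a g = 0
    · rw [D.expZ g ((C.ker g).mp hg), i0, hg]; ring
    · obtain ⟨j, hj | hj | hj⟩ := orbit_cases hF C.hξ5 C.hξ1 hg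
      · have : g * g = s₁ := by
          rw [hs₁]
          exact D.sq_eq_of_pow C j (by rw [hj, he])
        rw [this, i1, hj]
        have : (ξ ^ j) ^ 5 = 1 := by rw [← pow_mul, mul_comm, pow_mul, hξ5, one_pow]
        linear_combination (-1 : F) * this
      · have : g * g = s₂ := by
          rw [hs₂]
          exact D.sq_eq_of_pow C j (by rw [hj, hae₂])
        rw [this, i2, hj, hn₂]
        have h5 : (ξ ^ j) ^ 5 = 1 := by rw [← pow_mul, mul_comm, pow_mul, hξ5, one_pow]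
        have e2 : (1 + ξ) ^ 5 = ξ + ξ ^ 4 := by
          linear_combination hξ5 + (1 + 2 * ξ + 5 * ξ ^ 2 + 5 * ξ ^ 3 + 2 * ξ ^ 4) * h2
        linear_combination (-(1 + ξ) ^ 5) * h5 - e2
      · have : g * g = s₃ := by
          rw [hs₃]
          exact D.sq_eq_of_pow C j (by rw [hj, hae₃])
        rw [this, i3, hj, hn₃]
        have h5 : (ξ ^ j) ^ 5 = 1 := by rw [← pow_mul, mul_comm, pow_mul, hξ5, one_pow]
        have e3 : (1 + ξ ^ 2) ^ 5 = ξ ^ 2 + ξ ^ 3 := by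
          linear_combination (ξ ^ 3 + ξ ^ 5 + 1) * hξ5
            + (1 + 2 * ξ ^ 2 + 5 * ξ ^ 4 + 5 * ξ ^ 6 + 2 * ξ ^ 8) * h2
        linear_combination (-(1 + ξ ^ 2) ^ 5) * h5 - e3
  · intro v hv h0
    have hprod : n₂ * n₃ = 1 := by
      rw [hn₂, hn₃]
      linear_combination hsum + (ξ + ξ ^ 2) * hξ5 - h2
    rcases hZall v hv with h | h | h | h
    · exact h
    · rw [h, i1] at h0; exact absurd h0 one_ne_zero
    · rw [h, i2] at h0
      rw [h0, zero_mul] at hprod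
      exact absurd hprod zero_ne_one
    · rw [h, i3] at h0
      rw [h0, mul_zero] at hprod
      exact absurd hprod zero_ne_one
  · intro v hv
    rcases hZall v hv with h | h | h | h
    · rw [h, i0]; ring
    · rw [h, i1]; ring
    · rw [h, i2, hn₂, pow_four_add]
      linear_combination (ξ * (ξ ^ 10 + ξ ^ 5 + 1)) * hξ5
    · rw [h, i3, hn₃, pow_four_add]
      linear_combination (ξ ^ 3 + ξ ^ 2 * (ξ ^ 5 + 1)) * hξ5

end sq

end Cfsg.Agent.Helper16.U34
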