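import Mathlib
import Cfsg.Agent.Lib.Helper16.U34C
import Cfsg.Agent.Lib.Helper16.HigTA2

set_option autoImplicit false
set_option linter.style.haveILetI false
set_option linter.unusedSectionVars false

/-! The second coordinate. -/

namespace Cfsg.Agent.Helper16.U34

open scoped commutatorElement

variable {P : Type*} [Group P] {γ : P ≃* P} {F : Type*} [Field F] {ξ : F} {a : P → F}
  [Fintype F] [CharP F 2]

theorem Dat.exists_model (D : Dat P γ) (C : Coo P γ F ξ a) (hF : Fintype.card F = 16)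
    (φ : F →+* F) (hφ : ∀ x, φ x = x ^ 4) :
    ∃ y : P → F, (∀ g h, y (g * h) = y g + y h + a h * φ (a g)) ∧
      (∀ g, y g + φ (y g) + a g * φ (a g) = 0) ∧
      (∀ g, a g = 0 → y g = 0 → g = 1) ∧ (∀ g, y (γ g) = y g) := by
  haveI := D.finite
  have h2 : (2 : F) = 0 := CharTwo.two_eq_zero
  have hξ5 := C.hξ5
  obtain ⟨ι, hιadd, hιsq, hι0, hιfix⟩ := D.exists_iota C hF
  have hφφ : ∀ x, φ (φ x) = x := by
    intro x
    rw [hφ, hφ, ← pow_mul]
    have := FiniteField.pow_card x
    rwa [hF] at this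
  have haZ : ∀ v ∈ Subgroup.center P, a v = 0 := fun v hv => (C.ker v).mpr hv
  have huγ : ∀ g h, a (γ h) * φ (a (γ g)) = a h * φ (a g) := by
    intro g h
    rw [C.gam, C.gam, map_mul, hφ ξ]
    linear_combination (a h * φ (a g)) * hξ5
  have hpol : ∀ g h : P, a h * φ (a g) + a g * φ (a h) = ι ⁅g, h⁆ := by
    intro g h
    have e1 := D.sq_mul h g
    have e2 := congrArg ι e1
    rw [hιadd _ (D.comm_mem_center g h) _
      (Subgroup.mul_mem _ (D.sq_mem_center h) (D.sq_mem_center g)),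
      hιadd _ (D.sq_mem_center h) _ (D.sq_mem_center g), hιsq, hιsq, hιsq, C.mul,
      pow_four_add] at e2
    rw [hφ, hφ]
    linear_combination e2
  have CD : TypeA.CoData (Subgroup.center P) ι (fun g h => a h * φ (a g)) :=
    { h2 := h2
      hVc := fun v hv g => D.central hv g
      hsq := D.sq_mem_center
      hcomm := D.comm_mem_center
      hι := hιadd
      hul := fun g g' h => by
        show a h * φ (a (g * g')) = a h * φ (a g) + a h * φ (a g')
        rw [C.mul, map_add]; ring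
      hur := fun g h h' => by
        show a (h * h') * φ (a g) = a h * φ (a g) + a h' * φ (a g)
        rw [C.mul]; ring
      huV := fun v hv g => by
        show a v * φ (a g) = 0
        rw [haZ v hv, zero_mul]
      huV' := fun v hv g => by
        show a g * φ (a v) = 0
        rw [haZ v hv, map_zero, mul_zero]
      hdiag := fun g => by
        show a g * φ (a g) = ι (g * g)
        rw [hιsq, hφ]
      hpol := fun g h => by
        show a h * φ (a g) + a g * φ (a h) = ι ⁅g, h⁆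
        exact hpol g h }
  obtain ⟨y₀, hy₀mul, hy₀V⟩ := CD.exists_coord
  have hy₀mul' : ∀ g h, y₀ (g * h) = y₀ g + y₀ h + a h * φ (a g) := hy₀mul
  obtain ⟨y, hy⟩ : ∃ y : P → F, y = fun g =>
    y₀ g + y₀ (γ g) + y₀ (γ (γ g)) + y₀ (γ (γ (γ g))) + y₀ (γ (γ (γ (γ g)))) := ⟨_, rfl⟩
  have hyapp : ∀ g, y g =
      y₀ g + y₀ (γ g) + y₀ (γ (γ g)) + y₀ (γ (γ (γ g))) + y₀ (γ (γ (γ (γ g)))) := by
    intro g; rw [hy]
  have hymul : ∀ g h, y (g * h) = y g + y h + a h * φ (a g) := by
    intro g h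
    rw [hyapp, hyapp, hyapp]
    simp only [map_mul, hy₀mul', huγ]
    linear_combination (2 * (a h * φ (a g))) * h2
  have hyV : ∀ v ∈ Subgroup.center P, y v = ι v := by
    intro v hv
    rw [hyapp]
    simp only [D.fix_center hv, hy₀V v hv]
    linear_combination (2 * ι v) * h2
  have hyγ : ∀ g, y (γ g) = y g := by
    intro g
    rw [hyapp, hyapp, D.h5]
    ring
  obtain ⟨δ, hδ⟩ : ∃ δ : P → F, δ = fun g => y g + φ (y g) + a g * φ (a g) := ⟨_, rfl⟩
  have hδapp : ∀ g, δ g = y g + φ (y g) + a g * φ (a g) := by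
    intro g; rw [hδ]
  have hδmul : ∀ g h, δ (g * h) = δ g + δ h := by
    intro g h
    rw [hδapp, hδapp, hδapp, hymul, C.mul]
    simp only [map_add, map_mul, hφφ]
    linear_combination (a h * φ (a g) + a g * φ (a h)) * h2
  have hδγ : ∀ g, δ (γ g) = δ g := by
    intro g
    rw [hδapp, hδapp, hyγ, huγ]
  have hδV : ∀ v ∈ Subgroup.center P, δ v = 0 := by
    intro v hv
    rw [hδapp, hyV v hv, hφ, hιfix v hv, haZ v hv]
    linear_combination (ι v) * h2
  have hδ1 : δ 1 = 0 := hδV 1 (Subgroup.one_mem _)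
  have hδinv : ∀ g, δ g⁻¹ = -δ g := by
    intro g
    have := hδmul g⁻¹ g
    rw [inv_mul_cancel, hδ1] at this
    linear_combination -this
  have hδ0 : ∀ g, δ g = 0 := by
    intro g
    have hne : ξ - 1 ≠ 0 := sub_ne_zero.mpr C.hξ1
    obtain ⟨h, hh⟩ := C.surj (a g / (ξ - 1))
    have h1 : a (γ h * h⁻¹) = a g := by
      rw [C.mul, C.gam, C.inv, hh]
      field_simp
      ring
    have h3 : a (g * (γ h * h⁻¹)⁻¹) = 0 := by
      rw [C.mul, C.inv, h1]; ring
    rw [C.ker] at h3
    have e : g = (g * (γ h * h⁻¹)⁻¹) * (γ h * h⁻¹) := by group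
    rw [e, hδmul, hδV _ h3, hδmul, hδγ, hδinv]
    ring
  refine ⟨y, hymul, ?_, ?_, hyγ⟩
  · intro g
    have := hδ0 g
    rwa [hδapp] at this
  · intro g hg hyg
    rw [C.ker] at hg
    rw [hyV g hg] at hyg
    exact hι0 g hg hyg

end Cfsg.Agent.Helper16.U34
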