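import Mathlib
import Cfsg.Agent.Lib.Helper11.UnitaryHeis2

set_option autoImplicit false
set_option linter.style.haveILetI false
set_option linter.unusedSectionVars false

/-! The centralizer of a central involution of the Sylow 2-subgroup of `PSU_3(4)`. -/

namespace Cfsg.Agent.Helper16.U34

open Matrix Cfsg.Agent.Helper11.Herm

section mat

variable {F : Type*} [Field F]

/-- the torus element `diag(μ, μ, μ³)` -/
def dmat (μ : F) : Matrix (Fin 3) (Fin 3) F := Matrix.diagonal ![μ, μ, μ ^ 3]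

theorem dmat_mul (μ ν : F) : dmat μ * dmat ν = dmat (μ * ν) := by
  unfold dmat
  rw [Matrix.diagonal_mul_diagonal]
  congr 1
  funext i
  fin_cases i <;> simp [mul_pow]

theorem dmat_one : dmat (1 : F) = 1 := by
  unfold dmat
  rw [← Matrix.diagonal_one]
  congr 1
  funext i
  fin_cases i <;> simp

theorem det_dmat (μ : F) : (dmat μ).det = μ ^ 5 := by
  unfold dmat
  rw [Matrix.det_diagonal, Fin.prod_univ_three]
  simp
  ring

theorem isU_dmat (φ : F →+* F) (hφ : ∀ x, φ x = x ^ 4) (μ : F) (h : μ ^ 5 = 1) :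
    IsU φ (dmat μ) := by
  unfold dmat
  apply isU_diagonal
  intro i
  rw [hφ]
  fin_cases i
  · simp; linear_combination h
  · simp; linear_combination h
  · simp; linear_combination (μ ^ 10 + μ ^ 5 + 1) * h

theorem dmat_mulVec_eV (μ : F) : dmat μ *ᵥ eV F = μ • eV F := by
  unfold dmat
  funext i
  rw [Matrix.mulVec_diagonal]
  fin_cases i <;> simp [eV]

end mat

section main

variable {F : Type*} [Field F] [Fintype F] (hF : Fintype.card F = 4 ^ 2) (φ : F →+* F)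
  (hφ : ∀ x, φ x = x ^ 4) [hφφ : Fact (∀ x : F, φ (φ x) = x)] [CharP F 2]

theorem dmat_mul_mat (u : Fˣ) (hu : (u : F) ^ 5 = 1) (x : Hs φ) (hφ : ∀ x, φ x = x ^ 4) :
    dmat (u : F) * Hs.mat φ x = Hs.mat φ (Hs.aut φ (u ^ 2) x) * dmat (u : F) := by
  have h10 : (u : F) ^ 10 = 1 := by
    have : (u : F) ^ 10 = ((u : F) ^ 5) ^ 2 := by ring
    rw [this, hu, one_pow]
  rw [Hs.mat_apply, Hs.mat_apply]
  unfold dmat
  ext i j
  rw [Matrix.diagonal_mul, Matrix.mul_diagonal]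
  simp only [Hs.aut_a, Hs.aut_s, Units.val_pow_eq_pow_val, hφ]
  fin_cases i <;> fin_cases j <;> simp
  · linear_combination (-((u : F) * x.s)) * h10
  · linear_combination (-((u : F) * x.s)) * h10
  · linear_combination (-((u : F) * x.a ^ 4)) * h10
  · linear_combination (-((u : F) * x.s)) * h10
  · linear_combination (-((u : F) * x.s)) * h10
  · linear_combination (-((u : F) * x.a ^ 4)) * h10
  · ring
  · ring


/-- the torus element in `SU_3(4)` -/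
noncomputable def Dsu (μ : F) : Cfsg.SU 3 F 4 := by
  classical
  exact if h : μ ^ 5 = 1 then
    mkSU hF 3 (dmat μ) (by rw [det_dmat, h]) (fun φ' hφ' => isU_dmat φ' hφ' μ h)
  else 1

theorem coe_Dsu {μ : F} (h : μ ^ 5 = 1) :
    (((Dsu hF μ : Cfsg.SU 3 F 4) : Matrix.SpecialLinearGroup (Fin 3) F) :
      Matrix (Fin 3) (Fin 3) F) = dmat μ := by
  unfold Dsu
  rw [dif_pos h]
  rfl

theorem Dsu_mul {μ ν : F} (hμ : μ ^ 5 = 1) (hν : ν ^ 5 = 1) :
    Dsu hF μ * Dsu hF ν = Dsu hF (μ * ν) := by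
  apply SU_ext
  rw [SU_mul_coe, coe_Dsu hF hμ, coe_Dsu hF hν,
    coe_Dsu hF (by rw [mul_pow, hμ, hν, one_mul]), dmat_mul]

theorem Dsu_one : Dsu hF (1 : F) = 1 := by
  apply SU_ext
  rw [coe_Dsu hF (one_pow 5), dmat_one]
  rfl

theorem Dsu_pow {μ : F} (hμ : μ ^ 5 = 1) (k : ℕ) : Dsu hF μ ^ k = Dsu hF (μ ^ k) := by
  induction k with
  | zero => rw [pow_zero, pow_zero, Dsu_one]
  | succ k ih =>
    rw [pow_succ, ih, Dsu_mul hF (by rw [← pow_mul, mul_comm, pow_mul, hμ, one_pow]) hμ,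
      pow_succ]

/-- the central involution -/
def t0 : Hs φ := ⟨0, 1, by
  rw [map_one, zero_mul, add_zero]
  exact CharTwo.add_self_eq_zero 1⟩

theorem Dsu_conj (u : Fˣ) (hu : (u : F) ^ 5 = 1) (x : Hs φ) :
    Dsu hF (u : F) * Hs.toSU hF φ hφ x =
      Hs.toSU hF φ hφ (Hs.aut φ (u ^ 2) x) * Dsu hF (u : F) := by
  apply SU_ext
  rw [SU_mul_coe, SU_mul_coe, coe_Dsu hF hu, Hs.coe_toSU, Hs.coe_toSU]
  exact dmat_mul_mat φ u hu x hφ

theorem exists_of_commute (g : Cfsg.SU 3 F 4)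
    (hc : g * Hs.toSU hF φ hφ (t0 φ) = Hs.toSU hF φ hφ (t0 φ) * g) :
    ∃ μ : F, μ ^ 5 = 1 ∧ ∃ y : Hs φ, g = Dsu hF μ * Hs.toSU hF φ hφ y := by
  obtain ⟨A, hA⟩ : ∃ A : Matrix (Fin 3) (Fin 3) F,
    A = ((g : Matrix.SpecialLinearGroup (Fin 3) F) : Matrix (Fin 3) (Fin 3) F) := ⟨_, rfl⟩
  have hAU : IsU φ A := by
    rw [hA]
    exact (mem_SU_iff_isU φ hφ 3 g.1).1 g.2
  have hAdet : A.det = 1 := by
    rw [hA]
    exact g.1.2
  have hcm : A * Hs.mat φ (t0 φ) = Hs.mat φ (t0 φ) * A := by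
    have := congrArg (fun x : Cfsg.SU 3 F 4 =>
      ((x : Matrix.SpecialLinearGroup (Fin 3) F) : Matrix (Fin 3) (Fin 3) F)) hc
    simp only [SU_mul_coe, Hs.coe_toSU] at this
    rw [hA]
    exact this
  have hT : ∀ x : Fin 3 → F, Hs.mat φ (t0 φ) *ᵥ x = x + hdot φ x (eV F) • eV F := by
    intro x
    unfold Hs.mat
    rw [sg_mulVec]
    simp [t0, hdot_zero_right]
  obtain ⟨μ, hμ⟩ : ∃ μ, μ = hdot φ (A *ᵥ fV F) (eV F) := ⟨_, rfl⟩
  have hAe : A *ᵥ eV F = μ • eV F := by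
    have h1 : (A * Hs.mat φ (t0 φ)) *ᵥ fV F = (Hs.mat φ (t0 φ) * A) *ᵥ fV F := by rw [hcm]
    rw [← Matrix.mulVec_mulVec, ← Matrix.mulVec_mulVec, hT, hT, hdot_fV_eV, one_smul,
      Matrix.mulVec_add, ← hμ] at h1
    exact add_left_cancel h1
  have hnorm : μ * φ μ = 1 := by
    have := hAU.hdot_mulVec φ (fV F) (eV F)
    rw [hAe, hdot_smul_right, ← hμ, hdot_fV_eV] at this
    rw [mul_comm]; exact this
  have hμ5 : μ ^ 5 = 1 := by
    rw [hφ] at hnorm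
    linear_combination hnorm
  have hμ45 : (μ ^ 4) ^ 5 = 1 := by
    rw [← pow_mul, mul_comm, pow_mul, hμ5, one_pow]
  obtain ⟨B, hB⟩ : ∃ B, B = dmat (μ ^ 4) * A := ⟨_, rfl⟩
  have hBe : B *ᵥ eV F = eV F := by
    rw [hB, ← Matrix.mulVec_mulVec, hAe, Matrix.mulVec_smul, dmat_mulVec_eV, smul_smul]
    have : μ * μ ^ 4 = 1 := by linear_combination hμ5
    rw [this, one_smul]
  have hBU : IsU φ B := by
    rw [hB]
    exact (isU_dmat φ hφ _ hμ45).mul φ hAU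
  have hBdet : B.det = 1 := by
    rw [hB, Matrix.det_mul, det_dmat, hAdet, hμ45, one_mul]
  obtain ⟨y, hy⟩ := exists_Hs_of_fix φ B hBU hBdet hBe
  refine ⟨μ, hμ5, y, ?_⟩
  apply SU_ext
  rw [SU_mul_coe, coe_Dsu hF hμ5, Hs.coe_toSU, ← hy, hB, ← Matrix.mul_assoc, dmat_mul, ← hA]
  have : μ * μ ^ 4 = 1 := by linear_combination hμ5
  rw [this, dmat_one, Matrix.one_mul]


/-- the projection onto `PSU_3(4)` -/
noncomputable def pr : Cfsg.SU 3 F 4 →* Cfsg.PSU 3 F 4 :=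
  QuotientGroup.mk' (Subgroup.center (Cfsg.SU 3 F 4))

include hF in
theorem pr_injective : Function.Injective (pr (F := F)) := by
  have hc : Subgroup.center (Cfsg.SU 3 F 4) = ⊥ := by
    apply Subgroup.eq_bot_of_card_eq
    rw [card_center_SU hF 3 (by norm_num)]
    rfl
  rw [← MonoidHom.ker_eq_bot_iff]
  unfold pr
  rw [QuotientGroup.ker_mk', hc]

theorem pr_surjective : Function.Surjective (pr (F := F)) :=
  QuotientGroup.mk'_surjective _

theorem toPSU_eq (x : Hs φ) : Hs.toPSU hF φ hφ x = pr (Hs.toSU hF φ hφ x) := rfl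

theorem pr_Dsu_conj (u : Fˣ) (hu : (u : F) ^ 5 = 1) (x : Hs φ) :
    pr (Dsu hF (u : F)) * Hs.toPSU hF φ hφ x * (pr (Dsu hF (u : F)))⁻¹ =
      Hs.toPSU hF φ hφ (Hs.aut φ (u ^ 2) x) := by
  rw [mul_inv_eq_iff_eq_mul, toPSU_eq, toPSU_eq, ← map_mul, ← map_mul, Dsu_conj hF φ hφ u hu]

include hφ in
theorem aut_t0 (u : Fˣ) (hu : (u : F) ^ 5 = 1) : Hs.aut φ (u ^ 2) (t0 φ) = t0 φ := by
  ext
  · rw [Hs.aut_a]
    show ((u ^ 2 : Fˣ) : F) * 0 = 0
    rw [mul_zero]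
  · rw [Hs.aut_s]
    show ((u ^ 2 : Fˣ) : F) * φ ((u ^ 2 : Fˣ) : F) * 1 = 1
    rw [hφ, Units.val_pow_eq_pow_val, mul_one]
    have : (u : F) ^ 2 * ((u : F) ^ 2) ^ 4 = ((u : F) ^ 5) ^ 2 := by ring
    rw [this, hu, one_pow]

theorem t0_commute (y : Hs φ) : y * t0 φ = t0 φ * y := by
  rw [Hs.commute_iff]
  show (0 : F) * φ y.a = y.a * φ 0
  rw [zero_mul, map_zero, mul_zero]

theorem orderOf_t0 : orderOf (Hs.toPSU hF φ hφ (t0 φ)) = 2 := by
  apply orderOf_eq_prime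
  · rw [← map_pow, pow_two, (Hs.mul_self_eq_one_iff φ (t0 φ)).mpr rfl, map_one]
  · intro h
    have h1 := Hs.toPSU_injective hF φ hφ (h.trans (map_one _).symm)
    have h2 : (t0 φ).s = (1 : Hs φ).s := by rw [h1]
    exact one_ne_zero h2

theorem toPSU_mem_centralizer (y : Hs φ) :
    Hs.toPSU hF φ hφ y ∈ Subgroup.centralizer {Hs.toPSU hF φ hφ (t0 φ)} := by
  rw [Subgroup.mem_centralizer_singleton_iff, ← map_mul, ← map_mul, t0_commute]

theorem pr_Dsu_mem_centralizer {μ : F} (hμ : μ ^ 5 = 1) :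
    pr (Dsu hF μ) ∈ Subgroup.centralizer {Hs.toPSU hF φ hφ (t0 φ)} := by
  have hne : μ ≠ 0 := by
    intro h
    rw [h, zero_pow (by norm_num)] at hμ
    exact zero_ne_one hμ
  have h1 := pr_Dsu_conj hF φ hφ (Units.mk0 μ hne) hμ (t0 φ)
  rw [aut_t0 φ hφ _ hμ, mul_inv_eq_iff_eq_mul] at h1
  rw [Subgroup.mem_centralizer_singleton_iff]
  exact h1

theorem exists_of_mem_centralizer (g : Cfsg.PSU 3 F 4)
    (hg : g ∈ Subgroup.centralizer {Hs.toPSU hF φ hφ (t0 φ)}) :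
    ∃ μ : F, μ ^ 5 = 1 ∧ ∃ y : Hs φ, g = pr (Dsu hF μ) * Hs.toPSU hF φ hφ y := by
  rw [Subgroup.mem_centralizer_singleton_iff] at hg
  obtain ⟨g', rfl⟩ := pr_surjective g
  rw [toPSU_eq, ← map_mul, ← map_mul] at hg
  obtain ⟨μ, hμ, y, hy⟩ := exists_of_commute hF φ hφ g' (pr_injective hF hg)
  exact ⟨μ, hμ, y, by rw [hy, map_mul, toPSU_eq]⟩

end main

end Cfsg.Agent.Helper16.U34
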