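import Mathlib

set_option autoImplicit false
set_option linter.style.haveILetI false
set_option linter.unusedSectionVars false

/-! Extending a homomorphism from a normal subgroup with cyclic complement; generation of the
derived group. -/

namespace Cfsg.Agent.Helper16.U34

open scoped commutatorElement

section extend

variable {G K : Type*} [Group G] [Group K]

theorem conj_zpow_formula (N : Subgroup G) [N.Normal] (c : G) (f : N →* K) (d : K)
    (hconj : ∀ p : N, f (MulAut.conjNormal c p) = d * f p * d⁻¹) (j : ℤ) :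
    ∀ q : N, f (MulAut.conjNormal (c ^ j) q) = d ^ j * f q * (d ^ j)⁻¹ := by
  have hconj' : ∀ p : N, f (MulAut.conjNormal c⁻¹ p) = d⁻¹ * f p * d := by
    intro p
    have h1 := hconj (MulAut.conjNormal c⁻¹ p)
    have h2 : MulAut.conjNormal c (MulAut.conjNormal c⁻¹ p) = p := by
      rw [← MulAut.mul_apply, ← map_mul, mul_inv_cancel, map_one, MulAut.one_apply]
    rw [h2] at h1
    rw [h1]; group
  induction j using Int.induction_on with
  | zero =>
    intro q
    rw [zpow_zero, zpow_zero, map_one, MulAut.one_apply, one_mul, inv_one, mul_one]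
  | succ i ih =>
    intro q
    rw [zpow_add_one, map_mul, MulAut.mul_apply, ih, hconj, zpow_add_one]
    group
  | pred i ih =>
    intro q
    rw [zpow_sub_one, map_mul, MulAut.mul_apply, ih, hconj', zpow_sub_one]
    group

/-- extension of a homomorphism to a product with a cyclic group -/
theorem exists_hom_extend (N : Subgroup G) [N.Normal] (c : G)
    (hcov : ∀ x : G, ∃ p ∈ N, ∃ i : ℤ, x = p * c ^ i)
    (f : N →* K) (d : K)
    (hint : ∀ i : ℤ, c ^ i ∈ N → c ^ i = 1 ∧ d ^ i = 1)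
    (hconj : ∀ p : N, f (MulAut.conjNormal c p) = d * f p * d⁻¹) :
    ∃ Ψ : G →* K, (∀ p : N, Ψ p = f p) ∧ Ψ c = d := by
  classical
  choose pp hpp ii hii using hcov
  let Ψ : G → K := fun x => f ⟨pp x, hpp x⟩ * d ^ (ii x)
  have key : ∀ (q : N) (j : ℤ), Ψ ((q : G) * c ^ j) = f q * d ^ j := by
    intro q j
    have h1 := hii ((q : G) * c ^ j)
    have h2 : c ^ (j - ii ((q : G) * c ^ j)) = (q : G)⁻¹ * pp ((q : G) * c ^ j) := by
      rw [zpow_sub, mul_inv_eq_iff_eq_mul, mul_assoc, ← h1]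
      group
    have h3 : c ^ (j - ii ((q : G) * c ^ j)) ∈ N := by
      rw [h2]
      exact N.mul_mem (N.inv_mem q.2) (hpp _)
    obtain ⟨h4, h5⟩ := hint _ h3
    have h6 : pp ((q : G) * c ^ j) = (q : G) := by
      rw [h4] at h2
      have := eq_inv_mul_iff_mul_eq.mp h2
      rw [mul_one] at this
      exact this.symm
    have h7 : d ^ (ii ((q : G) * c ^ j)) = d ^ j := by
      rw [zpow_sub, mul_inv_eq_one] at h5
      exact h5.symm
    show f ⟨pp ((q : G) * c ^ j), _⟩ * d ^ (ii ((q : G) * c ^ j)) = f q * d ^ j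
    rw [h7]
    congr 2
    exact Subtype.ext h6
  have hmul : ∀ x y : G, Ψ (x * y) = Ψ x * Ψ y := by
    intro x y
    obtain ⟨p, hp⟩ : ∃ p : N, (p : G) = pp x := ⟨⟨pp x, hpp x⟩, rfl⟩
    obtain ⟨p', hp'⟩ : ∃ p' : N, (p' : G) = pp y := ⟨⟨pp y, hpp y⟩, rfl⟩
    have hx : x = (p : G) * c ^ (ii x) := by rw [hp]; exact hii x
    have hy : y = (p' : G) * c ^ (ii y) := by rw [hp']; exact hii y
    have hxy : x * y = ((p * MulAut.conjNormal (c ^ (ii x)) p' : N) : G) * c ^ (ii x + ii y) := by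
      rw [Subgroup.coe_mul, MulAut.conjNormal_apply, zpow_add]
      conv_lhs => rw [hx, hy]
      group
    have e1 : Ψ x = f p * d ^ (ii x) := by
      conv_lhs => rw [hx]
      exact key p (ii x)
    have e2 : Ψ y = f p' * d ^ (ii y) := by
      conv_lhs => rw [hy]
      exact key p' (ii y)
    rw [hxy, key, map_mul, conj_zpow_formula N c f d hconj, e1, e2, zpow_add]
    group
  refine ⟨MonoidHom.mk' Ψ hmul, ?_, ?_⟩
  · intro p
    have := key p 0
    rw [zpow_zero, mul_one, zpow_zero, mul_one] at this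
    exact this
  · have := key 1 1
    rw [zpow_one, Subgroup.coe_one, one_mul, map_one, one_mul, zpow_one] at this
    exact this

end extend


section ht

variable {G : Type*} [Group G]

/-- a normal invariant subgroup of the derived group with abelian, centralised quotient is
everything -/
theorem ht_of_commutator (c : G) (hc5 : c ^ 5 = 1)
    (hcov : ∀ x : G, ∃ p ∈ commutator G, ∃ i : ℤ, x = p * c ^ i)
    (M : Subgroup (commutator G)) (hMn : M.Normal)
    (hγ : ∀ g ∈ M, MulAut.conjNormal c g ∈ M)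
    (hcm : ∀ g h : commutator G, ⁅g, h⁆ ∈ M)
    (hcg : ∀ g : commutator G, MulAut.conjNormal c g * g⁻¹ ∈ M) : M = ⊤ := by
  obtain ⟨P, hP⟩ : ∃ P : Subgroup G, P = commutator G := ⟨_, rfl⟩
  obtain ⟨M', hM'⟩ : ∃ M' : Subgroup G, M' = M.map (commutator G).subtype := ⟨_, rfl⟩
  have hmem : ∀ x : G, x ∈ M' ↔ ∃ m ∈ M, (m : G) = x := by
    intro x
    rw [hM', Subgroup.mem_map]
    rfl
  have hM'P : ∀ x ∈ M', x ∈ commutator G := by
    intro x hx
    obtain ⟨m, _, rfl⟩ := (hmem x).mp hx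
    exact m.2
  have h4 : c ^ 4 = c⁻¹ := by
    apply eq_inv_of_mul_eq_one_left
    rw [← pow_succ, hc5]
  let S' : Subgroup G :=
    { carrier := {x | (∀ m ∈ M', x * m * x⁻¹ ∈ M') ∧ (∀ m ∈ M', x⁻¹ * m * x ∈ M')}
      mul_mem' := by
        rintro x y ⟨hx1, hx2⟩ ⟨hy1, hy2⟩
        constructor
        · intro m hm
          have := hx1 _ (hy1 m hm)
          have e : x * y * m * (x * y)⁻¹ = x * (y * m * y⁻¹) * x⁻¹ := by group
          rw [e]; exact this
        · intro m hm
          have := hy2 _ (hx2 m hm)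
          have e : (x * y)⁻¹ * m * (x * y) = y⁻¹ * (x⁻¹ * m * x) * y := by group
          rw [e]; exact this
      one_mem' := by
        constructor
        · intro m hm
          rw [one_mul, inv_one, mul_one]; exact hm
        · intro m hm
          rw [inv_one, one_mul, mul_one]; exact hm
      inv_mem' := by
        rintro x ⟨hx1, hx2⟩
        constructor
        · intro m hm
          rw [inv_inv]; exact hx2 m hm
        · intro m hm
          rw [inv_inv]; exact hx1 m hm }
  have hPS : ∀ p ∈ commutator G, p ∈ S' := by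
    intro p hp
    constructor
    · intro m hm
      obtain ⟨m₀, hm₀, rfl⟩ := (hmem m).mp hm
      rw [hmem]
      exact ⟨⟨p, hp⟩ * m₀ * ⟨p, hp⟩⁻¹, hMn.conj_mem m₀ hm₀ ⟨p, hp⟩, rfl⟩
    · intro m hm
      obtain ⟨m₀, hm₀, rfl⟩ := (hmem m).mp hm
      rw [hmem]
      refine ⟨⟨p, hp⟩⁻¹ * m₀ * ⟨p, hp⟩⁻¹⁻¹, hMn.conj_mem m₀ hm₀ ⟨p, hp⟩⁻¹, ?_⟩
      rw [inv_inv]
      rfl
  have hcS : c ∈ S' := by
    constructor
    · intro m hm
      obtain ⟨m₀, hm₀, rfl⟩ := (hmem m).mp hm
      rw [hmem]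
      exact ⟨MulAut.conjNormal c m₀, hγ m₀ hm₀, rfl⟩
    · intro m hm
      obtain ⟨m₀, hm₀, rfl⟩ := (hmem m).mp hm
      rw [hmem]
      refine ⟨MulAut.conjNormal c (MulAut.conjNormal c (MulAut.conjNormal c
        (MulAut.conjNormal c m₀))), hγ _ (hγ _ (hγ _ (hγ _ hm₀))), ?_⟩
      simp only [MulAut.conjNormal_apply]
      have h4' : c * c * c * c = c⁻¹ := by
        rw [← h4, pow_succ, pow_succ, pow_succ, pow_one]
      calc c * (c * (c * (c * (m₀ : G) * c⁻¹) * c⁻¹) * c⁻¹) * c⁻¹
          = (c * c * c * c) * (m₀ : G) * (c * c * c * c)⁻¹ := by group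
        _ = c⁻¹ * (m₀ : G) * c := by rw [h4', inv_inv]
  have hall : ∀ x : G, x ∈ S' := by
    intro x
    obtain ⟨p, hp, i, rfl⟩ := hcov x
    exact S'.mul_mem (hPS p hp) (S'.zpow_mem hcS i)
  haveI hnorm : M'.Normal := ⟨fun m hm x => (hall x).1 m hm⟩
  obtain ⟨π, hπ⟩ : ∃ π : G →* G ⧸ M', π = QuotientGroup.mk' M' := ⟨_, rfl⟩
  have hπ1 : ∀ x : G, x ∈ M' → π x = 1 := by
    intro x hx
    rw [hπ]
    exact (QuotientGroup.eq_one_iff x).mpr hx
  have hπ1' : ∀ x : G, π x = 1 → x ∈ M' := by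
    intro x hx
    rw [hπ] at hx
    exact (QuotientGroup.eq_one_iff x).mp hx
  have hcomm_of : ∀ a b : G, ⁅a, b⁆ ∈ M' → Commute (π a) (π b) := by
    intro a b hab
    rw [← commutatorElement_eq_one_iff_commute, ← map_commutatorElement]
    exact hπ1 _ hab
  have h1 : ∀ p ∈ commutator G, Commute (π c) (π p) := by
    intro p hp
    apply hcomm_of
    rw [hmem]
    exact ⟨_, hcg ⟨p, hp⟩, rfl⟩
  have h2 : ∀ p ∈ commutator G, ∀ p' ∈ commutator G, Commute (π p) (π p') := by
    intro p hp p' hp'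
    apply hcomm_of
    rw [hmem]
    exact ⟨_, hcm ⟨p, hp⟩ ⟨p', hp'⟩, rfl⟩
  have hcen_c : ∀ x, Commute (π c) (π x) := by
    intro x
    obtain ⟨p, hp, i, rfl⟩ := hcov x
    rw [map_mul, map_zpow]
    exact (h1 p hp).mul_right ((Commute.refl (π c)).zpow_right i)
  have hcen_p : ∀ p ∈ commutator G, ∀ x, Commute (π p) (π x) := by
    intro p hp x
    obtain ⟨p', hp', i, rfl⟩ := hcov x
    rw [map_mul, map_zpow]
    exact (h2 p hp p' hp').mul_right ((h1 p hp).symm.zpow_right i)
  have hall_comm : ∀ x y, Commute (π x) (π y) := by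
    intro x y
    obtain ⟨p, hp, i, rfl⟩ := hcov x
    rw [map_mul, map_zpow]
    exact (hcen_p p hp y).mul_left ((hcen_c y).zpow_left i)
  have hle : commutator G ≤ M' := by
    rw [commutator_def, Subgroup.commutator_le]
    intro x _ y _
    apply hπ1'
    rw [map_commutatorElement, commutatorElement_eq_one_iff_commute]
    exact hall_comm x y
  rw [Subgroup.eq_top_iff']
  intro p
  obtain ⟨m, hm, hmp⟩ := (hmem (p : G)).mp (hle p.2)
  have : m = p := Subtype.ext hmp
  rw [← this]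
  exact hm

end ht

end Cfsg.Agent.Helper16.U34
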