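import Mathlib
import Cfsg.Agent.Lib.Helper16.U34D
import Cfsg.Agent.Lib.Helper16.U34E
import Cfsg.Agent.Lib.Helper16.U34F

set_option autoImplicit false
set_option linter.style.haveILetI false
set_option linter.unusedSectionVars false
set_option maxHeartbeats 1000000

/-! A group of order 320 with derived group of order 64 having Klein four centre is the
centralizer of an involution of `PSU_3(4)`. -/

namespace Cfsg.Agent.Helper16.U34

open scoped commutatorElement
open Cfsg.Agent.Helper11.Herm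

theorem main {G : Type*} [Group G] [Finite G] (hG : Nat.card G = 320)
    (hD : Nat.card (commutator G) = 64)
    (hZ : IsKleinFour (Subgroup.center (commutator G)))
    {F : Type*} [Field F] [Fintype F] (hF : Fintype.card F = 16) :
    ∃ t : Cfsg.PSU 3 F 4, orderOf t = 2 ∧
      Nonempty (G ≃* Subgroup.centralizer ({t} : Set (Cfsg.PSU 3 F 4))) := by
  classical
  have hF' : Fintype.card F = 4 ^ 2 := by rw [hF]; norm_num
  haveI : Fact (Nat.Prime 2) := ⟨Nat.prime_two⟩
  haveI : CharP F 2 := charP_of_card_eq_prime_pow (p := 2) (f := 4) (by rw [hF]; norm_num)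
  have h2 : (2 : F) = 0 := CharTwo.two_eq_zero
  obtain ⟨φ, hφ⟩ := exists_frob hF'
  haveI hφφ : Fact (∀ x : F, φ (φ x) = x) := ⟨fun x => by
    rw [hφ, hφ, ← pow_mul]
    have := FiniteField.pow_card x
    rwa [hF] at this⟩
  haveI : Fact (Nat.Prime 5) := ⟨by norm_num⟩
  -- an element of order five in the field
  obtain ⟨u₀, hu₀⟩ := exists_prime_orderOf_dvd_card (G := Fˣ) 5
    (by rw [Fintype.card_units, hF]; norm_num)
  have hζ5 : (u₀ : F) ^ 5 = 1 := by
    rw [← Units.val_pow_eq_pow_val, ← hu₀, pow_orderOf_eq_one]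
    rfl
  have hζ1 : (u₀ : F) ≠ 1 := by
    intro h
    have : u₀ = 1 := Units.ext h
    rw [this, orderOf_one] at hu₀
    omega
  -- an element of order five in the group
  obtain ⟨c, hc⟩ := exists_prime_orderOf_dvd_card' (G := G) 5 (by rw [hG]; norm_num)
  have hc5 : c ^ 5 = 1 := by rw [← hc]; exact pow_orderOf_eq_one c
  have hcardc : Nat.card (Subgroup.zpowers c) = 5 := by rw [Nat.card_zpowers, hc]
  have hcop : Nat.Coprime (Nat.card (commutator G)) (Nat.card (Subgroup.zpowers c)) := by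
    rw [hD, hcardc]; norm_num
  have hcompl : Subgroup.IsComplement' (commutator G) (Subgroup.zpowers c) :=
    Subgroup.isComplement'_of_coprime (by rw [hD, hcardc, hG]) hcop
  have hcov : ∀ x : G, ∃ p ∈ commutator G, ∃ i : ℤ, x = p * c ^ i := by
    intro x
    obtain ⟨⟨p, k⟩, hpk⟩ := hcompl.2 x
    obtain ⟨i, hi⟩ := Subgroup.mem_zpowers_iff.mp k.2
    exact ⟨p, p.2, i, by rw [hi]; exact hpk.symm⟩
  have hdisj : ∀ i : ℤ, c ^ i ∈ commutator G → c ^ i = 1 := by
    intro i hi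
    have hd : Disjoint (commutator G) (Subgroup.zpowers c) :=
      Subgroup.disjoint_of_coprime_natCard hcop
    exact (Subgroup.disjoint_def.mp hd) hi (Subgroup.zpow_mem_zpowers c i)
  -- the data
  obtain ⟨γ, hγ⟩ : ∃ γ : (commutator G) ≃* (commutator G), γ = MulAut.conjNormal c := ⟨_, rfl⟩
  have hγapp : ∀ g : commutator G, ((γ g : commutator G) : G) = c * g * c⁻¹ := by
    intro g; rw [hγ]; rfl
  have D : Dat (commutator G) γ :=
    { card := hD
      cardZ := hZ.card_four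
      expZ := by
        intro z hz
        have h1 := Monoid.pow_exponent_eq_one (⟨z, hz⟩ : Subgroup.center (commutator G))
        rw [hZ.exponent_two, pow_two] at h1
        exact congrArg Subtype.val h1
      h5 := by
        intro g
        apply Subtype.ext
        simp only [hγapp]
        have hc5' : c * c * c * c * c = 1 := by
          rw [← hc5, pow_succ, pow_succ, pow_succ, pow_succ, pow_one]
        calc c * (c * (c * (c * (c * (g : G) * c⁻¹) * c⁻¹) * c⁻¹) * c⁻¹) * c⁻¹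
            = (c * c * c * c * c) * (g : G) * (c * c * c * c * c)⁻¹ := by group
          _ = (g : G) := by rw [hc5', one_mul, inv_one, mul_one]
      ht := by
        intro M hMn hMγ hcm hcg
        rw [hγ] at hMγ hcg
        exact ht_of_commutator c hc5 hcov M hMn hMγ hcm hcg }
  obtain ⟨ξ, hξ5, hξ1, a, ha1, ha2, ha3, ha4⟩ := D.exists_coords hF (u₀ : F) hζ5 hζ1
  have C : Coo (commutator G) γ F ξ a :=
    { hξ5 := hξ5, hξ1 := hξ1, mul := ha1, ker := ha2, gam := ha3, surj := ha4 }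
  obtain ⟨y, hy1, hy2, hy3, hy4⟩ := D.exists_model C hF φ hφ
  -- the isomorphism of the derived group with the Heisenberg-type group
  let ψ : commutator G →* Hs φ := MonoidHom.mk' (fun g => ⟨a g, y g, hy2 g⟩) (by
    intro g h
    ext
    · show a (g * h) = a g + a h
      exact ha1 g h
    · show y (g * h) = y g + y h - a h * φ (a g)
      rw [hy1]
      linear_combination (a h * φ (a g)) * h2)
  have hψa : ∀ g, (ψ g).a = a g := fun g => rfl
  have hψs : ∀ g, (ψ g).s = y g := fun g => rfl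
  have hψinj : Function.Injective ψ := by
    rw [injective_iff_map_eq_one]
    intro g hg
    apply hy3 g
    · rw [← hψa, hg]; rfl
    · rw [← hψs, hg]; rfl
  have hψbij : Function.Bijective ψ := by
    apply hψinj.bijective_of_nat_card_le
    rw [card_Hs hF' φ hφ, hD]
    norm_num
  have hξ0 : ξ ≠ 0 := by
    intro h
    rw [h, zero_pow (by norm_num)] at hξ5
    exact zero_ne_one hξ5
  obtain ⟨ξu, hξu⟩ : ∃ ξu : Fˣ, (ξu : F) = ξ := ⟨Units.mk0 ξ hξ0, rfl⟩
  have hψγ : ∀ g, ψ (γ g) = Hs.aut φ ξu (ψ g) := by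
    intro g
    ext
    · rw [Hs.aut_a, hψa, hψa, ha3, hξu]
    · rw [Hs.aut_s, hψs, hψs, hy4, hξu, hφ]
      linear_combination (-(y g)) * hξ5
  -- the torus element
  obtain ⟨μ, hμ⟩ : ∃ μ : F, μ = ξ ^ 3 := ⟨_, rfl⟩
  have hμ5 : μ ^ 5 = 1 := by rw [hμ, ← pow_mul, mul_comm, pow_mul, hξ5, one_pow]
  obtain ⟨n2, n3, n4⟩ := ne_one_of_pow hξ5 hξ1
  have hμ1 : μ ≠ 1 := by rw [hμ]; exact n3
  have hμu : ((ξu ^ 3 : Fˣ) : F) = μ := by rw [Units.val_pow_eq_pow_val, hξu, hμ]
  have hμu2 : (ξu ^ 3) ^ 2 = ξu := by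
    apply Units.ext
    rw [Units.val_pow_eq_pow_val, Units.val_pow_eq_pow_val, hξu]
    linear_combination ξ * hξ5
  obtain ⟨d, hd⟩ : ∃ d : Cfsg.PSU 3 F 4, d = pr (Dsu hF' μ) := ⟨_, rfl⟩
  have hd5 : d ^ 5 = 1 := by
    rw [hd, ← map_pow, Dsu_pow hF' hμ5, hμ5, Dsu_one, map_one]
  have hd1 : d ≠ 1 := by
    intro h
    rw [hd] at h
    have h1 := pr_injective hF' (h.trans (map_one _).symm)
    have h3 := congrArg (fun x : Cfsg.SU 3 F 4 =>
      ((x : Matrix.SpecialLinearGroup (Fin 3) F) : Matrix (Fin 3) (Fin 3) F) 0 0) h1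
    simp only [coe_Dsu hF' hμ5] at h3
    apply hμ1
    have h4 : dmat μ 0 0 = μ := by simp [dmat]
    rw [h4] at h3
    exact h3
  have hdord : orderOf d = 5 := orderOf_eq_prime hd5 hd1
  obtain ⟨f, hf⟩ : ∃ f : commutator G →* Cfsg.PSU 3 F 4, f = (Hs.toPSU hF' φ hφ).comp ψ :=
    ⟨_, rfl⟩
  have hfapp : ∀ p, f p = Hs.toPSU hF' φ hφ (ψ p) := by
    intro p; rw [hf]; rfl
  have hconj : ∀ p : commutator G, f (MulAut.conjNormal c p) = d * f p * d⁻¹ := by
    intro p
    rw [← hγ, hfapp, hfapp, hψγ, hd]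
    have := pr_Dsu_conj hF' φ hφ (ξu ^ 3) (by rw [hμu]; exact hμ5) (ψ p)
    rw [hμu, hμu2] at this
    exact this.symm
  have hint : ∀ i : ℤ, c ^ i ∈ commutator G → c ^ i = 1 ∧ d ^ i = 1 := by
    intro i hi
    have h1 := hdisj i hi
    refine ⟨h1, ?_⟩
    rw [← orderOf_dvd_iff_zpow_eq_one, hc] at h1
    rw [← orderOf_dvd_iff_zpow_eq_one, hdord]
    exact h1
  obtain ⟨Ψ, hΨP, hΨc⟩ := exists_hom_extend (commutator G) c hcov f d hint hconj
  have hΨform : ∀ (p : commutator G) (i : ℤ), Ψ ((p : G) * c ^ i) = f p * d ^ i := by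
    intro p i
    rw [map_mul, map_zpow, hΨP, hΨc]
  -- injectivity
  have hΨinj : Function.Injective Ψ := by
    rw [injective_iff_map_eq_one]
    intro x hx
    obtain ⟨p, hp, i, rfl⟩ := hcov x
    have hx' := hΨform ⟨p, hp⟩ i
    rw [hx] at hx'
    have e1 : f ⟨p, hp⟩ = (d ^ i)⁻¹ := eq_inv_of_mul_eq_one_left hx'.symm
    have e2 : f ⟨p, hp⟩ ^ 5 = 1 := by
      rw [e1, inv_pow, ← zpow_natCast, ← zpow_mul, mul_comm, zpow_mul, zpow_natCast, hd5,
        one_zpow, inv_one]
    have e3 : f ⟨p, hp⟩ ^ 64 = 1 := by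
      rw [← map_pow]
      have : (⟨p, hp⟩ : commutator G) ^ 64 = 1 := by
        rw [← hD]; exact pow_card_eq_one'
      rw [this, map_one]
    have e4 : f ⟨p, hp⟩ = 1 := by
      have h65 : f ⟨p, hp⟩ ^ 65 = 1 := by
        have : (65 : ℕ) = 5 * 13 := by norm_num
        rw [this, pow_mul, e2, one_pow]
      have : f ⟨p, hp⟩ ^ 65 = f ⟨p, hp⟩ ^ 64 * f ⟨p, hp⟩ := pow_succ _ 64
      rw [h65, e3, one_mul] at this
      exact this.symm
    have e5 : (⟨p, hp⟩ : commutator G) = 1 := by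
      rw [hfapp] at e4
      have := Hs.toPSU_injective hF' φ hφ (e4.trans (map_one _).symm)
      exact hψinj (this.trans (map_one ψ).symm)
    have e6 : p = 1 := congrArg Subtype.val e5
    have e7 : d ^ i = 1 := by
      rw [e4] at e1
      rw [← inv_inj, ← e1, inv_one]
    rw [← orderOf_dvd_iff_zpow_eq_one, hdord] at e7
    have e8 : c ^ i = 1 := by
      rw [← orderOf_dvd_iff_zpow_eq_one, hc]; exact e7
    rw [e6, e8, one_mul]
  -- the range
  have hrange : Ψ.range = Subgroup.centralizer {Hs.toPSU hF' φ hφ (t0 φ)} := by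
    apply le_antisymm
    · rintro _ ⟨x, rfl⟩
      obtain ⟨p, hp, i, rfl⟩ := hcov x
      rw [hΨform ⟨p, hp⟩ i]
      apply Subgroup.mul_mem
      · rw [hfapp]; exact toPSU_mem_centralizer hF' φ hφ _
      · apply Subgroup.zpow_mem
        rw [hd]
        exact pr_Dsu_mem_centralizer hF' φ hφ hμ5
    · intro g hg
      obtain ⟨μ', hμ', y', hgy⟩ := exists_of_mem_centralizer hF' φ hφ g hg
      have hprim : IsPrimitiveRoot μ 5 := by
        have := IsPrimitiveRoot.orderOf μ
        rwa [orderOf_eq_prime hμ5 hμ1] at this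
      obtain ⟨k, _, hk⟩ := hprim.eq_pow_of_pow_eq_one hμ'
      obtain ⟨p', hp'⟩ := hψbij.2 y'
      refine ⟨c ^ k * (p' : G), ?_⟩
      rw [map_mul, map_pow, hΨc, hΨP, hfapp, hp', hgy, hd, ← map_pow, Dsu_pow hF' hμ5, hk]
  refine ⟨Hs.toPSU hF' φ hφ (t0 φ), orderOf_t0 hF' φ hφ, ?_⟩
  exact ⟨(MonoidHom.ofInjective hΨinj).trans (MulEquiv.subgroupCongr hrange)⟩

end Cfsg.Agent.Helper16.U34
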