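import Mathlib
import Cfsg.Agent.Lib.Helper17.Sym4Defs
import Cfsg.Agent.Lib.Helper11.Unitary2
import Cfsg.Agent.Lib.Helper23.Sym4P34

/-!
# Piece U3 of S6001 (helper16 for helper17): an element of order 5 in `SU₄(p)`
-/

set_option autoImplicit false

namespace Cfsg.Agent.Helper16.USym4U3

open Matrix Cfsg.Agent.Helper17.Sym4 Cfsg.Agent.Helper11.Herm

variable {F : Type*} [Field F]

/-- `A ⊕ 1₂` -/
def blk (A : Matrix (Fin 2) (Fin 2) F) : Matrix (Fin 4) (Fin 4) F :=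
  !![A 0 0, A 0 1, 0, 0; A 1 0, A 1 1, 0, 0; 0, 0, 1, 0; 0, 0, 0, 1]

theorem blk_one : blk (1 : Matrix (Fin 2) (Fin 2) F) = 1 := by
  ext a b; fin_cases a <;> fin_cases b <;> simp [blk]

theorem blk_mul (A B : Matrix (Fin 2) (Fin 2) F) : blk (A * B) = blk A * blk B := by
  ext a b; fin_cases a <;> fin_cases b <;>
    simp [blk, Matrix.mul_apply, Fin.sum_univ_four, Fin.sum_univ_two]

/-- `blk` as a monoid homomorphism -/
def blkHom : Matrix (Fin 2) (Fin 2) F →* Matrix (Fin 4) (Fin 4) F where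
  toFun := blk
  map_one' := blk_one
  map_mul' := blk_mul

theorem blk_pow (A : Matrix (Fin 2) (Fin 2) F) (n : ℕ) : blk (A ^ n) = blk A ^ n :=
  map_pow (blkHom (F := F)) A n

theorem det_blk (A : Matrix (Fin 2) (Fin 2) F) : (blk A).det = A 0 0 * A 1 1 - A 0 1 * A 1 0 := by
  rw [Matrix.det_succ_row_zero]
  simp [blk, Fin.sum_univ_four, Matrix.det_fin_three, Fin.succAbove, Matrix.submatrix]
  ring

/-- the golden identity in an algebra -/
theorem pow_five_of_golden {R : Type*} [Ring R] [Algebra F R] (y : R) (τ : F)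
    (h : y * y = τ • y - 1) (hτ : τ ^ 2 + τ - 1 = 0) : y ^ 5 = 1 := by
  have h2 : y ^ 2 = τ • y - 1 := by rw [pow_two, h]
  have h3 : y ^ 3 = (τ ^ 2 - 1) • y - τ • (1 : R) := by
    rw [pow_succ, h2, sub_mul, smul_mul_assoc, h, one_mul]
    module
  have h4 : y ^ 4 = (τ ^ 3 - 2 * τ) • y - (τ ^ 2 - 1) • (1 : R) := by
    rw [pow_succ, h3, sub_mul, smul_mul_assoc, h, smul_mul_assoc, one_mul]
    module
  have h5 : y ^ 5 = (τ ^ 4 - 3 * τ ^ 2 + 1) • y - (τ ^ 3 - 2 * τ) • (1 : R) := by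
    rw [pow_succ, h4, sub_mul, smul_mul_assoc, h, smul_mul_assoc, one_mul]
    module
  have s1 : τ ^ 4 - 3 * τ ^ 2 + 1 = 0 := by linear_combination (τ ^ 2 - τ - 1) * hτ
  have s2 : τ ^ 3 - 2 * τ = -1 := by linear_combination (τ - 1) * hτ
  rw [h5, s1, s2]
  simp

/-- **Piece U3.** -/
theorem exists_x5U [Fintype F] {p : ℕ} [Fact p.Prime] [CharP F p]
    (hF : Fintype.card F = p ^ 2) (hp2 : p ≠ 2) (hp5 : p ≠ 5)
    (hord : orderOf (p : ZMod 5) ≠ 4) :
    ∃ τ : F, τ ^ 2 + τ - 1 = 0 ∧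
    ∃ x : GL (Fin 4) F, x ∈ Cfsg.GU 4 F p ⊓ Cfsg.Geo.specialLinear (Fin 4) F ∧ x ^ 5 = 1 ∧
      (∀ z : F, (x : Matrix (Fin 4) (Fin 4) F) ≠ z • (1 : Matrix (Fin 4) (Fin 4) F)) ∧
      (x : Matrix (Fin 4) (Fin 4) F).trace *
        ((x⁻¹ : GL (Fin 4) F) : Matrix (Fin 4) (Fin 4) F).trace = (2 + τ) ^ 2 := by
  classical
  have hpp : p.Prime := Fact.out
  obtain ⟨φ, hφ⟩ := exists_frob hF
  -- the golden ratio in the prime field
  obtain ⟨τ₀, hτ₀⟩ := Cfsg.Agent.Helper23.Sym4P34.exists_golden (F := ZMod p) (ZMod.card p)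
    hp2 hp5 hord
  set τ : F := ZMod.castHom (dvd_refl p) F τ₀ with hτdef
  have hτ : τ ^ 2 + τ - 1 = 0 := by
    have := congrArg (ZMod.castHom (dvd_refl p) F) hτ₀
    rw [map_sub, map_add, map_pow, map_one, map_zero] at this
    exact this
  have hφτ : φ τ = τ := by
    rw [hφ, hτdef, ← map_pow, ZMod.pow_card]
  have h2 : (2 : F) ≠ 0 := by
    intro h0
    have h1 : ((2 : ℕ) : F) = 0 := by exact_mod_cast h0
    rw [CharP.cast_eq_zero_iff F p 2] at h1
    exact hp2 ((Nat.prime_dvd_prime_iff_eq hpp Nat.prime_two).mp h1)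
  have h5 : (5 : F) ≠ 0 := by
    intro h0
    have h1 : ((5 : ℕ) : F) = 0 := by exact_mod_cast h0
    rw [CharP.cast_eq_zero_iff F p 5] at h1
    exact hp5 ((Nat.prime_dvd_prime_iff_eq hpp (by norm_num : Nat.Prime 5)).mp h1)
  set a : F := τ / 2 with hadef
  have hτa : τ = 2 * a := by rw [hadef]; field_simp
  have hφa : φ a = a := by rw [hadef, map_div₀, hφτ, map_ofNat]
  have ha : 4 * a * a + 2 * a - 1 = 0 := by
    rw [hτa] at hτ
    linear_combination hτ
  have hc0 : 1 - a * a ≠ 0 := by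
    intro h0
    apply h5
    have e1 : a * a = 1 := by linear_combination -h0
    linear_combination (4 + 4 * (2 * a - 3)) * e1 - (2 * a - 3) * ha
  have hφc : φ (1 - a * a) = 1 - a * a := by rw [map_sub, map_one, map_mul, hφa]
  obtain ⟨b, hb0, hb⟩ := frob_norm_surj hF φ hφ (1 - a * a) hc0 hφc
  set bb : F := φ b with hbb
  have hφbb : φ bb = b := frob_frob hF φ hφ b
  have h1 : a * a + b * bb = 1 := by linear_combination hb
  -- the `2 × 2` block and its inverse
  set A : Matrix (Fin 2) (Fin 2) F := !![a, b; -bb, a] with hA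
  set B : Matrix (Fin 2) (Fin 2) F := !![a, -b; bb, a] with hB
  have hAB : A * B = 1 := by
    ext r c; fin_cases r <;> fin_cases c <;>
      simp [hA, hB, Matrix.mul_apply, Fin.sum_univ_two] <;>
      first | (linear_combination h1) | ring
  have hBA : B * A = 1 := by
    ext r c; fin_cases r <;> fin_cases c <;>
      simp [hA, hB, Matrix.mul_apply, Fin.sum_univ_two] <;>
      first | (linear_combination h1) | ring
  have hAA : A * A = τ • A - 1 := by
    rw [hτa]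
    ext r c; fin_cases r <;> fin_cases c <;>
      simp [hA, Matrix.mul_apply, Fin.sum_univ_two] <;>
      first | (linear_combination -h1) | ring
  have hA5 : A ^ 5 = 1 := pow_five_of_golden A τ hAA hτ
  obtain ⟨x, hxv, hxi⟩ : ∃ x : GL (Fin 4) F, (x : Matrix (Fin 4) (Fin 4) F) = blk A ∧
      ((x⁻¹ : GL (Fin 4) F) : Matrix (Fin 4) (Fin 4) F) = blk B :=
    ⟨⟨blk A, blk B, by rw [← blk_mul, hAB, blk_one], by rw [← blk_mul, hBA, blk_one]⟩, rfl, rfl⟩
  refine ⟨τ, hτ, x, Subgroup.mem_inf.2 ⟨?_, ?_⟩, ?_, ?_, ?_⟩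
  · rw [mem_GU_iff_isU φ hφ 4, hxv]
    unfold IsU
    ext r c; fin_cases r <;> fin_cases c <;>
      simp [blk, hA, Matrix.mul_apply, Fin.sum_univ_four, hφa, hφbb, ← hbb] <;>
      first | (linear_combination h1) | ring
  · unfold Cfsg.Geo.specialLinear
    rw [MonoidHom.mem_ker]
    apply Units.ext
    show (x : Matrix (Fin 4) (Fin 4) F).det = 1
    rw [hxv, det_blk]
    simp [hA]
    linear_combination h1
  · apply Units.ext
    rw [Units.val_pow_eq_pow_val, hxv, Units.val_one, ← blk_pow, hA5, blk_one]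
  · intro z hz
    rw [hxv] at hz
    have h01 := congrFun (congrFun hz 0) 1
    simp [blk, hA] at h01
    exact hb0 h01
  · rw [hxv, hxi]
    simp only [Matrix.trace, Fin.sum_univ_four, Matrix.diag, blk, hA, hB]
    simp
    rw [hτa]
    ring

end Cfsg.Agent.Helper16.USym4U3
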