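import Mathlib
import Cfsg.Agent.Lib.Helper16.Sym4Q3two
import Cfsg.Agent.Lib.Helper17.USym4B
import Cfsg.Agent.Lib.Helper11.Unitary2

/-!
# Piece U4 of S6001 (helper16 for helper17)

The unitary version of `Sym4Q3two.exists_normalizer_charpoly_two`.
-/

set_option autoImplicit false

namespace Cfsg.Agent.Helper16.USym4U4

open Matrix Polynomial Cfsg.Agent.Helper17.Sym4 Cfsg.Agent.Helper13.SS
  Cfsg.Agent.Helper16.Sym4Q3two Cfsg.Agent.Helper11.Herm

variable {F : Type*} [Field F]

/-- the diagonal data behind `exists_normalizer_charpoly_two` -/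
theorem exists_diag_data [Fintype F] {p : ℕ} [Fact p.Prime] [CharP F p]
    (hp2 : p ≠ 2) (i : Fˣ) (hi : (i : F) ^ 2 = -1) (x : GL (Fin 4) F)
    (hx : x ∈ Cfsg.Geo.specialLinear (Fin 4) F) (z : F)
    (hxz : (x : Matrix (Fin 4) (Fin 4) F) * (x : Matrix (Fin 4) (Fin 4) F) = z • 1)
    (hns : ∀ c : F, (x : Matrix (Fin 4) (Fin 4) F) ≠ c • (1 : Matrix (Fin 4) (Fin 4) F)) :
    ∃ (w : Fˣ) (D : GL (Fin 4) F) (s : Fin 4 → F), (w : F) * w = z ∧
      D ∈ Subgroup.normalizer (R0 i : Set (GL (Fin 4) F)) ∧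
      (D : Matrix (Fin 4) (Fin 4) F) = Matrix.diagonal s ∧ (∀ j, s j * s j = 1) ∧
      (x : Matrix (Fin 4) (Fin 4) F).charpoly = ∏ j, (X - C ((w : F) * s j)) ∧
      ((∑ j, s j = 0 ∧ ∏ j, s j = 1) ∨ ∑ j, s j = 2 ∨ ∑ j, s j = -2) := by
  classical
  have hpp : p.Prime := Fact.out
  set M : Matrix (Fin 4) (Fin 4) F := (x : Matrix (Fin 4) (Fin 4) F) with hM
  have h2F : (2 : F) ≠ 0 := by
    intro h
    have h1 : ((2 : ℕ) : F) = 0 := by exact_mod_cast h
    have h3 := (CharP.cast_eq_zero_iff F p 2).1 h1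
    exact hp2 ((Nat.prime_dvd_prime_iff_eq hpp Nat.prime_two).1 h3)
  have hdet : M.det = 1 := by
    rw [Cfsg.Geo.specialLinear, MonoidHom.mem_ker] at hx
    have := congrArg Units.val hx
    simpa using this
  have hz4 : z ^ 4 = 1 := by
    have h1 : (M * M).det = 1 := by rw [Matrix.det_mul, hdet, mul_one]
    rw [hxz, Matrix.det_smul, Matrix.det_one, mul_one, Fintype.card_fin] at h1
    exact h1
  have hz0 : z ≠ 0 := by
    rintro rfl
    simp at hz4
  set g : Module.End F (Fin 4 → F) := φ M with hg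
  by_cases hsq : ∃ w : F, w * w = z
  · obtain ⟨w, hw⟩ := hsq
    have hw0 : w ≠ 0 := by
      rintro rfl
      exact hz0 (by simpa using hw.symm)
    set wu : Fˣ := Units.mk0 w hw0 with hwu
    have hwne : (X - C w : F[X]) ≠ X + C w := by
      intro h
      have h1 := congrArg (Polynomial.eval 0) h
      simp at h1
      have : (2 : F) * w = 0 := by linear_combination -h1
      rcases mul_eq_zero.1 this with h | h
      · exact h2F h
      · exact hw0 h
    set S : Finset F[X] := {X - C w, X + C w} with hS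
    have hirr : ∀ f ∈ S, Irreducible f := by
      intro f hf
      rw [hS, Finset.mem_insert, Finset.mem_singleton] at hf
      rcases hf with rfl | rfl
      · exact Polynomial.irreducible_X_sub_C w
      · have : (X + C w : F[X]) = X - C (-w) := by simp
        rw [this]
        exact Polynomial.irreducible_X_sub_C (-w)
    have hmon : ∀ f ∈ S, f.Monic := by
      intro f hf
      rw [hS, Finset.mem_insert, Finset.mem_singleton] at hf
      rcases hf with rfl | rfl
      · exact Polynomial.monic_X_sub_C w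
      · exact Polynomial.monic_X_add_C w
    have hprod : ∏ f ∈ S, f = (X - C w) * (X + C w) := by
      rw [hS, Finset.prod_pair hwne]
    have hkill : aeval g (∏ f ∈ S, f) = 0 := by
      rw [hprod, hg, aeval_φ]
      have : aeval M ((X - C w) * (X + C w) : F[X]) = 0 := by
        simp only [map_mul, map_sub, map_add, aeval_X, aeval_C]
        rw [sub_mul, mul_add, mul_add, hxz, Algebra.algebraMap_eq_smul_one]
        simp only [Matrix.smul_mul, Matrix.mul_smul, Matrix.one_mul, Matrix.mul_one, smul_smul, hw]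
        abel
      rw [this, map_zero]
    have hcop := pairwise_coprime_of_monic_irreducible S hirr hmon
    have hsum := finrank_eq_sum_kdim g S hcop hkill
    rw [Module.finrank_fin_fun, hS, Finset.sum_pair hwne] at hsum
    set k1 := kdim g (X - C w) with hk1
    set k2 := kdim g (X + C w) with hk2
    have hchar := charpoly_eq_prod S hirr hmon g hkill
    rw [hS, Finset.prod_pair hwne, Polynomial.natDegree_X_sub_C, Polynomial.natDegree_X_add_C,
      Nat.div_one, Nat.div_one, ← hk1, ← hk2, hg, charpoly_φ] at hchar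
    have hscal : ∀ c : F, kdim g (X - C c) = 4 → False := by
      intro c hc
      have htop : LinearMap.ker (aeval g (X - C c)) = ⊤ := by
        apply Submodule.eq_top_of_finrank_eq
        rw [Module.finrank_fin_fun]
        exact hc
      have h0 : aeval g (X - C c : F[X]) = 0 := LinearMap.ker_eq_top.1 htop
      rw [hg, aeval_φ] at h0
      have h1 : aeval M (X - C c : F[X]) = 0 := by
        apply (φ (F := F)).injective
        rw [h0, map_zero]
      simp only [map_sub, aeval_X, aeval_C, Algebra.algebraMap_eq_smul_one] at h1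
      exact hns c (sub_eq_zero.1 h1)
    have hk1' : k1 ≠ 4 := fun h => hscal w h
    have hk2' : k2 ≠ 4 := by
      intro h
      apply hscal (-w)
      have : (X - C (-w) : F[X]) = X + C w := by simp
      rw [this]
      exact h
    have hXadd : (X + C w : F[X]) = X - C (-w) := by simp
    obtain ⟨d0, hd0n, hd0m⟩ := Cfsg.Agent.Helper12.Sym4E.exists_d0 i hi h2F
    have hk : (k1 = 3 ∧ k2 = 1) ∨ (k1 = 2 ∧ k2 = 2) ∨ (k1 = 1 ∧ k2 = 3) := by omega
    rcases hk with ⟨e1, e2⟩ | ⟨e1, e2⟩ | ⟨e1, e2⟩
    · refine ⟨wu, d0, ![1, 1, 1, -1], hw, hd0n,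
        (by rw [hd0m]; ext a b; fin_cases a <;> fin_cases b <;> simp),
        (by intro j; fin_cases j <;> simp), ?_, Or.inr (Or.inl ?_)⟩
      · rw [prod_diag, hchar, e1, e2, hXadd]
        simp only [wu, Units.val_mk0, mul_one, mul_neg]
        ring
      · rw [Fin.sum_univ_four]
        simp
        norm_num
    · refine ⟨wu, A1, ![1, 1, -1, -1], hw, Subgroup.le_normalizer (A1_mem_R0 i),
        (by rw [A1_val, A1m]; ext a b; fin_cases a <;> fin_cases b <;> simp),
        (by intro j; fin_cases j <;> simp), ?_, Or.inl ⟨?_, ?_⟩⟩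
      · rw [prod_diag, hchar, e1, e2, hXadd]
        simp only [wu, Units.val_mk0, mul_one, mul_neg]
        ring
      · rw [Fin.sum_univ_four]
        simp
      · rw [Fin.prod_univ_four]
        simp
    · have hm1 : ((-1 : Fˣ) : F) = -1 := by simp
      refine ⟨wu, sc (-1) * d0, ![-1, -1, -1, 1], hw, mul_mem (sc_mem_normalizer _ _) hd0n,
        (by
          rw [Units.val_mul, sc_val, hd0m, hm1]
          ext a b; fin_cases a <;> fin_cases b <;> simp),
        (by intro j; fin_cases j <;> simp), ?_, Or.inr (Or.inr ?_)⟩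
      · rw [prod_diag, hchar, e1, e2, hXadd]
        simp only [wu, Units.val_mk0, mul_one, mul_neg]
        ring
      · rw [Fin.sum_univ_four]
        simp
        norm_num
  · exfalso
    push Not at hsq
    have hirr2 : Irreducible (X ^ 2 - C z : F[X]) := by
      apply X_pow_sub_C_irreducible_of_prime Nat.prime_two
      intro b hb
      exact hsq b (by rw [← hb]; ring)
    have hmon2 : (X ^ 2 - C z : F[X]).Monic := Polynomial.monic_X_pow_sub_C z (by norm_num)
    set S : Finset F[X] := {X ^ 2 - C z} with hS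
    have hkill : aeval g (∏ f ∈ S, f) = 0 := by
      rw [hS, Finset.prod_singleton, hg, aeval_φ]
      have : aeval M (X ^ 2 - C z : F[X]) = 0 := by
        simp only [map_sub, map_pow, aeval_X, aeval_C, Algebra.algebraMap_eq_smul_one]
        rw [pow_two, hxz, sub_self]
      rw [this, map_zero]
    have hchar := charpoly_eq_prod S (by simpa [hS] using hirr2) (by simpa [hS] using hmon2) g hkill
    have hkd : kdim g (X ^ 2 - C z) = 4 := by
      unfold kdim
      rw [hS, Finset.prod_singleton] at hkill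
      rw [hkill, LinearMap.ker_zero, finrank_top, Module.finrank_fin_fun]
    have hnd : (X ^ 2 - C z : F[X]).natDegree = 2 := Polynomial.natDegree_X_pow_sub_C
    rw [hS, Finset.prod_singleton, hkd, hnd, hg, charpoly_φ] at hchar
    have hdet2 := Matrix.det_eq_sign_charpoly_coeff M
    rw [hchar, hdet, Fintype.card_fin, Polynomial.coeff_zero_eq_eval_zero] at hdet2
    simp at hdet2
    have hz2 : z ^ 2 = 1 := by
      rw [hdet2]
      norm_num
    have : (z - 1) * (z + 1) = 0 := by linear_combination hz2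
    rcases mul_eq_zero.1 this with h | h
    · exact hsq 1 (by rw [sub_eq_zero.1 h, mul_one])
    · exact hsq (i : F) (by rw [← pow_two, hi]; linear_combination -h)

/-- **Piece U4.** -/
theorem exists_normalizer_charpoly_twoU [Fintype F] {p : ℕ} [Fact p.Prime] [CharP F p]
    (hF : Fintype.card F = p ^ 2) (hp4 : p % 4 = 3)
    (i : Fˣ) (hi : (i : F) ^ 2 = -1) (x : GL (Fin 4) F)
    (hx : x ∈ Cfsg.GU 4 F p ⊓ Cfsg.Geo.specialLinear (Fin 4) F) (z : F)
    (hxz : (x : Matrix (Fin 4) (Fin 4) F) * (x : Matrix (Fin 4) (Fin 4) F) = z • 1)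
    (hns : ∀ c : F, (x : Matrix (Fin 4) (Fin 4) F) ≠ c • (1 : Matrix (Fin 4) (Fin 4) F)) :
    ∃ y : GL (Fin 4) F, y ∈ Subgroup.normalizer (R0 i : Set (GL (Fin 4) F)) ∧
      y ∈ Cfsg.GU 4 F p ∧
      (y : Matrix (Fin 4) (Fin 4) F).charpoly = (x : Matrix (Fin 4) (Fin 4) F).charpoly ∧
      y ^ 8 = 1 := by
  classical
  have hpp : p.Prime := Fact.out
  have hp2 : p ≠ 2 := by omega
  have hodd : Odd p := Nat.odd_iff.2 (by omega)
  have h2F : (2 : F) ≠ 0 := Cfsg.Agent.Helper17.USym4.two_ne_zero_of_mod_four hp4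
  obtain ⟨w, D, s, hw, hDn, hDm, hs, hchar, hcase⟩ := exists_diag_data hp2 i hi x hx.2 z hxz hns
  obtain ⟨φ, hφ⟩ := exists_frob hF
  set M : Matrix (Fin 4) (Fin 4) F := (x : Matrix (Fin 4) (Fin 4) F) with hM
  have hw0 : (w : F) ≠ 0 := w.ne_zero
  have hz0 : z ≠ 0 := by rw [← hw]; exact mul_ne_zero hw0 hw0
  have hdetx : M.det = 1 := by
    have hx2 : x ∈ Cfsg.Geo.specialLinear (Fin 4) F := hx.2
    rw [Cfsg.Geo.specialLinear, MonoidHom.mem_ker] at hx2
    have := congrArg Units.val hx2
    simpa using this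
  have hz4 : z ^ 4 = 1 := by
    have h1 : (M * M).det = 1 := by rw [Matrix.det_mul, hdetx, mul_one]
    rw [hxz, Matrix.det_smul, Matrix.det_one, mul_one, Fintype.card_fin] at h1
    exact h1
  have hyM : ((sc w * D : GL (Fin 4) F) : Matrix (Fin 4) (Fin 4) F) =
      Matrix.diagonal (fun j => (w : F) * s j) := by
    rw [Units.val_mul, sc_val, hDm, Matrix.smul_mul, Matrix.one_mul]
    ext a b
    by_cases hab : a = b
    · subst hab; simp
    · simp [hab]
  have hyc : ((sc w * D : GL (Fin 4) F) : Matrix (Fin 4) (Fin 4) F).charpoly = M.charpoly := by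
    rw [hyM, Matrix.charpoly_diagonal, hchar]
  have htr : M.trace = (w : F) * ∑ j, s j := by
    rw [Matrix.trace_eq_neg_charpoly_coeff, ← hyc, ← Matrix.trace_eq_neg_charpoly_coeff, hyM,
      Matrix.trace_diagonal, Finset.mul_sum]
  have hdet : ∏ j, ((w : F) * s j) = 1 := by
    rw [← Matrix.det_diagonal, ← hyM, Matrix.det_eq_sign_charpoly_coeff, hyc,
      ← Matrix.det_eq_sign_charpoly_coeff, hdetx]
  have hinv : ((x⁻¹ : GL (Fin 4) F) : Matrix (Fin 4) (Fin 4) F) = z⁻¹ • M := by
    rw [Matrix.coe_units_inv]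
    apply Matrix.inv_eq_right_inv
    rw [Matrix.mul_smul, hxz, smul_smul, inv_mul_cancel₀ hz0, one_smul]
  have htrinv := Cfsg.Agent.Helper17.USym4.trace_inv_of_mem_GU hF hx.1
  rw [hinv, Matrix.trace_smul, htr, smul_eq_mul] at htrinv
  have h2p : (2 : F) ^ p = 2 := by
    rw [← hφ]
    exact map_ofNat φ 2
  -- the key computation for the types `(3,1)` and `(1,3)`
  have key : ∀ c : F, c ≠ 0 → c ^ p = c → ∑ j, s j = c → (w : F) ^ (p + 1) = 1 := by
    intro c hc0 hcp hc
    rw [hc, mul_pow, hcp] at htrinv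
    have e1 : (w : F) * c = z * ((w : F) ^ p * c) := by
      rw [← htrinv]
      field_simp
    have e2 : (w : F) * c * (1 - (w : F) * (w : F) ^ p) = 0 := by
      linear_combination e1 - ((w : F) ^ p * c) * hw
    rcases mul_eq_zero.1 e2 with h | h
    · exact absurd h (mul_ne_zero hw0 hc0)
    · rw [pow_succ']
      linear_combination -h
  have hwp : (w : F) ^ (p + 1) = 1 := by
    rcases hcase with ⟨-, h1⟩ | hc | hc
    · rw [Finset.prod_mul_distrib, h1, mul_one, Finset.prod_const, Finset.card_univ,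
        Fintype.card_fin] at hdet
      obtain ⟨k, hk⟩ : ∃ k, p + 1 = 4 * k := ⟨(p + 1) / 4, by omega⟩
      rw [hk, pow_mul, hdet, one_pow]
    · exact key 2 h2F h2p hc
    · exact key (-2) (neg_ne_zero.2 h2F) (by rw [Odd.neg_pow hodd, h2p]) hc
  have hsp : ∀ j, s j ^ (p + 1) = 1 := by
    intro j
    obtain ⟨k, hk⟩ : ∃ k, p + 1 = 2 * k := ⟨(p + 1) / 2, by omega⟩
    rw [hk, pow_mul, pow_two, hs j, one_pow]
  refine ⟨sc w * D, mul_mem (sc_mem_normalizer _ w) hDn, ?_, hyc, ?_⟩
  · rw [mem_GU_iff_isU φ hφ 4, hyM]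
    apply isU_diagonal
    intro j
    rw [hφ, ← pow_succ', mul_pow, hwp, hsp j, one_mul]
  · have hyy : (sc w * D) * (sc w * D) = sc (w * w) := by
      apply Units.ext
      rw [Units.val_mul, hyM, sc_val, Matrix.diagonal_mul_diagonal]
      ext a b
      by_cases hab : a = b
      · subst hab
        have := hs a
        simp only [Matrix.diagonal_apply_eq, Units.val_mul, Matrix.smul_apply, Matrix.one_apply_eq,
          smul_eq_mul, mul_one]
        linear_combination ((w : F) * w) * this
      · simp [hab]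
    have : (sc w * D) ^ 8 = ((sc w * D) * (sc w * D)) ^ 4 := by rw [← pow_two, ← pow_mul]
    rw [this, hyy]
    apply Units.ext
    simp only [Units.val_pow_eq_pow_val, sc_val, Units.val_mul, Units.val_one, hw]
    rw [_root_.smul_pow, one_pow, hz4, one_smul]

end Cfsg.Agent.Helper16.USym4U4
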