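import Mathlib

/-!
# S2347 piece INTW (helper16): the Stone - von Neumann intertwiner `M = ∑ v, π (g • v) * π (-v)`.
-/

set_option autoImplicit false

namespace Cfsg.Agent.Helper6.Weil

universe u

section Abstract

variable {G : Type u} [Group G] {V : Type*} [AddCommGroup V] [Fintype V] [DistribMulAction G V]
  {W : Type u} [AddCommGroup W] [Module ℂ W] [FiniteDimensional ℂ W]
  (π : V → Module.End ℂ W)

/-- PIECE INTW (Stone - von Neumann): `M = ∑ v, π (g • v) * π (-v)` -/
theorem exists_intertwiner (c : V → V → ℂ) (h0 : π 0 = 1)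
    (hmul : ∀ v w, π v * π w = c v w • π (v + w))
    (hcneg : ∀ v, c v (-v) = 1)
    (hLI : LinearIndependent ℂ π)
    (hirr : ∀ U : Submodule ℂ W, (∀ v, ∀ f ∈ U, π v f ∈ U) → U = ⊥ ∨ U = ⊤)
    (g : G) (hcg : ∀ v w, c (g • v) (g • w) = c v w) :
    ∃ M : (Module.End ℂ W)ˣ, ∀ v, (M : Module.End ℂ W) * π v = π (g • v) * (M : Module.End ℂ W) := by
  classical
  have hne : ∀ v, π v ≠ 0 := fun v => hLI.ne_zero v
  have h10 : (1 : Module.End ℂ W) ≠ 0 := by
    rw [← h0]; exact hne 0
  -- inverses
  have hinv : ∀ v, π v * π (-v) = 1 := by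
    intro v
    rw [hmul, hcneg, one_smul, add_neg_cancel, h0]
  have hinv' : ∀ v, π (-v) * π v = 1 := by
    intro v
    have := hinv (-v)
    rwa [neg_neg] at this
  -- the multiplier never vanishes
  have hc0 : ∀ w v, c w v ≠ 0 := by
    intro w v hc
    apply h10
    calc (1 : Module.End ℂ W) = π w * (π v * π (-v)) * π (-w) := by
          rw [hinv v, mul_one, hinv w]
      _ = (π w * π v) * (π (-v) * π (-w)) := by simp only [mul_assoc]
      _ = 0 := by rw [hmul w v, hc, zero_smul, zero_mul]
  -- products of inverses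
  have hstar : ∀ w v, π (-v) * π (-w) = (c w v)⁻¹ • π (-(w + v)) := by
    intro w v
    have h1 : π (w + v) = (c w v)⁻¹ • (π w * π v) := by
      rw [hmul w v, smul_smul, inv_mul_cancel₀ (hc0 w v), one_smul]
    calc π (-v) * π (-w) = (π (-(w + v)) * π (w + v)) * (π (-v) * π (-w)) := by
          rw [hinv' (w + v), one_mul]
      _ = (c w v)⁻¹ • (π (-(w + v)) * (π w * (π v * π (-v)) * π (-w))) := by
          rw [h1]
          simp only [mul_assoc, mul_smul_comm, smul_mul_assoc]
      _ = (c w v)⁻¹ • π (-(w + v)) := by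
          rw [hinv v, mul_one, hinv w, mul_one]
  -- the intertwining property of `M`
  have hM : ∀ w, π (g • w) * (∑ v, π (g • v) * π (-v)) = (∑ v, π (g • v) * π (-v)) * π w := by
    intro w
    have hterm : ∀ v, π (g • w) * (π (g • v) * π (-v)) * π (-w) =
        π (g • (w + v)) * π (-(w + v)) := by
      intro v
      calc π (g • w) * (π (g • v) * π (-v)) * π (-w)
          = (π (g • w) * π (g • v)) * (π (-v) * π (-w)) := by simp only [mul_assoc]
        _ = (c w v • π (g • (w + v))) * ((c w v)⁻¹ • π (-(w + v))) := by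
            rw [hmul, hcg, hstar, smul_add]
        _ = π (g • (w + v)) * π (-(w + v)) := by
            rw [smul_mul_smul_comm, mul_inv_cancel₀ (hc0 w v), one_smul]
    have hsum : π (g • w) * (∑ v, π (g • v) * π (-v)) * π (-w) = ∑ v, π (g • v) * π (-v) := by
      rw [Finset.mul_sum, Finset.sum_mul]
      rw [Finset.sum_congr rfl (fun v _ => hterm v)]
      exact Fintype.sum_equiv (Equiv.addLeft w) _ _ (fun v => rfl)
    calc π (g • w) * (∑ v, π (g • v) * π (-v))
        = (π (g • w) * (∑ v, π (g • v) * π (-v)) * π (-w)) * π w := by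
          rw [mul_assoc _ (π (-w)) (π w), hinv' w, mul_one]
      _ = (∑ v, π (g • v) * π (-v)) * π w := by rw [hsum]
  -- `M ≠ 0`
  have hMne : (∑ v, π (g • v) * π (-v)) ≠ 0 := by
    intro hzero
    have hexp : ∑ v, c (g • v) (-v) • π (g • v + -v) = 0 := by
      rw [← hzero]
      exact Finset.sum_congr rfl (fun v _ => (hmul _ _).symm)
    have hfib : ∑ u, (∑ v ∈ Finset.univ.filter (fun v => g • v + -v = u), c (g • v) (-v)) • π u
        = 0 := by
      rw [← hexp, ← Finset.sum_fiberwise Finset.univ (fun v => g • v + -v)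
        (fun v => c (g • v) (-v) • π (g • v + -v))]
      apply Finset.sum_congr rfl
      intro u _
      rw [Finset.sum_smul]
      apply Finset.sum_congr rfl
      intro v hv
      rw [(Finset.mem_filter.1 hv).2]
    have hcoef := Fintype.linearIndependent_iff.1 hLI _ hfib 0
    have hones : ∑ v ∈ Finset.univ.filter (fun v => g • v + -v = 0), c (g • v) (-v) =
        ((Finset.univ.filter (fun v : V => g • v + -v = 0)).card : ℂ) := by
      rw [Finset.sum_congr rfl (g := fun _ => (1 : ℂ))]
      · simp
      · intro v hv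
        have hv' : g • v + -v = 0 := (Finset.mem_filter.1 hv).2
        have : g • v = v := by
          rw [← sub_eq_add_neg, sub_eq_zero] at hv'
          exact hv'
        rw [this, hcneg]
    rw [hones] at hcoef
    have hcard : (Finset.univ.filter (fun v : V => g • v + -v = 0)).card = 0 := by
      exact_mod_cast hcoef
    have hmem : (0 : V) ∈ Finset.univ.filter (fun v : V => g • v + -v = 0) := by
      rw [Finset.mem_filter]
      exact ⟨Finset.mem_univ _, by rw [smul_zero, neg_zero, add_zero]⟩
    rw [Finset.card_eq_zero] at hcard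
    rw [hcard] at hmem
    exact Finset.notMem_empty _ hmem
  -- the kernel of `M` is invariant
  have hker : LinearMap.ker (∑ v, π (g • v) * π (-v)) = ⊥ := by
    rcases hirr (LinearMap.ker (∑ v, π (g • v) * π (-v))) (by
      intro w f hf
      rw [LinearMap.mem_ker] at hf ⊢
      have := LinearMap.congr_fun (hM w) f
      rw [Module.End.mul_apply, Module.End.mul_apply, hf, map_zero] at this
      exact this.symm) with hb | ht
    · exact hb
    · exact absurd (LinearMap.ker_eq_top.1 ht) hMne
  obtain ⟨Mu, hMu⟩ := (LinearMap.isUnit_iff_ker_eq_bot _).2 hker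
  refine ⟨Mu, fun v => ?_⟩
  rw [hMu]
  exact (hM v).symm

end Abstract

end Cfsg.Agent.Helper6.Weil
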