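import Mathlib

/-!
# S2347 piece SPAN (helper16): a spanning family of operators acts irreducibly and has scalar
commutant.
-/

set_option autoImplicit false

namespace Cfsg.Agent.Helper6.Weil

universe u

section Abstract

variable {G : Type u} [Group G] {V : Type*} [AddCommGroup V] [Fintype V] [DistribMulAction G V]
  {W : Type u} [AddCommGroup W] [Module ℂ W] [FiniteDimensional ℂ W]
  (π : V → Module.End ℂ W)

/-- PIECE SPAN (a) -/
theorem span_eq_top_of_linearIndependent (hLI : LinearIndependent ℂ π)
    (hcard : Fintype.card V = Module.finrank ℂ W ^ 2) :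
    Submodule.span ℂ (Set.range π) = ⊤ := by
  apply LinearIndependent.span_eq_top_of_card_eq_finrank' hLI
  rw [hcard, pow_two]
  exact (Module.finrank_linearMap ℂ ℂ W W).symm

/-- a vector `u ≠ 0` can be sent to any `w` by some endomorphism, of the form `x ↦ φ x • w` -/
theorem span_exists_rankOne {u : W} (hu : u ≠ 0) :
    ∃ φ : W →ₗ[ℂ] ℂ, φ u = 1 := by
  have hinj : LinearMap.ker (LinearMap.toSpanSingleton ℂ W u) = ⊥ := by
    rw [LinearMap.ker_eq_bot]
    intro a b hab
    simp only [LinearMap.toSpanSingleton_apply] at hab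
    exact smul_left_injective ℂ hu hab
  obtain ⟨φ, hφ⟩ := (LinearMap.toSpanSingleton ℂ W u).exists_leftInverse_of_injective hinj
  refine ⟨φ, ?_⟩
  have := LinearMap.congr_fun hφ 1
  simpa using this

/-- PIECE SPAN (b) -/
theorem irreducible_of_span (hspan : Submodule.span ℂ (Set.range π) = ⊤)
    (U : Submodule ℂ W) (hU : ∀ v, ∀ f ∈ U, π v f ∈ U) : U = ⊥ ∨ U = ⊤ := by
  -- all endomorphisms preserve `U`
  let S : Submodule ℂ (Module.End ℂ W) :=
    { carrier := {E | ∀ f ∈ U, E f ∈ U}
      add_mem' := by
        intro a b ha hb f hf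
        rw [LinearMap.add_apply]
        exact U.add_mem (ha f hf) (hb f hf)
      zero_mem' := by
        intro f _
        rw [LinearMap.zero_apply]
        exact U.zero_mem
      smul_mem' := by
        intro c a ha f hf
        rw [LinearMap.smul_apply]
        exact U.smul_mem c (ha f hf) }
  have hS : Submodule.span ℂ (Set.range π) ≤ S := by
    rw [Submodule.span_le]
    rintro _ ⟨v, rfl⟩
    exact hU v
  have hall : ∀ E : Module.End ℂ W, ∀ f ∈ U, E f ∈ U := by
    intro E
    have : E ∈ S := hS (by rw [hspan]; trivial)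
    exact this
  by_cases hbot : U = ⊥
  · exact Or.inl hbot
  right
  obtain ⟨u, huU, hu0⟩ := (Submodule.ne_bot_iff U).1 hbot
  obtain ⟨φ, hφ⟩ := span_exists_rankOne hu0
  rw [eq_top_iff]
  intro w _
  have := hall ((LinearMap.toSpanSingleton ℂ W w).comp φ) u huU
  simpa [hφ] using this

/-- PIECE SPAN (c) -/
theorem schur_of_span (hspan : Submodule.span ℂ (Set.range π) = ⊤)
    (E : Module.End ℂ W) (hE : ∀ v, E * π v = π v * E) : ∃ a : ℂ, E = a • 1 := by
  -- `E` commutes with all endomorphisms
  let S : Submodule ℂ (Module.End ℂ W) :=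
    { carrier := {X | E * X = X * E}
      add_mem' := by
        intro a b ha hb
        show E * (a + b) = (a + b) * E
        rw [mul_add, add_mul, ha, hb]
      zero_mem' := by
        show E * 0 = 0 * E
        rw [mul_zero, zero_mul]
      smul_mem' := by
        intro c a ha
        show E * (c • a) = (c • a) * E
        rw [mul_smul_comm, smul_mul_assoc, ha] }
  have hS : Submodule.span ℂ (Set.range π) ≤ S := by
    rw [Submodule.span_le]
    rintro _ ⟨v, rfl⟩
    exact hE v
  have hall : ∀ X : Module.End ℂ W, E * X = X * E := by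
    intro X
    have : X ∈ S := hS (by rw [hspan]; trivial)
    exact this
  by_cases hW : ∀ w : W, w = 0
  · refine ⟨0, ?_⟩
    apply LinearMap.ext
    intro w
    rw [hW w, map_zero, map_zero]
  push Not at hW
  obtain ⟨u, hu0⟩ := hW
  obtain ⟨φ, hφ⟩ := span_exists_rankOne hu0
  refine ⟨φ (E u), ?_⟩
  apply LinearMap.ext
  intro w
  have h1 := LinearMap.congr_fun (hall ((LinearMap.toSpanSingleton ℂ W w).comp φ)) u
  simp only [Module.End.mul_apply, LinearMap.comp_apply, LinearMap.toSpanSingleton_apply, hφ,
    one_smul] at h1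
  rw [h1]
  simp

end Abstract

end Cfsg.Agent.Helper6.Weil
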