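import Mathlib
import Cfsg.Prelude.Def_Transfer
import Cfsg.Agent.S0650
import Cfsg.Agent.Lib.Helper4.GlaubermanRepl2
import Cfsg.Agent.Lib.Helper4.ZJElementary

set_option autoImplicit false
open scoped commutatorElement

/-! The ZJ-theorem for the full centre of the (elementary abelian) Thompson subgroup:
`p`-group level lemmas. -/

namespace Cfsg.Agent.Helper16.ZJE

open Cfsg Cfsg.Agent.Helper4.GR

variable {S : Type*} [Group S]

/-- The centre of the Thompson subgroup of `S`. -/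
def Zc (p : ℕ) (S : Type*) [Group S] : Subgroup S :=
  thompsonSubgroup p S ⊓ Subgroup.centralizer (thompsonSubgroup p S : Set S)

theorem le_thompson {p : ℕ} {A : Subgroup S} (hA : A ∈ maxElementaryAbelianSubgroups p S) :
    A ≤ thompsonSubgroup p S := le_sSup hA

theorem comm_of_mem {p : ℕ} {A : Subgroup S} (hA : A ∈ maxElementaryAbelianSubgroups p S) :
    ∀ x ∈ A, ∀ y ∈ A, x * y = y * x := by
  intro x hx y hy
  exact congrArg Subtype.val (hA.1.1.is_comm.comm ⟨x, hx⟩ ⟨y, hy⟩)

theorem Zc_comm_mem {p : ℕ} {A : Subgroup S} (hA : A ∈ maxElementaryAbelianSubgroups p S)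
    {z a : S} (hz : z ∈ Zc p S) (ha : a ∈ A) : a * z = z * a := by
  have h1 := (Subgroup.mem_inf.1 hz).2
  rw [Subgroup.mem_centralizer_iff] at h1
  exact h1 a (le_thompson hA ha)

theorem Zc_comm (p : ℕ) : ∀ x ∈ Zc p S, ∀ y ∈ Zc p S, x * y = y * x := by
  intro x hx y hy
  have h1 := (Subgroup.mem_inf.1 hy).2
  rw [Subgroup.mem_centralizer_iff] at h1
  exact h1 x (Subgroup.mem_inf.1 hx).1

/-- conjugates of members are members -/
theorem map_equiv_mem [Finite S] {p : ℕ} (φ : S ≃* S) {A : Subgroup S}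
    (hA : A ∈ maxElementaryAbelianSubgroups p S) :
    A.map φ.toMonoidHom ∈ maxElementaryAbelianSubgroups p S := by
  obtain ⟨⟨hc, hexp⟩, hmax⟩ := hA
  refine ⟨⟨Subgroup.map_isMulCommutative A _, ?_⟩, ?_⟩
  · rintro _ ⟨a, ha, rfl⟩
    rw [← map_pow, hexp a ha, map_one]
  · intro B hB
    rw [Subgroup.card_map_of_injective φ.injective]
    exact hmax B hB

theorem thompson_map_equiv [Finite S] (p : ℕ) (φ : S ≃* S) :
    (thompsonSubgroup p S).map φ.toMonoidHom = thompsonSubgroup p S := by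
  have key : ∀ ψ : S ≃* S, (thompsonSubgroup p S).map ψ.toMonoidHom ≤ thompsonSubgroup p S := by
    intro ψ
    rw [Subgroup.map_le_iff_le_comap]
    apply sSup_le
    intro A hA
    rw [← Subgroup.map_le_iff_le_comap]
    exact le_thompson (map_equiv_mem ψ hA)
  apply le_antisymm (key φ)
  have h1 := Subgroup.map_mono (f := φ.toMonoidHom) (key φ.symm)
  rwa [Subgroup.map_map, show φ.toMonoidHom.comp φ.symm.toMonoidHom = MonoidHom.id S from by
      ext x; simp, Subgroup.map_id] at h1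

theorem Zc_map_equiv [Finite S] (p : ℕ) (φ : S ≃* S) :
    (Zc p S).map φ.toMonoidHom = Zc p S := by
  have key : ∀ ψ : S ≃* S, (Zc p S).map ψ.toMonoidHom ≤ Zc p S := by
    intro ψ
    rintro _ ⟨z, hz, rfl⟩
    obtain ⟨hz1, hz2⟩ := Subgroup.mem_inf.1 hz
    refine Subgroup.mem_inf.2 ⟨?_, ?_⟩
    · rw [← thompson_map_equiv p ψ]; exact Subgroup.mem_map_of_mem _ hz1
    · rw [Subgroup.mem_centralizer_iff] at hz2 ⊢
      intro y hy
      have hy' : y ∈ (thompsonSubgroup p S).map ψ.toMonoidHom := by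
        rw [thompson_map_equiv p ψ]; exact hy
      obtain ⟨j, hj, rfl⟩ := hy'
      simp only [MulEquiv.coe_toMonoidHom, ← map_mul, hz2 j hj]
  apply le_antisymm (key φ)
  have h1 := Subgroup.map_mono (f := φ.toMonoidHom) (key φ.symm)
  rwa [Subgroup.map_map, show φ.toMonoidHom.comp φ.symm.toMonoidHom = MonoidHom.id S from by
      ext x; simp, Subgroup.map_id] at h1

instance Zc_normal [Finite S] (p : ℕ) : (Zc p S).Normal := by
  constructor
  intro z hz g
  have := Zc_map_equiv p (MulAut.conj g)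
  rw [← this]
  exact ⟨z, hz, by simp⟩

/-- An element of order `p` commuting with a member lies in it. -/
theorem mem_of_comm_of_pow [Finite S] {p : ℕ} {A : Subgroup S}
    (hA : A ∈ maxElementaryAbelianSubgroups p S) {x : S}
    (hx : x ^ p = 1) (hc : ∀ a ∈ A, a * x = x * a) : x ∈ A := by
  obtain ⟨⟨hAc, hAexp⟩, hmax⟩ := hA
  have hcomm : IsMulCommutative (A ⊔ Subgroup.zpowers x : Subgroup S) := by
    apply Cfsg.Agent.Helper4.ZJ.sup_comm_of A (Subgroup.zpowers x)
      (fun u hu v hv => congrArg Subtype.val (hAc.is_comm.comm ⟨u, hu⟩ ⟨v, hv⟩))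
    · intro u hu v hv
      rw [Subgroup.mem_zpowers_iff] at hu hv
      obtain ⟨i, rfl⟩ := hu
      obtain ⟨j, rfl⟩ := hv
      exact (((Commute.refl x).zpow_left i).zpow_right j).eq
    · intro a ha v hv
      rw [Subgroup.mem_zpowers_iff] at hv
      obtain ⟨j, rfl⟩ := hv
      have : Commute a x := hc a ha
      exact (this.zpow_right j).eq
  have hexp : ∀ y ∈ A ⊔ Subgroup.zpowers x, y ^ p = 1 := by
    apply Cfsg.Agent.Helper4.ZJ.pow_eq_one_of_sup A (Subgroup.zpowers x) hcomm p hAexp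
    intro z hz
    rw [Subgroup.mem_zpowers_iff] at hz
    obtain ⟨j, rfl⟩ := hz
    rw [← zpow_natCast, ← zpow_mul, mul_comm, zpow_mul, zpow_natCast, hx, one_zpow]
  have hcard := hmax _ ⟨hcomm, hexp⟩
  have heq : A = A ⊔ Subgroup.zpowers x := Subgroup.eq_of_le_of_card_ge le_sup_left hcard
  rw [heq]
  exact Subgroup.mem_sup_right (Subgroup.mem_zpowers x)

end Cfsg.Agent.Helper16.ZJE
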