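import Mathlib
import Cfsg.Agent.Lib.Helper16.ZJEa

set_option autoImplicit false
open scoped commutatorElement

/-! Replacement for the family `A Z(J(S))`, `A` elementary abelian of largest order. -/

namespace Cfsg.Agent.Helper16.ZJE

open Cfsg Cfsg.Agent.Helper4.GR

variable {S : Type*} [Group S]

theorem card_sup_mul_card_inf [Finite S] (H K : Subgroup S) [K.Normal] :
    Nat.card (H ⊔ K : Subgroup S) * Nat.card (H ⊓ K : Subgroup S) =
      Nat.card H * Nat.card K := by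
  have h1 := Subgroup.relIndex_mul_relIndex (H := ⊥) (K := K) (L := H ⊔ K) bot_le le_sup_right
  have h2 := Subgroup.relIndex_mul_relIndex (H := ⊥) (K := K ⊓ H) (L := H) bot_le inf_le_right
  rw [Subgroup.relIndex_bot_left, Subgroup.relIndex_bot_left, Subgroup.relIndex_sup_right] at h1
  rw [Subgroup.relIndex_bot_left, Subgroup.relIndex_bot_left, Subgroup.inf_relIndex_right] at h2
  rw [inf_comm, ← h1, ← h2]; ring

/-- elements of order dividing `n` in a commutative subgroup -/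
def omegaSub (n : ℕ) (D : Subgroup S) (hD : ∀ x ∈ D, ∀ y ∈ D, x * y = y * x) : Subgroup S where
  carrier := {x | x ∈ D ∧ x ^ n = 1}
  one_mem' := ⟨D.one_mem, one_pow n⟩
  mul_mem' := by
    rintro x y ⟨hx, hx2⟩ ⟨hy, hy2⟩
    refine ⟨D.mul_mem hx hy, ?_⟩
    have : Commute x y := hD x hx y hy
    rw [this.mul_pow, hx2, hy2, one_mul]
  inv_mem' := by
    rintro x ⟨hx, hx2⟩
    exact ⟨D.inv_mem hx, by rw [inv_pow, hx2, inv_one]⟩

theorem mem_omegaSub {n : ℕ} {D : Subgroup S} {hD : ∀ x ∈ D, ∀ y ∈ D, x * y = y * x} {x : S} :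
    x ∈ omegaSub n D hD ↔ x ∈ D ∧ x ^ n = 1 := Iff.rfl

/-- the abelian group `A Z(J)` -/
def DD (p : ℕ) (A : Subgroup S) : Subgroup S := A ⊔ Zc p S

section

variable [Finite S] {p : ℕ}

theorem mem_DD {A : Subgroup S} {x : S} :
    x ∈ DD p A ↔ ∃ a ∈ A, ∃ z ∈ Zc p S, a * z = x :=
  Subgroup.mem_sup_of_normal_right

theorem DD_comm {A : Subgroup S} (hA : A ∈ maxElementaryAbelianSubgroups p S) :
    ∀ x ∈ DD p A, ∀ y ∈ DD p A, x * y = y * x := by
  have h := Cfsg.Agent.Helper4.ZJ.sup_comm_of A (Zc p S) (comm_of_mem hA) (Zc_comm p)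
    (fun a ha z hz => Zc_comm_mem hA hz ha)
  intro x hx y hy
  exact congrArg Subtype.val (h.is_comm.comm ⟨x, hx⟩ ⟨y, hy⟩)

theorem mem_of_mem_DD_of_pow {A : Subgroup S} (hA : A ∈ maxElementaryAbelianSubgroups p S)
    {x : S} (hx : x ∈ DD p A) (hxp : x ^ p = 1) : x ∈ A :=
  mem_of_comm_of_pow hA hxp (fun a ha => DD_comm hA a (Subgroup.mem_sup_left ha) x hx)

theorem maxEl_nonempty (p : ℕ) : (maxElementaryAbelianSubgroups p S).Nonempty := by
  let T : Set (Subgroup S) := {A | IsElementaryAbelian p A}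
  have hTne : T.Nonempty := ⟨⊥, inferInstance, fun a ha => by
    rw [Subgroup.mem_bot] at ha; rw [ha, one_pow]⟩
  obtain ⟨A, hAc, hmax⟩ := Set.exists_max_image T (fun A => Nat.card A) (Set.toFinite _) hTne
  exact ⟨A, hAc, fun B hB => hmax B hB⟩

end

section step

variable [Finite S] {p : ℕ} [hpp : Fact p.Prime]

/-- `[a, b⁻¹]` has order dividing `p`. -/
theorem g_pow_eq_one (hp : p ≠ 2) {D B : Subgroup S} {b : S} (h : Hyp D B b) {a : S}
    (haD : a ∈ D) (hap : a ^ p = 1) : (g b a) ^ p = 1 := by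
  have hodd : Odd p := hpp.out.odd_of_ne_two hp
  rw [Hyp.g_eq]
  have hy := Hyp.y_mem_Ab (b := b) haD
  set y := b⁻¹ * a⁻¹ * b with hy_def
  have hk : a⁻¹ * y * a⁻¹⁻¹ * y⁻¹ ∈ C D b := h.comm_A_Ab_mem_C (D.inv_mem haD) hy
  rw [inv_inv] at hk
  have hky := h.C_comm_Ab hk hy
  have hεe : y⁻¹ * a⁻¹ * y * a = a⁻¹ * y * a * y⁻¹ := by
    calc y⁻¹ * a⁻¹ * y * a = y⁻¹ * ((a⁻¹ * y * a * y⁻¹) * y) := by group
      _ = y⁻¹ * (y * (a⁻¹ * y * a * y⁻¹)) := by rw [hky]
      _ = a⁻¹ * y * a * y⁻¹ := by group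
  have hεC : y⁻¹ * a⁻¹ * y * a ∈ C D b := by rw [hεe]; exact hk
  set ε := y⁻¹ * a⁻¹ * y * a with hε_def
  have h1 : y * a = a * y * ε := by rw [hε_def]; group
  have hεa : Commute ε a := h.C_comm_A hεC haD
  have hεy : Commute ε y := h.C_comm_Ab hεC hy
  have hpow := Cfsg.Agent.Helper16.mul_pow_of_class_two h1 hεa hεy p
  have hye : y ^ p = 1 := by
    have h3 : (b⁻¹ * a⁻¹ * b) ^ p = b⁻¹ * (a⁻¹) ^ p * b := by
      have := conj_pow (a := b⁻¹) (b := a⁻¹) (i := p)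
      rw [inv_inv] at this
      exact this
    rw [hy_def, h3, inv_pow, hap]; group
  -- ε ^ p = 1
  have hεp : ε ^ p = 1 := by
    have h2 : a⁻¹ * y * a = y * ε := by rw [hε_def]; group
    have h3 : (a⁻¹ * y * a) ^ p = 1 := by
      have := conj_pow (a := a⁻¹) (b := y) (i := p)
      rw [inv_inv] at this
      rw [this, hye]; group
    rw [h2, hεy.symm.mul_pow, hye, one_mul] at h3
    exact h3
  rw [hpow, hap, hye, one_mul, one_mul]
  obtain ⟨t, ht⟩ := hodd
  have h4 : p * (p - 1) / 2 = p * t := by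
    have : p - 1 = 2 * t := by omega
    rw [this, ← mul_assoc, mul_comm p 2, mul_assoc, Nat.mul_div_cancel_left _ (by norm_num)]
  rw [h4, pow_mul, hεp, one_pow]

end step

end Cfsg.Agent.Helper16.ZJE
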