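import Mathlib
import Cfsg.Agent.Lib.Helper16.ZJEb

set_option autoImplicit false
open scoped commutatorElement

/-! Replacement for the family `A Z(J(S))`: the main step and its iteration. -/

namespace Cfsg.Agent.Helper16.ZJE

open Cfsg Cfsg.Agent.Helper4.GR

variable {S : Type*} [Group S] [Finite S] {p : ℕ} [hpp : Fact p.Prime]

theorem repl_step (hS : IsPGroup p S) (hp : p ≠ 2) (B : Subgroup S) [B.Normal]
    (hBZ : ⁅B, B⁆ ≤ Zc p S) {A : Subgroup S} (hA : A ∈ maxElementaryAbelianSubgroups p S)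
    (hnot : ¬ B ≤ Subgroup.normalizer (DD p A : Set S)) :
    ∃ A' ∈ maxElementaryAbelianSubgroups p S, DD p A ⊓ B < DD p A' ⊓ B := by
  have : Group.IsNilpotent S := hS.isNilpotent
  obtain ⟨b, hbB, hbN, hbA⟩ :=
    exists_mem_normalizer_not_mem B (Subgroup.normalizer (DD p A : Set S)) hnot
  have hDc : IsMulCommutative (DD p A) :=
    ⟨⟨fun x y => Subtype.ext (DD_comm hA x x.2 y y.2)⟩⟩
  have hBD : ⁅B, B⁆ ≤ DD p A := hBZ.trans le_sup_right
  have hres := Cfsg.Agent.S0650.result hS B (fun h => absurd h hp) (DD p A) hDc hBD hnot b hbB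
    hbN hbA
  obtain ⟨hcard, hcommI, -, hlt, -⟩ := hres
  have hE : ((DD p A ⊓ (DD p A).map (MulAut.conj (b⁻¹)).toMonoidHom) ⊔
      Subgroup.closure {g : S | ∃ a ∈ DD p A, g = a * b⁻¹ * a⁻¹ * b}) = Astar (DD p A) b := rfl
  rw [hE] at hcard hcommI hlt
  have h : Hyp (DD p A) B b :=
    { Bn := inferInstance
      Acomm := DD_comm hA
      BA := by
        intro x hx y hy
        have := hBD (Subgroup.commutator_mem_commutator hx hy)
        rwa [commutatorElement_def] at this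
      hb := hbB
      hbN := Subgroup.mem_normalizer_iff.1 hbN }
  have hcomm : ∀ x ∈ Astar (DD p A) b, ∀ y ∈ Astar (DD p A) b, x * y = y * x := by
    intro x hx y hy
    exact congrArg Subtype.val (hcommI.is_comm.comm ⟨x, hx⟩ ⟨y, hy⟩)
  set A' := omegaSub p (Astar (DD p A) b) hcomm with hA'
  have hZn : (Zc p S).Normal := Zc_normal p
  -- `Z ≤ D*`
  have hZstar : Zc p S ≤ Astar (DD p A) b := by
    intro z hz
    apply Subgroup.mem_sup_left
    rw [mem_C]
    exact ⟨Subgroup.mem_sup_right hz, Subgroup.mem_sup_right (hZn.conj_mem z hz b)⟩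
  have hA'le : A' ≤ Astar (DD p A) b := fun x hx => hx.1
  have hAb : Ab A b ∈ maxElementaryAbelianSubgroups p S := map_equiv_mem (MulAut.conj b⁻¹) hA
  -- `D* = A' Z`
  have hDstar : Astar (DD p A) b = DD p A' := by
    apply le_antisymm
    · unfold Astar
      apply sup_le
      · intro x hx
        obtain ⟨hxD, hxD'⟩ := mem_C.1 hx
        obtain ⟨a, ha, z, hz, rfl⟩ := mem_DD.1 hxD
        obtain ⟨a₁, ha₁, z₁, hz₁, he⟩ := mem_DD.1 hxD'
        have hbz : b * z * b⁻¹ ∈ Zc p S := hZn.conj_mem z hz b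
        set z₂ := z₁ * (b * z * b⁻¹)⁻¹ with hz₂
        have hz₂Z : z₂ ∈ Zc p S := Subgroup.mul_mem _ hz₁ (Subgroup.inv_mem _ hbz)
        have hw : b * a * b⁻¹ = a₁ * z₂ := by
          have : b * (a * z) * b⁻¹ = (b * a * b⁻¹) * (b * z * b⁻¹) := by group
          rw [this] at he
          rw [hz₂, ← mul_assoc, he]; group
        have hwp : (b * a * b⁻¹) ^ p = 1 := by
          rw [conj_pow, hA.1.2 a ha]; group
        have hcz : Commute a₁ z₂ := Zc_comm_mem hA hz₂Z ha₁
        have hz₂p : z₂ ^ p = 1 := by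
          rw [hw, hcz.mul_pow, hA.1.2 a₁ ha₁, one_mul] at hwp
          exact hwp
        have hz₂A : z₂ ∈ A :=
          mem_of_comm_of_pow hA hz₂p (fun a' ha' => Zc_comm_mem hA hz₂Z ha')
        have hwA : b * a * b⁻¹ ∈ A := by rw [hw]; exact A.mul_mem ha₁ hz₂A
        have haC : a ∈ C (DD p A) b :=
          mem_C.2 ⟨Subgroup.mem_sup_left ha, Subgroup.mem_sup_left hwA⟩
        have haA' : a ∈ A' := ⟨Subgroup.mem_sup_left haC, hA.1.2 a ha⟩
        exact Subgroup.mul_mem _ (Subgroup.mem_sup_left haA') (Subgroup.mem_sup_right hz)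
      · unfold L
        rw [Subgroup.closure_le]
        rintro x ⟨d, hd, rfl⟩
        obtain ⟨a, ha, z, hz, rfl⟩ := mem_DD.1 hd
        have hgz : g b z ∈ Zc p S := by
          rw [Hyp.g_eq]
          refine Subgroup.mul_mem _ hz ?_
          have := hZn.conj_mem z⁻¹ (Subgroup.inv_mem _ hz) b⁻¹
          rwa [inv_inv] at this
        have hy : b⁻¹ * a⁻¹ * b ∈ Ab A b := Hyp.y_mem_Ab ha
        have hcy : Commute (b⁻¹ * a⁻¹ * b) (g b z) := Zc_comm_mem hAb hgz hy
        have hmul : a * z * b⁻¹ * (a * z)⁻¹ * b = g b a * g b z := by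
          have e1 : a * z * b⁻¹ * (a * z)⁻¹ * b = a * (g b z * (b⁻¹ * a⁻¹ * b)) := by
            unfold g; group
          rw [e1, ← hcy.eq, Hyp.g_eq a]; group
        rw [hmul]
        have hgaD : g b a ∈ Astar (DD p A) b :=
          Subgroup.mem_sup_right (Hyp.g_mem_L (Subgroup.mem_sup_left ha))
        have hgap : g b a ^ p = 1 := g_pow_eq_one hp h (Subgroup.mem_sup_left ha) (hA.1.2 a ha)
        have hgaA' : g b a ∈ A' := ⟨hgaD, hgap⟩
        exact Subgroup.mul_mem _ (Subgroup.mem_sup_left hgaA') (Subgroup.mem_sup_right hgz)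
    · exact sup_le hA'le hZstar
  -- `A ∩ Z = A' ∩ Z`
  have hinf : A ⊓ Zc p S = A' ⊓ Zc p S := by
    ext x
    rw [Subgroup.mem_inf, Subgroup.mem_inf]
    constructor
    · rintro ⟨hxA, hxZ⟩
      exact ⟨⟨hZstar hxZ, hA.1.2 x hxA⟩, hxZ⟩
    · rintro ⟨hxA', hxZ⟩
      exact ⟨mem_of_comm_of_pow hA hxA'.2 (fun a' ha' => Zc_comm_mem hA hxZ ha'), hxZ⟩
  have hcardA : Nat.card A' = Nat.card A := by
    have h1 := card_sup_mul_card_inf A (Zc p S)
    have h2 := card_sup_mul_card_inf A' (Zc p S)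
    have h3 : Nat.card (A' ⊔ Zc p S : Subgroup S) = Nat.card (A ⊔ Zc p S : Subgroup S) := by
      have : (A' ⊔ Zc p S : Subgroup S) = Astar (DD p A) b := hDstar.symm
      rw [this, hcard]; rfl
    rw [h3, ← hinf, h1] at h2
    have hpos : 0 < Nat.card (Zc p S) := Nat.card_pos
    exact (Nat.eq_of_mul_eq_mul_right hpos h2).symm
  have hA'mem : A' ∈ maxElementaryAbelianSubgroups p S := by
    refine ⟨⟨⟨⟨fun x y => Subtype.ext (hcomm x (hA'le x.2) y (hA'le y.2))⟩⟩, fun x hx => hx.2⟩, ?_⟩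
    intro B' hB'
    rw [hcardA]
    exact hA.2 B' hB'
  refine ⟨A', hA'mem, ?_⟩
  rw [← hDstar]
  exact hlt

theorem card_lt_of_lt' {H K : Subgroup S} (h : H < K) : Nat.card H < Nat.card K := by
  rcases (Subgroup.card_le_of_le h.le).lt_or_eq with h4 | h4
  · exact h4
  · exfalso
    exact h.ne (Subgroup.eq_of_le_of_card_ge h.le h4.symm.le)

/-- **Replacement**: a normal subgroup `B` with `[B, B] ≤ Z(J(S))` normalizes an elementary
abelian subgroup of largest order (`p` odd). -/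
theorem exists_normalized (hS : IsPGroup p S) (hp : p ≠ 2) (B : Subgroup S) [B.Normal]
    (hBZ : ⁅B, B⁆ ≤ Zc p S) :
    ∃ A ∈ maxElementaryAbelianSubgroups p S, B ≤ Subgroup.normalizer (A : Set S) := by
  obtain ⟨A, hA, hmax⟩ := Set.exists_max_image (maxElementaryAbelianSubgroups p S)
    (fun A => Nat.card ↥(DD p A ⊓ B)) (Set.toFinite _) (maxEl_nonempty p)
  refine ⟨A, hA, ?_⟩
  have hBD : B ≤ Subgroup.normalizer (DD p A : Set S) := by
    by_contra hnot
    obtain ⟨A', hA', hlt⟩ := repl_step hS hp B hBZ hA hnot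
    have h1 := hmax A' hA'
    have h2 := card_lt_of_lt' hlt
    omega
  have key : ∀ x ∈ B, ∀ a ∈ A, x * a * x⁻¹ ∈ A := by
    intro x hx a ha
    have hxn := hBD hx
    rw [Subgroup.mem_normalizer_iff] at hxn
    have h1 : x * a * x⁻¹ ∈ DD p A := (hxn a).1 (Subgroup.mem_sup_left ha)
    apply mem_of_mem_DD_of_pow hA h1
    rw [conj_pow, hA.1.2 a ha]; group
  intro x hx
  rw [Subgroup.mem_normalizer_iff]
  intro a
  refine ⟨key x hx a, fun ha => ?_⟩
  have := key x⁻¹ (B.inv_mem hx) _ ha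
  have e : x⁻¹ * (x * a * x⁻¹) * x⁻¹⁻¹ = a := by group
  rwa [e] at this

end Cfsg.Agent.Helper16.ZJE
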