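import Mathlib
import Cfsg.Agent.Lib.Helper16.ZJEc

set_option autoImplicit false
open scoped commutatorElement

/-! Thompson replacement for elementary abelian subgroups of largest order (`p` odd), and a
lemma on coprime action on class two groups. -/

namespace Cfsg.Agent.Helper16.ZJE

open Cfsg Cfsg.Agent.Helper4.GR

section thompson

variable {S : Type*} [Group S] [Finite S] {p : ℕ} [hpp : Fact p.Prime]

theorem thompson_repl (hS : IsPGroup p S) (hp : p ≠ 2) (V : Subgroup S) [V.Normal]
    (hVc : ∀ x ∈ V, ∀ y ∈ V, x * y = y * x) {A : Subgroup S}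
    (hA : A ∈ maxElementaryAbelianSubgroups p S)
    (hnot : ¬ V ≤ Subgroup.normalizer (A : Set S)) :
    ∃ A' ∈ maxElementaryAbelianSubgroups p S, A ⊓ V < A' ⊓ V ∧
      A' ≤ Subgroup.normalizer (A : Set S) := by
  have : Group.IsNilpotent S := hS.isNilpotent
  obtain ⟨b, hbV, hbN, hbA⟩ :=
    exists_mem_normalizer_not_mem V (Subgroup.normalizer (A : Set S)) hnot
  have hVV : ⁅V, V⁆ ≤ A := by
    have : ⁅V, V⁆ = ⊥ := by
      rw [Subgroup.commutator_eq_bot_iff_le_centralizer]
      intro x hx
      rw [Subgroup.mem_centralizer_iff]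
      intro y hy
      exact hVc y hy x hx
    rw [this]; exact bot_le
  have hres := Cfsg.Agent.S0650.result hS V (fun h => absurd h hp) A hA.1.1 hVV hnot b hbV
    hbN hbA
  obtain ⟨hcard, hcommI, -, hlt, -, -, hN, -, -, hexp⟩ := hres
  have hE : ((A ⊓ A.map (MulAut.conj (b⁻¹)).toMonoidHom) ⊔
      Subgroup.closure {g : S | ∃ a ∈ A, g = a * b⁻¹ * a⁻¹ * b}) = Astar A b := rfl
  rw [hE] at hcard hcommI hlt hN hexp
  refine ⟨Astar A b, ⟨⟨hcommI, ?_⟩, ?_⟩, hlt, hN⟩
  · intro x hx
    have h1 : Monoid.exponent ↥A ∣ p := by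
      apply Monoid.exponent_dvd_of_forall_pow_eq_one
      intro a
      apply Subtype.ext
      rw [Subgroup.coe_pow]
      exact hA.1.2 a a.2
    have h2 : Monoid.exponent ↥(Astar A b) ∣ p := (hexp hp).trans h1
    have h3 : (⟨x, hx⟩ : ↥(Astar A b)) ^ p = 1 := by
      obtain ⟨k, hk⟩ := h2
      rw [hk, pow_mul, Monoid.pow_exponent_eq_one, one_pow]
    have := congrArg Subtype.val h3
    simpa using this
  · intro B' hB'
    rw [hcard]
    exact hA.2 B' hB'

end thompson

section coprime

variable {G : Type*} [Group G]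

/-- A `p'`-element normalizing a `p`-group `B` of class at most two (`p` odd) and centralizing
all elements of order `p` of `B` centralizes `B`. -/
theorem centralizes_of_centralizes_omega {p : ℕ} [hpp : Fact p.Prime] (hp : p ≠ 2)
    (B : Subgroup G) (hBp : IsPGroup p B)
    (hcl : ∀ x ∈ B, ∀ y ∈ B, ∀ z ∈ B, (x * y * x⁻¹ * y⁻¹) * z = z * (x * y * x⁻¹ * y⁻¹))
    (g : G) (hgB : ∀ x ∈ B, g * x * g⁻¹ ∈ B) (hg : (orderOf g).Coprime p)
    (hΩ : ∀ x ∈ B, x ^ p = 1 → g * x * g⁻¹ = x) :
    ∀ x ∈ B, g * x * g⁻¹ = x := by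
  have hodd : Odd p := hpp.out.odd_of_ne_two hp
  have key : ∀ k : ℕ, ∀ x ∈ B, x ^ p ^ k = 1 → g * x * g⁻¹ = x := by
    intro k
    induction k with
    | zero =>
      intro x _ hx
      rw [pow_zero, pow_one] at hx
      rw [hx]; group
    | succ k ih =>
      intro x hxB hx
      have hxp : g * x ^ p * g⁻¹ = x ^ p := by
        apply ih _ (B.pow_mem hxB p)
        rw [← pow_mul, ← pow_succ']; exact hx
      -- c = x⁻¹ (g x g⁻¹)
      set c := x⁻¹ * (g * x * g⁻¹) with hc
      have hcB : c ∈ B := B.mul_mem (B.inv_mem hxB) (hgB x hxB)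
      have hxc : g * x * g⁻¹ = x * c := by rw [hc]; group
      -- ε = c⁻¹ x⁻¹ c x
      set ε := c⁻¹ * x⁻¹ * c * x with hε
      have hεB : ε ∈ B := B.mul_mem (B.mul_mem (B.mul_mem (B.inv_mem hcB) (B.inv_mem hxB)) hcB) hxB
      have hεcomm : ∀ z ∈ B, ε * z = z * ε := by
        intro z hz
        have := hcl c⁻¹ (B.inv_mem hcB) x⁻¹ (B.inv_mem hxB) z hz
        rw [inv_inv, inv_inv] at this
        exact this
      have h1 : c * x = x * c * ε := by rw [hε]; group
      have hpow := Cfsg.Agent.Helper16.mul_pow_of_class_two h1 (hεcomm x hxB) (hεcomm c hcB) p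
      have h2 : (x * c) ^ p = x ^ p := by
        rw [← hxc, conj_pow, hxp]
      rw [h2] at hpow
      -- c^p = ε^(-...)
      have h3 : c ^ p * ε ^ (p * (p - 1) / 2) = 1 := by
        have : x ^ p = x ^ p * (c ^ p * ε ^ (p * (p - 1) / 2)) := by
          rw [← mul_assoc]; exact hpow
        exact (mul_eq_left.mp this.symm)
      have hεpowcomm : ∀ m : ℕ, ∀ z ∈ B, ε ^ m * z = z * ε ^ m := by
        intro m z hz
        have : Commute ε z := hεcomm z hz
        exact (this.pow_left m).eq
      -- c^p is central in B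
      have hcpc : ∀ z ∈ B, c ^ p * z = z * c ^ p := by
        intro z hz
        have e : c ^ p = (ε ^ (p * (p - 1) / 2))⁻¹ := eq_inv_of_mul_eq_one_left h3
        rw [e]
        have := hεpowcomm (p * (p - 1) / 2) z hz
        have hc' : Commute (ε ^ (p * (p - 1) / 2)) z := this
        exact hc'.inv_left.eq
      -- ε^p = 1
      have hcm : ∀ m : ℕ, c ^ m * x = x * c ^ m * ε ^ m := by
        intro m
        induction m with
        | zero => simp
        | succ m ihm =>
          have hεm : Commute (ε ^ m) c := (show Commute ε c from hεcomm c hcB).pow_left m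
          calc c ^ (m + 1) * x = c ^ m * (c * x) := by rw [pow_succ]; group
            _ = c ^ m * (x * c * ε) := by rw [h1]
            _ = (c ^ m * x) * c * ε := by group
            _ = (x * c ^ m * ε ^ m) * c * ε := by rw [ihm]
            _ = x * c ^ m * (ε ^ m * c) * ε := by group
            _ = x * c ^ m * (c * ε ^ m) * ε := by rw [hεm.eq]
            _ = x * c ^ (m + 1) * ε ^ (m + 1) := by rw [pow_succ, pow_succ]; group
      have hεp : ε ^ p = 1 := by
        have h4 := hcm p
        rw [hcpc x hxB] at h4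
        exact (mul_eq_left.mp h4.symm)
      obtain ⟨t, ht⟩ := hodd
      have h5 : p * (p - 1) / 2 = p * t := by
        have : p - 1 = 2 * t := by omega
        rw [this, ← mul_assoc, mul_comm p 2, mul_assoc, Nat.mul_div_cancel_left _ (by norm_num)]
      rw [h5, pow_mul, hεp, one_pow, mul_one] at h3
      -- g centralizes c
      have hgc : g * c * g⁻¹ = c := hΩ c hcB h3
      -- g^n x g^-n = x c^n
      have hgn : ∀ n : ℕ, g ^ n * x * (g ^ n)⁻¹ = x * c ^ n := by
        intro n
        induction n with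
        | zero => simp
        | succ n ihn =>
          have hgcn : g * c ^ n * g⁻¹ = c ^ n := by
            rw [← conj_pow, hgc]
          calc g ^ (n + 1) * x * (g ^ (n + 1))⁻¹ = g * (g ^ n * x * (g ^ n)⁻¹) * g⁻¹ := by
                rw [pow_succ']; group
            _ = g * (x * c ^ n) * g⁻¹ := by rw [ihn]
            _ = (g * x * g⁻¹) * (g * c ^ n * g⁻¹) := by group
            _ = x * c * c ^ n := by rw [hxc, hgcn]
            _ = x * c ^ (n + 1) := by rw [pow_succ']; group
      have h6 := hgn (orderOf g)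
      rw [pow_orderOf_eq_one] at h6
      have h7 : c ^ orderOf g = 1 := by
        have : x = x * c ^ orderOf g := by simpa using h6
        exact (mul_eq_left.mp this.symm)
      have h8 : orderOf c ∣ orderOf g := orderOf_dvd_of_pow_eq_one h7
      have h9 : orderOf c ∣ p := orderOf_dvd_of_pow_eq_one h3
      have h10 : orderOf c = 1 := Nat.eq_one_of_dvd_coprimes hg h8 h9
      have hc1 : c = 1 := orderOf_eq_one_iff.1 h10
      rw [hxc, hc1, mul_one]
  intro x hx
  obtain ⟨k, hk⟩ := hBp ⟨x, hx⟩
  apply key k x hx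
  have := congrArg Subtype.val hk
  simpa using this

end coprime

end Cfsg.Agent.Helper16.ZJE
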