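import Mathlib
import Cfsg.Agent.Lib.Helper16.ZJEd

set_option autoImplicit false
open scoped commutatorElement

/-! Transport of the `p`-group level replacement lemmas to subgroups of an ambient group. -/

namespace Cfsg.Agent.Helper16.ZJE

open Cfsg Cfsg.Agent.Helper4.GR Cfsg.Agent.Helper4.ZJ

variable {G : Type*} [Group G]

theorem centerThompsonOf_eq_map (p : ℕ) (P : Subgroup G) :
    centerThompsonOf p P = (Zc p ↥P).map P.subtype := by
  unfold centerThompsonOf thompsonSubgroupOf Zc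
  ext y
  constructor
  · rintro ⟨⟨x, hxJ, rfl⟩, hyC⟩
    refine ⟨x, Subgroup.mem_inf.2 ⟨hxJ, ?_⟩, rfl⟩
    have hyC' : P.subtype x ∈ Subgroup.centralizer
        ((Subgroup.map P.subtype (thompsonSubgroup p ↥P) : Subgroup G) : Set G) := hyC
    rw [Subgroup.mem_centralizer_iff] at hyC'
    rw [Subgroup.mem_centralizer_iff]
    intro j hj
    apply Subtype.ext
    exact hyC' _ ⟨j, hj, rfl⟩
  · rintro ⟨x, hx, rfl⟩
    obtain ⟨hxJ, hxC⟩ := Subgroup.mem_inf.1 hx
    refine Subgroup.mem_inf.2 ⟨⟨x, hxJ, rfl⟩, ?_⟩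
    rw [Subgroup.mem_centralizer_iff] at hxC ⊢
    rintro _ ⟨j, hj, rfl⟩
    exact congrArg Subtype.val (hxC j hj)

section

variable [Finite G] {p : ℕ} [hpp : Fact p.Prime]

/-- replacement, inside an ambient group -/
theorem exists_normalized_G (hp : p ≠ 2) {P B : Subgroup G} (hP : IsPGroup p P) (hBP : B ≤ P)
    (hPB : P ≤ Subgroup.normalizer (B : Set G)) (hBZ : ⁅B, B⁆ ≤ centerThompsonOf p P) :
    ∃ A ∈ famE p P, B ≤ Subgroup.normalizer (A : Set G) := by
  have : (B.subgroupOf P).Normal := Subgroup.normal_subgroupOf_of_le_normalizer hPB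
  have hBZ' : ⁅B.subgroupOf P, B.subgroupOf P⁆ ≤ Zc p ↥P := by
    rw [Subgroup.commutator_le]
    intro x hx y hy
    have h1 : ((⁅x, y⁆ : ↥P) : G) ∈ centerThompsonOf p P := by
      apply hBZ
      have : ((⁅x, y⁆ : ↥P) : G) = ⁅(x : G), (y : G)⁆ := by
        simp [commutatorElement_def]
      rw [this]
      exact Subgroup.commutator_mem_commutator (Subgroup.mem_subgroupOf.1 hx)
        (Subgroup.mem_subgroupOf.1 hy)
    rw [centerThompsonOf_eq_map] at h1
    obtain ⟨z, hz, hze⟩ := h1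
    have : z = ⁅x, y⁆ := Subtype.ext hze
    rw [← this]; exact hz
  obtain ⟨A, hA, hBA⟩ := exists_normalized hP hp (B.subgroupOf P) hBZ'
  refine ⟨A.map P.subtype, ⟨A, hA, rfl⟩, ?_⟩
  intro b hb
  apply Subgroup.le_normalizer_map P.subtype
  exact ⟨⟨b, hBP hb⟩, hBA (Subgroup.mem_subgroupOf.2 hb), rfl⟩

/-- Thompson replacement, inside an ambient group -/
theorem thompson_repl_G (hp : p ≠ 2) {P V : Subgroup G} (hP : IsPGroup p P) (hVP : V ≤ P)
    (hPV : P ≤ Subgroup.normalizer (V : Set G)) (hVc : ∀ x ∈ V, ∀ y ∈ V, x * y = y * x)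
    {A : Subgroup G} (hA : A ∈ famE p P) (hnot : ¬ V ≤ Subgroup.normalizer (A : Set G)) :
    ∃ A' ∈ famE p P, A ⊓ V < A' ⊓ V ∧ A' ≤ Subgroup.normalizer (A : Set G) := by
  have : (V.subgroupOf P).Normal := Subgroup.normal_subgroupOf_of_le_normalizer hPV
  obtain ⟨A₀, hA₀, rfl⟩ := hA
  have hVc' : ∀ x ∈ V.subgroupOf P, ∀ y ∈ V.subgroupOf P, x * y = y * x := by
    intro x hx y hy
    apply Subtype.ext
    exact hVc _ (Subgroup.mem_subgroupOf.1 hx) _ (Subgroup.mem_subgroupOf.1 hy)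
  have hnot' : ¬ V.subgroupOf P ≤ Subgroup.normalizer (A₀ : Set ↥P) := by
    intro hle
    apply hnot
    intro v hv
    apply Subgroup.le_normalizer_map P.subtype
    exact ⟨⟨v, hVP hv⟩, hle (Subgroup.mem_subgroupOf.2 hv), rfl⟩
  obtain ⟨A', hA', hlt, hN⟩ := thompson_repl hP hp (V.subgroupOf P) hVc' hA₀ hnot'
  refine ⟨A'.map P.subtype, ⟨A', hA', rfl⟩, ?_, ?_⟩
  · have hinj := P.subtype_injective
    have h1 : ∀ X : Subgroup ↥P, X.map P.subtype ⊓ V = (X ⊓ V.subgroupOf P).map P.subtype := by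
      intro X
      rw [Subgroup.map_inf _ _ _ hinj, Subgroup.subgroupOf_map_subtype, inf_eq_left.2 hVP]
    rw [h1, h1]
    exact (Subgroup.map_lt_map_iff_of_injective hinj).2 hlt
  · intro x hx
    obtain ⟨x₀, hx₀, rfl⟩ := hx
    apply Subgroup.le_normalizer_map P.subtype
    exact ⟨x₀, hN hx₀, rfl⟩

omit hpp in
/-- an element of order `p` of `Q` commuting with a member of `famE p Q` lies in it -/
theorem mem_of_comm_G {Q A : Subgroup G} (hA : A ∈ famE p Q) {x : G} (hxQ : x ∈ Q)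
    (hxp : x ^ p = 1) (hc : ∀ a ∈ A, a * x = x * a) : x ∈ A := by
  obtain ⟨A₀, hA₀, rfl⟩ := hA
  have : (⟨x, hxQ⟩ : ↥Q) ∈ A₀ := by
    apply mem_of_comm_of_pow hA₀
    · apply Subtype.ext; simpa using hxp
    · intro a ha
      apply Subtype.ext
      exact hc _ ⟨a, ha, rfl⟩
  exact ⟨⟨x, hxQ⟩, this, rfl⟩

end

end Cfsg.Agent.Helper16.ZJE
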