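import Mathlib
import Cfsg.Agent.Lib.Helper4.ZJMap
import Cfsg.Agent.Lib.Helper4.ZJElementary

set_option autoImplicit false

/-! `Z(J_e(P))` (elementary abelian version, full centre) commutes with homomorphisms injective
on `P`; it is nontrivial for nontrivial `p`-groups. -/

namespace Cfsg.Agent.Helper16.ZJE

open Cfsg Cfsg.Agent.Helper4.ZJ

variable {G H : Type*} [Group G] [Group H] {p : ℕ}

theorem isEA_map (f : G →* H) {A : Subgroup G} (hA : IsElementaryAbelian p A) :
    IsElementaryAbelian p (A.map f) := by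
  have := hA.1
  refine ⟨Subgroup.map_isMulCommutative A _, ?_⟩
  rintro _ ⟨a, ha, rfl⟩
  rw [← map_pow, hA.2 a ha, map_one]

theorem isEA_of_map (f : G →* H) (P A : Subgroup G) (hf : Set.InjOn f P) (hAP : A ≤ P)
    (h : IsElementaryAbelian p (A.map f)) : IsElementaryAbelian p A := by
  refine ⟨comm_of_map_comm f P A hf hAP h.1, ?_⟩
  intro a ha
  apply hf (P.pow_mem (hAP ha) p) P.one_mem
  rw [map_pow, map_one]
  exact h.2 _ (Subgroup.mem_map_of_mem f ha)

variable [Finite G] [Finite H]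

theorem famE_map_of_injOn (f : G →* H) (P : Subgroup G) (hf : Set.InjOn f P) {A : Subgroup G}
    (hA : A ∈ famE p P) : A.map f ∈ famE p (P.map f) := by
  obtain ⟨hAP, hAc, hmax⟩ := mem_famE.1 hA
  refine mem_famE.2 ⟨Subgroup.map_mono hAP, isEA_map f hAc, ?_⟩
  intro B hBP hBc
  have h1 : (B.comap f ⊓ P).map f = B := map_comap_inf f P B hBP
  have h2 : IsElementaryAbelian p (B.comap f ⊓ P : Subgroup G) :=
    isEA_of_map f P _ hf inf_le_right (by rw [h1]; exact hBc)
  have h3 := hmax _ inf_le_right h2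
  rw [card_map_of_injOn f A (hf.mono hAP), ← h1,
    card_map_of_injOn f _ (hf.mono inf_le_right)]
  exact h3

theorem famE_comap_of_injOn (f : G →* H) (P : Subgroup G) (hf : Set.InjOn f P) {B : Subgroup H}
    (hB : B ∈ famE p (P.map f)) : (B.comap f ⊓ P) ∈ famE p P := by
  obtain ⟨hBP, hBc, hmax⟩ := mem_famE.1 hB
  have h1 : (B.comap f ⊓ P).map f = B := map_comap_inf f P B hBP
  refine mem_famE.2 ⟨inf_le_right,
    isEA_of_map f P _ hf inf_le_right (by rw [h1]; exact hBc), ?_⟩
  intro A' hA'P hA'c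
  have h2 := hmax (A'.map f) (Subgroup.map_mono hA'P) (isEA_map f hA'c)
  rw [card_map_of_injOn f A' (hf.mono hA'P), ← h1,
    card_map_of_injOn f _ (hf.mono inf_le_right)] at h2
  exact h2

theorem thompsonSubgroupOf_map_of_injOn (f : G →* H) (P : Subgroup G) (hf : Set.InjOn f P) :
    Cfsg.thompsonSubgroupOf p (P.map f) = (Cfsg.thompsonSubgroupOf p P).map f := by
  apply le_antisymm
  · apply thompsonSubgroupOf_le
    intro B hB
    have h1 : (B.comap f ⊓ P).map f = B := map_comap_inf f P B (mem_famE.1 hB).1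
    rw [← h1]
    exact Subgroup.map_mono (le_thompsonSubgroupOf (famE_comap_of_injOn f P hf hB))
  · rw [Subgroup.map_le_iff_le_comap]
    apply thompsonSubgroupOf_le
    intro A hA
    rw [← Subgroup.map_le_iff_le_comap]
    exact le_thompsonSubgroupOf (famE_map_of_injOn f P hf hA)

theorem centerThompsonOf_map_of_injOn (f : G →* H) (P : Subgroup G) (hf : Set.InjOn f P) :
    Cfsg.centerThompsonOf p (P.map f) = (Cfsg.centerThompsonOf p P).map f := by
  unfold Cfsg.centerThompsonOf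
  rw [thompsonSubgroupOf_map_of_injOn f P hf]
  have hJP := thompsonSubgroupOf_le_self (p := p) P
  ext y
  constructor
  · rintro ⟨⟨x, hx, rfl⟩, hy2⟩
    refine ⟨x, Subgroup.mem_inf.2 ⟨hx, ?_⟩, rfl⟩
    have hy2' : f x ∈ Subgroup.centralizer
        ((Subgroup.map f (Cfsg.thompsonSubgroupOf p P) : Subgroup H) : Set H) := hy2
    rw [Subgroup.mem_centralizer_iff] at hy2' ⊢
    intro j hj
    have := hy2' (f j) (Subgroup.mem_map_of_mem f hj)
    apply hf (P.mul_mem (hJP hj) (hJP hx)) (P.mul_mem (hJP hx) (hJP hj))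
    simpa using this
  · rintro ⟨x, hx, rfl⟩
    obtain ⟨hx1, hx2⟩ := Subgroup.mem_inf.1 hx
    refine Subgroup.mem_inf.2 ⟨Subgroup.mem_map_of_mem f hx1, ?_⟩
    show f x ∈ Subgroup.centralizer
        ((Subgroup.map f (Cfsg.thompsonSubgroupOf p P) : Subgroup H) : Set H)
    rw [Subgroup.mem_centralizer_iff] at hx2 ⊢
    rintro _ ⟨j, hj, rfl⟩
    rw [← map_mul, ← map_mul, hx2 j hj]

omit [Finite H] in
theorem centerThompsonOf_le_self (P : Subgroup G) : Cfsg.centerThompsonOf p P ≤ P :=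
  inf_le_left.trans (thompsonSubgroupOf_le_self P)

omit [Finite H] in
/-- `Z(J(R)) ≠ 1` for a nontrivial `p`-group `R`. -/
theorem centerThompsonOf_ne_bot [hpp : Fact p.Prime] (R : Subgroup G) (hR : IsPGroup p R)
    (hR1 : R ≠ ⊥) : Cfsg.centerThompsonOf p R ≠ ⊥ := by
  -- `J(R) ≠ 1`
  have hJ1 : Cfsg.thompsonSubgroupOf p R ≠ ⊥ := by
    intro hJ
    have hnt : Nontrivial ↥R := (Subgroup.nontrivial_iff_ne_bot R).mpr hR1
    obtain ⟨k, hk⟩ := hR.exists_card_eq
    have hk0 : k ≠ 0 := by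
      rintro rfl
      rw [pow_zero] at hk
      have := (Nat.card_eq_one_iff_unique.1 hk).1
      exact not_subsingleton ↥R this
    have hdvd : p ∣ Nat.card ↥R := by rw [hk]; exact dvd_pow_self p hk0
    obtain ⟨z, hz⟩ := exists_prime_orderOf_dvd_card' p hdvd
    have hzp : ((z : ↥R) : G) ^ p = 1 := by
      have : z ^ p = 1 := by rw [← hz]; exact pow_orderOf_eq_one z
      have := congrArg Subtype.val this
      simpa using this
    have hz1 : ((z : ↥R) : G) ≠ 1 := by
      intro h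
      have : z = 1 := Subtype.ext h
      rw [this, orderOf_one] at hz
      exact hpp.out.one_lt.ne hz
    obtain ⟨A, hA⟩ := famE_nonempty (p := p) R
    obtain ⟨hAR, hAe, hmax⟩ := mem_famE.1 hA
    have hEA : IsElementaryAbelian p (Subgroup.zpowers ((z : ↥R) : G)) := by
      refine ⟨inferInstance, ?_⟩
      intro w hw
      rw [Subgroup.mem_zpowers_iff] at hw
      obtain ⟨j, rfl⟩ := hw
      rw [← zpow_natCast, ← zpow_mul, mul_comm, zpow_mul, zpow_natCast, hzp, one_zpow]
    have h1 := hmax _ (Subgroup.zpowers_le.2 z.2) hEA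
    have hAJ : A ≤ Cfsg.thompsonSubgroupOf p R := le_thompsonSubgroupOf hA
    rw [hJ, le_bot_iff] at hAJ
    rw [hAJ, Subgroup.card_bot] at h1
    have h2 : Subgroup.zpowers ((z : ↥R) : G) = ⊥ := by
      rw [← Subgroup.card_eq_one]
      have : 0 < Nat.card ↥(Subgroup.zpowers ((z : ↥R) : G)) := Nat.card_pos
      omega
    rw [Subgroup.zpowers_eq_bot] at h2
    exact hz1 h2
  have hJp : IsPGroup p ↥(Cfsg.thompsonSubgroupOf p R) :=
    hR.to_le (thompsonSubgroupOf_le_self R)
  have hnt : Nontrivial ↥(Cfsg.thompsonSubgroupOf p R) :=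
    (Subgroup.nontrivial_iff_ne_bot _).mpr hJ1
  have hc := hJp.center_nontrivial
  obtain ⟨z, hz⟩ := exists_ne (1 : ↥(Subgroup.center ↥(Cfsg.thompsonSubgroupOf p R)))
  intro hbot
  apply hz
  have hmem : (((z : ↥(Cfsg.thompsonSubgroupOf p R)) : G)) ∈ Cfsg.centerThompsonOf p R := by
    unfold Cfsg.centerThompsonOf
    refine Subgroup.mem_inf.2 ⟨(z : ↥(Cfsg.thompsonSubgroupOf p R)).2, ?_⟩
    rw [Subgroup.mem_centralizer_iff]
    intro j hj
    have := Subgroup.mem_center_iff.1 z.2 ⟨j, hj⟩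
    exact congrArg Subtype.val this
  rw [hbot, Subgroup.mem_bot] at hmem
  apply Subtype.ext
  apply Subtype.ext
  exact hmem

end Cfsg.Agent.Helper16.ZJE
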