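import Mathlib
import Cfsg.Agent.Lib.Helper16.ZJEe
import Cfsg.Agent.Lib.Helper16.ZJEf
import Cfsg.Agent.Lib.Helper4.ZJCore

set_option autoImplicit false
open scoped commutatorElement

/-! Core of the ZJ-theorem for the full centre `Z(J_e(P))`: the inductive step. -/

namespace Cfsg.Agent.Helper16.ZJE

open Cfsg Cfsg.Agent.Helper4.ZJ

variable {G : Type*} [Group G]

theorem le_normalizer_inf_normal (P K : Subgroup G) [hK : K.Normal] :
    P ≤ Subgroup.normalizer ((P ⊓ K : Subgroup G) : Set G) := by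
  intro x hx
  rw [Subgroup.mem_normalizer_iff]
  intro h
  constructor
  · intro hh
    obtain ⟨h1, h2⟩ := Subgroup.mem_inf.1 hh
    exact Subgroup.mem_inf.2 ⟨P.mul_mem (P.mul_mem hx h1) (P.inv_mem hx), hK.conj_mem h h2 x⟩
  · intro hh
    obtain ⟨h1, h2⟩ := Subgroup.mem_inf.1 hh
    have e : h = x⁻¹ * (x * h * x⁻¹) * x⁻¹⁻¹ := by group
    rw [e]
    exact Subgroup.mem_inf.2 ⟨P.mul_mem (P.mul_mem (P.inv_mem hx) h1) (P.inv_mem (P.inv_mem hx)),
      hK.conj_mem _ h2 x⁻¹⟩

/-- a functor on subgroups commuting with automorphisms: `N(P) ≤ N(W(P))` -/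
theorem normalizer_le_of_map (W : Subgroup G → Subgroup G)
    (hW : ∀ (φ : G ≃* G) (P : Subgroup G), W (P.map φ.toMonoidHom) = (W P).map φ.toMonoidHom)
    (P : Subgroup G) :
    Subgroup.normalizer (P : Set G) ≤ Subgroup.normalizer (W P : Set G) := by
  intro n hn
  have h1 : P.map (MulAut.conj n).toMonoidHom = P := by
    rw [Subgroup.mem_normalizer_iff_map_conj_eq] at hn
    exact hn
  have h2 := hW (MulAut.conj n) P
  rw [h1] at h2
  rw [Subgroup.mem_normalizer_iff_map_conj_eq]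
  exact h2.symm

theorem normal_of_map (W : Subgroup G → Subgroup G)
    (hW : ∀ (φ : G ≃* G) (P : Subgroup G), W (P.map φ.toMonoidHom) = (W P).map φ.toMonoidHom)
    (Q : Subgroup G) [hQ : Q.Normal] : (W Q).Normal := by
  rw [← Subgroup.normalizer_eq_top_iff, eq_top_iff]
  have := normalizer_le_of_map W hW Q
  rwa [Subgroup.normalizer_eq_top_iff.2 hQ] at this

section

variable [Finite G] {p : ℕ}

theorem centerThompsonOf_map_equiv (φ : G ≃* G) (P : Subgroup G) :
    centerThompsonOf p (P.map φ.toMonoidHom) = (centerThompsonOf p P).map φ.toMonoidHom :=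
  centerThompsonOf_map_of_injOn φ.toMonoidHom P φ.injective.injOn

theorem Z_comm' (P : Subgroup G) :
    ∀ x ∈ centerThompsonOf p P, ∀ y ∈ centerThompsonOf p P, x * y = y * x := by
  intro x hx y hy
  have h1 := (Subgroup.mem_inf.1 hy).2
  rw [Subgroup.mem_centralizer_iff] at h1
  exact h1 x (Subgroup.mem_inf.1 hx).1

theorem conj_mem_inf_of_mem_normalizer {Z B : Subgroup G} [hB : B.Normal] {x : G}
    (hx : x ∈ Subgroup.normalizer (Z : Set G)) :
    x ∈ Subgroup.normalizer ((Z ⊓ B : Subgroup G) : Set G) := by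
  rw [Subgroup.mem_normalizer_iff] at hx ⊢
  intro h
  constructor
  · intro hh
    obtain ⟨h1, h2⟩ := Subgroup.mem_inf.1 hh
    exact Subgroup.mem_inf.2 ⟨(hx h).1 h1, hB.conj_mem h h2 x⟩
  · intro hh
    obtain ⟨h1, h2⟩ := Subgroup.mem_inf.1 hh
    refine Subgroup.mem_inf.2 ⟨(hx h).2 h1, ?_⟩
    have e : h = x⁻¹ * (x * h * x⁻¹) * x⁻¹⁻¹ := by group
    rw [e]
    exact hB.conj_mem _ h2 x⁻¹

end

end Cfsg.Agent.Helper16.ZJE
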