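import Mathlib
import Cfsg.Agent.Lib.Helper16.ZJEg

set_option autoImplicit false
open scoped commutatorElement

/-! Core of the ZJ-theorem for the full centre `Z(J_e(P))`: the inductive step. -/

namespace Cfsg.Agent.Helper16.ZJE

open Cfsg Cfsg.Agent.Helper4.ZJ

variable {G : Type*} [Group G] [Finite G] {p : ℕ} [hpp : Fact p.Prime]

/-- Frattini pattern: if `N_G(P ∩ K_W)` is proper and every proper subgroup containing `P`
lies in `M`, then `C_G(W)` is not contained in `M ≠ ⊤`. -/
theorem not_centralizer_le (P : Sylow p G) (W : Subgroup G) [W.Normal] (M : Subgroup G)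
    (hM : M ≠ ⊤)
    (key0 : ∀ X : Subgroup G, (P : Subgroup G) ≤ X → X ≠ ⊤ → X ≤ M)
    (hN : Subgroup.normalizer (((P : Subgroup G) ⊓ KK p W : Subgroup G) : Set G) ≠ ⊤) :
    ¬ Subgroup.centralizer (W : Set G) ≤ M := by
  intro hC
  apply hM
  rw [eq_top_iff]
  intro g _
  obtain ⟨n, hn, c, hc, rfl⟩ := exists_mul_normalizer_centralizer P W g
  exact M.mul_mem (key0 _ (le_normalizer_inf_normal _ _) hN hn) (hC hc)

theorem core (hp : p ≠ 2) (hst : Stab p G) (P : Sylow p G) (B : Subgroup G) [hBn : B.Normal]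
    (hBp : IsPGroup p B)
    (ihX : ∀ X : Subgroup G, X ≠ ⊤ → (P : Subgroup G) ≤ X →
      X ≤ Subgroup.normalizer ((centerThompsonOf p (P : Subgroup G) ⊓ B : Subgroup G) : Set G))
    (ihB : ∀ B₁ : Subgroup G, B₁.Normal → IsPGroup p B₁ → Nat.card B₁ < Nat.card B →
      (centerThompsonOf p (P : Subgroup G) ⊓ B₁).Normal) :
    (centerThompsonOf p (P : Subgroup G) ⊓ B).Normal := by
  by_contra hT
  set Z := centerThompsonOf p (P : Subgroup G) with hZ
  set M := Subgroup.normalizer ((Z ⊓ B : Subgroup G) : Set G) with hMdef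
  have hM : M ≠ ⊤ := fun h => hT (Subgroup.normalizer_eq_top_iff.1 h)
  have hPZ : (P : Subgroup G) ≤ Subgroup.normalizer (Z : Set G) :=
    Subgroup.le_normalizer.trans
      (normalizer_le_of_map (centerThompsonOf p) centerThompsonOf_map_equiv _)
  have hPM : (P : Subgroup G) ≤ M := fun x hx => conj_mem_inf_of_mem_normalizer (hPZ hx)
  have hCM : Subgroup.centralizer (B : Set G) ≤ M := by
    intro c hc
    rw [hMdef, Subgroup.mem_normalizer_iff]
    intro t
    rw [Subgroup.mem_centralizer_iff] at hc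
    have hct : ∀ t ∈ B, c * t * c⁻¹ = t := by
      intro t ht
      rw [← hc t ht]; group
    constructor
    · intro ht
      rw [hct t (Subgroup.mem_inf.1 ht).2]; exact ht
    · intro ht
      have h2 : t ∈ B := by
        have := hBn.conj_mem _ (Subgroup.mem_inf.1 ht).2 c⁻¹
        have e : c⁻¹ * (c * t * c⁻¹) * c⁻¹⁻¹ = t := by group
        rwa [e] at this
      rw [hct t h2] at ht; exact ht
  have key0 : ∀ X : Subgroup G, (P : Subgroup G) ≤ X → X ≠ ⊤ → X ≤ M :=
    fun X hPX hX => ihX X hX hPX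
  have hBP : B ≤ P := Cfsg.Agent.Helper23.PSolv.normal_pGroup_le_sylow B hBp P
  have hZP : Z ≤ P := centerThompsonOf_le_self _
  -- Step 1: `B` is the normal closure of `T`
  set B₁ := Subgroup.normalClosure ((Z ⊓ B : Subgroup G) : Set G) with hB₁
  have hB₁le : B₁ ≤ B := Subgroup.normalClosure_le_normal (fun x hx => (Subgroup.mem_inf.1 hx).2)
  have hZ₁B₁ : Z ⊓ B ≤ B₁ := Subgroup.le_normalClosure
  have hB₁B : B₁ = B := by
    by_contra hne
    have hlt : Nat.card B₁ < Nat.card B := by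
      rcases (Subgroup.card_le_of_le hB₁le).lt_or_eq with h4 | h4
      · exact h4
      · exfalso
        exact hne (Subgroup.eq_of_le_of_card_ge hB₁le h4.symm.le)
    have hB₁n : B₁.Normal := Subgroup.normalClosure_normal
    have := ihB B₁ hB₁n (hBp.to_le hB₁le) hlt
    have heq : Z ⊓ B₁ = Z ⊓ B := by
      apply le_antisymm
      · exact inf_le_inf_left _ hB₁le
      · exact le_inf inf_le_left hZ₁B₁
    rw [heq] at this
    exact hT this
  have hBne : B ≠ ⊥ := by
    intro h
    apply hT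
    rw [h, inf_bot_eq]; infer_instance
  -- Step 2: `[B, B] ≤ Z`
  have hZ₁P : ∀ x ∈ (P : Subgroup G), ∀ z ∈ Z ⊓ B, x * z * x⁻¹ ∈ Z ⊓ B := by
    intro x hx z hz
    have := hPM hx
    rw [hMdef, Subgroup.mem_normalizer_iff] at this
    exact (this z).1 hz
  have hB'n : (⁅B, B⁆ : Subgroup G).Normal := inferInstance
  have hB'le : ⁅B, B⁆ ≤ B := Subgroup.commutator_le_left B B
  have hB'lt : Nat.card (⁅B, B⁆ : Subgroup G) < Nat.card B := by
    have hnil : Group.IsNilpotent B := hBp.isNilpotent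
    have hnt : Nontrivial B := by
      rw [Subgroup.nontrivial_iff_ne_bot]; exact hBne
    have h1 : commutator B < ⊤ := Group.IsSolvable.commutator_lt_top_of_nontrivial B
    have h2 : ⁅B, B⁆ = (commutator B).map B.subtype := by
      rw [commutator_def, Subgroup.map_commutator, ← MonoidHom.range_eq_map,
        Subgroup.range_subtype]
    have h3 : Nat.card (⁅B, B⁆ : Subgroup G) = Nat.card (commutator B) := by
      rw [h2]; exact Subgroup.card_map_of_injective B.subtype_injective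
    rw [h3]
    rcases (Subgroup.card_le_of_le h1.le).lt_or_eq with h4 | h4
    · rwa [Subgroup.card_top] at h4
    · exfalso
      have := Subgroup.eq_of_le_of_card_ge h1.le h4.symm.le
      exact h1.ne this
  have hNn : (Z ⊓ ⁅B, B⁆).Normal := ihB ⁅B, B⁆ hB'n (hBp.to_le hB'le) hB'lt
  have hB'N : ⁅B, B⁆ ≤ Z ⊓ ⁅B, B⁆ := by
    have hBcl : Subgroup.closure
        (Group.conjugatesOfSet ((Z ⊓ B : Subgroup G) : Set G)) = B := hB₁B
    have hTB : ∀ y ∈ Group.conjugatesOfSet ((Z ⊓ B : Subgroup G) : Set G), y ∈ B := by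
      intro y hy
      exact hB₁le (Subgroup.conjugatesOfSet_subset_normalClosure hy)
    have key := commutator_closure_le_normal (Z ⊓ ⁅B, B⁆)
      (Group.conjugatesOfSet ((Z ⊓ B : Subgroup G) : Set G)) (by
        intro x hx y hy
        rw [Group.mem_conjugatesOfSet_iff] at hx
        obtain ⟨z, hz, hzx⟩ := hx
        rw [isConj_iff] at hzx
        obtain ⟨g, rfl⟩ := hzx
        have hyB := hTB y hy
        have hy'B : g⁻¹ * y * g⁻¹⁻¹ ∈ B := hBn.conj_mem y hyB g⁻¹
        have hzB : z ∈ B := (Subgroup.mem_inf.1 hz).2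
        have h1 : ⁅z, g⁻¹ * y * g⁻¹⁻¹⁆ ∈ Z ⊓ ⁅B, B⁆ := by
          refine Subgroup.mem_inf.2 ⟨?_, Subgroup.commutator_mem_commutator hzB hy'B⟩
          have h2 := hZ₁P _ (hBP hy'B) z⁻¹ (Subgroup.inv_mem _ hz)
          have h3 := Subgroup.mul_mem _ hz h2
          have e : ⁅z, g⁻¹ * y * g⁻¹⁻¹⁆ =
              z * ((g⁻¹ * y * g⁻¹⁻¹) * z⁻¹ * (g⁻¹ * y * g⁻¹⁻¹)⁻¹) := by
            rw [commutatorElement_def]; group
          rw [e]; exact (Subgroup.mem_inf.1 h3).1
        have h4 := hNn.conj_mem _ h1 g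
        have e2 : g * ⁅z, g⁻¹ * y * g⁻¹⁻¹⁆ * g⁻¹ = ⁅g * z * g⁻¹, y⁆ := by
          simp only [commutatorElement_def]; group
        rw [← e2]; exact h4)
    rw [hBcl] at key
    exact key
  have hB'Z : ⁅B, B⁆ ≤ Z := hB'N.trans inf_le_left
  -- class two
  have hBcent : B ≤ Subgroup.centralizer ((Z ⊓ ⁅B, B⁆ : Subgroup G) : Set G) := by
    refine hB₁B.symm.le.trans ?_
    apply Subgroup.normalClosure_le_normal
    intro t ht
    rw [SetLike.mem_coe, Subgroup.mem_centralizer_iff]
    intro n hn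
    exact Z_comm' _ n (Subgroup.mem_inf.1 hn).1 t (Subgroup.mem_inf.1 ht).1
  have hcl : ∀ x ∈ B, ∀ y ∈ B, ∀ z ∈ B,
      (x * y * x⁻¹ * y⁻¹) * z = z * (x * y * x⁻¹ * y⁻¹) := by
    intro x hx y hy z hz
    have h1 : ⁅x, y⁆ ∈ Z ⊓ ⁅B, B⁆ := hB'N (Subgroup.commutator_mem_commutator hx hy)
    rw [commutatorElement_def] at h1
    have h2 := hBcent hz
    rw [Subgroup.mem_centralizer_iff] at h2
    exact h2 _ h1
  -- Step 3: replacement
  have hPB : (P : Subgroup G) ≤ Subgroup.normalizer (B : Set G) := by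
    rw [Subgroup.normalizer_eq_top_iff.2 hBn]; exact le_top
  obtain ⟨A, hA, hBNA⟩ := exists_normalized_G hp P.2 hBP hPB hB'Z
  have hAP : A ≤ P := (mem_famE.1 hA).1
  have hAcomm := comm_of_mem_famE hA
  -- Step 4: quadratic action
  have hquad : ∀ (W A₁ : Subgroup G), (∀ x ∈ A₁, ∀ y ∈ A₁, x * y = y * x) →
      W ≤ Subgroup.normalizer (A₁ : Set G) → ⁅⁅W, A₁⁆, A₁⁆ = ⊥ := by
    intro W A₁ hc hWN
    have hAA : ⁅A₁, A₁⁆ = ⊥ := by
      rw [Subgroup.commutator_eq_bot_iff_le_centralizer]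
      intro x hx
      rw [Subgroup.mem_centralizer_iff]
      intro y hy
      exact hc y hy x hx
    rw [eq_bot_iff, ← hAA]
    refine Subgroup.commutator_mono ?_ le_rfl
    rw [Subgroup.commutator_le]
    intro b hb a ha
    have hbn := hWN hb
    rw [Subgroup.mem_normalizer_iff] at hbn
    rw [commutatorElement_def]
    exact A₁.mul_mem ((hbn a).1 ha) (A₁.inv_mem ha)
  have hAK : A ≤ KK p B :=
    le_KK_of_quadratic hst B hBp A (P.2.to_le hAP) (hquad B A hAcomm hBNA)
  -- Step 5: `P ∩ K_B` is normal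
  set Q := pCore p G with hQ
  have hQn : Q.Normal := Cfsg.Agent.Helper10.pCore_normal (G := G) p
  have hQp : IsPGroup p Q := Cfsg.Agent.Helper10.pCore_isPGroup p
  have hQP : Q ≤ P := Cfsg.Agent.Helper23.PSolv.pCore_le_sylow P
  have hP₂N : Subgroup.normalizer (((P : Subgroup G) ⊓ KK p B : Subgroup G) : Set G) = ⊤ := by
    by_contra hne
    exact not_centralizer_le P B M hM key0 hne hCM
  have hP₂Q : (P : Subgroup G) ⊓ KK p B ≤ Q :=
    le_sSup ⟨Subgroup.normalizer_eq_top_iff.1 hP₂N, P.2.to_le inf_le_left⟩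
  have hAQ : A ≤ Q := (le_inf hAP hAK).trans hP₂Q
  -- Step 7: the family of `Q`
  have hAfQ : A ∈ famE p Q := (famE_mono hQP hA hAQ).1
  have hsub : famE p Q ⊆ famE p (P : Subgroup G) := by
    intro A' hA'
    obtain ⟨h1, h2, h3⟩ := mem_famE.1 hA'
    obtain ⟨-, hAe, hmax⟩ := mem_famE.1 hA
    refine mem_famE.2 ⟨h1.trans hQP, h2, fun A'' h4 h5 => ?_⟩
    exact (hmax A'' h4 h5).trans (h3 A hAQ hAe)
  set JQ := thompsonSubgroupOf p Q with hJQ
  set J := thompsonSubgroupOf p (P : Subgroup G) with hJ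
  have hJQJ : JQ ≤ J := thompsonSubgroupOf_le fun A' hA' => le_thompsonSubgroupOf (hsub hA')
  have hJQn : JQ.Normal := normal_of_map (thompsonSubgroupOf p) thompsonSubgroupOf_map Q
  -- Step 8: `B` centralizes `J(Q)`
  have hBJ : B ≤ Subgroup.centralizer (JQ : Set G) := by
    refine hB₁B.symm.le.trans ?_
    apply Subgroup.normalClosure_le_normal
    intro t ht
    have h1 : t ∈ Subgroup.centralizer (J : Set G) := (Subgroup.mem_inf.1 (Subgroup.mem_inf.1 ht).1).2
    exact Subgroup.centralizer_le hJQJ h1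
  have hBQ : B ≤ Q := le_sSup ⟨hBn, hBp⟩
  -- Step 9: `V = Ω₁ Z(J(Q))`
  set V := ZE p Q with hV
  have hVn : V.Normal := normal_of_map (ZE p) ZE_map Q
  have hVQ : V ≤ Q := ((ZE_le_center Q).trans inf_le_left).trans (thompsonSubgroupOf_le_self Q)
  have hVp : IsPGroup p V := hQp.to_le hVQ
  have hVc : ∀ x ∈ V, ∀ y ∈ V, x * y = y * x := ZE_comm Q
  -- Step 10: `Ω₁(B) ≤ V`
  have hΩ : ∀ x ∈ B, x ^ p = 1 → x ∈ V := by
    intro x hx hxp
    have hle : Subgroup.zpowers x ≤ V := by
      apply le_ZE (Subgroup.zpowers_le.2 (hBQ hx))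
      intro A' hA'
      rw [Subgroup.zpowers_le]
      apply mem_of_comm_G hA' (hBQ hx) hxp
      intro a ha
      have h1 := hBJ hx
      rw [Subgroup.mem_centralizer_iff] at h1
      exact h1 a (le_thompsonSubgroupOf hA' ha)
    exact hle (Subgroup.mem_zpowers x)
  -- Step 11: some member is not in `Q`
  have hex : ∃ A' ∈ famE p (P : Subgroup G), ¬ A' ≤ Q := by
    by_contra hall
    push Not at hall
    have hJle : J ≤ JQ := thompsonSubgroupOf_le fun A' hA' =>
      le_thompsonSubgroupOf (famE_mono hQP hA' (hall A' hA')).1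
    have hJeq : J = JQ := le_antisymm hJle hJQJ
    have hZn : Z.Normal := by
      have : Z = JQ ⊓ Subgroup.centralizer (JQ : Set G) := by
        rw [hZ, ← hJeq]; rfl
      rw [this]; infer_instance
    exact hT inferInstance
  -- Step 12: a member outside `Q` normalized by `V`
  obtain ⟨A', ⟨hA', hA'Q⟩, hmax⟩ := Set.exists_max_image
    {A' | A' ∈ famE p (P : Subgroup G) ∧ ¬ A' ≤ Q} (fun A' => Nat.card ↥(A' ⊓ V))
    (Set.toFinite _) (by obtain ⟨A', h1, h2⟩ := hex; exact ⟨A', h1, h2⟩)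
  have hVP : V ≤ P := hVQ.trans hQP
  have hPV : (P : Subgroup G) ≤ Subgroup.normalizer (V : Set G) := by
    rw [Subgroup.normalizer_eq_top_iff.2 hVn]; exact le_top
  have hVNA' : V ≤ Subgroup.normalizer (A' : Set G) := by
    by_contra hnot
    obtain ⟨A'', hA'', hlt, hN⟩ := thompson_repl_G hp P.2 hVP hPV hVc hA' hnot
    by_cases hA''Q : A'' ≤ Q
    · have h1 : A'' ∈ famE p Q := (famE_mono hQP hA'' hA''Q).1
      exact hnot ((ZE_le h1).trans hN)
    · have h1 := hmax A'' ⟨hA'', hA''Q⟩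
      have h2 := card_lt_of_lt' hlt
      omega
  have hA'P : A' ≤ P := (mem_famE.1 hA').1
  have hA'K : A' ≤ KK p V :=
    le_KK_of_quadratic hst V hVp A' (P.2.to_le hA'P) (hquad V A' (comm_of_mem_famE hA') hVNA')
  -- Step 14
  have hP₃N : Subgroup.normalizer (((P : Subgroup G) ⊓ KK p V : Subgroup G) : Set G) ≠ ⊤ := by
    intro h
    have h1 : (P : Subgroup G) ⊓ KK p V ≤ Q :=
      le_sSup ⟨Subgroup.normalizer_eq_top_iff.1 h, P.2.to_le inf_le_left⟩
    exact hA'Q ((le_inf hA'P hA'K).trans h1)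
  have hCV : ¬ Subgroup.centralizer (V : Set G) ≤ M := not_centralizer_le P V M hM key0 hP₃N
  have hCVn : (Subgroup.centralizer (V : Set G)).Normal := inferInstance
  have htop : Subgroup.centralizer (V : Set G) ⊔ (P : Subgroup G) = ⊤ := by
    by_contra hne
    exact hCV (le_sup_left.trans (key0 _ le_sup_right hne))
  -- Step 15: `p'`-elements lie in `M`
  have hp' : ∀ g : G, (orderOf g).Coprime p → g ∈ M := by
    intro g hg
    have hgC : g ∈ Subgroup.centralizer (V : Set G) := by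
      have hgt : g ∈ Subgroup.centralizer (V : Set G) ⊔ (P : Subgroup G) := by
        rw [htop]; exact Subgroup.mem_top g
      rw [Subgroup.mem_sup_of_normal_left] at hgt
      obtain ⟨c, hc, x, hx, rfl⟩ := hgt
      rw [← QuotientGroup.eq_one_iff]
      have hmk : (QuotientGroup.mk (c * x) : G ⧸ Subgroup.centralizer (V : Set G)) =
          QuotientGroup.mk x := by
        rw [QuotientGroup.mk_mul, (QuotientGroup.eq_one_iff c).2 hc, one_mul]
      obtain ⟨k, hk⟩ := P.2 ⟨x, hx⟩
      have hxk : x ^ p ^ k = 1 := by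
        have := congrArg Subtype.val hk
        simpa using this
      have h1 : orderOf (QuotientGroup.mk (c * x) : G ⧸ Subgroup.centralizer (V : Set G)) ∣
          p ^ k := by
        apply orderOf_dvd_of_pow_eq_one
        rw [hmk, ← QuotientGroup.mk_pow, hxk, QuotientGroup.mk_one]
      have h2 : orderOf (QuotientGroup.mk (c * x) : G ⧸ Subgroup.centralizer (V : Set G)) ∣
          orderOf (c * x) :=
        orderOf_map_dvd (QuotientGroup.mk' (Subgroup.centralizer (V : Set G))) (c * x)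
      have h3 : (orderOf (c * x)).Coprime (p ^ k) := Nat.Coprime.pow_right k hg
      exact orderOf_eq_one_iff.1 (Nat.eq_one_of_dvd_coprimes h3 h2 h1)
    apply hCM
    rw [Subgroup.mem_centralizer_iff]
    have h1 := centralizes_of_centralizes_omega hp B hBp hcl g (fun x hx => hBn.conj_mem x hx g) hg
      (by
        intro x hx hxp
        rw [Subgroup.mem_centralizer_iff] at hgC
        rw [← hgC x (hΩ x hx hxp)]; group)
    intro h hh
    have := h1 h hh
    calc h * g = (g * h * g⁻¹) * g := by rw [this]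
      _ = g * h := by group
  -- Step 16: `M = ⊤`
  apply hM
  rw [← Subgroup.index_eq_one, Nat.eq_one_iff_not_exists_prime_dvd]
  intro r hr hdvd
  have : Fact r.Prime := ⟨hr⟩
  by_cases hrp : r = p
  · subst hrp
    exact P.not_dvd_index (hdvd.trans (Subgroup.index_dvd_of_le hPM))
  · obtain R : Sylow r G := default
    have hRM : (R : Subgroup G) ≤ M := by
      intro g hg
      apply hp'
      obtain ⟨k, hk⟩ := R.2 ⟨g, hg⟩
      have hgk : g ^ r ^ k = 1 := by
        have := congrArg Subtype.val hk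
        simpa using this
      have h1 : orderOf g ∣ r ^ k := orderOf_dvd_of_pow_eq_one hgk
      have h2 : (r ^ k).Coprime p := Nat.Coprime.pow_left k
        ((Nat.coprime_primes hr hpp.out).2 hrp)
      exact Nat.Coprime.coprime_dvd_left h1 h2
    exact R.not_dvd_index (hdvd.trans (Subgroup.index_dvd_of_le hRM))

end Cfsg.Agent.Helper16.ZJE
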