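import Mathlib
import Cfsg.Agent.Lib.Helper16.ZJEh
import Cfsg.Agent.Lib.Helper4.SL2FreeApps
import Cfsg.Agent.Lib.Helper4.GTAbstract2

set_option autoImplicit false
open scoped commutatorElement

/-! The ZJ-theorem for the full centre `Z(J_e(P))` in groups not involving `SL₂(p)`. -/

namespace Cfsg.Agent.Helper16.ZJE

open Cfsg Cfsg.Agent.Helper4.ZJ Cfsg.Agent.Helper4.SLF

universe u

theorem inf_normal_aux {p : ℕ} [hpp : Fact p.Prime] (hp : p ≠ 2) :
    ∀ n : ℕ, ∀ (G : Type u) [Group G] [Finite G], Nat.card G = n → SL2Free p G →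
      ∀ (P : Sylow p G), ∀ m : ℕ, ∀ (B : Subgroup G), B.Normal → IsPGroup p B → Nat.card B = m →
        (centerThompsonOf p (P : Subgroup G) ⊓ B).Normal := by
  intro n
  induction n using Nat.strong_induction_on with
  | _ n ih =>
  intro G _ _ hcard hfree P m
  induction m using Nat.strong_induction_on with
  | _ m ihm =>
  intro B hBn hBp hBm
  have hst : Stab p G := stab_of_sl2free hp hfree
  apply core hp hst P B hBp
  · -- proper subgroups containing `P`
    intro X hX hPX
    have hlt : Nat.card ↥X < n := by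
      rw [← hcard]
      refine lt_of_le_of_ne (Subgroup.card_le_card_group X) ?_
      intro h
      exact hX ((Subgroup.card_eq_iff_eq_top X).mp h)
    set P' : Sylow p ↥X := P.subtype hPX with hP'
    have hB'n : (B.subgroupOf X).Normal := inferInstance
    have hB'p : IsPGroup p (B.subgroupOf X) := hBp.comap_subtype
    have hN := ih _ hlt ↥X rfl (hfree.subgroup X) P' _ (B.subgroupOf X) hB'n hB'p rfl
    have hmapP : ((P' : Subgroup ↥X)).map X.subtype = (P : Subgroup G) := by
      rw [hP', Sylow.coe_subtype, Subgroup.subgroupOf_map_subtype]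
      exact inf_eq_left.2 hPX
    have hZ : centerThompsonOf p (P : Subgroup G) =
        (centerThompsonOf p (P' : Subgroup ↥X)).map X.subtype := by
      rw [← centerThompsonOf_map_of_injOn X.subtype _ X.subtype_injective.injOn, hmapP]
    have hZX : centerThompsonOf p (P : Subgroup G) ≤ X :=
      (centerThompsonOf_le_self _).trans hPX
    have hT : centerThompsonOf p (P : Subgroup G) ⊓ B =
        (centerThompsonOf p (P' : Subgroup ↥X) ⊓ B.subgroupOf X).map X.subtype := by
      rw [Subgroup.map_inf _ _ _ X.subtype_injective, ← hZ, Subgroup.subgroupOf_map_subtype,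
        ← inf_assoc]
      exact (inf_eq_left.2 (inf_le_left.trans hZX)).symm
    intro x hx
    rw [hT]
    apply Subgroup.le_normalizer_map X.subtype
    refine ⟨⟨x, hx⟩, ?_, rfl⟩
    rw [Subgroup.normalizer_eq_top_iff.2 hN]
    exact Subgroup.mem_top _
  · intro B₁ hB₁n hB₁p hlt
    exact ihm _ (hBm ▸ hlt) B₁ hB₁n hB₁p rfl

variable {G : Type u} [Group G] [Finite G] {p : ℕ} [hpp : Fact p.Prime]

/-- For `p` odd and `G` not involving `SL₂(p)`: `Z(J_e(P)) ∩ B` is normal in `G` for every
normal `p`-subgroup `B`. -/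
theorem inf_normal_E (hp : p ≠ 2) (hfree : SL2Free p G) (P : Sylow p G) (B : Subgroup G)
    [hBn : B.Normal] (hBp : IsPGroup p B) : (centerThompsonOf p (P : Subgroup G) ⊓ B).Normal :=
  inf_normal_aux hp _ G rfl hfree P _ B hBn hBp rfl

/-- **ZJ-theorem for the full centre of the elementary-abelian Thompson subgroup.** -/
theorem ZJE_normal (hp : p ≠ 2) (hfree : SL2Free p G) (P : Sylow p G)
    (hc : Subgroup.centralizer (pCore p G : Set G) ≤ pCore p G) :
    (centerThompsonOf p (P : Subgroup G)).Normal := by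
  have hst : Stab p G := stab_of_sl2free hp hfree
  set Q := pCore p G with hQ
  have hQn : Q.Normal := Cfsg.Agent.Helper10.pCore_normal (G := G) p
  have hQp : IsPGroup p Q := Cfsg.Agent.Helper10.pCore_isPGroup p
  have hQP : Q ≤ P := Cfsg.Agent.Helper23.PSolv.pCore_le_sylow P
  set Z := centerThompsonOf p (P : Subgroup G) with hZ
  have hPZ : (P : Subgroup G) ≤ Subgroup.normalizer (Z : Set G) :=
    Subgroup.le_normalizer.trans
      (normalizer_le_of_map (centerThompsonOf p) centerThompsonOf_map_equiv _)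
  have hZP : Z ≤ P := centerThompsonOf_le_self _
  have hq : ⁅⁅Q, Z⁆, Z⁆ = ⊥ := by
    have hZZ : ⁅Z, Z⁆ = ⊥ := by
      rw [Subgroup.commutator_eq_bot_iff_le_centralizer]
      intro x hx
      rw [Subgroup.mem_centralizer_iff]
      intro y hy
      exact Z_comm' _ y hy x hx
    rw [eq_bot_iff, ← hZZ]
    refine Subgroup.commutator_mono ?_ le_rfl
    rw [Subgroup.commutator_le]
    intro b hb a ha
    have hbn := hPZ (hQP hb)
    rw [Subgroup.mem_normalizer_iff] at hbn
    rw [commutatorElement_def]
    exact Z.mul_mem ((hbn a).1 ha) (Z.inv_mem ha)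
  have hZK : Z ≤ KK p Q := le_KK_of_quadratic hst Q hQp Z (P.2.to_le hZP) hq
  have hKp : IsPGroup p (KK p Q) := by
    unfold KK
    apply IsPGroup.comap_of_ker_isPGroup (Cfsg.Agent.Helper10.pCore_isPGroup p)
    rw [QuotientGroup.ker_mk']
    exact hQp.to_le hc
  have hKQ : KK p Q ≤ Q := le_sSup ⟨inferInstance, hKp⟩
  have hZQ : Z ≤ Q := hZK.trans hKQ
  have := inf_normal_E hp hfree P Q hQp
  rwa [inf_eq_left.2 hZQ] at this

end Cfsg.Agent.Helper16.ZJE
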