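import Mathlib
import Cfsg.Agent.Lib.Helper16.ZJEi

set_option autoImplicit false

/-! `Z(J_e(·))` (full centre) as a characteristic functor with a ZJ-theorem. -/

namespace Cfsg.Agent.Helper16.ZJE

open Cfsg

universe u

/-- The characteristic functor `Z(J_e(·))` (elementary abelian version, full centre). -/
noncomputable def cfZJE {p : ℕ} [Fact p.Prime] (hp : p ≠ 2) :
    Cfsg.Agent.Helper4.GT2.CharFun2.{u} p where
  W := fun _ _ R => Cfsg.centerThompsonOf p R
  le_self := fun _ _ R => (inf_le_left : Cfsg.centerThompsonOf p R ≤ Cfsg.thompsonSubgroupOf p R).trans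
    (Subgroup.map_subtype_le _)
  ne_bot := fun _ _ _ R hR hR1 => centerThompsonOf_ne_bot R hR hR1
  map := fun _ _ _ _ _ _ f R hf => centerThompsonOf_map_of_injOn f R hf
  zj := fun _ _ _ P h2 hc =>
    ZJE_normal hp (Cfsg.Agent.Helper4.SLF.sl2free_of_abelian_sylow2 hp h2) P hc

end Cfsg.Agent.Helper16.ZJE
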