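import Mathlib
import Cfsg.Agent.Lib.Helper16.ZJEi
import Cfsg.Agent.Lib.Helper1.ZJFusion

set_option autoImplicit false

/-! Glauberman's theorem for the full centre `Z(J_e(S))`: in `SL₂(p)`-free groups, `p` odd,
`N(Z(J_e(S)))` controls strong fusion. -/

namespace Cfsg.Agent.Helper16.ZJE

open Cfsg Subgroup
open Cfsg.Agent.Helper10 (rcs rcg NChain NComp stepFamily indFam SecClosed Constrained)

universe u

/-- `Z(J_e(Q))`, elementary abelian version, as a functor on groups -/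
def zjE (p : ℕ) : ∀ (Q : Type u) [Group Q], Subgroup Q :=
  fun Q _ => Cfsg.centerThompsonOf p (⊤ : Subgroup Q)

theorem inducedFunctor_zjE {p : ℕ} {H : Type u} [Group H] [Finite H] (P : Subgroup H) :
    inducedFunctor (zjE p) P = Cfsg.centerThompsonOf p P := by
  unfold inducedFunctor zjE
  rw [← centerThompsonOf_map_of_injOn P.subtype ⊤ (fun x _ y _ h => P.subtype_injective h)]
  congr 1
  rw [← MonoidHom.range_eq_map, Subgroup.range_subtype]

theorem isCharPFunctor_zjE (p : ℕ) [Fact p.Prime] : IsCharPFunctor.{u} p (zjE p) := by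
  refine ⟨?_, ?_⟩
  · intro Q _ _ hQ hnt
    unfold zjE
    apply centerThompsonOf_ne_bot
    · exact hQ.to_subgroup _
    · exact top_ne_bot
  · intro Q R _ _ _ hQ φ
    haveI : Finite R := Finite.of_equiv Q φ.toEquiv
    unfold zjE
    rw [← centerThompsonOf_map_of_injOn φ.toMonoidHom ⊤ (fun x _ y _ h => φ.injective h)]
    congr 1
    rw [← MonoidHom.range_eq_map]
    exact MonoidHom.range_eq_top.mpr φ.surjective

section control

variable {p : ℕ} [Fact p.Prime]

theorem h𝓦_zjE : ∀ W ∈ ({zjE p} : Set (∀ (Q : Type u) [Group Q], Subgroup Q)),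
    IsCharPFunctor.{u} p W := by
  intro W hW
  rw [Set.mem_singleton_iff] at hW
  subst hW
  exact isCharPFunctor_zjE p

/-- if `Z(J(S))` is normal for the Sylow subgroups `S`, it controls strong fusion -/
theorem fcs_of_zj_normal_E {H : Type u} [Group H] [Finite H]
    (hZJ : ∀ S : Sylow p H, (Cfsg.centerThompsonOf p (S : Subgroup H)).Normal) :
    FamilyControlsStrongFusionIn p (indFam {zjE p} H) ⊤ := by
  have S₀ : Sylow p H := default
  have hrelS : ¬ p ∣ (S₀ : Subgroup H).relIndex ⊤ := by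
    rw [Subgroup.relIndex_top_right]; exact S₀.not_dvd_index
  apply Cfsg.Agent.Helper10.ncomp_to_fcs (S₀ : Subgroup H) le_top S₀.isPGroup' hrelS
  intro A g _ hA hgA
  refine NComp.single
    (N := ⊤ ⊓ Subgroup.normalizer
      ((inducedFunctor (G := H) (zjE p) (S₀ : Subgroup H) : Subgroup H) : Set H))
    ⟨_, ⟨zjE p, rfl, rfl⟩, rfl⟩ ⟨Subgroup.mem_top _, ?_⟩ hA hgA
  rw [inducedFunctor_zjE]
  haveI := hZJ S₀
  rw [Subgroup.normalizer_eq_top]
  exact Subgroup.mem_top _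

theorem zjE_fcs (𝒞 : ∀ (H : Type u) [Group H], Prop) (h𝒞 : SecClosed 𝒞)
    (hZJ : ∀ (H : Type u) [Group H] [Finite H], 𝒞 H → Constrained p H →
      ∀ S : Sylow p H, (Cfsg.centerThompsonOf p (S : Subgroup H)).Normal)
    (H : Type u) [Group H] [Finite H] (hH : 𝒞 H) :
    FamilyControlsStrongFusionIn p (indFam {zjE p} H) ⊤ :=
  Cfsg.Agent.Helper10.sec_fusion 𝒞 h𝒞 h𝓦_zjE ⟨zjE p, rfl⟩
    (fun H _ _ hH hc => fcs_of_zj_normal_E (hZJ H hH hc)) (Nat.card H) H le_rfl hH

/-- from family control by `{Z(J_e)}` in `M` to an element of `N_M(Z(J_e(R)))` -/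
theorem exists_mem_normalizer_of_fcs_E {H : Type u} [Group H] [Finite H] {M : Subgroup H}
    (h : FamilyControlsStrongFusionIn p (indFam {zjE p} H) M) (R : Subgroup H) (hRM : R ≤ M)
    (hRp : IsPGroup p R) (hRidx : ¬ p ∣ R.relIndex M) (A : Set H) (g : H) (hg : g ∈ M)
    (hA : A ⊆ (R : Set H)) (hgA : rcs g A ⊆ (R : Set H)) :
    ∃ n ∈ M ⊓ Subgroup.normalizer ((Cfsg.centerThompsonOf p R : Subgroup H) : Set H),
      ∀ a ∈ A, n⁻¹ * a * n = g⁻¹ * a * g := by
  have h1 := Cfsg.Agent.Helper10.fcs_transfer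
    (Cfsg.Agent.Helper10.indFam_conj (H := H) (p := p) h𝓦_zjE) h R hRM hRp hRidx A g hg hA hgA
  obtain ⟨g', hg1, hg2⟩ := h1
  refine ⟨g', ?_, hg2⟩
  apply Cfsg.Agent.Helper1.ZJF.mem_of_nchain _ hg1
  rintro N ⟨W, ⟨W₀, hW₀, rfl⟩, rfl⟩
  rw [Set.mem_singleton_iff] at hW₀
  subst hW₀
  show M ⊓ Subgroup.normalizer ((inducedFunctor (G := H) (zjE p) R : Subgroup H) : Set H) ≤ _
  rw [inducedFunctor_zjE]

open Cfsg.Agent.Helper4.SLF in
/-- `SL₂(p)`-free groups, `p` odd: `Z(J_e)` controls strong fusion -/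
theorem fcs_of_sl2free_E (hp : p ≠ 2) (H : Type u) [Group H] [Finite H] (hH : SL2Free p H) :
    FamilyControlsStrongFusionIn p (indFam {zjE p} H) ⊤ := by
  refine zjE_fcs (fun (H : Type u) [Group H] => SL2Free p H)
    (Cfsg.Agent.Helper1.ZJF.secClosed_sl2free p) ?_ H hH
  intro H _ _ hH hc S
  exact ZJE_normal hp hH S hc

end control

end Cfsg.Agent.Helper16.ZJE
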