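import Mathlib
import Cfsg.Agent.Lib.Helper1.ZasDefs

/-!
# Piece ZR1 of S0690 (helper16 for helper1): traces of elements of small order
-/

set_option autoImplicit false

namespace Cfsg.Agent.Helper1.Zas

section ring

variable {R : Type*} [Ring R] {G : Type*} [Group G]

theorem Fpf.injective [Nontrivial R] {ι : G →* Rˣ} (h : Fpf ι) : Function.Injective ι := by
  rw [injective_iff_map_eq_one]
  intro g hg
  by_contra hne
  have := h g hne
  rw [hg, Units.val_one, sub_self] at this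
  exact not_isUnit_zero this

/-- the inverse of a unit from a right inverse in the ring -/
theorem r1_tr_eq_of_mul_eq_one (u : Rˣ) {x : R} (h : (u : R) * x = 1) : tr u = (u : R) + x := by
  unfold tr
  rw [Units.inv_eq_of_mul_eq_one_right h]

theorem r1_tr_one_aux : tr (1 : Rˣ) = 2 := by
  rw [r1_tr_eq_of_mul_eq_one (1 : Rˣ) (x := 1) (by simp)]
  simp
  norm_num

/-- ring form: `u² = 1`, `u - 1` a unit gives `u = -1` -/
theorem r1_val_eq_neg_one_of_sq {ι : G →* Rˣ} (h : Fpf ι) {k : G} (hk : k ≠ 1)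
    (h2 : ((ι k : Rˣ) : R) ^ 2 = 1) : ((ι k : Rˣ) : R) = -1 := by
  have h0 : (((ι k : Rˣ) : R) - 1) * (((ι k : Rˣ) : R) + 1) = 0 := by
    have : (((ι k : Rˣ) : R) - 1) * (((ι k : Rˣ) : R) + 1) = ((ι k : Rˣ) : R) ^ 2 - 1 := by
      noncomm_ring
    rw [this, h2, sub_self]
  have := (h k hk).mul_right_eq_zero.1 h0
  exact eq_neg_of_add_eq_zero_left this

theorem Fpf.eq_neg_one {ι : G →* Rˣ} (h : Fpf ι) {g : G} (hg : g * g = 1) (hg1 : g ≠ 1) :
    ((ι g : Rˣ) : R) = -1 := by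
  apply r1_val_eq_neg_one_of_sq h hg1
  rw [pow_two, ← Units.val_mul, ← map_mul, hg, map_one, Units.val_one]

theorem r1_tr_of_val_eq_neg_one (u : Rˣ) (hu : (u : R) = -1) : tr u = -2 := by
  rw [r1_tr_eq_of_mul_eq_one u (x := -1) (by rw [hu]; simp), hu]
  norm_num

theorem r1_tr_of_sq_eq_one {ι : G →* Rˣ} (h : Fpf ι) {k : G} (hk : k ≠ 1)
    (h2 : ((ι k : Rˣ) : R) ^ 2 = 1) : tr (ι k) = -2 :=
  r1_tr_of_val_eq_neg_one _ (r1_val_eq_neg_one_of_sq h hk h2)

theorem r1_tr_of_sq_eq_neg_one (u : Rˣ) (hu : (u : R) ^ 2 = -1) : tr u = 0 := by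
  rw [r1_tr_eq_of_mul_eq_one u (x := -(u : R)) (by rw [mul_neg, ← pow_two, hu, neg_neg])]
  simp

theorem r1_tr_of_cube_eq_one {ι : G →* Rˣ} (h : Fpf ι) {k : G} (hk : k ≠ 1)
    (h3 : ((ι k : Rˣ) : R) ^ 3 = 1) : tr (ι k) = -1 := by
  set u : R := ((ι k : Rˣ) : R) with hu
  have h0 : (u - 1) * (u ^ 2 + u + 1) = 0 := by
    have : (u - 1) * (u ^ 2 + u + 1) = u ^ 3 - 1 := by noncomm_ring
    rw [this, h3, sub_self]
  have h1 : u ^ 2 + u + 1 = 0 := (h k hk).mul_right_eq_zero.1 h0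
  have h2 : u * (-1 - u) = 1 := by
    have : u * (-1 - u) = 1 - (u ^ 2 + u + 1) := by noncomm_ring
    rw [this, h1, sub_zero]
  rw [r1_tr_eq_of_mul_eq_one (ι k) h2]
  noncomm_ring

theorem r1_tr_of_pow_five_eq_one {ι : G →* Rˣ} (h : Fpf ι) {k : G} (hk : k ≠ 1)
    (h5 : ((ι k : Rˣ) : R) ^ 5 = 1) : tr (ι k) ^ 2 + tr (ι k) - 1 = 0 := by
  set u : R := ((ι k : Rˣ) : R) with hu
  have h0 : (u - 1) * (u ^ 4 + u ^ 3 + u ^ 2 + u + 1) = 0 := by
    have : (u - 1) * (u ^ 4 + u ^ 3 + u ^ 2 + u + 1) = u ^ 5 - 1 := by noncomm_ring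
    rw [this, h5, sub_self]
  have h1 : u ^ 4 + u ^ 3 + u ^ 2 + u + 1 = 0 := (h k hk).mul_right_eq_zero.1 h0
  have h2 : u * (-1 - u - u ^ 2 - u ^ 3) = 1 := by
    have : u * (-1 - u - u ^ 2 - u ^ 3) = 1 - (u ^ 4 + u ^ 3 + u ^ 2 + u + 1) := by noncomm_ring
    rw [this, h1, sub_zero]
  rw [r1_tr_eq_of_mul_eq_one (ι k) h2]
  have : (u + (-1 - u - u ^ 2 - u ^ 3)) ^ 2 + (u + (-1 - u - u ^ 2 - u ^ 3)) - 1 =
      (u ^ 2 + u - 1) * (u ^ 4 + u ^ 3 + u ^ 2 + u + 1) := by noncomm_ring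
  rw [this, h1, mul_zero]

/-- multiplying by the element mapping to `-1` negates the trace -/
theorem r1_tr_mul_of_neg_one {ι : G →* Rˣ} {z : G} (hz : ((ι z : Rˣ) : R) = -1) (g : G) :
    tr (ι (z * g)) = -tr (ι g) := by
  have hv : ((ι (z * g) : Rˣ) : R) = -((ι g : Rˣ) : R) := by
    rw [map_mul, Units.val_mul, hz, neg_one_mul]
  have h1 : ((ι (z * g) : Rˣ) : R) * (-(((ι g)⁻¹ : Rˣ) : R)) = 1 := by
    rw [hv, neg_mul_neg, Units.mul_inv]
  rw [r1_tr_eq_of_mul_eq_one _ h1, hv]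
  unfold tr
  abel

/-- traces of elements with `g ^ k ∈ {1, z}`, `k ∈ {2, 3, 5}` (`z` the element mapping to `-1`) -/
theorem Fpf.tr_cases {ι : G →* Rˣ} (h : Fpf ι) {z : G} (hz : ((ι z : Rˣ) : R) = -1) {g : G}
    (hg : g ^ 2 = 1 ∨ g ^ 2 = z ∨ g ^ 3 = 1 ∨ g ^ 3 = z ∨ g ^ 5 = 1 ∨ g ^ 5 = z) :
    tr (ι g) = 2 ∨ tr (ι g) = -2 ∨ tr (ι g) = 0 ∨ tr (ι g) = -1 ∨ tr (ι g) = 1 ∨
      tr (ι g) ^ 2 + tr (ι g) - 1 = 0 ∨ tr (ι g) ^ 2 - tr (ι g) - 1 = 0 := by
  have hpow : ∀ n : ℕ, ((ι g : Rˣ) : R) ^ n = ((ι (g ^ n) : Rˣ) : R) := by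
    intro n
    rw [map_pow, Units.val_pow_eq_pow_val]
  have hone : g = 1 → tr (ι g) = 2 := by
    rintro rfl
    rw [map_one]
    exact r1_tr_one_aux
  -- powers of `z * g` in the ring
  have hzg : ∀ n : ℕ, Odd n → ((ι (z * g) : Rˣ) : R) ^ n = -((ι (g ^ n) : Rˣ) : R) := by
    intro n hn
    rw [map_mul, Units.val_mul, hz, neg_one_mul, Odd.neg_pow hn, hpow]
  have hone' : z * g = 1 → tr (ι (z * g)) = 2 := by
    intro h1
    rw [h1, map_one]
    exact r1_tr_one_aux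
  have hneg := r1_tr_mul_of_neg_one hz g
  rcases hg with hg | hg | hg | hg | hg | hg
  · by_cases h1 : g = 1
    · exact Or.inl (hone h1)
    · right; left
      apply r1_tr_of_sq_eq_one h h1
      rw [hpow, hg, map_one, Units.val_one]
  · right; right; left
    apply r1_tr_of_sq_eq_neg_one
    rw [hpow, hg, hz]
  · by_cases h1 : g = 1
    · exact Or.inl (hone h1)
    · right; right; right; left
      apply r1_tr_of_cube_eq_one h h1
      rw [hpow, hg, map_one, Units.val_one]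
  · by_cases h1 : z * g = 1
    · right; left
      have := hone' h1
      rw [hneg] at this
      exact neg_eq_iff_eq_neg.1 this
    · right; right; right; right; left
      have h3 : ((ι (z * g) : Rˣ) : R) ^ 3 = 1 := by
        rw [hzg 3 (by decide), hg, hz, neg_neg]
      have := r1_tr_of_cube_eq_one h h1 h3
      rw [hneg] at this
      exact neg_injective this
  · by_cases h1 : g = 1
    · exact Or.inl (hone h1)
    · right; right; right; right; right; left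
      apply r1_tr_of_pow_five_eq_one h h1
      rw [hpow, hg, map_one, Units.val_one]
  · by_cases h1 : z * g = 1
    · right; left
      have := hone' h1
      rw [hneg] at this
      exact neg_eq_iff_eq_neg.1 this
    · right; right; right; right; right; right
      have h5 : ((ι (z * g) : Rˣ) : R) ^ 5 = 1 := by
        rw [hzg 5 (by decide), hg, hz, neg_neg]
      have := r1_tr_of_pow_five_eq_one h h1 h5
      rw [hneg] at this
      have e : (-tr (ι g)) ^ 2 + -tr (ι g) - 1 = tr (ι g) ^ 2 - tr (ι g) - 1 := by noncomm_ring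
      rw [← e]
      exact this

/-- ring form: `u³ = -1` gives trace `-2` or `1` -/
theorem r1_tr_of_cube_eq_neg_one {ι : G →* Rˣ} (h : Fpf ι) {z : G} (hz : ((ι z : Rˣ) : R) = -1)
    {g : G} (h3 : ((ι g : Rˣ) : R) ^ 3 = -1) : tr (ι g) = -2 ∨ tr (ι g) = 1 := by
  have hneg := r1_tr_mul_of_neg_one hz g
  by_cases h1 : z * g = 1
  · left
    have h2 : tr (ι (z * g)) = 2 := by
      rw [h1, map_one]
      exact r1_tr_one_aux
    rw [hneg] at h2
    exact neg_eq_iff_eq_neg.1 h2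
  · right
    have h3' : ((ι (z * g) : Rˣ) : R) ^ 3 = 1 := by
      rw [map_mul, Units.val_mul, hz, neg_one_mul, Odd.neg_pow (by decide), h3, neg_neg]
    have := r1_tr_of_cube_eq_one h h1 h3'
    rw [hneg] at this
    exact neg_injective this

/-- if `tr g ^ 2 - 1` is not a unit then `g ^ 6 = 1`, and then the trace is `2, -2, -1` or `1` -/
theorem Fpf.tr_of_not_isUnit {ι : G →* Rˣ} (h : Fpf ι) {z : G} (hz : ((ι z : Rˣ) : R) = -1) {g : G}
    (hg : ¬ IsUnit (tr (ι g) ^ 2 - 1)) :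
    tr (ι g) = 2 ∨ tr (ι g) = -2 ∨ tr (ι g) = -1 ∨ tr (ι g) = 1 := by
  set u : R := ((ι g : Rˣ) : R) with hu
  set v : R := (((ι g)⁻¹ : Rˣ) : R) with hv
  have huv : u * v = 1 := Units.mul_inv _
  have hvu : v * u = 1 := Units.inv_mul _
  have ht : tr (ι g) = u + v := rfl
  have hpow : ∀ n : ℕ, u ^ n = ((ι (g ^ n) : Rˣ) : R) := by
    intro n
    rw [map_pow, Units.val_pow_eq_pow_val]
  have h6 : g ^ 6 = 1 := by
    by_contra hne
    apply hg
    have hunit : IsUnit (u ^ 6 - 1) := by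
      have := h (g ^ 6) hne
      rwa [← hpow] at this
    have hfac : u ^ 6 - 1 = (u ^ 2 - 1) * (u ^ 4 + u ^ 2 + 1) := by noncomm_ring
    have hcomm : Commute (u ^ 2 - 1) (u ^ 4 + u ^ 2 + 1) := by
      show (u ^ 2 - 1) * (u ^ 4 + u ^ 2 + 1) = (u ^ 4 + u ^ 2 + 1) * (u ^ 2 - 1)
      noncomm_ring
    rw [hfac, hcomm.isUnit_mul_iff] at hunit
    have e1 : v ^ 2 * u ^ 2 = 1 := by
      rw [pow_two, pow_two, mul_assoc, ← mul_assoc v u u, hvu, one_mul, hvu]
    have e2 : v ^ 2 * u ^ 4 = u ^ 2 := by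
      have : u ^ 4 = u ^ 2 * u ^ 2 := by rw [← pow_add]
      rw [this, ← mul_assoc, e1, one_mul]
    have e : tr (ι g) ^ 2 - 1 = v ^ 2 * (u ^ 4 + u ^ 2 + 1) := by
      rw [ht, mul_add, mul_add, e2, e1, mul_one]
      have : (u + v) ^ 2 - 1 = u ^ 2 + u * v + v * u + v ^ 2 - 1 := by noncomm_ring
      rw [this, huv, hvu]
      abel
    rw [e]
    have hv2 : IsUnit (v ^ 2) := ((ι g)⁻¹).isUnit.pow 2
    exact hv2.mul hunit.2
  by_cases h3 : g ^ 3 = 1
  · by_cases h1 : g = 1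
    · left
      rw [h1, map_one]
      exact r1_tr_one_aux
    · right; right; left
      apply r1_tr_of_cube_eq_one h h1
      rw [← hu, hpow, h3, map_one, Units.val_one]
  · have h33 : g ^ 3 * g ^ 3 = 1 := by rw [← pow_add]; exact h6
    have hneg1 := h.eq_neg_one h33 h3
    rw [← hpow] at hneg1
    rcases r1_tr_of_cube_eq_neg_one h hz hneg1 with h' | h'
    · exact Or.inr (Or.inl h')
    · exact Or.inr (Or.inr (Or.inr h'))

end ring

end Cfsg.Agent.Helper1.Zas
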